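import Groth.Agent.S9829
import Groth.Agent.Lib.Helper67.Depth

/-!
# Regular local rings are Cohen–Macaulay (helper77)
-/
universe u
set_option autoImplicit false
open IsLocalRing LocCoh

namespace Groth.Agent.Lib.Helper77.RegularCM

/-- a regular local ring has depth equal to its dimension -/
theorem depth_eq_dim (B : Type u) [CommRing B] [IsRegularLocalRing B] :
    ((LocCoh.depth B B : ℕ∞) : WithBot ℕ∞) = ringKrullDim B := by
  apply le_antisymm
  · have := Groth.Agent.Lib.Helper67.depth_le_supportDim (R := B) B
    rwa [Module.supportDim_self_eq_ringKrullDim] at this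
  · exact Groth.Agent.S9829.dim_le_depth B

/-- a regular local ring is Cohen–Macaulay -/
theorem isCohenMacaulayLocalRing (B : Type u) [CommRing B] [IsRegularLocalRing B] :
    LocCoh.IsCohenMacaulayLocalRing B where
  supportDim_eq_depth := by
    rw [Module.supportDim_self_eq_ringKrullDim, depth_eq_dim]

end Groth.Agent.Lib.Helper77.RegularCM
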