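import Groth.Agent.S5780
import Groth.Agent.S5781
import Groth.Agent.S5782
import Groth.Agent.S0560
import Groth.Agent.Lib.Helper76.RegularLocal
import Mathlib.RingTheory.LocalRing.Module
import Mathlib.RingTheory.Regular.ProjectiveDimension
import Mathlib.RingTheory.RegularLocalRing.Defs
import Mathlib.Tactic

/-!
# Serre's criterion (converse): a Noetherian local ring whose residue field has finite
projective dimension is regular.  (helper77)
-/
universe u
set_option autoImplicit false
open IsLocalRing TensorProduct CategoryTheory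

namespace Groth.Agent.Lib.Helper77.Serre


/-- minimal free cover of a f.g. module over a local ring -/
theorem exists_minimal_cover (R : Type u) [CommRing R] [IsLocalRing R] (M : Type u)
    [AddCommGroup M] [Module R M] [Module.Finite R M] :
    ∃ (s : ℕ) (f : (Fin s → R) →ₗ[R] M), Function.Surjective f ∧
      ∀ a, f a = 0 → ∀ i, a i ∈ maximalIdeal R := by
  classical
  let b := Module.finBasis (ResidueField R) (ResidueField R ⊗[R] M)
  have hsurj : Function.Surjective (TensorProduct.mk R (ResidueField R) M 1) :=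
    TensorProduct.mk_surjective R M (ResidueField R) Ideal.Quotient.mk_surjective
  choose v hv using fun i => hsurj (b i)
  have hspan : Submodule.span R (Set.range v) = ⊤ :=
    span_eq_top_of_tmul_eq_basis v b hv
  refine ⟨_, Fintype.linearCombination R v, ?_, ?_⟩
  · rw [← LinearMap.range_eq_top, Fintype.range_linearCombination, hspan]
  · intro a ha i
    have h1 : (TensorProduct.mk R (ResidueField R) M 1) (Fintype.linearCombination R v a) = 0 := by
      rw [ha, map_zero]
    rw [Fintype.linearCombination_apply, map_sum] at h1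
    have h2 : ∑ j, (residue R (a j)) • b j = 0 := by
      rw [← h1]
      refine Finset.sum_congr rfl (fun j _ => ?_)
      rw [map_smul, hv]
      rfl
    have h3 := Fintype.linearIndependent_iff.mp b.linearIndependent _ h2 i
    exact (residue_eq_zero_iff _).mp h3


theorem projective_of_depth_zero (R : Type u) [CommRing R] [IsLocalRing R] [IsNoetherianRing R]
    (c : R) (hc : c ≠ 0) (hcm : ∀ y ∈ maximalIdeal R, c * y = 0) (n : ℕ) :
    ∀ (M : Type u) [AddCommGroup M] [Module R M] [Module.Finite R M],
      HasProjectiveDimensionLT (ModuleCat.of R M) (n + 1) → Module.Projective R M := by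
  induction n with
  | zero =>
    intro M _ _ _ h
    rw [zero_add, ← projective_iff_hasProjectiveDimensionLT_one, ← IsProjective.iff_projective] at h
    exact h
  | succ n ih =>
    intro M _ _ _ h
    obtain ⟨s, f, hf, hker⟩ := exists_minimal_cover R M
    have hS : f.shortComplexKer.ShortExact := LinearMap.shortExact_shortComplexKer hf
    have hproj : Projective f.shortComplexKer.X₂ := by
      show Projective (ModuleCat.of R (Fin s → R))
      rw [← IsProjective.iff_projective]; infer_instance
    have hK : HasProjectiveDimensionLT (ModuleCat.of R (LinearMap.ker f)) (n + 1) :=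
      (hS.hasProjectiveDimensionLT_X₃_iff n hproj).mp h
    have hKp : Module.Projective R (LinearMap.ker f) := ih _ hK
    have hKf : Module.Free R (LinearMap.ker f) := Module.free_of_flat_of_isLocalRing
    have hcK : ∀ a : LinearMap.ker f, c • a = 0 := by
      intro a
      ext i
      simp only [Submodule.coe_smul, Pi.smul_apply, smul_eq_mul, ZeroMemClass.coe_zero,
        Pi.zero_apply]
      exact hcm _ (hker a.1 a.2 i)
    have hKsub : Subsingleton (LinearMap.ker f) := by
      by_contra hne
      rw [not_subsingleton_iff_nontrivial] at hne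
      have : FaithfulSMul R (LinearMap.ker f) := inferInstance
      apply hc
      apply FaithfulSMul.eq_of_smul_eq_smul (α := LinearMap.ker f)
      intro a
      rw [hcK, zero_smul]
    have hinj : Function.Injective f :=
      LinearMap.ker_eq_bot.mp (Submodule.eq_bot_of_subsingleton)
    exact Module.Projective.of_equiv (LinearEquiv.ofBijective f ⟨hinj, hf⟩)


theorem maximalIdeal_eq_bot_of_depth_zero (R : Type u) [CommRing R] [IsLocalRing R]
    [IsNoetherianRing R]
    (c : R) (hc : c ≠ 0) (hcm : ∀ y ∈ maximalIdeal R, c * y = 0) (n : ℕ)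
    (h : HasProjectiveDimensionLT (ModuleCat.of R (R ⧸ maximalIdeal R)) (n + 1)) :
    maximalIdeal R = ⊥ := by
  have hp : Module.Projective R (R ⧸ maximalIdeal R) :=
    projective_of_depth_zero R c hc hcm n (R ⧸ maximalIdeal R) h
  have hf : Module.Free R (R ⧸ maximalIdeal R) := Module.free_of_flat_of_isLocalRing
  have hnt : Nontrivial (R ⧸ maximalIdeal R) := Ideal.Quotient.nontrivial_iff.mpr
    (maximalIdeal.isMaximal R).ne_top
  have : FaithfulSMul R (R ⧸ maximalIdeal R) := inferInstance
  rw [eq_bot_iff]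
  intro y hy
  rw [Submodule.mem_bot]
  apply FaithfulSMul.eq_of_smul_eq_smul (α := R ⧸ maximalIdeal R)
  intro a
  obtain ⟨a, rfl⟩ := Ideal.Quotient.mk_surjective a
  rw [zero_smul, ← Ideal.Quotient.mk_eq_mk, ← Submodule.Quotient.mk_smul, Ideal.Quotient.mk_eq_mk,
    Ideal.Quotient.eq_zero_iff_mem, smul_eq_mul]
  exact Ideal.mul_mem_right _ _ hy

theorem isRegularLocalRing_of_maximalIdeal_eq_bot (R : Type u) [CommRing R] [IsLocalRing R]
    [IsNoetherianRing R] (h : maximalIdeal R = ⊥) : IsRegularLocalRing R := by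
  apply IsRegularLocalRing.of_spanFinrank_maximalIdeal_le
  rw [h, Submodule.spanFinrank_bot]
  exact ringKrullDim_nonneg_of_nontrivial



/-- `0 → I → R → R/I → 0`: pd (R/I) < n+2 ↔ pd I < n+1 -/
theorem pd_ideal_iff (R : Type u) [CommRing R] (I : Ideal R) (n : ℕ) :
    HasProjectiveDimensionLT (ModuleCat.of R (R ⧸ I)) (n + 2) ↔
      HasProjectiveDimensionLT (ModuleCat.of R I) (n + 1) := by
  let S : ShortComplex (ModuleCat.{u} R) :=
    ModuleCat.shortComplexOfCompEqZero I.subtype I.mkQ (LinearMap.exact_subtype_mkQ I).linearMap_comp_eq_zero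
  have hS : S.ShortExact := ModuleCat.shortComplex_shortExact S (LinearMap.exact_subtype_mkQ I)
    (Submodule.injective_subtype I) (Submodule.mkQ_surjective I)
  have hproj : Projective S.X₂ := by
    show Projective (ModuleCat.of R R)
    rw [← IsProjective.iff_projective]; infer_instance
  exact hS.hasProjectiveDimensionLT_X₃_iff n hproj


section
variable (R : Type u) [CommRing R] [IsLocalRing R] (a : R) (ha : a ∈ maximalIdeal R)
  [IsLocalRing (R ⧸ Ideal.span {a})]

theorem mem_max_iff (y : R) :
    Ideal.Quotient.mk (Ideal.span {a}) y ∈ maximalIdeal (R ⧸ Ideal.span {a}) ↔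
      y ∈ maximalIdeal R := by
  have : IsLocalHom (Ideal.Quotient.mk (Ideal.span {a})) :=
    (Ideal.Quotient.mk_surjective).isLocalHom _
  rw [mem_maximalIdeal, mem_maximalIdeal, map_mem_nonunits_iff]

/-- the map `m → m'` -/
noncomputable def toMax : ↥(maximalIdeal R) →ₗ[R] ↥(maximalIdeal (R ⧸ Ideal.span {a})) where
  toFun y := ⟨Ideal.Quotient.mk _ y.1, (mem_max_iff R a y.1).mpr y.2⟩
  map_add' x y := by
    ext
    simp
  map_smul' r x := by
    ext
    simp [Algebra.smul_def]

theorem toMax_surjective : Function.Surjective (toMax R a) := by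
  rintro ⟨z, hz⟩
  obtain ⟨y, rfl⟩ := Ideal.Quotient.mk_surjective z
  exact ⟨⟨y, (mem_max_iff R a y).mp hz⟩, rfl⟩

include ha in
theorem toMax_ker : LinearMap.ker (toMax R a) = Submodule.span R {(⟨a, ha⟩ : ↥(maximalIdeal R))} := by
  apply le_antisymm
  · intro y hy
    rw [LinearMap.mem_ker] at hy
    have h1 : Ideal.Quotient.mk (Ideal.span {a}) y.1 = 0 := congrArg Subtype.val hy
    rw [Ideal.Quotient.eq_zero_iff_mem, Ideal.mem_span_singleton'] at h1
    obtain ⟨r, hr⟩ := h1
    rw [Submodule.mem_span_singleton]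
    exact ⟨r, Subtype.ext hr⟩
  · rw [Submodule.span_le, Set.singleton_subset_iff, SetLike.mem_coe, LinearMap.mem_ker]
    apply Subtype.ext
    show Ideal.Quotient.mk (Ideal.span {a}) a = 0
    rw [Ideal.Quotient.eq_zero_iff_mem]
    exact Ideal.mem_span_singleton_self a

noncomputable def psi :
    (↥(maximalIdeal R) ⧸ Submodule.span R {(⟨a, ha⟩ : ↥(maximalIdeal R))}) ≃ₗ[R]
      ↥(maximalIdeal (R ⧸ Ideal.span {a})) :=
  (Submodule.quotEquivOfEq _ _ (toMax_ker R a ha).symm).trans
    (LinearMap.quotKerEquivOfSurjective (toMax R a) (toMax_surjective R a))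

end

theorem pd_quot (R : Type u) [CommRing R] [IsLocalRing R] [IsNoetherianRing R] (a : R)
    (ha : a ∈ maximalIdeal R) (ha2 : a ∉ maximalIdeal R ^ 2) (hreg : IsSMulRegular R a)
    [IsLocalRing (R ⧸ Ideal.span {a})] (n : ℕ)
    (h : HasProjectiveDimensionLT (ModuleCat.of R (R ⧸ maximalIdeal R)) (n + 2)) :
    HasProjectiveDimensionLT (ModuleCat.of (R ⧸ Ideal.span {a})
      ((R ⧸ Ideal.span {a}) ⧸ maximalIdeal (R ⧸ Ideal.span {a}))) (n + 2) := by
  have h1 : HasProjectiveDimensionLT (ModuleCat.of R ↥(maximalIdeal R)) (n + 1) :=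
    (pd_ideal_iff R _ n).mp h
  have hmreg : IsSMulRegular ↥(maximalIdeal R) a := hreg.submodule _ a
  have h2 := Groth.Agent.S5782.hasProjDimLT_quotSMulTop R a hreg n ↥(maximalIdeal R) hmreg h1
  obtain ⟨f, g, hgf⟩ := Groth.Agent.S5781.result R a ha ha2
  let i₀ : ↥(maximalIdeal (R ⧸ Ideal.span {a})) →ₗ[R] QuotSMulTop a ↥(maximalIdeal R) :=
    f ∘ₗ (psi R a ha).symm.toLinearMap
  let r₀ : QuotSMulTop a ↥(maximalIdeal R) →ₗ[R] ↥(maximalIdeal (R ⧸ Ideal.span {a})) :=
    (psi R a ha).toLinearMap ∘ₗ g
  have hri : ∀ x, r₀ (i₀ x) = x := by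
    intro x
    simp only [i₀, r₀, LinearMap.comp_apply, LinearEquiv.coe_coe]
    have := LinearMap.congr_fun hgf ((psi R a ha).symm x)
    rw [LinearMap.comp_apply, LinearMap.id_apply] at this
    rw [this, LinearEquiv.apply_symm_apply]
  let i := LinearMap.extendScalarsOfSurjective
    (Ideal.Quotient.mk_surjective (I := Ideal.span {a})) i₀
  let r := LinearMap.extendScalarsOfSurjective
    (Ideal.Quotient.mk_surjective (I := Ideal.span {a})) r₀
  have retr : Retract (ModuleCat.of (R ⧸ Ideal.span {a}) ↥(maximalIdeal (R ⧸ Ideal.span {a})))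
      (ModuleCat.of (R ⧸ Ideal.span {a}) (QuotSMulTop a ↥(maximalIdeal R))) :=
    ⟨ModuleCat.ofHom i, ModuleCat.ofHom r, by
      ext x
      exact congrArg Subtype.val (hri x)⟩
  have h3 := retr.hasProjectiveDimensionLT (n + 1)
  exact (pd_ideal_iff (R ⧸ Ideal.span {a}) _ n).mpr h3


section Quot
variable (A : Type u) [CommRing A] [IsLocalRing A]

theorem quot_nontrivial (J : Ideal A) (hJ : J ≤ maximalIdeal A) : Nontrivial (A ⧸ J) := by
  rw [Ideal.Quotient.nontrivial_iff]
  rintro rfl
  exact (maximalIdeal.isMaximal A).ne_top (top_le_iff.mp hJ)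

theorem quot_local (J : Ideal A) (hJ : J ≤ maximalIdeal A) : IsLocalRing (A ⧸ J) :=
  have := quot_nontrivial A J hJ
  IsLocalRing.of_surjective' (Ideal.Quotient.mk J) Ideal.Quotient.mk_surjective

theorem max_quot (J : Ideal A) [IsLocalRing (A ⧸ J)] (T : Set A)
    (h : J ⊔ Ideal.span T = maximalIdeal A) :
    maximalIdeal (A ⧸ J) = Ideal.span ((Ideal.Quotient.mk J) '' T) := by
  rw [← map_maximalIdeal_of_surjective (Ideal.Quotient.mk J) Ideal.Quotient.mk_surjective, ← h,
    Ideal.map_sup, Ideal.map_quotient_self, bot_sup_eq, Ideal.map_span]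

theorem spanFinrank_quot_lt [IsNoetherianRing A] (a : A) (ha : a ∈ maximalIdeal A)
    (ha2 : a ∉ maximalIdeal A ^ 2) [IsLocalRing (A ⧸ Ideal.span {a})] :
    (maximalIdeal (A ⧸ Ideal.span {a})).spanFinrank < (maximalIdeal A).spanFinrank := by
  obtain ⟨T, hTcard, hTsub, hTspan⟩ :=
    Groth.Agent.Lib.Helper76.exists_finset_span_insert_eq_maximalIdeal A a ha ha2
  have hm' := max_quot A (Ideal.span {a}) (T : Set A) (by rw [← hTspan, Ideal.span_insert])
  have hfin : (maximalIdeal (A ⧸ Ideal.span {a})).spanFinrank ≤ T.card := by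
    rw [hm']
    refine le_trans (Submodule.spanFinrank_span_le_ncard_of_finite
      ((Finset.finite_toSet T).image _)) ?_
    refine le_trans (Set.ncard_image_le (Finset.finite_toSet T)) ?_
    rw [Set.ncard_coe_finset]
  omega

end Quot

theorem exists_annihilator_of_mem_ass (R : Type u) [CommRing R] [IsLocalRing R]
    [IsNoetherianRing R] (h : maximalIdeal R ∈ associatedPrimes R R) :
    ∃ c : R, c ≠ 0 ∧ ∀ y ∈ maximalIdeal R, c * y = 0 := by
  obtain ⟨_, c, hc⟩ := isAssociatedPrime_iff.mp h
  refine ⟨c, ?_, ?_⟩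
  · rintro rfl
    have : (1 : R) ∈ maximalIdeal R := by
      rw [hc, Submodule.mem_colon_singleton, smul_zero]
      exact Submodule.zero_mem _
    exact (maximalIdeal.isMaximal R).ne_top ((Ideal.eq_top_iff_one _).mpr this)
  · intro y hy
    rw [hc, Submodule.mem_colon_singleton, Submodule.mem_bot, smul_eq_mul] at hy
    rw [mul_comm]; exact hy

theorem main_aux (d : ℕ) : ∀ (R : Type u) [CommRing R] [IsLocalRing R] [IsNoetherianRing R],
    (maximalIdeal R).spanFinrank = d → ∀ n : ℕ,
      HasProjectiveDimensionLT (ModuleCat.of R (R ⧸ maximalIdeal R)) (n + 2) →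
      IsRegularLocalRing R := by
  induction d using Nat.strong_induction_on with
  | _ d ih =>
    intro R _ _ _ hd n h
    by_cases hcase : ∀ a ∈ maximalIdeal R, a ∉ maximalIdeal R ^ 2 → ¬ IsSMulRegular R a
    · have hass := Groth.Agent.S5780.result R hcase
      obtain ⟨c, hc, hcm⟩ := exists_annihilator_of_mem_ass R hass
      exact isRegularLocalRing_of_maximalIdeal_eq_bot R
        (maximalIdeal_eq_bot_of_depth_zero R c hc hcm (n + 1) h)
    · push Not at hcase
      obtain ⟨a, ha, ha2, hareg⟩ := hcase
      have hloc : IsLocalRing (R ⧸ Ideal.span {a}) :=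
        quot_local R _ (by rw [Ideal.span_le, Set.singleton_subset_iff]; exact ha)
      have hlt := spanFinrank_quot_lt R a ha ha2
      rw [hd] at hlt
      have h' := pd_quot R a ha ha2 hareg n h
      have hreg' : IsRegularLocalRing (R ⧸ Ideal.span {a}) := ih _ hlt _ rfl n h'
      have hnzd : a ∈ nonZeroDivisors R := by
        rw [mem_nonZeroDivisors_iff_right]
        intro x hx
        apply hareg
        show a • x = a • (0 : R)
        rw [smul_eq_mul, smul_zero, mul_comm]; exact hx
      exact Groth.Agent.S0560.result R a ha hnzd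

/-- **Serre**: a Noetherian local ring whose residue field has finite projective dimension
is regular. -/
theorem isRegularLocalRing_of_residueField_hasProjectiveDimensionLT (R : Type u) [CommRing R]
    [IsLocalRing R] [IsNoetherianRing R] (n : ℕ)
    (h : HasProjectiveDimensionLT (ModuleCat.of R (R ⧸ maximalIdeal R)) n) :
    IsRegularLocalRing R :=
  main_aux _ R rfl n (hasProjectiveDimensionLT_of_ge _ n (n + 2) (by omega))

end Groth.Agent.Lib.Helper77.Serre
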