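import Groth.Agent.Lib.Helper67.Depth2
import Groth.Agent.Lib.Helper77.Serre
import Mathlib.RingTheory.LocalProperties.ProjectiveDimension

/-!
# Auslander–Buchsbaum formula (helper77)

`auslander_buchsbaum`: over a Noetherian local ring `R`, a nonzero f.g. module `M` with
`projectiveDimension M = e` satisfies `depth R R = e + depth R M`.
-/
universe u
set_option autoImplicit false
open IsLocalRing CategoryTheory CategoryTheory.Abelian LocCoh

namespace Groth.Agent.Lib.Helper77.AuslanderBuchsbaum

open Groth.Agent.Lib.Helper67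

section Retract

variable {R : Type u} [CommRing R] [IsNoetherianRing R] (I : Ideal R)

/-- depth can only go up when passing to a retract (direct summand) -/
theorem idealDepth_le_of_retract (M P : Type u) [AddCommGroup M] [Module R M] [Module.Finite R M]
    [AddCommGroup P] [Module R P] [Module.Finite R P]
    (i : M →ₗ[R] P) (r : P →ₗ[R] M) (h : r ∘ₗ i = LinearMap.id) :
    idealDepth I P ≤ idealDepth I M := by
  rw [← ENat.forall_natCast_le_iff_le]
  intro n hn
  rw [le_idealDepth_iff_ext'] at hn ⊢
  intro k hk
  have := hn k hk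
  refine ⟨fun a b => ?_⟩
  suffices h : ∀ x : Ext (ModuleCat.of R (R ⧸ I)) (ModuleCat.of R M) k, x = 0 by rw [h a, h b]
  intro x
  have h1 : ModuleCat.ofHom i ≫ ModuleCat.ofHom r = 𝟙 (ModuleCat.of R M) := by
    rw [← ModuleCat.ofHom_comp, h]; rfl
  have h2 : x = (x.comp (Ext.mk₀ (ModuleCat.ofHom i)) (add_zero k)).comp
      (Ext.mk₀ (ModuleCat.ofHom r)) (add_zero k) := by
    rw [Ext.comp_assoc_of_third_deg_zero, Ext.mk₀_comp_mk₀, h1, Ext.comp_mk₀_id]
  rw [h2, Subsingleton.elim (x.comp (Ext.mk₀ (ModuleCat.ofHom i)) (add_zero k)) 0, Ext.zero_comp]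

theorem idealDepth_prod (M N : Type u) [AddCommGroup M] [Module R M] [Module.Finite R M]
    [AddCommGroup N] [Module R N] [Module.Finite R N] :
    idealDepth I (M × N) = min (idealDepth I M) (idealDepth I N) := by
  apply le_antisymm
  · apply le_min
    · exact idealDepth_le_of_retract I M (M × N) (LinearMap.inl R M N) (LinearMap.fst R M N)
        (by ext; simp)
    · exact idealDepth_le_of_retract I N (M × N) (LinearMap.inr R M N) (LinearMap.snd R M N)
        (by ext; simp)
  · exact idealDepth_mid_ge I M (M × N) N (LinearMap.inl R M N) (LinearMap.snd R M N)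
      LinearMap.inl_injective LinearMap.snd_surjective Function.Exact.inl_snd

theorem idealDepth_pi_fin (M : Type u) [AddCommGroup M] [Module R M] [Module.Finite R M] (s : ℕ) :
    idealDepth I (Fin (s + 1) → M) = idealDepth I M := by
  induction s with
  | zero =>
    exact idealDepth_congr I (LinearEquiv.funUnique (Fin 1) R M)
  | succ s ih =>
    rw [← idealDepth_congr I (Fin.consLinearEquiv R (fun _ : Fin (s + 1 + 1) => M)),
      idealDepth_prod, ih, min_self]

end Retract

section ExtZero

variable {R : Type u} [CommRing R]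

/-- A linear map in `I • Hom(K,F)` induces zero on `Ext(X, -)` when `I` annihilates `X`. -/
theorem ext_comp_eq_zero_of_mem_smul_top (I : Ideal R) {X : ModuleCat.{u} R}
    (hX : I ≤ Module.annihilator R X)
    {K F : Type u} [AddCommGroup K] [Module R K] [AddCommGroup F] [Module R F]
    (j : K →ₗ[R] F) (hj : j ∈ I • (⊤ : Submodule R (K →ₗ[R] F))) (n : ℕ)
    (x : Ext X (ModuleCat.of R K) n) :
    x.comp (Ext.mk₀ (ModuleCat.ofHom j)) (add_zero n) = 0 := by
  refine Submodule.smul_induction_on
    (p := fun j => x.comp (Ext.mk₀ (ModuleCat.ofHom j)) (add_zero n) = 0) hj ?_ ?_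
  · intro a ha g _
    rw [show ModuleCat.ofHom (a • g) = a • ModuleCat.ofHom g from rfl, Ext.mk₀_smul, Ext.comp_smul]
    exact ext_smul_eq_zero_of_mem_annihilator_left _ (hX ha)
  · intro g₁ g₂ h₁ h₂
    rw [show ModuleCat.ofHom (g₁ + g₂) = ModuleCat.ofHom g₁ + ModuleCat.ofHom g₂ from rfl,
      Ext.mk₀_add, Ext.comp_add, h₁, h₂, add_zero]

theorem smulRight_mem (I : Ideal R) {K F : Type u} [AddCommGroup K] [Module R K]
    [AddCommGroup F] [Module R F] (φ : K →ₗ[R] R) (v : F)
    (hv : v ∈ I • (⊤ : Submodule R F)) :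
    φ.smulRight v ∈ I • (⊤ : Submodule R (K →ₗ[R] F)) := by
  have h1 : (LinearMap.smulRightₗ φ) v ∈ Submodule.map (LinearMap.smulRightₗ (M := F) φ)
      (I • (⊤ : Submodule R F)) := Submodule.mem_map_of_mem hv
  rw [Submodule.map_smul''] at h1
  exact Submodule.smul_mono le_rfl le_top h1

theorem mem_smul_top_hom (I : Ideal R) {K F : Type u} [AddCommGroup K] [Module R K]
    [AddCommGroup F] [Module R F] [Module.Free R K] [Module.Finite R K]
    (j : K →ₗ[R] F) (hj : ∀ k, j k ∈ I • (⊤ : Submodule R F)) :
    j ∈ I • (⊤ : Submodule R (K →ₗ[R] F)) := by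
  classical
  let b := Module.Free.chooseBasis R K
  have hsum : j = ∑ i, (b.coord i).smulRight (j (b i)) := by
    apply b.ext
    intro k
    simp only [LinearMap.coe_sum, Finset.sum_apply, LinearMap.smulRight_apply, Module.Basis.coord_apply,
      Module.Basis.repr_self, Finsupp.single_apply]
    simp
  rw [hsum]
  exact Submodule.sum_mem _ (fun i _ => smulRight_mem I _ _ (hj _))

end ExtZero

section Key

variable {R : Type u} [CommRing R] [IsNoetherianRing R] (I : Ideal R)

/-- In a short exact sequence `0 → K → F → M → 0` such that `K → F` induces zero on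
`Ext(R/I, -)`, one has `depth_I M + 1 ≤ depth_I K`. -/
theorem idealDepth_add_one_le_of_ext_zero
    (K F M : Type u) [AddCommGroup K] [Module R K] [Module.Finite R K]
    [AddCommGroup F] [Module R F] [Module.Finite R F]
    [AddCommGroup M] [Module R M] [Module.Finite R M]
    (j : K →ₗ[R] F) (f : F →ₗ[R] M) (hj : Function.Injective j) (hf : Function.Surjective f)
    (hjf : Function.Exact j f)
    (hz : ∀ (n : ℕ) (x : Ext (ModuleCat.of R (R ⧸ I)) (ModuleCat.of R K) n),
      x.comp (Ext.mk₀ (ModuleCat.ofHom j)) (add_zero n) = 0) :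
    idealDepth I M + 1 ≤ idealDepth I K := by
  have hS := shortExact_of_linearMaps K F M j f hj hf hjf
  have key : ∀ n : ℕ, (n : ℕ∞) ≤ idealDepth I M → ((n + 1 : ℕ) : ℕ∞) ≤ idealDepth I K := by
    intro n hn
    rw [le_idealDepth_iff_ext'] at hn ⊢
    intro i hi
    refine ⟨fun a b => ?_⟩
    suffices h : ∀ x : Ext (ModuleCat.of R (R ⧸ I)) (ModuleCat.of R K) i, x = 0 by rw [h a, h b]
    intro x
    rcases Nat.eq_zero_or_pos i with rfl | hipos
    · have := hS.mono_f
      apply Ext.postcomp_mk₀_injective_of_mono (ModuleCat.of R (R ⧸ I)) (ModuleCat.ofHom j)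
      show x.comp (Ext.mk₀ (ModuleCat.ofHom j)) (add_zero 0) =
        (0 : Ext (ModuleCat.of R (R ⧸ I)) (ModuleCat.of R K) 0).comp
          (Ext.mk₀ (ModuleCat.ofHom j)) (add_zero 0)
      rw [Ext.zero_comp]
      exact hz 0 x
    · obtain ⟨k, rfl⟩ : ∃ k, i = k + 1 := ⟨i - 1, by omega⟩
      obtain ⟨x₃, hx₃⟩ := Ext.covariant_sequence_exact₁ _ hS x (hz _ x) rfl
      have := hn k (by omega)
      rw [← hx₃, Subsingleton.elim x₃ 0, Ext.zero_comp]
  generalize idealDepth I M = d at key ⊢
  induction d using ENat.recTopCoe with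
  | top =>
    rw [top_add, ← ENat.forall_natCast_le_iff_le]
    intro n _
    refine le_trans ?_ (key n le_top)
    exact_mod_cast Nat.le_succ n
  | coe k => exact_mod_cast key k le_rfl

end Key

section Arith

theorem arith0 (t dM dK : ℕ∞) (ht : t ≠ ⊤) (hM : dM ≠ ⊤) (hK : dK ≠ ⊤)
    (ihK : t = ((0 : ℕ) : ℕ∞) + dK)
    (hr : min t (dK - 1) ≤ dM) (h3 : dM + 1 ≤ dK) : t = ((0 + 1 : ℕ) : ℕ∞) + dM := by
  lift t to ℕ using ht
  lift dM to ℕ using hM
  lift dK to ℕ using hK
  rw [min_le_iff] at hr
  norm_cast at *
  omega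

theorem arith1 (e' : ℕ) (t dM dK : ℕ∞) (ht : t ≠ ⊤) (hM : dM ≠ ⊤) (hK : dK ≠ ⊤)
    (ihK : t = ((e' + 1 : ℕ) : ℕ∞) + dK)
    (hl : min t (dM + 1) ≤ dK)
    (hr : min t (dK - 1) ≤ dM) : t = ((e' + 1 + 1 : ℕ) : ℕ∞) + dM := by
  lift t to ℕ using ht
  lift dM to ℕ using hM
  lift dK to ℕ using hK
  rw [min_le_iff] at hr hl
  norm_cast at *
  omega

end Arith

section Main

variable (R : Type u) [CommRing R] [IsLocalRing R] [IsNoetherianRing R]

theorem depth_of_free (F : Type u) [AddCommGroup F] [Module R F] [Module.Finite R F]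
    [Module.Free R F] [Nontrivial F] : depth R F = depth R R := by
  have e : F ≃ₗ[R] (Fin (Module.finrank R F) → R) := (Module.finBasis R F).equivFun
  generalize Module.finrank R F = n at e
  rcases n with _ | s
  · have : Subsingleton F := e.toEquiv.subsingleton
    exact absurd ‹Nontrivial F› (not_nontrivial F)
  · unfold depth
    rw [idealDepth_congr _ e, idealDepth_pi_fin]

omit [IsLocalRing R] [IsNoetherianRing R] in
theorem mem_smul_top_pi (I : Ideal R) (s : ℕ) (x : Fin s → R) (hx : ∀ i, x i ∈ I) :
    x ∈ I • (⊤ : Submodule R (Fin s → R)) := by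
  classical
  rw [pi_eq_sum_univ x]
  exact Submodule.sum_mem _ (fun i _ => Submodule.smul_mem_smul (hx i) Submodule.mem_top)

theorem ab_aux : ∀ (e : ℕ) (M : Type u) [AddCommGroup M] [Module R M] [Module.Finite R M]
    [Nontrivial M], HasProjectiveDimensionLT (ModuleCat.of R M) (e + 1) →
    ¬ HasProjectiveDimensionLT (ModuleCat.of R M) e →
    depth R R = e + depth R M := by
  intro e
  induction e with
  | zero =>
    intro M _ _ _ _ h1 _
    have hp : Module.Projective R M := by
      rw [zero_add, ← projective_iff_hasProjectiveDimensionLT_one,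
        ← IsProjective.iff_projective] at h1
      exact h1
    have : Module.Free R M := Module.free_of_flat_of_isLocalRing
    rw [depth_of_free R M]; simp
  | succ e ih =>
    intro M _ _ _ _ h1 h2
    obtain ⟨s, f, hf, hker⟩ := Serre.exists_minimal_cover R M
    have hS : f.shortComplexKer.ShortExact := LinearMap.shortExact_shortComplexKer hf
    have hproj : Projective f.shortComplexKer.X₂ := by
      show Projective (ModuleCat.of R (Fin s → R))
      rw [← IsProjective.iff_projective]; infer_instance
    have hK1 : HasProjectiveDimensionLT (ModuleCat.of R (LinearMap.ker f)) (e + 1) :=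
      (hS.hasProjectiveDimensionLT_X₃_iff e hproj).mp h1
    have hMnotproj : ¬ Module.Projective R M := by
      intro hp
      apply h2
      have : Projective (ModuleCat.of R M) := by
        rw [← IsProjective.iff_projective]; exact hp
      exact hasProjectiveDimensionLT_of_ge _ 1 (e + 1) (by omega)
    have hKnt : Nontrivial (LinearMap.ker f) := by
      by_contra hne
      rw [not_nontrivial_iff_subsingleton] at hne
      apply hMnotproj
      have hinj : Function.Injective f :=
        LinearMap.ker_eq_bot.mp (Submodule.eq_bot_of_subsingleton)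
      exact Module.Projective.of_equiv (LinearEquiv.ofBijective f ⟨hinj, hf⟩)
    have hK2 : ¬ HasProjectiveDimensionLT (ModuleCat.of R (LinearMap.ker f)) e := by
      intro h
      rcases e with _ | e'
      · have hz : Limits.IsZero (ModuleCat.of R (LinearMap.ker f)) :=
          isZero_of_hasProjectiveDimensionLT_zero _
        have := ModuleCat.subsingleton_of_isZero hz
        exact absurd hKnt (not_nontrivial _)
      · exact h2 ((hS.hasProjectiveDimensionLT_X₃_iff e' hproj).mpr h)
    have ihK := ih (LinearMap.ker f) hK1 hK2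
    have hFnt : Nontrivial (Fin s → R) := hf.nontrivial
    have hF : depth R (Fin s → R) = depth R R := depth_of_free R _
    have hinj : Function.Injective (LinearMap.ker f).subtype := Submodule.injective_subtype _
    have hex : Function.Exact (LinearMap.ker f).subtype f := LinearMap.exact_subtype_ker_map f
    have hl := idealDepth_left_ge (maximalIdeal R) (LinearMap.ker f) (Fin s → R) M
      (LinearMap.ker f).subtype f hinj hf hex
    have hr := idealDepth_right_ge (maximalIdeal R) (LinearMap.ker f) (Fin s → R) M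
      (LinearMap.ker f).subtype f hinj hf hex
    have hRt : depth R R ≠ ⊤ := depth_ne_top R
    have hMt : depth R M ≠ ⊤ := depth_ne_top M
    have hKt : depth R (LinearMap.ker f) ≠ ⊤ := depth_ne_top _
    unfold depth at *
    rw [hF] at hl hr
    rcases e with _ | e'
    · have hKp : Module.Projective R (LinearMap.ker f) := by
        rw [zero_add, ← projective_iff_hasProjectiveDimensionLT_one,
          ← IsProjective.iff_projective] at hK1
        exact hK1
      have hKf : Module.Free R (LinearMap.ker f) := Module.free_of_flat_of_isLocalRing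
      have hj : (LinearMap.ker f).subtype ∈
          maximalIdeal R • (⊤ : Submodule R (LinearMap.ker f →ₗ[R] (Fin s → R))) :=
        mem_smul_top_hom _ _ (fun k => mem_smul_top_pi R _ s _ (hker k.1 k.2))
      have hann : maximalIdeal R ≤ Module.annihilator R (ModuleCat.of R (R ⧸ maximalIdeal R)) := by
        change maximalIdeal R ≤ Module.annihilator R (R ⧸ maximalIdeal R)
        rw [Ideal.annihilator_quotient]
      have h3 := idealDepth_add_one_le_of_ext_zero (maximalIdeal R) (LinearMap.ker f) (Fin s → R) M
        (LinearMap.ker f).subtype f hinj hf hex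
        (fun n x => ext_comp_eq_zero_of_mem_smul_top (maximalIdeal R) hann _ hj n x)
      exact arith0 _ _ _ hRt hMt hKt ihK hr h3
    · exact arith1 e' _ _ _ hRt hMt hKt ihK hl hr

/-- **Auslander–Buchsbaum formula.** -/
theorem auslander_buchsbaum (M : Type u) [AddCommGroup M] [Module R M] [Module.Finite R M]
    [Nontrivial M] (e : ℕ) (he : projectiveDimension (ModuleCat.of R M) = e) :
    depth R R = e + depth R M := by
  apply ab_aux R e M
  · rw [← projectiveDimension_lt_iff, he]
    exact_mod_cast Nat.lt_succ_self e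
  · rw [← projectiveDimension_ge_iff, he]

end Main

end Groth.Agent.Lib.Helper77.AuslanderBuchsbaum
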