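import Groth.Agent.Lib.Helper77.RegularCM
import Groth.Agent.Lib.Helper77.AuslanderBuchsbaum
import Groth.Agent.Lib.Helper76.RegularLocalGlDim

/-!
# Auslander–Buchsbaum over regular local rings (helper77)
-/
universe u
set_option autoImplicit false
open IsLocalRing CategoryTheory LocCoh

namespace Groth.Agent.Lib.Helper77.RegularAB

theorem exists_ringKrullDim_eq (R : Type u) [CommRing R] [IsRegularLocalRing R] :
    ∃ d : ℕ, ringKrullDim R = d := by
  have hd' : ringKrullDim R ≠ ⊥ := ringKrullDim_ne_bot
  have hd'' : ringKrullDim R ≠ ⊤ := ringKrullDim_ne_top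
  cases h : ringKrullDim R with
  | bot => exact absurd h hd'
  | coe a =>
    cases a with
    | top => exact absurd h hd''
    | coe n => exact ⟨n, rfl⟩

/-- Over a regular local ring, a nonzero f.g. module has finite projective dimension `e` with
`dim R = e + depth M`. -/
theorem exists_pd_add_depth_eq_dim (R : Type u) [CommRing R] [IsRegularLocalRing R]
    (M : Type u) [AddCommGroup M] [Module R M] [Module.Finite R M] [Nontrivial M] :
    ∃ e : ℕ, projectiveDimension (ModuleCat.of R M) = e ∧
      ringKrullDim R = (((e : ℕ∞) + depth R M : ℕ∞) : WithBot ℕ∞) := by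
  obtain ⟨d, hd⟩ := exists_ringKrullDim_eq R
  have h1 : HasProjectiveDimensionLT (ModuleCat.of R M) (d + 1) :=
    Groth.Agent.Lib.Helper76.hasProjectiveDimensionLT_of_isRegularLocalRing R d hd M
  rw [← projectiveDimension_lt_iff] at h1
  generalize hpd : projectiveDimension (ModuleCat.of R M) = pd at h1
  induction pd with
  | bot =>
    rw [projectiveDimension_eq_bot_iff, ModuleCat.isZero_iff_subsingleton] at hpd
    exact absurd ‹Nontrivial M› (not_nontrivial_iff_subsingleton.mpr hpd)
  | coe pd =>
    induction pd with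
    | top =>
      exfalso
      have h8 : ((⊤ : ℕ∞) : WithBot ℕ∞) < (((d + 1 : ℕ) : ℕ∞) : WithBot ℕ∞) := h1
      rw [WithBot.coe_lt_coe] at h8
      exact not_top_lt h8
    | coe e =>
      refine ⟨e, rfl, ?_⟩
      have hAB := Groth.Agent.Lib.Helper77.AuslanderBuchsbaum.auslander_buchsbaum R M e hpd
      rw [← hAB]
      exact (Groth.Agent.Lib.Helper77.RegularCM.depth_eq_dim R).symm

/-- `ht p + dim R/p ≤ dim R` -/
theorem height_add_ringKrullDim_quotient_le (R : Type u) [CommRing R] (p : Ideal R) [p.IsPrime] :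
    ((p.height : ℕ∞) : WithBot ℕ∞) + ringKrullDim (R ⧸ p) ≤ ringKrullDim R := by
  let P : PrimeSpectrum R := ⟨p, inferInstance⟩
  have h2 : ringKrullDim (R ⧸ p) ≤ Order.krullDim (Set.Ici P) := by
    rw [ringKrullDim_quotient]
    exact Order.krullDim_le_of_strictMono
      (fun x => ⟨x.1, (PrimeSpectrum.mem_zeroLocus _ _).mp x.2⟩) (fun x y hxy => hxy)
  rw [← Order.coheight_eq_krullDim_Ici] at h2
  have h1 : p.height = Order.height P := PrimeSpectrum.height_eq_orderHeight P
  have : Nonempty (PrimeSpectrum R) := ⟨P⟩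
  calc _ ≤ ((Order.height P : ℕ∞) : WithBot ℕ∞) + ((Order.coheight P : ℕ∞) : WithBot ℕ∞) :=
        add_le_add (by rw [h1]) h2
    _ = ((Order.height P + Order.coheight P : ℕ∞) : WithBot ℕ∞) := rfl
    _ ≤ _ := by
      unfold ringKrullDim
      rw [Order.krullDim_eq_iSup_height_add_coheight_of_nonempty, WithBot.coe_le_coe]
      exact le_iSup (fun a => Order.height a + Order.coheight a) P

end Groth.Agent.Lib.Helper77.RegularAB
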