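import Groth.Agent.S11657
import Groth.Agent.Lib.Helper76.RegularLocalGlDim
import Groth.Agent.Lib.Helper77.RegularAB
/-!
# Finite projective dimension over regular Noetherian rings (helper77)
-/
universe u
set_option autoImplicit false
open IsLocalRing CategoryTheory

namespace Groth.Agent.Lib.Helper77.RegularGlobal

/-- Over a regular Noetherian ring (possibly of infinite Krull dimension) every f.g. module has
finite projective dimension. -/
theorem exists_hasProjectiveDimensionLE (R : Type u) [CommRing R] [IsNoetherianRing R]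
    (hreg : ∀ p : PrimeSpectrum R, IsRegularLocalRing (Localization.AtPrime p.asIdeal))
    (M : Type u) [AddCommGroup M] [Module R M] [Module.Finite R M] :
    ∃ n : ℕ, HasProjectiveDimensionLE (ModuleCat.of R M) n := by
  classical
  let X : ModuleCat.{u} R := ModuleCat.of R M
  have hXfin : Module.Finite R X := inferInstanceAs (Module.Finite R M)
  let T : Set R := {s | ∃ k : ℕ, HasProjectiveDimensionLT (X.localizedModule (Submonoid.powers s)) (k + 1)}
  have hT : ∀ p : PrimeSpectrum R, ∃ s ∈ T, s ∉ p.asIdeal := by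
    intro p
    have := hreg p
    obtain ⟨d, hd⟩ := Groth.Agent.Lib.Helper77.RegularAB.exists_ringKrullDim_eq
      (Localization.AtPrime p.asIdeal)
    have h1 : HasProjectiveDimensionLT (ModuleCat.of (Localization.AtPrime p.asIdeal)
        (LocalizedModule p.asIdeal.primeCompl M)) (d + 1) :=
      Groth.Agent.Lib.Helper76.hasProjectiveDimensionLT_of_isRegularLocalRing _ d hd _
    have h2 : HasProjectiveDimensionLT (X.localizedModule p.asIdeal.primeCompl) (d + 1) :=
      hasProjectiveDimensionLT_of_iso (Groth.Agent.S11657.locIso p.asIdeal.primeCompl X).symm (d + 1)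
    obtain ⟨s, hsp, hs⟩ := (Groth.Agent.S11657.pdLT_spread p.asIdeal d X).1 h2
    exact ⟨s, ⟨d, hs⟩, hsp⟩
  have hspan : Ideal.span T = ⊤ := by
    by_contra hne
    obtain ⟨m, hm, hle⟩ := Ideal.exists_le_maximal _ hne
    obtain ⟨s, hsT, hsm⟩ := hT ⟨m, hm.isPrime⟩
    exact hsm (hle (Ideal.subset_span hsT))
  obtain ⟨T', hT'sub, hT'span⟩ := (Ideal.span_eq_top_iff_finite T).mp hspan
  choose! k hk using fun s (hs : s ∈ T) => hs
  refine ⟨T'.sup k, ?_⟩
  rw [ModuleCat.hasProjectiveDimensionLE_iff_forall_primeSpectrum]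
  intro q
  have hq : ∃ s ∈ T', s ∉ q.asIdeal := by
    by_contra hcon
    push Not at hcon
    have : Ideal.span (T' : Set R) ≤ q.asIdeal := Ideal.span_le.mpr (fun s hs => hcon s hs)
    rw [hT'span] at this
    exact q.2.ne_top (top_le_iff.mp this)
  obtain ⟨s, hsT', hsq⟩ := hq
  have h3 := (Groth.Agent.S11657.pdLT_spread q.asIdeal (k s) X).2 s hsq (hk s (hT'sub hsT'))
  exact hasProjectiveDimensionLT_of_ge _ (k s + 1) (T'.sup k + 1)
    (by have := Finset.le_sup (f := k) hsT'; omega)

end Groth.Agent.Lib.Helper77.RegularGlobal
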