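import Groth.Agent.Lib.Helper77.RegularLocalization
import Mathlib.AlgebraicGeometry.AffineScheme

/-!
# Regular local rings as stalks of schemes (helper77)
-/
universe u
set_option autoImplicit false
open CategoryTheory AlgebraicGeometry Opposite

namespace Groth.Agent.Lib.Helper77.RegularScheme

/-- regularity of the stalk at a point of an affine open vs localization at the prime -/
theorem stalk_regular_iff {X : Scheme.{u}} {U : X.Opens} (hU : IsAffineOpen U) (x : X) (hx : x ∈ U) :
    IsRegularLocalRing (X.presheaf.stalk x) ↔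
      IsRegularLocalRing (Localization.AtPrime (hU.primeIdealOf ⟨x, hx⟩).asIdeal) := by
  let _ : Algebra Γ(X, U) (X.presheaf.stalk x) :=
    TopCat.Presheaf.algebra_section_stalk X.presheaf (⟨x, hx⟩ : U)
  have hloc : IsLocalization.AtPrime (X.presheaf.stalk x) (hU.primeIdealOf ⟨x, hx⟩).asIdeal :=
    hU.isLocalization_stalk ⟨x, hx⟩
  let e : Localization.AtPrime (hU.primeIdealOf ⟨x, hx⟩).asIdeal ≃ₐ[Γ(X, U)] X.presheaf.stalk x :=
    IsLocalization.algEquiv (hU.primeIdealOf ⟨x, hx⟩).asIdeal.primeCompl _ _
  exact ⟨fun h => IsRegularLocalRing.of_ringEquiv e.symm.toRingEquiv,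
    fun h => IsRegularLocalRing.of_ringEquiv e.toRingEquiv⟩

end Groth.Agent.Lib.Helper77.RegularScheme
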