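import Mathlib

set_option autoImplicit false
universe u
open CategoryTheory AlgebraicGeometry

namespace Groth.Agent.Lib.Helper77.ALALG

theorem exists_eval_mem_open (L : Type u) [Field L]
    (O : (Spec (CommRingCat.of (Polynomial L))).Opens)
    (h0 : ∀ q, Spec.map (CommRingCat.ofHom (Polynomial.evalRingHom (0 : L))) q ∈ O)
    (a : ℕ → L) (ha : Function.Injective a) :
    ∃ n, ∀ q, Spec.map (CommRingCat.ofHom (Polynomial.evalRingHom (a n))) q ∈ O := by
  classical
  -- the point of `eval c`
  have hpt : ∀ (c : L) (q : Spec (CommRingCat.of L)),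
      ((Spec.map (CommRingCat.ofHom (Polynomial.evalRingHom c))) q).asIdeal =
        RingHom.ker (Polynomial.evalRingHom c) := by
    intro c q
    have hq : q.asIdeal = ⊥ :=
      (Ideal.eq_bot_or_top q.asIdeal).resolve_right q.isPrime.ne_top
    show Ideal.comap (Polynomial.evalRingHom c) q.asIdeal = _
    rw [hq]; rfl
  -- a point `q₀` of `Spec L`
  let q₀ : Spec (CommRingCat.of L) := (⊥ : PrimeSpectrum L)
  let x₀ := (Spec.map (CommRingCat.ofHom (Polynomial.evalRingHom (0 : L)))) q₀
  have hx₀ : x₀ ∈ O := h0 q₀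
  -- basic open neighbourhood
  obtain ⟨_, ⟨p, rfl⟩, hxp, hpO⟩ :=
    (PrimeSpectrum.isTopologicalBasis_basic_opens (R := Polynomial L)).exists_subset_of_mem_open
      hx₀ O.2
  have hp0 : p.eval 0 ≠ 0 := by
    intro h
    apply hxp
    show p ∈ x₀.asIdeal
    rw [hpt 0 q₀, RingHom.mem_ker]
    exact h
  have hpne : p ≠ 0 := by
    rintro rfl; simp at hp0
  -- finitely many roots
  have hfin : {n : ℕ | p.eval (a n) = 0}.Finite := by
    have : {n : ℕ | p.eval (a n) = 0} ⊆ a ⁻¹' (p.roots.toFinset : Set L) := by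
      intro n hn
      simp only [Set.mem_preimage, Finset.mem_coe, Multiset.mem_toFinset]
      exact (Polynomial.mem_roots hpne).2 hn
    exact (Set.Finite.preimage ha.injOn (Finset.finite_toSet _)).subset this
  obtain ⟨n, hn⟩ := hfin.exists_notMem
  refine ⟨n, fun q => hpO ?_⟩
  show p ∉ ((Spec.map (CommRingCat.ofHom (Polynomial.evalRingHom (a n)))) q).asIdeal
  rw [hpt (a n) q, RingHom.mem_ker]
  exact hn

end Groth.Agent.Lib.Helper77.ALALG
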