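import Groth.Agent.Lib.Helper77.FlatDepth3
import Mathlib.RingTheory.HopkinsLevitzki
import Mathlib.RingTheory.LocalRing.Quotient
import Mathlib.RingTheory.LocalRing.ResidueField.Fiber

/-!
# More on flat local homomorphisms (helper77): zero-dimensional fibres, finite case,
`(S_k)` ascent with `(S_k)` fibres `p.Fiber S`
-/
universe u
set_option autoImplicit false
open IsLocalRing LocCoh

namespace Groth.Agent.Lib.Helper77.FlatDepth
open Groth.Agent.Lib.Helper67 Groth.Agent.Lib.Helper56


/-- a zero-dimensional Noetherian local ring is CM -/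
theorem isCM_of_dim_zero (F : Type u) [CommRing F] [IsLocalRing F] [IsNoetherianRing F]
    (h : ringKrullDim F = 0) : IsCohenMacaulayLocalRing F := by
  obtain ⟨e, he⟩ := exists_nat_depth F
  have hd : ringKrullDim F = (0 : ℕ) := by rw [h]; rfl
  have := depth_le_dim_nat F 0 e hd he
  rw [isCM_iff_nat F 0 e hd he]
  omega

theorem dim_fib_zero_of_finite (R S : Type u) [CommRing R] [CommRing S] [IsLocalRing R]
    [IsLocalRing S] [IsNoetherianRing S] [Algebra R S] [IsLocalHom (algebraMap R S)]
    [Module.Finite R S] :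
    ringKrullDim (S ⧸ (maximalIdeal R).map (algebraMap R S)) = 0 := by
  letI : Field (R ⧸ maximalIdeal R) := Ideal.Quotient.field _
  have : Module.Finite (R ⧸ maximalIdeal R) (S ⧸ (maximalIdeal R).map (algebraMap R S)) :=
    Module.Finite.of_restrictScalars_finite R _ _
  have hart : IsArtinianRing (S ⧸ (maximalIdeal R).map (algebraMap R S)) :=
    IsArtinianRing.of_finite (R ⧸ maximalIdeal R) _
  have : Ring.KrullDimLE 0 (S ⧸ (maximalIdeal R).map (algebraMap R S)) := inferInstance
  exact (ringKrullDimZero_iff_ringKrullDim_eq_zero).mp this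

theorem isCM_of_flat_of_finite_or_dim_le (R S : Type u) [CommRing R] [CommRing S]
    [LocCoh.IsCohenMacaulayLocalRing R] [IsNoetherianRing S] [IsLocalRing S] [Algebra R S]
    [IsLocalHom (algebraMap R S)] [Module.Flat R S]
    (h : Module.Finite R S ∨ ringKrullDim S ≤ ringKrullDim R) :
    LocCoh.IsCohenMacaulayLocalRing S ∧ ringKrullDim R = ringKrullDim S := by
  have hdim := dim_eq_add R S
  have hF0 : ringKrullDim (S ⧸ (maximalIdeal R).map (algebraMap R S)) = 0 := by
    rcases h with h | h
    · exact dim_fib_zero_of_finite R S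
    · obtain ⟨dA, hdA⟩ := exists_nat_dim R
      obtain ⟨dB, hdB⟩ := exists_nat_dim S
      obtain ⟨dF, hdF⟩ := exists_nat_dim (S ⧸ (maximalIdeal R).map (algebraMap R S))
      rw [hdA, hdB, hdF] at hdim
      rw [hdA, hdB] at h
      have h1 : dB = dA + dF := by exact_mod_cast hdim
      have h2 : dB ≤ dA := by exact_mod_cast h
      have : dF = 0 := by omega
      rw [hdF, this]; rfl
  refine ⟨?_, ?_⟩
  · rw [isCM_iff R S]
    exact ⟨inferInstance, isCM_of_dim_zero _ hF0⟩
  · rw [hdim, hF0, add_zero]


open Groth.Agent.Lib.Helper77.FlatDepth Groth.Agent.Lib.Helper56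

section
variable (R S : Type u) [CommRing R] [CommRing S] [Algebra R S]

/-- ring iso between the local ring of the fibre `p.Fiber S` at `q` and the fibre local ring -/
theorem nonempty_fiber_equiv (p : Ideal R) [p.IsPrime] (q : Ideal (p.Fiber S)) [q.IsPrime] :
    Nonempty (Localization.AtPrime q ≃+*
      FibLoc R S (q.comap (Algebra.TensorProduct.includeRight : S →ₐ[R] p.Fiber S))) := by
  set r := q.comap (Algebra.TensorProduct.includeRight : S →ₐ[R] p.Fiber S) with hr
  have e1 := (Ideal.Fiber.algEquivAux₂ p q).toRingEquiv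
  have hlo : r.LiesOver p := by
    have h1 : q.LiesOver p := inferInstance
    constructor
    rw [h1.over]
    ext a
    simp only [Ideal.under_def, Ideal.mem_comap, hr]
    rw [AlgHom.commutes]
  have hI : (p.map (algebraMap R S)).map (algebraMap S (Localization.AtPrime r)) =
      (r.comap (algebraMap R S)).map (algebraMap R (Localization.AtPrime r)) := by
    rw [Ideal.map_map, ← IsScalarTower.algebraMap_eq, ← Ideal.under_def, ← hlo.over]
  exact ⟨e1.trans (Ideal.quotEquivOfEq hI)⟩

end

theorem sk_nat (k d e : ℕ) (X : Type u) [CommRing X] [IsLocalRing X]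
    (hd : ringKrullDim X = d) (he : depth X X = e) :
    (min (k : WithBot ℕ∞) (ringKrullDim X) ≤ ((depth X X : ℕ∞) : WithBot ℕ∞)) ↔ min k d ≤ e := by
  rw [hd, he]
  rcases le_total k d with h | h
  · have h' : (k : WithBot ℕ∞) ≤ (d : WithBot ℕ∞) := by exact_mod_cast h
    rw [min_eq_left h, min_eq_left h']
    norm_cast
  · have h' : (d : WithBot ℕ∞) ≤ (k : WithBot ℕ∞) := by exact_mod_cast h
    rw [min_eq_right h, min_eq_right h']
    norm_cast

section
variable (R S : Type u) [CommRing R] [CommRing S] [Algebra R S]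
  [IsNoetherianRing R] [IsNoetherianRing S] [Module.Flat R S]

theorem sk_at (k : ℕ) (hR : LocCoh.HasSk k R R) (p : Ideal R) [p.IsPrime]
    (hfib : LocCoh.HasSk k (p.Fiber S) (p.Fiber S))
    (q : Ideal (p.Fiber S)) [q.IsPrime] :
    min (k : WithBot ℕ∞) (ringKrullDim (Localization.AtPrime
      (q.comap (Algebra.TensorProduct.includeRight : S →ₐ[R] p.Fiber S)))) ≤
      ((depth (Localization.AtPrime
        (q.comap (Algebra.TensorProduct.includeRight : S →ₐ[R] p.Fiber S)))
        (Localization.AtPrime
        (q.comap (Algebra.TensorProduct.includeRight : S →ₐ[R] p.Fiber S))) : ℕ∞) : WithBot ℕ∞) := by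
  set r := q.comap (Algebra.TensorProduct.includeRight : S →ₐ[R] p.Fiber S) with hr
  obtain ⟨e⟩ := nonempty_fiber_equiv R S p q
  rw [hasSk_self_iff] at hR hfib
  have h1 := hfib q
  rw [ringKrullDim_eq_of_ringEquiv e, depth_self_of_ringEquiv e] at h1
  have h2 := hR (r.comap (algebraMap R S))
  obtain ⟨f1, f2, -⟩ := loc_formulas R S r
  have hNA : IsNoetherianRing (Localization.AtPrime (r.comap (algebraMap R S))) :=
    IsLocalization.isNoetherianRing (r.comap (algebraMap R S)).primeCompl _ inferInstance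
  have hNB : IsNoetherianRing (Localization.AtPrime r) :=
    IsLocalization.isNoetherianRing r.primeCompl _ inferInstance
  obtain ⟨dA, hdA⟩ := exists_nat_dim (Localization.AtPrime (r.comap (algebraMap R S)))
  obtain ⟨dB, hdB⟩ := exists_nat_dim (Localization.AtPrime r)
  obtain ⟨dF, hdF⟩ := exists_nat_dim (FibLoc R S r)
  obtain ⟨eA, heA⟩ := exists_nat_depth (Localization.AtPrime (r.comap (algebraMap R S)))
  obtain ⟨eB, heB⟩ := exists_nat_depth (Localization.AtPrime r)
  obtain ⟨eF, heF⟩ := exists_nat_depth (FibLoc R S r)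
  rw [sk_nat k dF eF _ hdF heF] at h1
  rw [sk_nat k dA eA _ hdA heA] at h2
  rw [sk_nat k dB eB _ hdB heB]
  rw [hdA, hdB, hdF] at f2
  rw [heA, heB, heF] at f1
  have f1' : eB = eA + eF := by exact_mod_cast f1
  have f2' : dB = dA + dF := by exact_mod_cast f2
  omega

theorem hasSk_of_flat_of_fibres (k : ℕ) (hR : LocCoh.HasSk k R R)
    (hfib : ∀ (p : Ideal R) [p.IsPrime], LocCoh.HasSk k (p.Fiber S) (p.Fiber S)) :
    LocCoh.HasSk k S S := by
  rw [hasSk_self_iff]
  intro r _
  set p := r.comap (algebraMap R S) with hp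
  have hmem : r ∈ p.primesOver S := ⟨inferInstance, ⟨rfl⟩⟩
  set q := PrimeSpectrum.primesOverOrderIsoFiber R S p ⟨r, hmem⟩ with hq
  have hqr : q.1.comap (Algebra.TensorProduct.includeRight : S →ₐ[R] p.Fiber S) = r := by
    have := PrimeSpectrum.coe_primesOverOrderIsoFiber_symm_apply (R := R) (S := S) p q
    rw [hq, OrderIso.symm_apply_apply] at this
    exact this.symm
  have hq' : q.1.IsPrime := q.2
  have h := sk_at R S k hR p (hfib p) q.1
  have key : ∀ (r' : Ideal S) [r'.IsPrime], r' = r →
      min (k : WithBot ℕ∞) (ringKrullDim (Localization.AtPrime r')) ≤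
        ((depth (Localization.AtPrime r') (Localization.AtPrime r') : ℕ∞) : WithBot ℕ∞) →
      min (k : WithBot ℕ∞) (ringKrullDim (Localization.AtPrime r)) ≤
        ((depth (Localization.AtPrime r) (Localization.AtPrime r) : ℕ∞) : WithBot ℕ∞) := by
    intro r' _ hr' hh
    subst hr'
    exact hh
  exact key _ hqr h

end


end Groth.Agent.Lib.Helper77.FlatDepth
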