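import Groth.Agent.Lib.Helper77.FlatDepth2
import Groth.Agent.Lib.Helper56.Serre1
import Mathlib.RingTheory.Flat.Localization

/-!
# Flat maps of Noetherian rings: depth/dimension of `B_q` vs `A_p` and the fibre local ring; `(S_k)` descent (helper77)
-/
universe u
set_option autoImplicit false
open IsLocalRing LocCoh
open scoped Pointwise

namespace Groth.Agent.Lib.Helper77.FlatDepth
open Groth.Agent.Lib.Helper67

section Loc
variable (A B : Type u) [CommRing A] [CommRing B] [Algebra A B]
variable (q : Ideal B) [q.IsPrime]

/-- the local ring `B_q / p B_q` of the fibre over `p = q ∩ A` at `q`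
(same as `EGA4.FibLocRing A B q`) -/
abbrev FibLoc : Type u :=
  Localization.AtPrime q ⧸ (q.comap (algebraMap A B)).map (algebraMap A (Localization.AtPrime q))

theorem fibLoc_ideal_le :
    (q.comap (algebraMap A B)).map (algebraMap A (Localization.AtPrime q)) ≤
      maximalIdeal (Localization.AtPrime q) := by
  rw [Ideal.map_le_iff_le_comap]
  intro a ha
  rw [Ideal.mem_comap, IsScalarTower.algebraMap_apply A B (Localization.AtPrime q),
    ← Ideal.mem_comap]
  have := Localization.AtPrime.under_maximalIdeal (I := q)
  rw [Ideal.under_def] at this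
  rw [this]
  exact ha

instance fibLoc_nontrivial : Nontrivial (FibLoc A B q) :=
  Ideal.Quotient.nontrivial_iff.mpr (fun h => by
    have := fibLoc_ideal_le A B q
    rw [h] at this
    exact (maximalIdeal.isMaximal _).ne_top (top_le_iff.mp this))

instance fibLoc_isLocalRing : IsLocalRing (FibLoc A B q) :=
  IsLocalRing.of_surjective' (Ideal.Quotient.mk _) Ideal.Quotient.mk_surjective

/-- if `q` is minimal over `(q ∩ A) B` the fibre local ring is zero-dimensional -/
theorem dim_fibLoc_eq_zero_of_minimal
    (hq : q ∈ ((q.comap (algebraMap A B)).map (algebraMap A B)).minimalPrimes) :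
    ringKrullDim (FibLoc A B q) = 0 := by
  have : Ring.KrullDimLE 0 (FibLoc A B q) := by
    apply Ring.KrullDimLE.mk₀
    intro P hP
    set I := (q.comap (algebraMap A B)).map (algebraMap A (Localization.AtPrime q)) with hI
    set P' := P.comap (Ideal.Quotient.mk I) with hP'
    have hP'prime : P'.IsPrime := Ideal.comap_isPrime _ _
    have hIP' : I ≤ P' := by
      intro x hx
      rw [hP', Ideal.mem_comap, Ideal.Quotient.eq_zero_iff_mem.mpr hx]
      exact P.zero_mem
    set P'' := P'.comap (algebraMap B (Localization.AtPrime q)) with hP''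
    have hP''prime : P''.IsPrime := Ideal.comap_isPrime _ _
    have hle : P'' ≤ q := by
      have h1 : P' ≤ maximalIdeal (Localization.AtPrime q) := le_maximalIdeal hP'prime.ne_top
      have h2 := Ideal.comap_mono (f := algebraMap B (Localization.AtPrime q)) h1
      have := Localization.AtPrime.under_maximalIdeal (I := q)
      rw [Ideal.under_def] at this
      rwa [this] at h2
    have hge : (q.comap (algebraMap A B)).map (algebraMap A B) ≤ P'' := by
      rw [Ideal.map_le_iff_le_comap]
      intro a ha
      rw [Ideal.mem_comap, hP'', Ideal.mem_comap, ← IsScalarTower.algebraMap_apply]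
      exact hIP' (Ideal.mem_map_of_mem _ ha)
    have heq : P'' = q := le_antisymm hle (hq.2 ⟨hP''prime, hge⟩ hle)
    have hmax : P' = maximalIdeal (Localization.AtPrime q) := by
      apply le_antisymm (le_maximalIdeal hP'prime.ne_top)
      rw [← Localization.AtPrime.map_eq_maximalIdeal, Ideal.map_le_iff_le_comap, ← hP'', heq]
    have hPmax : P = maximalIdeal (FibLoc A B q) := by
      apply le_antisymm (le_maximalIdeal hP.ne_top)
      rw [← Ideal.comap_le_comap_iff_of_surjective (Ideal.Quotient.mk I)
        Ideal.Quotient.mk_surjective]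
      have : (maximalIdeal (FibLoc A B q)).comap (Ideal.Quotient.mk I) ≤
          maximalIdeal (Localization.AtPrime q) :=
        le_maximalIdeal (Ideal.comap_isPrime _ _).ne_top
      rw [← hP', hmax]
      exact this
    rw [hPmax]
    exact maximalIdeal.isMaximal _
  exact (ringKrullDimZero_iff_ringKrullDim_eq_zero).mp this

theorem depth_quot_congr {R : Type u} [CommRing R] (I J : Ideal R) [IsLocalRing (R ⧸ I)]
    [IsLocalRing (R ⧸ J)] (h : I = J) : depth (R ⧸ I) (R ⧸ I) = depth (R ⧸ J) (R ⧸ J) := by
  subst h; rfl

theorem dim_quot_congr {R : Type u} [CommRing R] (I J : Ideal R) (h : I = J) :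
    ringKrullDim (R ⧸ I) = ringKrullDim (R ⧸ J) := by
  subst h; rfl

theorem isCM_quot_congr {R : Type u} [CommRing R] (I J : Ideal R) (h : I = J) :
    IsCohenMacaulayLocalRing (R ⧸ I) ↔ IsCohenMacaulayLocalRing (R ⧸ J) := by
  subst h; rfl

variable [IsNoetherianRing A] [IsNoetherianRing B] [Module.Flat A B]

theorem loc_formulas :
    depth (Localization.AtPrime q) (Localization.AtPrime q) =
      depth (Localization.AtPrime (q.comap (algebraMap A B)))
        (Localization.AtPrime (q.comap (algebraMap A B))) +
      depth (FibLoc A B q) (FibLoc A B q) ∧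
    ringKrullDim (Localization.AtPrime q) =
      ringKrullDim (Localization.AtPrime (q.comap (algebraMap A B))) +
      ringKrullDim (FibLoc A B q) ∧
    (IsCohenMacaulayLocalRing (Localization.AtPrime q) ↔
      IsCohenMacaulayLocalRing (Localization.AtPrime (q.comap (algebraMap A B))) ∧
      IsCohenMacaulayLocalRing (FibLoc A B q)) := by
  set p := q.comap (algebraMap A B) with hp
  haveI : q.LiesOver p := ⟨rfl⟩
  letI := Localization.AtPrime.algebraOfLiesOver p q
  have hloc : IsLocalHom (algebraMap (Localization.AtPrime p) (Localization.AtPrime q)) :=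
    Localization.isLocalHom_localRingHom p q (algebraMap A B) rfl
  have hNA : IsNoetherianRing (Localization.AtPrime p) :=
    IsLocalization.isNoetherianRing p.primeCompl _ inferInstance
  have hNB : IsNoetherianRing (Localization.AtPrime q) :=
    IsLocalization.isNoetherianRing q.primeCompl _ inferInstance
  have hI : (maximalIdeal (Localization.AtPrime p)).map
      (algebraMap (Localization.AtPrime p) (Localization.AtPrime q)) =
      p.map (algebraMap A (Localization.AtPrime q)) := by
    rw [← Localization.AtPrime.map_eq_maximalIdeal, Ideal.map_map,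
      ← IsScalarTower.algebraMap_eq]
  refine ⟨?_, ?_, ?_⟩
  · rw [depth_ring_eq_add (Localization.AtPrime p) (Localization.AtPrime q)]
    congr 1
    exact depth_quot_congr _ _ hI
  · rw [dim_eq_add (Localization.AtPrime p) (Localization.AtPrime q)]
    congr 1
    exact dim_quot_congr _ _ hI
  · rw [isCM_iff (Localization.AtPrime p) (Localization.AtPrime q), isCM_quot_congr _ _ hI]


/-- if `q` is minimal over `(q ∩ A) B`, then `B_q` and `A_{q ∩ A}` have the same depth and the
same dimension -/
theorem depth_dim_loc_eq_of_minimal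
    (hq : q ∈ ((q.comap (algebraMap A B)).map (algebraMap A B)).minimalPrimes) :
    depth (Localization.AtPrime q) (Localization.AtPrime q) =
      depth (Localization.AtPrime (q.comap (algebraMap A B)))
        (Localization.AtPrime (q.comap (algebraMap A B))) ∧
    ringKrullDim (Localization.AtPrime q) =
      ringKrullDim (Localization.AtPrime (q.comap (algebraMap A B))) := by
  obtain ⟨h1, h2, -⟩ := loc_formulas A B q
  have h0 := dim_fibLoc_eq_zero_of_minimal A B q hq
  have hNB : IsNoetherianRing (Localization.AtPrime q) :=
    IsLocalization.isNoetherianRing q.primeCompl _ inferInstance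
  obtain ⟨e, he⟩ := exists_nat_depth (FibLoc A B q)
  have hd : ringKrullDim (FibLoc A B q) = (0 : ℕ) := by rw [h0]; rfl
  have hle := depth_le_dim_nat (FibLoc A B q) 0 e hd he
  have he0 : e = 0 := by omega
  rw [he, he0] at h1
  rw [h0] at h2
  exact ⟨by simpa using h1, by simpa using h2⟩

end Loc

section Sk
variable (A B : Type u) [CommRing A] [CommRing B] [Algebra A B]
  [IsNoetherianRing A] [IsNoetherianRing B]

/-- `(S_k)` ascends along flat maps all of whose fibres are zero-dimensional
(every prime `q` of `B` is minimal over `(q ∩ A) B`) -/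
theorem hasSk_of_fibres_zero_dim [Module.Flat A B] (k : ℕ)
    (hfib : ∀ (q : Ideal B) [q.IsPrime],
      q ∈ ((q.comap (algebraMap A B)).map (algebraMap A B)).minimalPrimes)
    (h : HasSk k A A) : HasSk k B B := by
  rw [Groth.Agent.Lib.Helper56.hasSk_self_iff] at h ⊢
  intro q _
  obtain ⟨h1, h2⟩ := depth_dim_loc_eq_of_minimal A B q (hfib q)
  rw [h1, h2]
  exact h _

/-- `(S_k)` descends along faithfully flat maps -/
theorem hasSk_descent [Module.FaithfullyFlat A B] (k : ℕ) (h : HasSk k B B) : HasSk k A A := by
  rw [Groth.Agent.Lib.Helper56.hasSk_self_iff] at h ⊢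
  intro p _
  obtain ⟨q', hq'prime, hq'lo⟩ := Ideal.exists_isPrime_liesOver_of_faithfullyFlat (B := B) p
  have hle : p.map (algebraMap A B) ≤ q' := by
    rw [Ideal.map_le_iff_le_comap, ← Ideal.under_def, ← hq'lo.over]
  obtain ⟨q, hqmin, hqle⟩ := Ideal.exists_minimalPrimes_le hle
  have hqprime : q.IsPrime := hqmin.1.1
  have hcomap : q.comap (algebraMap A B) = p := by
    apply le_antisymm
    · have := Ideal.comap_mono (f := algebraMap A B) hqle
      rwa [← Ideal.under_def (A := A) q', ← hq'lo.over] at this
    · rw [← Ideal.map_le_iff_le_comap]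
      exact hqmin.1.2
  have hqmin' : q ∈ ((q.comap (algebraMap A B)).map (algebraMap A B)).minimalPrimes := by
    rw [hcomap]; exact hqmin
  obtain ⟨h1, h2⟩ := depth_dim_loc_eq_of_minimal A B q hqmin'
  have key : ∀ (p' : Ideal A) [p'.IsPrime], p' = p →
      min (k : WithBot ℕ∞) (ringKrullDim (Localization.AtPrime p')) ≤
        ((depth (Localization.AtPrime p') (Localization.AtPrime p') : ℕ∞) : WithBot ℕ∞) →
      min (k : WithBot ℕ∞) (ringKrullDim (Localization.AtPrime p)) ≤
        ((depth (Localization.AtPrime p) (Localization.AtPrime p) : ℕ∞) : WithBot ℕ∞) := by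
    intro p' _ hp' hh
    subst hp'
    exact hh
  apply key _ hcomap
  rw [← h1, ← h2]
  exact h q

end Sk

end Groth.Agent.Lib.Helper77.FlatDepth
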