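import Groth.Agent.Lib.Helper77.RegularLocalization
import Mathlib.RingTheory.RingHom.Surjective
import Mathlib.RingTheory.PowerSeries.Ideal
import Mathlib.RingTheory.PowerSeries.Inverse
import Mathlib.RingTheory.MvPowerSeries.Equiv
universe u
set_option autoImplicit false
open IsLocalRing

/-!
# Power series rings over regular rings are regular (helper77)
-/
namespace Groth.Agent.Lib.Helper77.RegularPowerSeries

theorem ker_localRingHom {B A : Type u} [CommRing B] [CommRing A] (f : B →+* A)
    (hf : Function.Surjective f) (m : Ideal A) [m.IsPrime] :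
    RingHom.ker (Localization.localRingHom (m.comap f) m f rfl) =
      (RingHom.ker f).map (algebraMap B (Localization.AtPrime (m.comap f))) := by
  apply le_antisymm
  · intro x hx
    obtain ⟨b, s, rfl⟩ := IsLocalization.exists_mk'_eq (m.comap f).primeCompl x
    rw [RingHom.mem_ker, Localization.localRingHom_mk', IsLocalization.mk'_eq_zero_iff] at hx
    obtain ⟨⟨t, ht⟩, hx⟩ := hx
    obtain ⟨t', rfl⟩ := hf t
    rw [IsLocalization.mk'_mem_map_algebraMap_iff]
    refine ⟨t', ht, ?_⟩
    rw [RingHom.mem_ker, map_mul]
    exact hx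
  · rw [Ideal.map_le_iff_le_comap]
    intro b hb
    rw [Ideal.mem_comap, RingHom.mem_ker, Localization.localRingHom_to_map,
      (RingHom.mem_ker).mp hb, map_zero]

/-- `B_N / (ker f) B_N ≃ A_m` for `f : B → A` surjective, `N = f⁻¹ m`. -/
noncomputable def quotEquiv {B A : Type u} [CommRing B] [CommRing A] (f : B →+* A)
    (hf : Function.Surjective f) (m : Ideal A) [m.IsPrime] :
    (Localization.AtPrime (m.comap f) ⧸
      (RingHom.ker f).map (algebraMap B (Localization.AtPrime (m.comap f)))) ≃+*
      Localization.AtPrime m :=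
  (Ideal.quotEquivOfEq (ker_localRingHom f hf m).symm).trans
    (RingHom.quotientKerEquivOfSurjective
      (RingHom.surjective_localRingHom_of_surjective f hf m))


open PowerSeries in
theorem ker_constantCoeff (A : Type u) [CommRing A] :
    RingHom.ker (constantCoeff (R := A)) = Ideal.span {(X : A⟦X⟧)} := by
  ext f
  rw [RingHom.mem_ker, Ideal.mem_span_singleton, X_dvd_iff]

open PowerSeries in
/-- regularity of `A⟦X⟧` at primes of the form `constantCoeff⁻¹ m`. -/
theorem regular_at_comap (A : Type u) [CommRing A] [IsNoetherianRing A] (m : Ideal A) [m.IsPrime]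
    [hm : IsRegularLocalRing (Localization.AtPrime m)] :
    IsRegularLocalRing (Localization.AtPrime (m.comap (constantCoeff (R := A)))) := by
  set N := m.comap (constantCoeff (R := A)) with hN
  set x : Localization.AtPrime N := algebraMap A⟦X⟧ (Localization.AtPrime N) X with hx
  have hXN : (X : A⟦X⟧) ∈ N := by
    rw [hN, Ideal.mem_comap, constantCoeff_X]; exact Ideal.zero_mem _
  have hxmax : x ∈ maximalIdeal (Localization.AtPrime N) :=
    (IsLocalization.AtPrime.to_map_mem_maximal_iff _ N X).mpr hXN
  have hXnzd : (X : A⟦X⟧) ∈ nonZeroDivisors A⟦X⟧ := by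
    rw [mem_nonZeroDivisors_iff_right]
    intro f hf
    apply X_mul_cancel (R := A)
    rw [mul_zero, mul_comm]; exact hf
  have hxnzd : x ∈ nonZeroDivisors (Localization.AtPrime N) :=
    IsLocalization.map_nonZeroDivisors_le N.primeCompl (Localization.AtPrime N)
      (Submonoid.mem_map_of_mem _ hXnzd)
  have hker : (RingHom.ker (constantCoeff (R := A))).map
      (algebraMap A⟦X⟧ (Localization.AtPrime N)) = Ideal.span {x} := by
    rw [ker_constantCoeff, Ideal.map_span, Set.image_singleton]
  have e : (Localization.AtPrime N ⧸ Ideal.span {x}) ≃+* Localization.AtPrime m :=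
    (Ideal.quotEquivOfEq hker.symm).trans (quotEquiv (constantCoeff (R := A)) constantCoeff_surj m)
  have : IsRegularLocalRing (Localization.AtPrime N ⧸ Ideal.span {x}) :=
    IsRegularLocalRing.of_ringEquiv e.symm
  have : IsNoetherianRing (Localization.AtPrime N) :=
    IsLocalization.isNoetherianRing N.primeCompl _ inferInstance
  exact Groth.Agent.S0560.result (Localization.AtPrime N) x hxmax hxnzd

open PowerSeries in
theorem maximal_eq_comap (A : Type u) [CommRing A] (N : Ideal A⟦X⟧) [hNmax : N.IsMaximal] :
    ∃ (m : Ideal A) (_ : m.IsPrime), N = m.comap (constantCoeff (R := A)) := by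
  have hXN : (X : A⟦X⟧) ∈ N := by
    by_contra hX
    obtain ⟨g, n, hn, hgn⟩ := hNmax.exists_inv hX
    -- g * X + n = 1
    have hunit : IsUnit n := by
      rw [isUnit_iff_constantCoeff]
      have := congrArg (constantCoeff (R := A)) hgn
      simp only [map_add, map_mul, constantCoeff_X, mul_zero, zero_add, map_one] at this
      rw [this]; exact isUnit_one
    exact hNmax.ne_top (Ideal.eq_top_of_isUnit_mem _ hn hunit)
  refine ⟨N.comap (C (R := A)), inferInstance, ?_⟩
  ext f
  rw [Ideal.mem_comap, Ideal.mem_comap]
  have hf := eq_X_mul_shift_add_const f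
  constructor
  · intro h
    have : C (constantCoeff f) = f - X * (mk fun p => coeff (p + 1) f) := by
      rw [eq_sub_iff_add_eq, add_comm]; exact hf.symm
    rw [this]
    exact N.sub_mem h (N.mul_mem_right _ hXN)
  · intro h
    rw [hf]
    exact N.add_mem (N.mul_mem_right _ hXN) h

theorem isRegularRing_powerSeries (A : Type u) [CommRing A] [IsRegularRing A] :
    IsRegularRing (PowerSeries A) := by
  apply Groth.Agent.Lib.Helper77.RegularLocalization.isRegularRing_of_maximal
  intro N hN
  obtain ⟨m, hm, rfl⟩ := maximal_eq_comap A N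
  exact regular_at_comap A m

theorem isRegularRing_mvPowerSeries (A : Type u) [CommRing A] [IsRegularRing A] (n : ℕ) :
    IsRegularRing (MvPowerSeries (Fin n) A) := by
  induction n with
  | zero => exact IsRegularRing.of_ringEquiv (MvPowerSeries.isEmptyEquiv (Fin 0) A).symm.toRingEquiv
  | succ n ih =>
    have := isRegularRing_powerSeries (MvPowerSeries (Fin n) A)
    exact IsRegularRing.of_ringEquiv (MvPowerSeries.finSuccEquiv A n).symm.toRingEquiv

end Groth.Agent.Lib.Helper77.RegularPowerSeries
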