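import Groth.Agent.Lib.Helper77.Serre
import Groth.Agent.Lib.Helper76.RegularLocalGlDim
import Mathlib.RingTheory.LocalProperties.ProjectiveDimension
import Mathlib.RingTheory.LocalProperties.Basic
import Mathlib.Algebra.Module.LocalizedModule.Submodule
import Mathlib.RingTheory.Localization.LocalizationLocalization

/-!
# Localizations of regular local rings are regular; regular rings via maximal ideals (helper77)
-/
universe u
set_option autoImplicit false
open IsLocalRing CategoryTheory

namespace Groth.Agent.Lib.Helper77.RegularLocalization

/-- the residue field of `R_p` as the localization of `R/p` -/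
noncomputable def residueEquiv (R : Type u) [CommRing R] (p : Ideal R) [p.IsPrime] :
    ((ModuleCat.of R (R ⧸ p)).localizedModule p.primeCompl) ≃ₗ[Localization.AtPrime p]
      (Localization.AtPrime p ⧸ maximalIdeal (Localization.AtPrime p)) := by
  let f₀ : R →ₗ[R] Localization.AtPrime p := Algebra.linearMap R (Localization.AtPrime p)
  let q := Submodule.toLocalizedQuotient' (Localization.AtPrime p) p.primeCompl f₀ p
  have hq : IsLocalizedModule p.primeCompl q := inferInstance
  have hl : IsLocalizedModule p.primeCompl
      ((ModuleCat.of R (R ⧸ p)).localizedModuleMkLinearMap p.primeCompl) :=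
    ModuleCat.localizedModule_isLocalizedModule (ModuleCat.of R (R ⧸ p)) p.primeCompl
  let e₁ := IsLocalizedModule.linearEquiv p.primeCompl
    ((ModuleCat.of R (R ⧸ p)).localizedModuleMkLinearMap p.primeCompl) q
  let e₂ := LinearEquiv.extendScalarsOfIsLocalization p.primeCompl (Localization.AtPrime p) e₁
  have h : Submodule.localized' (Localization.AtPrime p) p.primeCompl f₀ p =
      maximalIdeal (Localization.AtPrime p) := by
    rw [Ideal.localized'_eq_map, Localization.AtPrime.map_eq_maximalIdeal]
  exact e₂.trans (Submodule.quotEquivOfEq _ _ h)


theorem localization_regular (R : Type u) [CommRing R]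
    [IsRegularLocalRing R] (p : Ideal R) [p.IsPrime] :
    IsRegularLocalRing (Localization.AtPrime p) := by
  obtain ⟨d, hd⟩ : ∃ d : ℕ, ringKrullDim R = d := by
    have hd' : ringKrullDim R ≠ ⊥ := ringKrullDim_ne_bot
    have hd'' : ringKrullDim R ≠ ⊤ := ringKrullDim_ne_top
    cases h : ringKrullDim R with
    | bot => exact absurd h hd'
    | coe a =>
      cases a with
      | top => exact absurd h hd''
      | coe n => exact ⟨n, rfl⟩
  have h1 : HasProjectiveDimensionLT (ModuleCat.of R (R ⧸ p)) (d + 1) :=
    Groth.Agent.Lib.Helper76.hasProjectiveDimensionLT_of_isRegularLocalRing R d hd (R ⧸ p)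
  have h1' : HasProjectiveDimensionLE (ModuleCat.of R (R ⧸ p)) d := h1
  have h2 : HasProjectiveDimensionLE
      ((ModuleCat.of R (R ⧸ p)).localizedModule p.primeCompl) d :=
    ModuleCat.localizedModule_hasProjectiveDimensionLE d p.primeCompl _
  have h2' : HasProjectiveDimensionLT
      ((ModuleCat.of R (R ⧸ p)).localizedModule p.primeCompl) (d + 1) := h2
  have h3 : HasProjectiveDimensionLT (ModuleCat.of (Localization.AtPrime p)
      (Localization.AtPrime p ⧸ maximalIdeal (Localization.AtPrime p))) (d + 1) :=
    hasProjectiveDimensionLT_of_iso (residueEquiv R p).toModuleIso (d + 1)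
  have : IsNoetherianRing (Localization.AtPrime p) :=
    IsLocalization.isNoetherianRing p.primeCompl _ inferInstance
  exact Groth.Agent.Lib.Helper77.Serre.isRegularLocalRing_of_residueField_hasProjectiveDimensionLT
    _ (d + 1) h3


/-- a regular local ring is a regular ring -/
theorem isRegularRing_of_isRegularLocalRing (R : Type u) [CommRing R] [IsRegularLocalRing R] :
    IsRegularRing R :=
  isRegularRing_iff.mpr fun p _ => localization_regular R p

/-- if `R_m` is regular local and `p ≤ m` then `R_p` is regular local -/
theorem isRegularLocalRing_atPrime_of_le (R : Type u) [CommRing R] (m : Ideal R) [m.IsPrime]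
    [IsRegularLocalRing (Localization.AtPrime m)] (p : Ideal R) [hp : p.IsPrime] (hpm : p ≤ m) :
    IsRegularLocalRing (Localization.AtPrime p) := by
  have hdisj : Disjoint (m.primeCompl : Set R) (p : Set R) := by
    rw [Set.disjoint_left]
    intro x hx hxp
    exact hx (hpm hxp)
  have hq : (p.map (algebraMap R (Localization.AtPrime m))).IsPrime :=
    IsLocalization.isPrime_of_isPrime_disjoint m.primeCompl _ p hp hdisj
  have hcomap : (p.map (algebraMap R (Localization.AtPrime m))).comap
      (algebraMap R (Localization.AtPrime m)) = p :=
    IsLocalization.under_map_of_isPrime_disjoint m.primeCompl _ hp hdisj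
  have h1 : IsRegularLocalRing
      (Localization.AtPrime (p.map (algebraMap R (Localization.AtPrime m)))) :=
    localization_regular _ _
  have key : ∀ (I : Ideal R) [I.IsPrime],
      I = (p.map (algebraMap R (Localization.AtPrime m))).comap
        (algebraMap R (Localization.AtPrime m)) → IsRegularLocalRing (Localization.AtPrime I) := by
    intro I _ hI
    subst hI
    exact IsRegularLocalRing.of_ringEquiv
      (IsLocalization.localizationLocalizationAtPrimeIsoLocalization m.primeCompl
        (p.map (algebraMap R (Localization.AtPrime m)))).symm.toRingEquiv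
  exact key p hcomap.symm

/-- a Noetherian ring whose localizations at maximal ideals are regular is regular -/
theorem isRegularRing_of_maximal (R : Type u) [CommRing R] [IsNoetherianRing R]
    (h : ∀ (m : Ideal R) [m.IsMaximal], IsRegularLocalRing (Localization.AtPrime m)) :
    IsRegularRing R := by
  rw [isRegularRing_iff]
  intro p hp
  obtain ⟨m, hm, hpm⟩ := Ideal.exists_le_maximal p hp.ne_top
  have := h m
  exact isRegularLocalRing_atPrime_of_le R m p hpm

end Groth.Agent.Lib.Helper77.RegularLocalization
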