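import Groth.Agent.Lib.Helper77.RegularLocalization
import Groth.Agent.S0543
import Mathlib.RingTheory.RingHom.Flat
import Mathlib.RingTheory.Ideal.KrullsHeightTheorem
import Mathlib.RingTheory.AdicCompletion.LocalRing
import Mathlib.RingTheory.AdicCompletion.AsTensorProduct
universe u
set_option autoImplicit false
open IsLocalRing

/-!
# Adic completions of regular rings are regular; flat local maps with mB = n (helper77)
-/
namespace Groth.Agent.Lib.Helper77.RegularCompletion

/-- flat local hom `(A,m) → (B,n)` of Noetherian local rings with `mB = n`: `A` regular ⇒ `B` regular -/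
theorem regular_of_flat_of_map_maximalIdeal (A B : Type u) [CommRing A] [CommRing B]
    [IsRegularLocalRing A] [IsLocalRing B] [IsNoetherianRing B] [Algebra A B]
    [IsLocalHom (algebraMap A B)] [Module.Flat A B]
    (h : (maximalIdeal A).map (algebraMap A B) = maximalIdeal B) : IsRegularLocalRing B := by
  apply IsRegularLocalRing.of_spanFinrank_maximalIdeal_le
  have h1 : (maximalIdeal B).spanFinrank ≤ (maximalIdeal A).spanFinrank := by
    rw [← h]
    exact Ideal.spanFinrank_map_le_of_fg _ (IsNoetherian.noetherian _)
  have h2 : ((maximalIdeal A).spanFinrank : WithBot ℕ∞) = ringKrullDim A :=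
    IsRegularLocalRing.spanFinrank_maximalIdeal
  have hlo : (maximalIdeal B).LiesOver (maximalIdeal A) :=
    ⟨(maximalIdeal_comap (algebraMap A B)).symm⟩
  have h3 := Ideal.height_eq_height_add_of_liesOver_of_hasGoingDown (maximalIdeal A) (maximalIdeal B)
  have h4 : (maximalIdeal A).height ≤ (maximalIdeal B).height := by
    rw [h3]; exact le_self_add
  have h5 : ringKrullDim A ≤ ringKrullDim B := by
    rw [← IsLocalRing.maximalIdeal_height_eq_ringKrullDim,
      ← IsLocalRing.maximalIdeal_height_eq_ringKrullDim]
    exact_mod_cast h4
  calc ((maximalIdeal B).spanFinrank : WithBot ℕ∞) ≤ (maximalIdeal A).spanFinrank := by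
        exact_mod_cast h1
    _ = ringKrullDim A := h2
    _ ≤ ringKrullDim B := h5


section Completion
variable (A : Type u) [CommRing A] [IsNoetherianRing A] (J : Ideal A)

theorem map_le_of_isMaximal (n : Ideal (AdicCompletion J A)) [hn : n.IsMaximal] :
    J.map (algebraMap A (AdicCompletion J A)) ≤ n := by
  have := AdicCompletion.isAdicComplete_self J (IsNoetherian.noetherian J)
  have h := IsAdicComplete.le_jacobson_bot (I := J.map (algebraMap A (AdicCompletion J A)))
    (R := AdicCompletion J A)
  refine h.trans ?_
  calc (⊥ : Ideal (AdicCompletion J A)).jacobson ≤ n.jacobson := Ideal.jacobson_mono bot_le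
    _ = n := Ideal.jacobson_eq_self_of_isMaximal

theorem maximal_eq_map (n : Ideal (AdicCompletion J A)) [hn : n.IsMaximal] :
    n = (n.comap (algebraMap A (AdicCompletion J A))).map (algebraMap A (AdicCompletion J A)) := by
  have hJn := map_le_of_isMaximal A J n
  have hJm : J ≤ n.comap (algebraMap A (AdicCompletion J A)) := Ideal.map_le_iff_le_comap.mp hJn
  apply le_antisymm _ Ideal.map_comap_le
  intro x hx
  obtain ⟨a, ha⟩ := Ideal.Quotient.mk_surjective ((AdicCompletion.evalOneₐ J).toRingHom x)
  have hker : x - algebraMap A (AdicCompletion J A) a ∈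
      J.map (algebraMap A (AdicCompletion J A)) := by
    rw [← AdicCompletion.ker_evalOneₐ_eq_map J (IsNoetherian.noetherian J), RingHom.mem_ker,
      map_sub, sub_eq_zero, ← ha]
    rfl
  have ha_n : algebraMap A (AdicCompletion J A) a ∈ n := by
    have : algebraMap A (AdicCompletion J A) a = x - (x - algebraMap A (AdicCompletion J A) a) := by
      ring
    rw [this]
    exact n.sub_mem hx (hJn hker)
  have : x = algebraMap A (AdicCompletion J A) a + (x - algebraMap A (AdicCompletion J A) a) := by
    ring
  rw [this]
  exact Ideal.add_mem _ (Ideal.mem_map_of_mem _ ha_n) (Ideal.map_mono hJm hker)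


theorem isRegularRing_adicCompletion (A : Type u) [CommRing A] [IsRegularRing A] (J : Ideal A) :
    IsRegularRing (AdicCompletion J A) := by
  have hnoeth : IsNoetherianRing (AdicCompletion J A) := Groth.Agent.S0543.result A J
  apply Groth.Agent.Lib.Helper77.RegularLocalization.isRegularRing_of_maximal
  intro n hn
  set m := n.comap (algebraMap A (AdicCompletion J A)) with hm
  let φ := Localization.localRingHom m n (algebraMap A (AdicCompletion J A)) rfl
  let _ : Algebra (Localization.AtPrime m) (Localization.AtPrime n) := φ.toAlgebra
  have hflat0 : (algebraMap A (AdicCompletion J A)).Flat :=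
    RingHom.flat_algebraMap_iff.mpr inferInstance
  have hflat : Module.Flat (Localization.AtPrime m) (Localization.AtPrime n) :=
    RingHom.Flat.localRingHom hflat0 n m rfl
  have hloc : IsLocalHom (algebraMap (Localization.AtPrime m) (Localization.AtPrime n)) :=
    Localization.isLocalHom_localRingHom m n (algebraMap A (AdicCompletion J A)) rfl
  have hcomp : φ.comp (algebraMap A (Localization.AtPrime m)) =
      (algebraMap (AdicCompletion J A) (Localization.AtPrime n)).comp
        (algebraMap A (AdicCompletion J A)) := by
    ext a
    simp only [RingHom.comp_apply, φ, Localization.localRingHom_to_map]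
  have hmap : (maximalIdeal (Localization.AtPrime m)).map
      (algebraMap (Localization.AtPrime m) (Localization.AtPrime n)) =
      maximalIdeal (Localization.AtPrime n) := by
    rw [← Localization.AtPrime.map_eq_maximalIdeal, ← Localization.AtPrime.map_eq_maximalIdeal,
      Ideal.map_map]
    rw [show algebraMap (Localization.AtPrime m) (Localization.AtPrime n) = φ from rfl, hcomp,
      ← Ideal.map_map, ← maximal_eq_map A J n]
  have : IsNoetherianRing (Localization.AtPrime n) :=
    IsLocalization.isNoetherianRing n.primeCompl _ inferInstance
  exact regular_of_flat_of_map_maximalIdeal (Localization.AtPrime m) (Localization.AtPrime n) hmap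

end Completion

end Groth.Agent.Lib.Helper77.RegularCompletion
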