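import Groth.Agent.Lib.Helper77.FlatDepth2
import Groth.Agent.Lib.Helper4.GorCM
import Mathlib.RingTheory.KrullDimension.Regular

/-!
# Quotients of Cohen–Macaulay local rings by one element (ring level) (helper77)
-/
universe u
set_option autoImplicit false
open IsLocalRing LocCoh
open scoped Pointwise

namespace Groth.Agent.Lib.Helper77.CMQuot
open Groth.Agent.Lib.Helper77.FlatDepth Groth.Agent.Lib.Helper67

variable (S : Type u) [CommRing S]

theorem span_singleton_eq_smul_top (y : S) : Ideal.span {y} = y • (⊤ : Ideal S) := by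
  simp [← Submodule.ideal_span_singleton_smul]

/-- in a CM local ring, an element `y ∈ m` with `dim S/(y) + 1 = dim S` is a nonzerodivisor -/
theorem isSMulRegular_of_dim [IsCohenMacaulayLocalRing S] (y : S)
    (J : Ideal S) (hJ : J = Ideal.span {y})
    (hdim : ringKrullDim (S ⧸ J) + 1 = ringKrullDim S) : IsSMulRegular S y := by
  subst hJ
  have hM : IsCohenMacaulayModule S S := IsCohenMacaulayLocalRing.supportDim_eq_depth
  apply isSMulRegular_of_supportDim_quotSMulTop_add_one_eq S hM
  rw [Module.supportDim_self_eq_ringKrullDim, ← hdim]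
  congr 1
  have h := span_singleton_eq_smul_top S y
  have h2 : Module.supportDim S (S ⧸ (y • (⊤ : Ideal S))) = ringKrullDim (S ⧸ (y • (⊤ : Ideal S))) :=
    Module.supportDim_quotient_eq_ringKrullDim _
  show Module.supportDim S (S ⧸ (y • (⊤ : Submodule S S))) = _
  rw [h2]
  exact (dim_quot_congr' _ _ h).symm
where
  dim_quot_congr' (I J : Ideal S) (h : I = J) : ringKrullDim (S ⧸ I) = ringKrullDim (S ⧸ J) := by
    subst h; rfl

/-- quotient of a CM local ring by a nonzerodivisor `y ∈ m` is CM -/
theorem isCM_quot_of_regular [IsCohenMacaulayLocalRing S] (y : S) (hy : y ∈ maximalIdeal S)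
    (hreg : IsSMulRegular S y) (J : Ideal S) (hJ : J = Ideal.span {y}) :
    IsCohenMacaulayLocalRing (S ⧸ J) := by
  subst hJ
  have hle : Ideal.span {y} ≤ maximalIdeal S := (Ideal.span_singleton_le_iff_mem _).mpr hy
  have hne : Ideal.span {y} ≠ ⊤ := fun h =>
    (maximalIdeal.isMaximal S).ne_top (top_le_iff.mp (h ▸ hle))
  have : Nontrivial (S ⧸ Ideal.span {y}) := Ideal.Quotient.nontrivial_iff.mpr hne
  have hloc : IsLocalRing (S ⧸ Ideal.span {y}) :=
    IsLocalRing.of_surjective' (Ideal.Quotient.mk _) Ideal.Quotient.mk_surjective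
  have h1 := ringKrullDim_quotient_span_singleton_succ_eq_ringKrullDim hreg hy
  have h2 := Groth.Agent.Lib.Helper4.GorCM.depth_quot_add_one S y hy hreg
  obtain ⟨d, hd⟩ := exists_nat_dim S
  obtain ⟨e, he⟩ := exists_nat_depth S
  obtain ⟨d', hd'⟩ := exists_nat_dim (S ⧸ Ideal.span {y})
  obtain ⟨e', he'⟩ := exists_nat_depth (S ⧸ Ideal.span {y})
  have hcm := (isCM_iff_nat S d e hd he).mp inferInstance
  rw [isCM_iff_nat _ d' e' hd' he']
  rw [hd, hd'] at h1
  rw [he, he'] at h2
  have h1' : d' + 1 = d := by exact_mod_cast h1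
  have h2' : e' + 1 = e := by exact_mod_cast h2
  omega

end Groth.Agent.Lib.Helper77.CMQuot
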