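import Groth.Agent.Lib.Helper56.Serre3
import Groth.Agent.Lib.Helper56.Normal1
import Groth.Agent.Lib.Helper77.RegularCM
import Groth.Agent.Lib.Helper77.CMQuot
import Groth.Agent.Lib.Helper76.RegularLocal

universe u
set_option autoImplicit false
open IsLocalRing LocCoh

namespace Groth.Agent.Lib.Helper77.HypNormal
open Groth.Agent.Lib.Helper56 Groth.Agent.Lib.Helper77

/-- regular local ring modulo one element of the maximal ideal: dim = depth -/
theorem dim_eq_depth_quot_span (S : Type u) [CommRing S] [IsRegularLocalRing S] (y : S)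
    (hy : y ∈ maximalIdeal S) (J : Ideal S) (hJ : J = Ideal.span {y})
    (X : Type u) [CommRing X] [IsLocalRing X] (e : (S ⧸ J) ≃+* X) :
    ringKrullDim X = ((depth X X : ℕ∞) : WithBot ℕ∞) := by
  have hCM : IsCohenMacaulayLocalRing S := RegularCM.isCohenMacaulayLocalRing S
  have hdom : IsDomain S := Helper76.isDomain_of_isRegularLocalRing S
  by_cases hy0 : y = 0
  · have hJ0 : J = ⊥ := by rw [hJ, hy0]; exact Ideal.span_singleton_eq_bot.mpr rfl
    let e' : S ≃+* X := ((RingEquiv.quotientBot S).symm.trans
      (Ideal.quotEquivOfEq hJ0.symm)).trans e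
    rw [← ringKrullDim_eq_of_ringEquiv e', ← depth_self_of_ringEquiv e',
      ← Module.supportDim_self_eq_ringKrullDim]
    exact hCM.supportDim_eq_depth
  · have hreg : IsSMulRegular S y := by
      intro a b hab
      exact mul_left_cancel₀ hy0 hab
    have h1 := CMQuot.isCM_quot_of_regular S y hy hreg J hJ
    have hloc : IsLocalRing (S ⧸ J) := h1.toIsLocalRing
    rw [← ringKrullDim_eq_of_ringEquiv e, ← depth_self_of_ringEquiv e,
      ← Module.supportDim_self_eq_ringKrullDim]
    exact h1.supportDim_eq_depth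

theorem atPrime_congr {R : Type u} [CommRing R] (P : ∀ (q : Ideal R) [q.IsPrime], Prop)
    {q q' : Ideal R} [hq : q.IsPrime] [hq' : q'.IsPrime] (h : q = q') (hP : P q) : P q' := by
  subst h
  exact hP

theorem dim_eq_depth_loc_quot (A : Type u) [CommRing A] [IsNoetherianRing A]
    (hreg : ∀ (p : Ideal A) (_ : p.IsPrime), IsRegularLocalRing (Localization.AtPrime p))
    (f : A) (I : Ideal A) (hI : I = Ideal.span ({f} : Set A)) (q : Ideal (A ⧸ I)) [hq : q.IsPrime] :
    ringKrullDim (Localization.AtPrime q) =
      ((depth (Localization.AtPrime q) (Localization.AtPrime q) : ℕ∞) : WithBot ℕ∞) := by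
  have hmap : ∀ {X : Type u} [CommRing X] (g : A →+* X), I.map g = Ideal.span {g f} := by
    intro X _ g
    rw [hI, Ideal.map_span, Set.image_singleton]
  have hpq : (q.comap (Ideal.Quotient.mk I)).map (Ideal.Quotient.mk I) = q :=
    Ideal.map_comap_of_surjective _ Ideal.Quotient.mk_surjective q
  have hpprime : (q.comap (Ideal.Quotient.mk I)).IsPrime := Ideal.comap_isPrime _ q
  have hprime' : ((q.comap (Ideal.Quotient.mk I)).map (Ideal.Quotient.mk I)).IsPrime := by
    rw [hpq]; exact hq
  have hIp : I ≤ q.comap (Ideal.Quotient.mk I) := by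
    intro x hx
    rw [Ideal.mem_comap, Ideal.Quotient.eq_zero_iff_mem.mpr hx]
    exact q.zero_mem
  refine atPrime_congr (fun q' _ => ringKrullDim (Localization.AtPrime q') =
      ((depth (Localization.AtPrime q') (Localization.AtPrime q') : ℕ∞) : WithBot ℕ∞)) hpq ?_
  obtain ⟨e⟩ := nonempty_quotLocEquiv I (q.comap (Ideal.Quotient.mk I)) hIp
  have := hreg _ hpprime
  refine dim_eq_depth_quot_span (Localization.AtPrime (q.comap (Ideal.Quotient.mk I)))
    (algebraMap A _ f) ?_ _ ?_ _ e
  · rw [IsLocalization.AtPrime.to_map_mem_maximal_iff (Localization.AtPrime _)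
      (q.comap (Ideal.Quotient.mk I))]
    exact hIp (hI ▸ Ideal.mem_span_singleton_self f)
  · exact hmap _

theorem isRegularLocalRing_of_dim_zero_domain (X : Type u) [CommRing X] [IsDomain X] [IsLocalRing X]
    [IsNoetherianRing X] (h : ringKrullDim X = 0) : IsRegularLocalRing X := by
  apply IsRegularLocalRing.of_spanFinrank_maximalIdeal_le
  have hK : Ring.KrullDimLE 0 X := by
    rw [Ring.krullDimLE_iff]; rw [h]; rfl
  have hmin : maximalIdeal X ∈ minimalPrimes X :=
    Ideal.mem_minimalPrimes_of_krullDimLE_zero _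
  rw [IsDomain.minimalPrimes_eq_singleton_bot, Set.mem_singleton_iff] at hmin
  rw [hmin, Submodule.spanFinrank_bot, h]
  rfl

theorem main (A : Type u) [CommRing A]
    [IsNoetherianRing A] (hreg : ∀ (p : Ideal A) (_ : p.IsPrime), IsRegularLocalRing (Localization.AtPrime p))
    (f : A) (hf : (Ideal.span ({f} : Set A)).IsPrime) :
    IsIntegrallyClosed (A ⧸ Ideal.span ({f} : Set A)) ↔
      ∀ q : PrimeSpectrum (A ⧸ Ideal.span ({f} : Set A)),
        ringKrullDim (Localization.AtPrime q.asIdeal) = 1 →
          IsRegularLocalRing (Localization.AtPrime q.asIdeal) := by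
  have hdom : IsDomain (A ⧸ Ideal.span ({f} : Set A)) := Ideal.Quotient.isDomain _
  constructor
  · intro hic q hq
    have h1 := (serre_normal_iff (A ⧸ Ideal.span ({f} : Set A))).mp
      (fun p _ => normal_localizations _ p)
    apply h1.1 q.asIdeal
    rw [IsLocalization.AtPrime.ringKrullDim_eq_height q.asIdeal] at hq
    have : q.asIdeal.height = 1 := by exact_mod_cast hq
    rw [this]
    rfl
  · intro h
    have hR1 : HasRk 1 (A ⧸ Ideal.span ({f} : Set A)) := by
      intro q _ hq
      have hN : IsNoetherianRing (Localization.AtPrime q) :=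
        IsLocalization.isNoetherianRing q.primeCompl _ inferInstance
      have hdim := IsLocalization.AtPrime.ringKrullDim_eq_height q (Localization.AtPrime q)
      rcases Order.le_one_iff.mp hq with h0 | h1
      · rw [h0] at hdim
        exact isRegularLocalRing_of_dim_zero_domain _ hdim
      · rw [h1] at hdim
        exact h ⟨q, inferInstance⟩ hdim
    have hS2 : HasSk 2 (A ⧸ Ideal.span ({f} : Set A)) (A ⧸ Ideal.span ({f} : Set A)) := by
      rw [hasSk_self_iff]
      intro q _
      rw [← dim_eq_depth_loc_quot A hreg f _ rfl q]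
      exact min_le_right _ _
    have h2 := (serre_normal_iff (A ⧸ Ideal.span ({f} : Set A))).mpr ⟨hR1, hS2⟩
    exact IsIntegrallyClosed.of_localization_maximal (fun p _ _ => (h2 p).2)

end Groth.Agent.Lib.Helper77.HypNormal
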