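import Groth.Agent.Lib.Helper77.Unmixed
import Groth.Agent.Lib.Helper56.Serre3
import Groth.Agent.Lib.Helper56.Normal1
import Groth.Agent.Lib.Helper4.GorCM
import Groth.Agent.Lib.Helper77.HypNormal
import Mathlib.RingTheory.KrullDimension.Regular

/-!
# Projective normality of complete intersections (helper77): S10918
-/
universe u
set_option autoImplicit false
open LocCoh IsLocalRing RingTheory.Sequence

namespace Groth.Agent.Lib.Helper77.ProjNormal

open Groth.Agent.Lib.Helper67 Groth.Agent.Lib.Helper56 Groth.Agent.Lib.Helper77.Unmixed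

section Local

/-- quotient of a CM local ring by a regular sequence: `dim = depth`, and `dim + length = dim R` -/
theorem quot_CM (R : Type u) [CommRing R] [IsCohenMacaulayLocalRing R] (rs : List R)
    (hmem : ∀ x ∈ rs, x ∈ maximalIdeal R) (hreg : IsWeaklyRegular R rs)
    (J : Ideal R) (hJ : J = Ideal.ofList rs)
    (X : Type u) [CommRing X] [IsLocalRing X] (e : (R ⧸ J) ≃+* X) :
    ringKrullDim X = ((depth X X : ℕ∞) : WithBot ℕ∞) ∧
      ringKrullDim X + (rs.length : WithBot ℕ∞) = ringKrullDim R := by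
  subst hJ
  have hJle : Ideal.ofList rs ≤ maximalIdeal R := by
    rw [Ideal.ofList, Ideal.span_le]
    exact fun x hx => hmem x hx
  have hJtop : Ideal.ofList rs ≠ ⊤ :=
    fun h => (maximalIdeal.isMaximal R).ne_top (top_le_iff.mp (h ▸ hJle))
  haveI : Nontrivial (R ⧸ Ideal.ofList rs) := Ideal.Quotient.nontrivial_iff.mpr hJtop
  haveI : IsLocalRing (R ⧸ Ideal.ofList rs) :=
    IsLocalRing.of_surjective' (Ideal.Quotient.mk _) Ideal.Quotient.mk_surjective
  have hM := isCohenMacaulayModule_quot_ofList rs R (isCM_self R) hmem hreg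
  have heq : (Ideal.ofList rs • (⊤ : Submodule R R)) = Ideal.ofList rs := by
    rw [smul_eq_mul, Ideal.mul_top]
  let e1 : (R ⧸ (Ideal.ofList rs • (⊤ : Submodule R R))) ≃ₗ[R] (R ⧸ Ideal.ofList rs) :=
    Submodule.quotEquivOfEq _ _ heq
  have hM' : IsCohenMacaulayModule R (R ⧸ Ideal.ofList rs) := isCohenMacaulayModule_of_equiv e1 hM
  unfold IsCohenMacaulayModule at hM'
  rw [Module.supportDim_quotient_eq_ringKrullDim,
    ← Groth.Agent.Lib.Helper4.GorCM.depth_quotient R (Ideal.ofList rs)] at hM'
  have hregular : IsRegular R rs :=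
    isRegular_of_isWeaklyRegular_of_mem (maximalIdeal R) (maximalIdeal_smul_top_ne_top R) hreg hmem
  have hdim := Module.supportDim_add_length_eq_supportDim_of_isRegular rs hregular
  rw [Module.supportDim_eq_of_equiv e1, Module.supportDim_quotient_eq_ringKrullDim,
    Module.supportDim_self_eq_ringKrullDim] at hdim
  rw [← ringKrullDim_eq_of_ringEquiv e, ← depth_self_of_ringEquiv e]
  exact ⟨hM', hdim⟩

end Local

section LocQuot

variable (S : Type u) [CommRing S] [IsNoetherianRing S]

theorem loc_quot (r : ℕ) (f : Fin r → S)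
    (hJ : (r : ℕ∞) ≤ (Ideal.span (Set.range f)).height) (P : Ideal S) [P.IsPrime]
    (hJP : Ideal.span (Set.range f) ≤ P) [IsCohenMacaulayLocalRing (Localization.AtPrime P)]
    [(P.map (Ideal.Quotient.mk (Ideal.span (Set.range f)))).IsPrime] :
    ringKrullDim (Localization.AtPrime (P.map (Ideal.Quotient.mk (Ideal.span (Set.range f))))) =
      ((depth (Localization.AtPrime (P.map (Ideal.Quotient.mk (Ideal.span (Set.range f)))))
        (Localization.AtPrime (P.map (Ideal.Quotient.mk (Ideal.span (Set.range f))))) : ℕ∞) :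
          WithBot ℕ∞) ∧
    ringKrullDim (Localization.AtPrime (P.map (Ideal.Quotient.mk (Ideal.span (Set.range f))))) +
      (r : WithBot ℕ∞) = ringKrullDim (Localization.AtPrime P) := by
  set J := Ideal.span (Set.range f) with hJdef
  set rs : List (Localization.AtPrime P) :=
    List.ofFn (fun i => algebraMap S (Localization.AtPrime P) (f i)) with hrs
  have hlen : rs.length = r := List.length_ofFn
  have hofList : Ideal.ofList rs = J.map (algebraMap S (Localization.AtPrime P)) := by
    rw [hJdef, Ideal.map_span, Ideal.ofList]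
    congr 1
    ext x
    simp only [hrs, List.mem_ofFn, Set.mem_setOf_eq, Set.mem_image, Set.mem_range,
      exists_exists_eq_and]
  have hmem : ∀ x ∈ rs, x ∈ maximalIdeal (Localization.AtPrime P) := by
    intro x hx
    rw [hrs, List.mem_ofFn] at hx
    obtain ⟨i, rfl⟩ := hx
    rw [IsLocalization.AtPrime.to_map_mem_maximal_iff (Localization.AtPrime P) P]
    exact hJP (Ideal.subset_span ⟨i, rfl⟩)
  have hht : ∀ Q : PrimeSpectrum (Localization.AtPrime P), Ideal.ofList rs ≤ Q.asIdeal →
      (rs.length : ℕ∞) ≤ Q.asIdeal.height := by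
    intro Q hQ
    rw [hlen, ← IsLocalization.height_under P.primeCompl Q.asIdeal]
    refine le_trans hJ (Ideal.height_mono ?_)
    rw [hofList, Ideal.map_le_iff_le_comap] at hQ
    exact hQ
  have hreg := isWeaklyRegular_of_height (Localization.AtPrime P) rs hmem hht
  obtain ⟨e⟩ := nonempty_quotLocEquiv J P hJP
  have := quot_CM (Localization.AtPrime P) rs hmem hreg _ hofList.symm _ e
  rw [hlen] at this
  exact this

end LocQuot

section DomainCrit

/-- If all localizations of `R` at primes are domains and some prime `m` contains every minimal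
prime of `R`, then `R` is a domain. -/
theorem isDomain_of_loc (R : Type u) [CommRing R]
    (hloc : ∀ (q : Ideal R) [q.IsPrime], IsDomain (Localization.AtPrime q))
    (m : Ideal R) [m.IsPrime] (hm : ∀ p ∈ minimalPrimes R, p ≤ m) : IsDomain R := by
  have hinj : Function.Injective (algebraMap R (Localization.AtPrime m)) := by
    rw [injective_iff_map_eq_zero]
    intro x hx
    rw [IsLocalization.map_eq_zero_iff m.primeCompl] at hx
    obtain ⟨⟨s, hs⟩, hsx⟩ := hx
    simp only at hsx
    -- `x` lies in every prime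
    have hall : ∀ (q : Ideal R) [q.IsPrime], x ∈ q := by
      intro q _
      obtain ⟨p, hp, hpq⟩ := Ideal.exists_minimalPrimes_le (bot_le : (⊥ : Ideal R) ≤ q)
      have hpp : p.IsPrime := hp.1.1
      have h0 : s * x ∈ p := by rw [hsx]; exact p.zero_mem
      rcases hpp.mem_or_mem h0 with h | h
      · exact absurd (hm p hp h) hs
      · exact hpq h
    have hnil : IsNilpotent x := by
      rw [← mem_nilradical, nilradical_eq_sInf, Ideal.mem_sInf]
      intro q hq
      exact @hall q hq
    apply eq_zero_of_localization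
    intro q hq
    have := hloc q
    exact (hnil.map (algebraMap R (Localization.AtPrime q))).eq_zero
  have := hloc m
  exact hinj.isDomain (algebraMap R (Localization.AtPrime m))

end DomainCrit

section DimOne

theorem isRegularLocalRing_of_isIntegrallyClosed_of_dim_le_one (R : Type u) [CommRing R]
    [IsDomain R] [IsNoetherianRing R] [IsLocalRing R] [IsIntegrallyClosed R]
    (h : ringKrullDim R ≤ 1) : IsRegularLocalRing R := by
  have : Ring.KrullDimLE 1 R := Ring.krullDimLE_iff.mpr h
  have h3 : IsIntegrallyClosed R ∧ ∀ P : Ideal R, P ≠ ⊥ → P.IsPrime → P = maximalIdeal R :=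
    ⟨inferInstance, fun P hP hP' => eq_maximalIdeal (hP'.isMaximal_of_ne_bot hP)⟩
  have : IsPrincipalIdealRing R :=
    ((tfae_of_isNoetherianRing_of_isLocalRing_of_isDomain R).out 3 0).mp h3
  infer_instance

end DimOne

section Poly

open MvPolynomial Groth.Agent.Lib.Helper77.PolyDepth Groth.Agent.Lib.Helper77.HypNormal

variable (k : Type u) [Field k] (n r : ℕ) (f : Fin r → MvPolynomial (Fin (n + 1)) k)

local notation "𝔍" => Ideal.span (Set.range f)

/-- facts about the localization of `S/J` at a prime `Q`, with `P` the preimage of `Q` -/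
theorem loc_facts (hJ : (Ideal.span (Set.range f)).height = r)
    (Q : Ideal (MvPolynomial (Fin (n + 1)) k ⧸ Ideal.span (Set.range f))) [hQ : Q.IsPrime] :
    ringKrullDim (Localization.AtPrime Q) =
      ((depth (Localization.AtPrime Q) (Localization.AtPrime Q) : ℕ∞) : WithBot ℕ∞) ∧
    ((∀ i, Ideal.Quotient.mk (Ideal.span (Set.range f)) (X i) ∈ Q) →
      ((n + 1 : ℕ) : WithBot ℕ∞) ≤ ringKrullDim (Localization.AtPrime Q) + (r : WithBot ℕ∞)) := by
  have hpq : (Q.comap (Ideal.Quotient.mk 𝔍)).map (Ideal.Quotient.mk 𝔍) = Q :=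
    Ideal.map_comap_of_surjective _ Ideal.Quotient.mk_surjective Q
  have hpprime : (Q.comap (Ideal.Quotient.mk 𝔍)).IsPrime := Ideal.comap_isPrime _ Q
  have hprime' : ((Q.comap (Ideal.Quotient.mk 𝔍)).map (Ideal.Quotient.mk 𝔍)).IsPrime := by
    rw [hpq]; exact hQ
  have hJP : 𝔍 ≤ Q.comap (Ideal.Quotient.mk 𝔍) := by
    intro x hx
    rw [Ideal.mem_comap, Ideal.Quotient.eq_zero_iff_mem.mpr hx]
    exact Q.zero_mem
  haveI : IsCohenMacaulayLocalRing (Localization.AtPrime (Q.comap (Ideal.Quotient.mk 𝔍))) :=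
    Groth.Agent.Lib.Helper77.RegularCM.isCohenMacaulayLocalRing _
  have h := loc_quot (MvPolynomial (Fin (n + 1)) k) r f (by rw [hJ])
    (Q.comap (Ideal.Quotient.mk 𝔍)) hJP
  refine atPrime_congr (fun Q' _ => ringKrullDim (Localization.AtPrime Q') =
      ((depth (Localization.AtPrime Q') (Localization.AtPrime Q') : ℕ∞) : WithBot ℕ∞) ∧
    ((∀ i, Ideal.Quotient.mk 𝔍 (X i) ∈ Q') →
      ((n + 1 : ℕ) : WithBot ℕ∞) ≤ ringKrullDim (Localization.AtPrime Q') + (r : WithBot ℕ∞)))
    hpq ?_
  refine ⟨h.1, ?_⟩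
  intro hall
  rw [h.2]
  have hX : ∀ j : Fin (n + 1), (X j : MvPolynomial (Fin (n + 1)) k) ∈
      Q.comap (Ideal.Quotient.mk 𝔍) := by
    intro j
    rw [Ideal.mem_comap]
    have := hall j
    rwa [hpq] at this
  have h1 := le_idealDepth_of_X_mem k (n + 1) _ hX
  have h2 := idealDepth_le_depth_localization (Q.comap (Ideal.Quotient.mk 𝔍))
    (MvPolynomial (Fin (n + 1)) k) (Q.comap (Ideal.Quotient.mk 𝔍)) le_rfl
  rw [depth_localizedModule_self] at h2
  have h3 : Module.supportDim (Localization.AtPrime (Q.comap (Ideal.Quotient.mk 𝔍)))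
      (Localization.AtPrime (Q.comap (Ideal.Quotient.mk 𝔍))) = _ :=
    IsCohenMacaulayLocalRing.supportDim_eq_depth
  rw [Module.supportDim_self_eq_ringKrullDim] at h3
  rw [h3]
  exact_mod_cast le_trans h1 h2

theorem normal_loc (hr : r < n) (hJ : (Ideal.span (Set.range f)).height = r)
    (hnorm : ∀ (Q : Ideal (MvPolynomial (Fin (n + 1)) k ⧸ Ideal.span (Set.range f))) [Q.IsPrime],
      (∃ i, Ideal.Quotient.mk (Ideal.span (Set.range f)) (MvPolynomial.X i) ∉ Q) →
        IsDomain (Localization.AtPrime Q) ∧ IsIntegrallyClosed (Localization.AtPrime Q)) :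
    ∀ (Q : Ideal (MvPolynomial (Fin (n + 1)) k ⧸ Ideal.span (Set.range f))) [Q.IsPrime],
      IsDomain (Localization.AtPrime Q) ∧ IsIntegrallyClosed (Localization.AtPrime Q) := by
  rw [serre_normal_iff]
  constructor
  · intro Q _ hQ
    by_cases h : ∃ i, Ideal.Quotient.mk 𝔍 (MvPolynomial.X i) ∉ Q
    · obtain ⟨hd, hic⟩ := hnorm Q h
      have hN : IsNoetherianRing (Localization.AtPrime Q) :=
        IsLocalization.isNoetherianRing Q.primeCompl _ inferInstance
      apply isRegularLocalRing_of_isIntegrallyClosed_of_dim_le_one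
      rw [IsLocalization.AtPrime.ringKrullDim_eq_height Q]
      exact_mod_cast hQ
    · exfalso
      push Not at h
      have h1 := (loc_facts k n r f hJ Q).2 h
      have hd := IsLocalization.AtPrime.ringKrullDim_eq_height Q (Localization.AtPrime Q)
      rw [hd] at h1
      have h2 : ((n + 1 : ℕ) : ℕ∞) ≤ Q.height + (r : ℕ∞) := by exact_mod_cast h1
      have h3 : Q.height + (r : ℕ∞) ≤ ((1 : ℕ) : ℕ∞) + (r : ℕ∞) := by gcongr
      have h4 : ((n + 1 : ℕ) : ℕ∞) ≤ ((1 + r : ℕ) : ℕ∞) := by
        push_cast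
        exact le_trans h2 (by simpa using h3)
      have h5 : n + 1 ≤ 1 + r := by exact_mod_cast h4
      omega
  · rw [hasSk_self_iff]
    intro Q _
    rw [← (loc_facts k n r f hJ Q).1]
    exact min_le_right _ _

end Poly

section Homog

open MvPolynomial

attribute [local instance] MvPolynomial.gradedAlgebra

variable (k : Type u) [Field k] (m : ℕ)

theorem constantCoeff_eq_zero_of_homogeneous_mem (p : Ideal (MvPolynomial (Fin m) k)) (hp : p ≠ ⊤)
    (h : MvPolynomial (Fin m) k) (d : ℕ) (hh : h.IsHomogeneous d) (hmem : h ∈ p) :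
    constantCoeff h = 0 := by
  by_contra hne
  rw [constantCoeff_eq] at hne
  have hd : d = 0 := by
    by_contra hd0
    apply hne
    apply hh.coeff_eq_zero
    simpa using Ne.symm hd0
  subst hd
  have h1 : h.totalDegree = 0 := (totalDegree_zero_iff_isHomogeneous (p := h)).2 hh
  have h2 : h = C (coeff 0 h) := totalDegree_eq_zero_iff_eq_C.mp h1
  apply hp
  rw [Ideal.eq_top_iff_one]
  have h3 : (C (coeff 0 h)⁻¹ : MvPolynomial (Fin m) k) * C (coeff 0 h) = 1 := by
    rw [← C_mul, inv_mul_cancel₀ hne, C_1]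
  rw [← h3, ← h2]
  exact p.mul_mem_left _ hmem

theorem homogeneousCore_le_ker (p : Ideal (MvPolynomial (Fin m) k)) (hp : p ≠ ⊤) :
    (p.homogeneousCore (homogeneousSubmodule (Fin m) k)).toIdeal ≤
      RingHom.ker (constantCoeff : MvPolynomial (Fin m) k →+* k) := by
  change Ideal.homogeneousCore' _ p ≤ _
  rw [Ideal.homogeneousCore', Ideal.span_le]
  rintro _ ⟨⟨h, d, hd⟩, hmem, rfl⟩
  rw [SetLike.mem_coe, RingHom.mem_ker]
  exact constantCoeff_eq_zero_of_homogeneous_mem k m p hp h d
    ((mem_homogeneousSubmodule d h).mp hd) hmem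

theorem minimalPrime_le_ker (J : Ideal (MvPolynomial (Fin m) k))
    (hJ : J.IsHomogeneous (homogeneousSubmodule (Fin m) k))
    (p : Ideal (MvPolynomial (Fin m) k)) (hp : p ∈ J.minimalPrimes) :
    p ≤ RingHom.ker (constantCoeff : MvPolynomial (Fin m) k →+* k) := by
  have hpp : p.IsPrime := hp.1.1
  have h1 : ((p.homogeneousCore (homogeneousSubmodule (Fin m) k)).toIdeal).IsPrime :=
    Ideal.IsPrime.homogeneousCore hpp
  have h2 : J ≤ (p.homogeneousCore (homogeneousSubmodule (Fin m) k)).toIdeal := by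
    rw [← hJ.toIdeal_homogeneousCore_eq_self]
    exact Ideal.homogeneousCore_mono _ hp.1.2
  have h3 : (p.homogeneousCore (homogeneousSubmodule (Fin m) k)).toIdeal ≤ p :=
    Ideal.toIdeal_homogeneousCore_le _ p
  have h4 : p ≤ (p.homogeneousCore (homogeneousSubmodule (Fin m) k)).toIdeal := hp.2 ⟨h1, h2⟩ h3
  exact le_trans h4 (homogeneousCore_le_ker k m p hpp.ne_top)

end Homog

section Main

open MvPolynomial

attribute [local instance] MvPolynomial.gradedAlgebra

theorem main (k : Type u) [Field k] (n r : ℕ) (hr : r < n)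
    (f : Fin r → MvPolynomial (Fin (n + 1)) k) (d : Fin r → ℕ)
    (hf : ∀ i, (f i).IsHomogeneous (d i)) (hd : ∀ i, 0 < d i)
    (hJ : (Ideal.span (Set.range f)).height = r)
    (hnorm : ∀ (Q : Ideal (MvPolynomial (Fin (n + 1)) k ⧸ Ideal.span (Set.range f))) [Q.IsPrime],
      (∃ i, Ideal.Quotient.mk (Ideal.span (Set.range f)) (MvPolynomial.X i) ∉ Q) →
        IsDomain (Localization.AtPrime Q) ∧ IsIntegrallyClosed (Localization.AtPrime Q)) :
    IsDomain (MvPolynomial (Fin (n + 1)) k ⧸ Ideal.span (Set.range f)) ∧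
      IsIntegrallyClosed (MvPolynomial (Fin (n + 1)) k ⧸ Ideal.span (Set.range f)) := by
  have hall := normal_loc k n r f hr hJ hnorm
  have hJker : Ideal.span (Set.range f) ≤
      RingHom.ker (constantCoeff : MvPolynomial (Fin (n + 1)) k →+* k) := by
    rw [Ideal.span_le]
    rintro _ ⟨i, rfl⟩
    rw [SetLike.mem_coe, RingHom.mem_ker, constantCoeff_eq]
    apply (hf i).coeff_eq_zero
    simpa using (hd i).ne
  have hJhom : (Ideal.span (Set.range f)).IsHomogeneous
      (homogeneousSubmodule (Fin (n + 1)) k) := by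
    apply Ideal.homogeneous_span
    rintro _ ⟨i, rfl⟩
    exact ⟨d i, (mem_homogeneousSubmodule (d i) (f i)).mpr (hf i)⟩
  haveI hker : (RingHom.ker (constantCoeff : MvPolynomial (Fin (n + 1)) k →+* k)).IsPrime :=
    RingHom.ker_isPrime _
  haveI hm : ((RingHom.ker (constantCoeff : MvPolynomial (Fin (n + 1)) k →+* k)).map
      (Ideal.Quotient.mk (Ideal.span (Set.range f)))).IsPrime := by
    apply Ideal.map_isPrime_of_surjective Ideal.Quotient.mk_surjective
    rw [Ideal.mk_ker]
    exact hJker
  have hmin : ∀ p ∈ minimalPrimes (MvPolynomial (Fin (n + 1)) k ⧸ Ideal.span (Set.range f)),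
      p ≤ (RingHom.ker (constantCoeff : MvPolynomial (Fin (n + 1)) k →+* k)).map
        (Ideal.Quotient.mk (Ideal.span (Set.range f))) := by
    intro p hp
    have h1 : p.comap (Ideal.Quotient.mk (Ideal.span (Set.range f))) ∈
        (Ideal.span (Set.range f)).minimalPrimes := by
      rw [Ideal.minimalPrimes_eq_comap]
      exact ⟨p, hp, rfl⟩
    have h2 := minimalPrime_le_ker k (n + 1) _ hJhom _ h1
    rw [← Ideal.map_comap_of_surjective _ Ideal.Quotient.mk_surjective p]
    exact Ideal.map_mono h2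
  have hdom : IsDomain (MvPolynomial (Fin (n + 1)) k ⧸ Ideal.span (Set.range f)) :=
    isDomain_of_loc _ (fun q _ => (hall q).1) _ hmin
  exact ⟨hdom, IsIntegrallyClosed.of_localization_maximal (fun p _ _ => (hall p).2)⟩

end Main

end Groth.Agent.Lib.Helper77.ProjNormal
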