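import Groth.Agent.Lib.Helper77.PolyDepth
import Groth.Agent.Lib.Helper77.RegularCM
import Groth.Agent.Lib.Helper67.CM
import Groth.Agent.Lib.Helper56.DepthAss
import Mathlib.RingTheory.RegularLocalRing.Polynomial

/-!
# Unmixedness-type argument in Cohen–Macaulay local rings, and S10903 (helper77)

* `isWeaklyRegular_of_height`: in a CM local ring, `r` elements of the maximal ideal such that
  every prime containing them has height `≥ r` form a regular sequence.
-/
universe u
set_option autoImplicit false
open LocCoh IsLocalRing RingTheory.Sequence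

namespace Groth.Agent.Lib.Helper77.Unmixed

open Groth.Agent.Lib.Helper67 Groth.Agent.Lib.Helper56

section Local

variable (R : Type u) [CommRing R] [IsCohenMacaulayLocalRing R]

theorem isCM_self : IsCohenMacaulayModule R R :=
  IsCohenMacaulayLocalRing.supportDim_eq_depth

theorem depth_localization_eq_height (Q : PrimeSpectrum R) :
    depth (Localization.AtPrime Q.asIdeal) (LocalizedModule Q.asIdeal.primeCompl R) =
      Q.asIdeal.height := by
  have hsupp : Q ∈ Module.support R R := by
    rw [Module.support_of_algebra]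
    simp only [Algebra.algebraMap_self, PrimeSpectrum.mem_zeroLocus, SetLike.coe_subset_coe]
    intro x hx
    rw [RingHom.mem_ker, RingHom.id_apply] at hx
    rw [hx]; exact Q.asIdeal.zero_mem
  have h1 := isCohenMacaulayModule_localization R (isCM_self R) Q hsupp
  unfold IsCohenMacaulayModule at h1
  rw [supportDim_localizedModule_self, Module.supportDim_self_eq_ringKrullDim,
    IsLocalization.AtPrime.ringKrullDim_eq_height Q.asIdeal] at h1
  have h2 : (Q.asIdeal.height : ℕ∞) = depth (Localization.AtPrime Q.asIdeal)
      (LocalizedModule Q.asIdeal.primeCompl R) := by exact_mod_cast h1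
  exact h2.symm

theorem arith_dim (D A : WithBot ℕ∞) (g : ℕ∞) (l : ℕ) (a d : ℕ) (hA : A = a) (hD : D = d)
    (h2 : A = D + ((g : ℕ∞) : WithBot ℕ∞)) (h3 : A ≤ D + (l : WithBot ℕ∞)) (hg : (l : ℕ∞) ≤ g) :
    D + (l : WithBot ℕ∞) = A := by
  subst hA hD
  have hgt : g ≠ ⊤ := by
    rintro rfl
    have : ((a : ℕ∞) : WithBot ℕ∞) = ((⊤ : ℕ∞) : WithBot ℕ∞) := by
      rw [show ((a : ℕ∞) : WithBot ℕ∞) = (a : WithBot ℕ∞) from rfl, h2]
      rfl
    have h' : (a : ℕ∞) = ⊤ := by exact_mod_cast this
    exact ENat.coe_ne_top a h'
  lift g to ℕ using hgt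
  have e2 : a = d + g := by exact_mod_cast h2
  have e3 : a ≤ d + l := by exact_mod_cast h3
  have e4 : l ≤ g := by exact_mod_cast hg
  have : d + l = a := by omega
  exact_mod_cast this

/-- In a CM local ring, `r` elements of the maximal ideal such that every prime containing
them has height at least `r` form a (weakly) regular sequence. -/
theorem isWeaklyRegular_of_height (rs : List R) (hmem : ∀ x ∈ rs, x ∈ maximalIdeal R)
    (hht : ∀ Q : PrimeSpectrum R, Ideal.ofList rs ≤ Q.asIdeal →
      (rs.length : ℕ∞) ≤ Q.asIdeal.height) :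
    IsWeaklyRegular R rs := by
  have hCM := isCM_self R
  have hJle : Ideal.ofList rs ≤ maximalIdeal R := by
    rw [Ideal.ofList, Ideal.span_le]
    exact fun x hx => hmem x hx
  have hJ : Ideal.ofList rs ≠ ⊤ := fun h => (maximalIdeal.isMaximal R).ne_top (top_le_iff.mp (h ▸ hJle))
  have hdepth : (rs.length : ℕ∞) ≤ idealDepth (Ideal.ofList rs) R := by
    rw [idealDepth_eq_iInf_depth_localization]
    refine le_iInf₂ fun Q hQ => ?_
    rw [depth_localization_eq_height]
    exact hht Q hQ
  have h2 := supportDim_eq_add_idealDepth_of_CM R hCM (Ideal.ofList rs) hJ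
  have h3 := supportDim_le_supportDim_quot_ofList_add_length rs R hmem
  have hnt : Nontrivial (R ⧸ Ideal.ofList rs • (⊤ : Submodule R R)) := by
    rw [Submodule.Quotient.nontrivial_iff, smul_eq_mul, Ideal.mul_top]
    exact hJ
  obtain ⟨a, ha⟩ := supportDim_eq_natCast (R := R) R
  obtain ⟨d, hd⟩ := supportDim_eq_natCast (R := R) (R ⧸ Ideal.ofList rs • (⊤ : Submodule R R))
  have h4 := arith_dim _ _ _ rs.length a d ha hd h2 h3 hdepth
  exact isWeaklyRegular_of_supportDim_of_CM rs R hCM hmem h4

end Local

section Global

variable (S : Type u) [CommRing S] [IsNoetherianRing S]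

/-- **Unmixedness**: if `J = (f_1, …, f_r)` has height `≥ r` and `P ∈ Ass(S/J)` with `S_P`
Cohen–Macaulay, then `depth S_P = r`. -/
theorem depth_eq_of_mem_ass (r : ℕ) (f : Fin r → S)
    (hJ : (r : ℕ∞) ≤ (Ideal.span (Set.range f)).height) (P : Ideal S) [P.IsPrime]
    (hP : IsAssociatedPrime P (S ⧸ Ideal.span (Set.range f)))
    [IsCohenMacaulayLocalRing (Localization.AtPrime P)] :
    depth (Localization.AtPrime P) (Localization.AtPrime P) = r := by
  set J := Ideal.span (Set.range f) with hJdef
  obtain ⟨-, z₀, hz₀⟩ := isAssociatedPrime_iff.mp hP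
  obtain ⟨g₀, rfl⟩ := Ideal.Quotient.mk_surjective z₀
  have hcolon : ∀ x : S, x ∈ P ↔ x * g₀ ∈ J := by
    intro x
    rw [hz₀, Submodule.mem_colon_singleton, Submodule.mem_bot,
      show x • (Ideal.Quotient.mk J g₀) = Ideal.Quotient.mk J (x * g₀) from rfl,
      Ideal.Quotient.eq_zero_iff_mem]
  have hJP : J ≤ P := fun x hx => (hcolon x).mpr (J.mul_mem_right _ hx)
  set rs : List (Localization.AtPrime P) :=
    List.ofFn (fun i => algebraMap S (Localization.AtPrime P) (f i)) with hrs
  have hlen : rs.length = r := List.length_ofFn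
  have hofList : Ideal.ofList rs = J.map (algebraMap S (Localization.AtPrime P)) := by
    rw [hJdef, Ideal.map_span, Ideal.ofList]
    congr 1
    ext x
    simp only [hrs, List.mem_ofFn, Set.mem_setOf_eq, Set.mem_image, Set.mem_range,
      exists_exists_eq_and]
  have hmem : ∀ x ∈ rs, x ∈ maximalIdeal (Localization.AtPrime P) := by
    intro x hx
    rw [hrs, List.mem_ofFn] at hx
    obtain ⟨i, rfl⟩ := hx
    rw [IsLocalization.AtPrime.to_map_mem_maximal_iff (Localization.AtPrime P) P]
    exact hJP (Ideal.subset_span ⟨i, rfl⟩)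
  have hht : ∀ Q : PrimeSpectrum (Localization.AtPrime P), Ideal.ofList rs ≤ Q.asIdeal →
      (rs.length : ℕ∞) ≤ Q.asIdeal.height := by
    intro Q hQ
    rw [hlen, ← IsLocalization.height_under P.primeCompl Q.asIdeal]
    refine le_trans hJ (Ideal.height_mono ?_)
    rw [hofList, Ideal.map_le_iff_le_comap] at hQ
    exact hQ
  have hreg := isWeaklyRegular_of_height (Localization.AtPrime P) rs hmem hht
  have h3 := idealDepth_quot_ofList_add_length (maximalIdeal (Localization.AtPrime P)) rs
    (Localization.AtPrime P) (maximalIdeal_smul_top_ne_top _) hreg hmem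
  have hJ'top : Ideal.ofList rs ≠ ⊤ := by
    intro h
    have hle : Ideal.ofList rs ≤ maximalIdeal (Localization.AtPrime P) := by
      rw [Ideal.ofList, Ideal.span_le]
      exact fun x hx => hmem x hx
    exact (maximalIdeal.isMaximal _).ne_top (top_le_iff.mp (h ▸ hle))
  have hnt : Nontrivial (Localization.AtPrime P ⧸
      Ideal.ofList rs • (⊤ : Submodule (Localization.AtPrime P) (Localization.AtPrime P))) := by
    rw [Submodule.Quotient.nontrivial_iff, smul_eq_mul, Ideal.mul_top]
    exact hJ'top
  have h4 : idealDepth (maximalIdeal (Localization.AtPrime P)) (Localization.AtPrime P ⧸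
      Ideal.ofList rs • (⊤ : Submodule (Localization.AtPrime P) (Localization.AtPrime P))) = 0 := by
    by_contra hne
    have h1 : 1 ≤ idealDepth (maximalIdeal (Localization.AtPrime P)) (Localization.AtPrime P ⧸
        Ideal.ofList rs • (⊤ : Submodule (Localization.AtPrime P) (Localization.AtPrime P))) :=
      Order.one_le_iff_pos.mpr (pos_iff_ne_zero.mpr hne)
    rw [one_le_idealDepth_iff] at h1
    rcases h1 with htop | ⟨y, hy, hyreg⟩
    · exact maximalIdeal_smul_top_ne_top _ htop
    · -- the class of `g₀` is killed by the maximal ideal but is nonzero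
      have hkill : y * algebraMap S (Localization.AtPrime P) g₀ ∈
          J.map (algebraMap S (Localization.AtPrime P)) := by
        have hle : P.map (algebraMap S (Localization.AtPrime P)) ≤
            (J.map (algebraMap S (Localization.AtPrime P))).colon
              {algebraMap S (Localization.AtPrime P) g₀} := by
          rw [Ideal.map_le_iff_le_comap]
          intro p hp
          rw [Ideal.mem_comap, Submodule.mem_colon_singleton, smul_eq_mul, ← map_mul]
          exact Ideal.mem_map_of_mem _ ((hcolon p).mp hp)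
        rw [Localization.AtPrime.map_eq_maximalIdeal] at hle
        have := hle hy
        rwa [Submodule.mem_colon_singleton, smul_eq_mul] at this
      have hz0 : algebraMap S (Localization.AtPrime P) g₀ ∉
          J.map (algebraMap S (Localization.AtPrime P)) := by
        intro hin
        rw [IsLocalization.mem_map_algebraMap_iff P.primeCompl] at hin
        obtain ⟨⟨⟨a, ha⟩, ⟨s, hs⟩⟩, h⟩ := hin
        simp only at h
        rw [← map_mul, IsLocalization.eq_iff_exists P.primeCompl] at h
        obtain ⟨⟨t, ht⟩, h⟩ := h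
        simp only at h
        have h5 : (t * s) * g₀ ∈ J := by
          have : (t * s) * g₀ = t * a := by rw [← h]; ring
          rw [this]
          exact J.mul_mem_left _ ha
        have h6 := (hcolon (t * s)).mpr h5
        rcases Ideal.IsPrime.mem_or_mem inferInstance h6 with h7 | h7
        · exact ht h7
        · exact hs h7
      have hz : (Submodule.Quotient.mk (algebraMap S (Localization.AtPrime P) g₀) :
          Localization.AtPrime P ⧸ Ideal.ofList rs •
            (⊤ : Submodule (Localization.AtPrime P) (Localization.AtPrime P))) = 0 := by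
        apply hyreg
        show y • _ = y • 0
        rw [smul_zero, ← Submodule.Quotient.mk_smul, Submodule.Quotient.mk_eq_zero, smul_eq_mul,
          Ideal.mul_top, hofList, smul_eq_mul]
        exact hkill
      rw [Submodule.Quotient.mk_eq_zero, smul_eq_mul, Ideal.mul_top, hofList] at hz
      exact hz0 hz
  rw [h4, zero_add, hlen] at h3
  exact h3.symm

end Global

section Main

open MvPolynomial Groth.Agent.Lib.Helper77.PolyDepth

/-- S10903: a height-`r` ideal generated by `r ≤ n` elements of `k[x_0..x_n]` is saturated with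
respect to the irrelevant ideal. -/
theorem main (k : Type u) [Field k] (n r : ℕ)
    (hr : r ≤ n) (f : Fin r → MvPolynomial (Fin (n + 1)) k)
    (hJ : (Ideal.span (Set.range f)).height = r) (g : MvPolynomial (Fin (n + 1)) k)
    (hg : ∀ i : Fin (n + 1), ∃ m : ℕ, MvPolynomial.X i ^ m * g ∈ Ideal.span (Set.range f)) :
    g ∈ Ideal.span (Set.range f) := by
  by_contra hgJ
  set J := Ideal.span (Set.range f) with hJdef
  have hz : (Ideal.Quotient.mk J g) ≠ 0 := by
    rwa [Ne, Ideal.Quotient.eq_zero_iff_mem]
  obtain ⟨P, hP, hle⟩ := exists_le_isAssociatedPrime_of_isNoetherianRing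
    (MvPolynomial (Fin (n + 1)) k) (Ideal.Quotient.mk J g) hz
  have hPp : P.IsPrime := hP.isPrime
  have hX : ∀ j : Fin (n + 1), (X j : MvPolynomial (Fin (n + 1)) k) ∈ P := by
    intro j
    obtain ⟨m, hm⟩ := hg j
    have h1 : (X j : MvPolynomial (Fin (n + 1)) k) ^ m ∈ P := by
      apply hle
      rw [Submodule.mem_colon_singleton, Submodule.mem_bot,
        show (X j ^ m : MvPolynomial (Fin (n + 1)) k) • (Ideal.Quotient.mk J g) =
          Ideal.Quotient.mk J (X j ^ m * g) from rfl,
        Ideal.Quotient.eq_zero_iff_mem]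
      exact hm
    exact hPp.mem_of_pow_mem m h1
  have h1 := le_idealDepth_of_X_mem k (n + 1) P hX
  have h2 := idealDepth_le_depth_localization P (MvPolynomial (Fin (n + 1)) k) P le_rfl
  rw [depth_localizedModule_self] at h2
  haveI : IsCohenMacaulayLocalRing (Localization.AtPrime P) :=
    Groth.Agent.Lib.Helper77.RegularCM.isCohenMacaulayLocalRing _
  have h3 := depth_eq_of_mem_ass (MvPolynomial (Fin (n + 1)) k) r f (by rw [← hJdef, hJ]) P hP
  rw [h3] at h2
  have h4 : ((n + 1 : ℕ) : ℕ∞) ≤ (r : ℕ∞) := le_trans h1 h2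
  have h5 : n + 1 ≤ r := by exact_mod_cast h4
  omega

end Main

end Groth.Agent.Lib.Helper77.Unmixed
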