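import Groth.Agent.Lib.Helper77.FlatDepth
import Groth.Agent.Lib.Helper67.CM

/-!
# Flat local homomorphisms: ring-level depth/dimension formulas and CM ascent/descent (helper77)
-/

universe u
set_option autoImplicit false
open IsLocalRing LocCoh RingTheory.Sequence TensorProduct
open scoped Pointwise

namespace Groth.Agent.Lib.Helper77.FlatDepth
open Groth.Agent.Lib.Helper67

section Ring
variable (A B : Type u) [CommRing A] [CommRing B] [IsLocalRing A] [IsLocalRing B]
  [Algebra A B] [IsLocalHom (algebraMap A B)]

theorem map_maximalIdeal_ne_top : (maximalIdeal A).map (algebraMap A B) ≠ ⊤ := by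
  intro h
  have := map_maximalIdeal_le (A := A) (B := B)
  rw [h] at this
  exact (maximalIdeal.isMaximal B).ne_top (top_le_iff.mp this)

/-- the closed fibre ring `B / m_A B` is local -/
instance fib_isLocalRing : IsLocalRing (B ⧸ (maximalIdeal A).map (algebraMap A B)) := by
  have : Nontrivial (B ⧸ (maximalIdeal A).map (algebraMap A B)) :=
    Ideal.Quotient.nontrivial_iff.mpr (map_maximalIdeal_ne_top A B)
  exact IsLocalRing.of_surjective' (Ideal.Quotient.mk _) Ideal.Quotient.mk_surjective

variable [IsNoetherianRing A] [IsNoetherianRing B]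

theorem exists_nat_dim (R : Type u) [CommRing R] [IsLocalRing R] [IsNoetherianRing R] :
    ∃ k : ℕ, ringKrullDim R = k := by
  obtain ⟨k, hk⟩ := supportDim_eq_natCast (R := R) R
  rw [Module.supportDim_self_eq_ringKrullDim] at hk
  exact ⟨k, hk⟩

theorem exists_nat_depth (R : Type u) [CommRing R] [IsLocalRing R] [IsNoetherianRing R] :
    ∃ k : ℕ, depth R R = k := by
  obtain ⟨k, hk⟩ := ENat.ne_top_iff_exists.mp (depth_ne_top (R := R) R)
  exact ⟨k, hk.symm⟩

theorem depth_le_dim_nat (R : Type u) [CommRing R] [IsLocalRing R] [IsNoetherianRing R]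
    (d e : ℕ) (hd : ringKrullDim R = d) (he : depth R R = e) : e ≤ d := by
  have h := depth_le_supportDim (R := R) R
  rw [Module.supportDim_self_eq_ringKrullDim, hd, he] at h
  exact_mod_cast h

theorem isCM_iff_nat (R : Type u) [CommRing R] [IsLocalRing R] [IsNoetherianRing R]
    (d e : ℕ) (hd : ringKrullDim R = d) (he : depth R R = e) :
    IsCohenMacaulayLocalRing R ↔ d = e := by
  constructor
  · intro h
    have h1 := h.supportDim_eq_depth
    rw [Module.supportDim_self_eq_ringKrullDim, hd, he] at h1
    exact_mod_cast h1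
  · intro h
    refine { supportDim_eq_depth := ?_ }
    rw [Module.supportDim_self_eq_ringKrullDim, hd, he, h]
    rfl

/-- **Depth formula for flat local homomorphisms (ring form).** -/
theorem depth_ring_eq_add [Module.Flat A B] :
    depth B B = depth A A + depth (B ⧸ (maximalIdeal A).map (algebraMap A B))
      (B ⧸ (maximalIdeal A).map (algebraMap A B)) := by
  rw [depth_eq_add (A := A) (B := B) B, Groth.Agent.Lib.Helper4.GorCM.depth_quotient]
  congr 1
  apply depth_congr
  exact Submodule.quotEquivOfEq _ _ (by simp)

/-- dimension inequality for local homomorphisms (no flatness needed) -/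
theorem dim_le_add :
    ringKrullDim B ≤ ringKrullDim A +
      ringKrullDim (B ⧸ (maximalIdeal A).map (algebraMap A B)) := by
  have hlo : (maximalIdeal B).LiesOver (maximalIdeal A) :=
    ⟨(maximalIdeal_comap (algebraMap A B)).symm⟩
  have h3 := Ideal.height_le_height_add_of_liesOver (maximalIdeal A) (maximalIdeal B)
  have hmax : (maximalIdeal B).map (Ideal.Quotient.mk ((maximalIdeal A).map (algebraMap A B))) =
      maximalIdeal (B ⧸ (maximalIdeal A).map (algebraMap A B)) := by
    have hsurj : Function.Surjective (Ideal.Quotient.mk ((maximalIdeal A).map (algebraMap A B))) :=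
      Ideal.Quotient.mk_surjective
    apply le_antisymm
    · rw [Ideal.map_le_iff_le_comap]
      intro b hb
      rw [Ideal.mem_comap, mem_maximalIdeal, mem_nonunits_iff] at *
      intro hu
      have hloc : IsLocalHom (Ideal.Quotient.mk ((maximalIdeal A).map (algebraMap A B))) :=
        Function.Surjective.isLocalHom _ hsurj
      exact hb (hloc.map_nonunit b hu)
    · intro x hx
      obtain ⟨b, rfl⟩ := hsurj x
      apply Ideal.mem_map_of_mem
      rw [mem_maximalIdeal, mem_nonunits_iff] at *
      intro hu
      exact hx (hu.map _)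
  rw [hmax] at h3
  rw [← IsLocalRing.maximalIdeal_height_eq_ringKrullDim,
    ← IsLocalRing.maximalIdeal_height_eq_ringKrullDim,
    ← IsLocalRing.maximalIdeal_height_eq_ringKrullDim]
  exact_mod_cast h3

/-- **Dimension formula for flat local homomorphisms.** -/
theorem dim_eq_add [Module.Flat A B] :
    ringKrullDim B = ringKrullDim A +
      ringKrullDim (B ⧸ (maximalIdeal A).map (algebraMap A B)) := by
  have hlo : (maximalIdeal B).LiesOver (maximalIdeal A) :=
    ⟨(maximalIdeal_comap (algebraMap A B)).symm⟩
  have h3 := Ideal.height_eq_height_add_of_liesOver_of_hasGoingDown (maximalIdeal A) (maximalIdeal B)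
  have hmax : (maximalIdeal B).map (Ideal.Quotient.mk ((maximalIdeal A).map (algebraMap A B))) =
      maximalIdeal (B ⧸ (maximalIdeal A).map (algebraMap A B)) := by
    have hsurj : Function.Surjective (Ideal.Quotient.mk ((maximalIdeal A).map (algebraMap A B))) :=
      Ideal.Quotient.mk_surjective
    apply le_antisymm
    · rw [Ideal.map_le_iff_le_comap]
      intro b hb
      rw [Ideal.mem_comap, mem_maximalIdeal, mem_nonunits_iff] at *
      intro hu
      have hloc : IsLocalHom (Ideal.Quotient.mk ((maximalIdeal A).map (algebraMap A B))) :=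
        Function.Surjective.isLocalHom _ hsurj
      exact hb (hloc.map_nonunit b hu)
    · intro x hx
      obtain ⟨b, rfl⟩ := hsurj x
      apply Ideal.mem_map_of_mem
      rw [mem_maximalIdeal, mem_nonunits_iff] at *
      intro hu
      exact hx (hu.map _)
  rw [hmax] at h3
  rw [← IsLocalRing.maximalIdeal_height_eq_ringKrullDim,
    ← IsLocalRing.maximalIdeal_height_eq_ringKrullDim,
    ← IsLocalRing.maximalIdeal_height_eq_ringKrullDim, h3]
  push_cast
  rfl

/-- **CM ascent/descent along flat local homomorphisms.** -/
theorem isCM_iff [Module.Flat A B] :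
    IsCohenMacaulayLocalRing B ↔ IsCohenMacaulayLocalRing A ∧
      IsCohenMacaulayLocalRing (B ⧸ (maximalIdeal A).map (algebraMap A B)) := by
  obtain ⟨dA, hdA⟩ := exists_nat_dim A
  obtain ⟨dB, hdB⟩ := exists_nat_dim B
  obtain ⟨dF, hdF⟩ := exists_nat_dim (B ⧸ (maximalIdeal A).map (algebraMap A B))
  obtain ⟨eA, heA⟩ := exists_nat_depth A
  obtain ⟨eB, heB⟩ := exists_nat_depth B
  obtain ⟨eF, heF⟩ := exists_nat_depth (B ⧸ (maximalIdeal A).map (algebraMap A B))
  have h1 := depth_ring_eq_add A B
  have h2 := dim_eq_add A B
  rw [hdA, hdB, hdF] at h2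
  rw [heA, heB, heF] at h1
  have h1' : eB = eA + eF := by exact_mod_cast h1
  have h2' : dB = dA + dF := by exact_mod_cast h2
  have lA := depth_le_dim_nat A dA eA hdA heA
  have lB := depth_le_dim_nat B dB eB hdB heB
  have lF := depth_le_dim_nat _ dF eF hdF heF
  rw [isCM_iff_nat A dA eA hdA heA, isCM_iff_nat B dB eB hdB heB, isCM_iff_nat _ dF eF hdF heF]
  omega

end Ring

end Groth.Agent.Lib.Helper77.FlatDepth
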