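import Groth.Agent.Lib.Helper30.SmoothRegular
import Groth.Agent.Lib.Helper24.EtGlue
import Groth.Prelude.Def_Found
universe u
set_option autoImplicit false
open TensorProduct

/-!
# Geometric regularity ascends along smooth maps (helper77)
-/
namespace Groth.Agent.Lib.Helper77.GeomRegSmooth

/-- smooth over a regular ring is regular -/
theorem isRegularRing_of_smooth (R S : Type u) [CommRing R] [CommRing S] [Algebra R S]
    [Algebra.Smooth R S] [IsRegularRing R] : IsRegularRing S := by
  have hN : IsNoetherianRing S := Algebra.FiniteType.isNoetherianRing R S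
  rw [isRegularRing_iff]
  intro q _
  exact Groth.Agent.Lib.Helper30.SmoothRegular.regular_of_smooth R S q inferInstance

theorem main (k : Type u) [Field k] (A : Type u) [CommRing A]
    [Algebra k A] [IsNoetherianRing A] (B : Type u) [CommRing B] [Algebra k B] [Algebra A B]
    [IsScalarTower k A B] [Algebra.Smooth A B] (hA : CAlg.IsGeometricallyRegular k A) :
    CAlg.IsGeometricallyRegular k B := by
  intro k' _ _ hfin
  have hreg : IsRegularRing (k' ⊗[k] A) := hA k' hfin
  have hsm : RingHom.Smooth (IsScalarTower.toAlgHom k A B).toRingHom := by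
    change RingHom.Smooth (algebraMap A B)
    rw [RingHom.smooth_algebraMap]
    infer_instance
  have h := Groth.Agent.Lib.Helper24.EtGlue.baseChange_map (P := @RingHom.Smooth)
    RingHom.Smooth.isStableUnderBaseChange RingHom.Smooth.respectsIso
    (R := k) (R' := k') (IsScalarTower.toAlgHom k A B) hsm
  let _ : Algebra (k' ⊗[k] A) (k' ⊗[k] B) :=
    (Algebra.TensorProduct.map (AlgHom.id k k') (IsScalarTower.toAlgHom k A B)).toRingHom.toAlgebra
  have : Algebra.Smooth (k' ⊗[k] A) (k' ⊗[k] B) := h
  exact isRegularRing_of_smooth (k' ⊗[k] A) (k' ⊗[k] B)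

end Groth.Agent.Lib.Helper77.GeomRegSmooth
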