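import Mathlib
import Groth.Agent.Lib.Helper32.ChevDVR.Defs

/-!
# CH3 for helper32's S16359: matrix coefficients of a finite free subcomodule
-/

set_option autoImplicit false
universe u
open TensorProduct
open Groth.Agent.Lib.Helper32.ChevDVR

namespace Groth.Agent.Lib.Helper77.ChevDVR3

/-- uniqueness: `Σ (b i : A) ⊗ x_i = 0` in `A ⊗ N` with `N` flat implies `x = 0`. -/
theorem eq_zero_of_sum_tmul {V : Type u} [CommRing V] {A : Type u} [AddCommGroup A] [Module V A]
    (N : Type u) [AddCommGroup N] [Module V N] [Module.Flat V N]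
    (W : Submodule V A) {n : ℕ} (b : Module.Basis (Fin n) V W) (x : Fin n → N)
    (h : ∑ i, (b i : A) ⊗ₜ[V] x i = 0) : x = 0 := by
  classical
  have hinj : Function.Injective (LinearMap.rTensor N W.subtype) :=
    Module.Flat.rTensor_preserves_injective_linearMap _ W.injective_subtype
  have h1 : LinearMap.rTensor N W.subtype (∑ i, b i ⊗ₜ[V] x i) = 0 := by
    rw [map_sum]; simpa using h
  have h2 : ∑ i, b i ⊗ₜ[V] x i = 0 := hinj (by rw [h1, map_zero])
  have h3 := TensorProduct.sum_tmul_basis_left_eq_zero b (Finsupp.equivFunOnFinite.symm x) (by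
    rw [Finsupp.sum_fintype _ _ (by simp)]; simpa using h2)
  funext i
  have := congrArg (fun f => f i) h3
  simpa using this

theorem eq_of_sum_tmul_eq {V : Type u} [CommRing V] {A : Type u} [AddCommGroup A] [Module V A]
    (N : Type u) [AddCommGroup N] [Module V N] [Module.Flat V N]
    (W : Submodule V A) {n : ℕ} (b : Module.Basis (Fin n) V W) (x y : Fin n → N)
    (h : ∑ i, (b i : A) ⊗ₜ[V] x i = ∑ i, (b i : A) ⊗ₜ[V] y i) : x = y := by
  have h0 : x - y = 0 := by
    apply eq_zero_of_sum_tmul N W b
    simp only [Pi.sub_apply, tmul_sub, Finset.sum_sub_distrib, h, sub_self]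
  exact sub_eq_zero.1 h0

theorem exists_matrix_coeff (V : Type u) [CommRing V] (A : Type u) [CommRing A] [Bialgebra V A]
    [Module.Flat V A] (W : Submodule V A)
    (hW : ∀ w ∈ W, CoalgebraStruct.comul (R := V) w ∈
      LinearMap.range (TensorProduct.map W.subtype (LinearMap.id : A →ₗ[V] A)))
    (n : ℕ) (b : Module.Basis (Fin n) V W) :
    ∃ a : Matrix (Fin n) (Fin n) A,
      (∀ j, CoalgebraStruct.comul (R := V) (b j : A) = ∑ i, (b i : A) ⊗ₜ[V] a i j) ∧
      (∀ i j, CoalgebraStruct.comul (R := V) (a i j) = ∑ l, a i l ⊗ₜ[V] a l j) ∧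
      (∀ i j, CoalgebraStruct.counit (R := V) (a i j) = if i = j then 1 else 0) ∧
      (∀ j, (b j : A) = ∑ i, CoalgebraStruct.counit (R := V) (b i : A) • a i j) := by
  classical
  have h1 : ∀ j, ∃ c : Fin n → A,
      CoalgebraStruct.comul (R := V) (b j : A) = ∑ i, (b i : A) ⊗ₜ[V] c i := by
    intro j
    obtain ⟨t, ht⟩ := hW (b j) (b j).2
    obtain ⟨c, hc⟩ := TensorProduct.eq_repr_basis_left b t
    refine ⟨c, ?_⟩
    rw [← ht, ← hc, Finsupp.sum_fintype _ _ (by simp), map_sum]
    simp
  choose c hc using h1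
  refine ⟨fun i j => c j i, hc, ?_, ?_, ?_⟩
  · -- coassociativity
    intro l j
    have hco := Coalgebra.coassoc_apply (R := V) (b j : A)
    rw [hc j] at hco
    simp only [map_sum, LinearMap.rTensor_tmul, LinearMap.lTensor_tmul] at hco
    have hco2 : ∑ l, (b l : A) ⊗ₜ[V] (∑ i, c i l ⊗ₜ[V] c j i) =
        ∑ l, (b l : A) ⊗ₜ[V] (CoalgebraStruct.comul (R := V) (c j l)) := by
      rw [← hco]
      simp only [hc, sum_tmul, map_sum, TensorProduct.assoc_tmul, tmul_sum]
      rw [Finset.sum_comm]
    have := eq_of_sum_tmul_eq (A ⊗[V] A) W b _ _ hco2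
    exact (congrFun this l).symm
  · -- counit on the right
    intro i j
    have h := Coalgebra.lTensor_counit_comul (R := V) (b j : A)
    rw [hc j] at h
    simp only [map_sum, LinearMap.lTensor_tmul] at h
    have h2 := congrArg (TensorProduct.rid V A) h
    simp only [map_sum, TensorProduct.rid_tmul, one_smul] at h2
    have h3 : ∑ i, CoalgebraStruct.counit (R := V) (c j i) • b i = b j := by
      apply Subtype.ext
      rw [← h2]
      simp
    have h4 := congrArg (fun w => b.repr w i) h3
    simp only [Module.Basis.repr_sum_self, Module.Basis.repr_self] at h4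
    rw [h4, Finsupp.single_apply]
    simp only [eq_comm]
  · intro j
    have h := Coalgebra.rTensor_counit_comul (R := V) (b j : A)
    rw [hc j] at h
    simp only [map_sum, LinearMap.rTensor_tmul] at h
    have h2 := congrArg (TensorProduct.lid V A) h
    simp only [map_sum, TensorProduct.lid_tmul, one_smul] at h2
    exact h2.symm

end Groth.Agent.Lib.Helper77.ChevDVR3
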