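import Mathlib
import Groth.Agent.Lib.Helper32.ChevDVR.Defs

/-!
# CH4 for helper32's S16359: the kernel of `π` is generated by the lower-left block
-/

set_option autoImplicit false
universe u
open TensorProduct
open Groth.Agent.Lib.Helper32.ChevDVR

namespace Groth.Agent.Lib.Helper77.ChevDVR4

/-- uniqueness of coefficients against a linearly independent family, flat coefficients. -/
theorem eq_zero_of_sum_tmul_of_linearIndependent {V : Type u} [CommRing V] {B : Type u}
    [AddCommGroup B] [Module V B]
    (N : Type u) [AddCommGroup N] [Module V N] [Module.Flat V N]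
    {ι : Type} [Fintype ι] (v : ι → B) (hv : LinearIndependent V v) (x : ι → N)
    (h : ∑ i, v i ⊗ₜ[V] x i = 0) : x = 0 := by
  classical
  let W : Submodule V B := Submodule.span V (Set.range v)
  let b : Module.Basis ι V W := Module.Basis.span hv
  have hb : ∀ i, (b i : B) = v i := fun i => congrArg Subtype.val (Module.Basis.span_apply hv i)
  have hinj : Function.Injective (LinearMap.rTensor N W.subtype) :=
    Module.Flat.rTensor_preserves_injective_linearMap _ W.injective_subtype
  have h1 : LinearMap.rTensor N W.subtype (∑ i, b i ⊗ₜ[V] x i) = 0 := by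
    rw [map_sum]
    simp only [LinearMap.rTensor_tmul, Submodule.subtype_apply, hb]
    exact h
  have h2 : ∑ i, b i ⊗ₜ[V] x i = 0 := hinj (by rw [h1, map_zero])
  have h3 := TensorProduct.sum_tmul_basis_left_eq_zero b (Finsupp.equivFunOnFinite.symm x) (by
    rw [Finsupp.sum_fintype _ _ (by simp)]; simpa using h2)
  funext i
  have := congrArg (fun f => f i) h3
  simpa using this

theorem sum_subtype_ge {M : Type*} [AddCommMonoid M] {n : ℕ} (e : ℕ) (F : Fin n → M)
    (hF : ∀ i : Fin n, i.1 < e → F i = 0) :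
    ∑ i, F i = ∑ i : {i : Fin n // e ≤ i.1}, F i.1 := by
  classical
  rw [← Finset.sum_subtype (Finset.univ.filter (fun i : Fin n => e ≤ i.1)) (by simp) F]
  rw [Finset.sum_filter]
  apply Finset.sum_congr rfl
  intro i _
  by_cases h : e ≤ i.1
  · simp [h]
  · simp [h, hF i (not_le.1 h)]

theorem ker_eq_span_block (V : Type u) [CommRing V] (A B : Type u) [CommRing A] [Bialgebra V A]
    [CommRing B] [Bialgebra V B] [Module.Flat V B] (π : A →ₐc[V] B) (W : Submodule V A) (n : ℕ)
    (b : Module.Basis (Fin n) V W) (a : Matrix (Fin n) (Fin n) A)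
    (ha : ∀ j, CoalgebraStruct.comul (R := V) (b j : A) = ∑ i, (b i : A) ⊗ₜ[V] a i j)
    (hε : ∀ j, (b j : A) = ∑ i, CoalgebraStruct.counit (R := V) (b i : A) • a i j) (e : ℕ)
    (hlow : ∀ j : Fin n, j.1 < e → π (b j : A) = 0)
    (hind : ∀ c : Fin n → V, π (∑ i, c i • (b i : A)) = 0 → ∀ i : Fin n, e ≤ i.1 → c i = 0)
    (hgen : RingHom.ker π ≤ Ideal.span ((W : Set A) ∩ RingHom.ker π)) :
    (RingHom.ker π : Ideal A) =
      Ideal.span {x | ∃ i j : Fin n, e ≤ i.1 ∧ j.1 < e ∧ x = a i j} := by
  classical
  -- linear independence of the `π b_i`, `i ≥ e`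
  have hli : LinearIndependent V (fun i : {i : Fin n // e ≤ i.1} => π (b i.1 : A)) := by
    rw [Fintype.linearIndependent_iff]
    intro g hg i
    let c : Fin n → V := fun i => if h : e ≤ i.1 then g ⟨i, h⟩ else 0
    have hc : π (∑ i, c i • (b i : A)) = 0 := by
      rw [map_sum]
      simp only [map_smul]
      rw [← hg]
      rw [sum_subtype_ge e (fun x => c x • π (b x : A))
        (by intro i hi; simp [c, not_le.2 hi])]
      apply Finset.sum_congr rfl
      intro i _
      simp [c, i.2]
    have := hind c hc i.1 i.2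
    simpa [c, i.2] using this
  apply le_antisymm
  · -- `≤`
    refine hgen.trans (Ideal.span_le.2 ?_)
    rintro w ⟨hw, hπw⟩
    have hπw' : π w = 0 := hπw
    have hw1 : w = ∑ i, (b.repr ⟨w, hw⟩ i) • (b i : A) := by
      have h2 : ((∑ i, b.repr ⟨w, hw⟩ i • b i : W) : A) = w :=
        congrArg Subtype.val (b.sum_repr ⟨w, hw⟩)
      rw [Submodule.coe_sum] at h2
      simp only [Submodule.coe_smul] at h2
      exact h2.symm
    have hc0 : ∀ i : Fin n, e ≤ i.1 → b.repr ⟨w, hw⟩ i = 0 := by
      apply hind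
      rw [← hw1]; exact hπw'
    rw [hw1]
    refine Ideal.sum_mem _ (fun j _ => ?_)
    by_cases hj : e ≤ j.1
    · rw [hc0 j hj, zero_smul]; exact Ideal.zero_mem _
    · rw [not_le] at hj
      refine Submodule.smul_of_tower_mem _ _ ?_
      rw [hε j]
      refine Ideal.sum_mem _ (fun i _ => ?_)
      by_cases hi : e ≤ i.1
      · refine Submodule.smul_of_tower_mem _ _ ?_
        exact Ideal.subset_span ⟨i, j, hi, hj, rfl⟩
      · rw [not_le] at hi
        have : CoalgebraStruct.counit (R := V) (b i : A) = 0 := by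
          rw [← CoalgHomClass.counit_comp_apply π (b i : A), hlow i hi, map_zero]
        rw [this, zero_smul]; exact Ideal.zero_mem _
  · -- `≥`
    rw [Ideal.span_le]
    rintro x ⟨i₀, j, hi₀, hj, rfl⟩
    change π (a i₀ j) = 0
    have h0 : TensorProduct.map (π : A →ₗ[V] B) (π : A →ₗ[V] B)
        (CoalgebraStruct.comul (R := V) (b j : A)) = 0 := by
      have := CoalgHomClass.map_comp_comul_apply π (b j : A)
      rw [hlow j hj, map_zero] at this
      exact this
    rw [ha j, map_sum] at h0
    simp only [TensorProduct.map_tmul] at h0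
    have h1 : ∑ i : {i : Fin n // e ≤ i.1}, π (b i.1 : A) ⊗ₜ[V] π (a i.1 j) = 0 := by
      rw [← h0]
      exact (sum_subtype_ge e (fun i => π (b i : A) ⊗ₜ[V] π (a i j))
        (by intro i hi; simp [hlow i hi])).symm
    have h2 := eq_zero_of_sum_tmul_of_linearIndependent B _ hli
      (fun i : {i : Fin n // e ≤ i.1} => π (a i.1 j)) h1
    exact congrFun h2 ⟨i₀, hi₀⟩

end Groth.Agent.Lib.Helper77.ChevDVR4
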