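import Mathlib

set_option autoImplicit false

universe u

open MvPolynomial

namespace Groth.Agent.Lib.Helper77.FAdicG2a

theorem ker_constantCoeff (k : Type u) [Field k] :
    RingHom.ker (PowerSeries.constantCoeff (R := k)) = Ideal.span {PowerSeries.X (R := k)} := by
  ext φ
  rw [RingHom.mem_ker, Ideal.mem_span_singleton, PowerSeries.X_dvd_iff]

theorem ker_map_constantCoeff (k : Type u) [Field k] (r : ℕ) :
    RingHom.ker (MvPolynomial.map (σ := Fin r) (PowerSeries.constantCoeff (R := k))) =
      Ideal.span {MvPolynomial.C (σ := Fin r) (PowerSeries.X (R := k))} := by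
  rw [MvPolynomial.ker_map, ker_constantCoeff, Ideal.map_span, Set.image_singleton]

theorem algebraMap_eq_of (k : Type u) [Field k] (r : ℕ) (s : PowerSeries k) :
    algebraMap (PowerSeries k)
      (AdicCompletion (Ideal.span {MvPolynomial.C (σ := Fin r) (PowerSeries.X (R := k))})
        (MvPolynomial (Fin r) (PowerSeries k))) s =
    algebraMap (MvPolynomial (Fin r) (PowerSeries k))
      (AdicCompletion (Ideal.span {MvPolynomial.C (σ := Fin r) (PowerSeries.X (R := k))})
        (MvPolynomial (Fin r) (PowerSeries k))) (MvPolynomial.C s) := by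
  rw [← MvPolynomial.algebraMap_eq, ← IsScalarTower.algebraMap_apply]

theorem exists_red (k : Type u) [Field k] (r : ℕ) :
    ∃ ρ : AdicCompletion (Ideal.span {MvPolynomial.C (σ := Fin r) (PowerSeries.X (R := k))})
        (MvPolynomial (Fin r) (PowerSeries k)) →+* MvPolynomial (Fin r) k,
      Function.Surjective ρ ∧
      RingHom.ker ρ = Ideal.span {algebraMap (PowerSeries k) _ (PowerSeries.X (R := k))} ∧
      (∀ p : MvPolynomial (Fin r) (PowerSeries k), ρ (AdicCompletion.of _ _ p) =
        MvPolynomial.map (PowerSeries.constantCoeff (R := k)) p) ∧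
      (∀ (c : ℕ) (a : Fin c → AdicCompletion
          (Ideal.span {MvPolynomial.C (σ := Fin r) (PowerSeries.X (R := k))})
          (MvPolynomial (Fin r) (PowerSeries k))),
        RingTheory.Sequence.IsRegular
          (AdicCompletion (Ideal.span {MvPolynomial.C (σ := Fin r) (PowerSeries.X (R := k))})
            (MvPolynomial (Fin r) (PowerSeries k)) ⧸
            Ideal.span {algebraMap (PowerSeries k)
              (AdicCompletion (Ideal.span {MvPolynomial.C (σ := Fin r) (PowerSeries.X (R := k))})
                (MvPolynomial (Fin r) (PowerSeries k))) PowerSeries.X ^ (0 + 1)})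
          ((List.ofFn a).map (Ideal.Quotient.mk (Ideal.span {algebraMap (PowerSeries k)
              (AdicCompletion (Ideal.span {MvPolynomial.C (σ := Fin r) (PowerSeries.X (R := k))})
                (MvPolynomial (Fin r) (PowerSeries k))) PowerSeries.X ^ (0 + 1)}))) →
        RingTheory.Sequence.IsRegular (MvPolynomial (Fin r) k)
          (List.ofFn (fun i => ρ (a i)))) := by
  classical
  -- abbreviations
  let P := MvPolynomial (Fin r) (PowerSeries k)
  let I : Ideal P := Ideal.span {MvPolynomial.C (σ := Fin r) (PowerSeries.X (R := k))}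
  let mc : P →+* MvPolynomial (Fin r) k :=
    MvPolynomial.map (σ := Fin r) (PowerSeries.constantCoeff (R := k))
  have hmc_surj : Function.Surjective mc :=
    MvPolynomial.map_surjective _ (fun x => ⟨PowerSeries.C x, PowerSeries.constantCoeff_C x⟩)
  have hmc_ker : RingHom.ker mc = I := ker_map_constantCoeff k r
  let q : P ⧸ I →+* MvPolynomial (Fin r) k :=
    Ideal.Quotient.lift I mc (fun a ha => by
      have : a ∈ RingHom.ker mc := by rw [hmc_ker]; exact ha
      exact this)
  have hq_mk : ∀ p : P, q (Ideal.Quotient.mk I p) = mc p := fun p => Ideal.Quotient.lift_mk _ _ _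
  have hq_surj : Function.Surjective q := by
    intro y
    obtain ⟨p, rfl⟩ := hmc_surj y
    exact ⟨Ideal.Quotient.mk I p, hq_mk p⟩
  have hq_inj : Function.Injective q := by
    rw [injective_iff_map_eq_zero]
    intro x hx
    obtain ⟨p, rfl⟩ := Ideal.Quotient.mk_surjective x
    rw [hq_mk] at hx
    rw [Ideal.Quotient.eq_zero_iff_mem, ← hmc_ker]
    exact hx
  let ρ : AdicCompletion I P →+* MvPolynomial (Fin r) k :=
    q.comp (AdicCompletion.evalOneₐ I).toRingHom
  have hρ_surj : Function.Surjective ρ :=
    hq_surj.comp (AdicCompletion.evalOneₐ_surjective I)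
  have hIfg : I.FG := ⟨{MvPolynomial.C (σ := Fin r) (PowerSeries.X (R := k))}, by simp [I]⟩
  have hρ_ker : RingHom.ker ρ =
      Ideal.span {algebraMap (PowerSeries k) (AdicCompletion I P) (PowerSeries.X (R := k))} := by
    have h1 : RingHom.ker ρ = RingHom.ker (AdicCompletion.evalOneₐ I).toRingHom := by
      ext x
      rw [RingHom.mem_ker, RingHom.mem_ker]
      show q _ = 0 ↔ _
      rw [map_eq_zero_iff q hq_inj]
    rw [h1, AdicCompletion.ker_evalOneₐ_eq_map I hIfg, Ideal.map_span, Set.image_singleton,
      algebraMap_eq_of]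
  refine ⟨ρ, hρ_surj, hρ_ker, ?_, ?_⟩
  · intro p
    show q (AdicCompletion.evalOneₐ I (AdicCompletion.of I P p)) = _
    rw [AdicCompletion.evalOneₐ_of, hq_mk]
  · intro c a ha
    have hJ : Ideal.span {algebraMap (PowerSeries k) (AdicCompletion I P)
        (PowerSeries.X (R := k)) ^ (0 + 1)} = RingHom.ker ρ := by
      rw [hρ_ker, zero_add, pow_one]
    let e : (AdicCompletion I P ⧸ Ideal.span {algebraMap (PowerSeries k) (AdicCompletion I P)
        (PowerSeries.X (R := k)) ^ (0 + 1)}) ≃+* MvPolynomial (Fin r) k :=
      (Ideal.quotEquivOfEq hJ).trans (RingHom.quotientKerEquivOfSurjective hρ_surj)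
    have he_mk : ∀ x : AdicCompletion I P, e (Ideal.Quotient.mk _ x) = ρ x := by
      intro x
      simp only [e, RingEquiv.trans_apply, Ideal.quotEquivOfEq_mk,
        RingHom.quotientKerEquivOfSurjective_apply_mk]
    have hlist : List.ofFn (fun i => ρ (a i)) =
        ((List.ofFn a).map (Ideal.Quotient.mk (Ideal.span {algebraMap (PowerSeries k)
          (AdicCompletion I P) (PowerSeries.X (R := k)) ^ (0 + 1)}))).map e := by
      rw [List.map_map, List.map_ofFn]
      congr 1
    rw [hlist]
    refine (AddEquiv.isRegular_congr (e := e.toAddEquiv) ?_).1 ha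
    refine List.forall₂_map_right_iff.mpr (List.forall₂_same.mpr fun s _ x => ?_)
    show e (s * x) = e s * e x
    exact map_mul e s x

end Groth.Agent.Lib.Helper77.FAdicG2a
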