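import Mathlib

/-!
# Self-injective Artinian local rings have an essential simple socle (helper77)
-/
set_option autoImplicit false
universe u
open IsLocalRing

namespace Groth.Agent.Lib.Helper77.Frob1

variable (D : Type u) [CommRing D] [IsLocalRing D] [IsArtinianRing D]

theorem exists_pow_maximalIdeal_eq_bot : ∃ N : ℕ, maximalIdeal D ^ N = ⊥ := by
  have h := IsArtinianRing.isNilpotent_jacobson_bot (R := D)
  rw [IsLocalRing.jacobson_eq_maximalIdeal ⊥ bot_ne_top] at h
  obtain ⟨N, hN⟩ := h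
  exact ⟨N, by simpa using hN⟩

/-- every nonzero ideal contains a nonzero socle element -/
theorem exists_socle_mem (I : Ideal D) (hI : I ≠ ⊥) :
    ∃ t ∈ I, t ≠ 0 ∧ ∀ a ∈ maximalIdeal D, a * t = 0 := by
  classical
  obtain ⟨N, hN⟩ := exists_pow_maximalIdeal_eq_bot D
  have hex : ∃ n : ℕ, maximalIdeal D ^ n * I = ⊥ := ⟨N, by rw [hN]; simp⟩
  obtain ⟨n₀, hn₀, hmin⟩ : ∃ n₀, maximalIdeal D ^ n₀ * I = ⊥ ∧
      ∀ k < n₀, maximalIdeal D ^ k * I ≠ ⊥ :=
    ⟨Nat.find hex, Nat.find_spec hex, fun k hk => Nat.find_min hex hk⟩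
  have hn₀pos : n₀ ≠ 0 := by
    rintro rfl
    apply hI
    simpa using hn₀
  obtain ⟨k, rfl⟩ := Nat.exists_eq_succ_of_ne_zero hn₀pos
  have hk := hmin k (Nat.lt_succ_self k)
  obtain ⟨t, ht, ht0⟩ := Submodule.exists_mem_ne_zero_of_ne_bot hk
  refine ⟨t, Ideal.mul_le_right ht, ht0, fun a ha => ?_⟩
  have : a * t ∈ maximalIdeal D ^ (k + 1) * I := by
    rw [pow_succ', mul_assoc]
    exact Ideal.mul_mem_mul ha ht
  rw [hn₀] at this
  simpa using this

/-- a self-injective Artinian local ring has a nonzero element contained in every nonzero ideal -/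
theorem exists_ess_socle (hB : Module.Baer D D) :
    ∃ s : D, s ≠ 0 ∧ ∀ I : Ideal D, I ≠ ⊥ → s ∈ I := by
  obtain ⟨s, -, hs0, hs⟩ := exists_socle_mem D ⊤ (by simp)
  refine ⟨s, hs0, fun I hI => ?_⟩
  obtain ⟨t, htI, ht0, ht⟩ := exists_socle_mem D I hI
  -- the map `span {t} → D`, `t ↦ s`
  have hker : LinearMap.ker (LinearMap.toSpanSingleton D D t) ≤
      LinearMap.ker (LinearMap.toSpanSingleton D D s) := by
    intro a ha
    rw [LinearMap.mem_ker, LinearMap.toSpanSingleton_apply, smul_eq_mul] at ha ⊢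
    by_cases hau : IsUnit a
    · exact absurd (hau.mul_right_eq_zero.mp ha) ht0
    · exact hs a ((mem_maximalIdeal a).mpr hau)
  have hrange : LinearMap.range (LinearMap.toSpanSingleton D D t) = Ideal.span {t} := by
    rw [LinearMap.range_toSpanSingleton]
  let g : (Ideal.span {t} : Ideal D) →ₗ[D] D :=
    (Submodule.liftQ _ (LinearMap.toSpanSingleton D D s) hker) ∘ₗ
      (LinearMap.quotKerEquivRange (LinearMap.toSpanSingleton D D t)).symm.toLinearMap ∘ₗ
      (LinearEquiv.ofEq _ _ hrange.symm).toLinearMap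
  obtain ⟨g', hg'⟩ := hB (Ideal.span {t}) g
  have htmem : t ∈ (Ideal.span {t} : Ideal D) := Ideal.mem_span_singleton_self t
  have h1 : g ⟨t, htmem⟩ = s := by
    have h2 : (LinearMap.quotKerEquivRange (LinearMap.toSpanSingleton D D t)).symm
        ((LinearEquiv.ofEq _ _ hrange.symm) ⟨t, htmem⟩) =
        Submodule.Quotient.mk (1 : D) := by
      rw [LinearEquiv.symm_apply_eq]
      apply Subtype.ext
      change t = ((LinearMap.toSpanSingleton D D t).quotKerEquivRange
        (Submodule.Quotient.mk (1 : D)) : D)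
      rw [LinearMap.quotKerEquivRange_apply_mk]
      simp
    change (Submodule.liftQ _ (LinearMap.toSpanSingleton D D s) hker)
      ((LinearMap.quotKerEquivRange (LinearMap.toSpanSingleton D D t)).symm
        ((LinearEquiv.ofEq _ _ hrange.symm) ⟨t, htmem⟩)) = s
    rw [h2, Submodule.liftQ_apply]
    simp
  have h3 : g' t = s := by rw [hg' t htmem, h1]
  have h4 : g' t = t * g' 1 := by
    rw [← smul_eq_mul, ← map_smul, smul_eq_mul, mul_one]
  rw [← h3, h4]
  exact I.mul_mem_right _ htI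

end Groth.Agent.Lib.Helper77.Frob1
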