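import Mathlib
import Groth.Agent.Lib.Helper4.GorGlobal
import Groth.Agent.Lib.Helper77.Frob1

/-!
# Finite-dimensional Gorenstein algebras over a field are Frobenius (helper77)
-/
set_option autoImplicit false
universe u
open IsLocalRing CategoryTheory

namespace Groth.Agent.Lib.Helper77.Frob2

theorem baer_of_gorenstein_artinian (D : Type u) [CommRing D] [LocCoh.IsGorensteinLocalRing D]
    [IsArtinianRing D] : Module.Baer D D := by
  obtain ⟨d, hd, -, hinj⟩ := Groth.Agent.Lib.Helper4.GorCM.gorenstein_dim D
  have h0 : ringKrullDim D = 0 :=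
    ringKrullDimZero_iff_ringKrullDim_eq_zero.mp inferInstance
  rw [h0] at hd
  have hd0 : d = 0 := by exact_mod_cast hd.symm
  subst hd0
  have h1 : Injective (ModuleCat.of D D) := injective_iff_hasInjectiveDimensionLT_one.mpr hinj
  have h2 : Module.Injective D D := Module.injective_module_of_injective_object D D
  exact Module.Baer.of_injective h2

variable (κ C : Type u) [Field κ] [CommRing C] [Algebra κ C] [Module.Finite κ C]

theorem exists_nondeg [LocCoh.IsGorensteinRing C] :
    ∃ l : C →ₗ[κ] κ, ∀ c : C, c ≠ 0 → ∃ x : C, l (c * x) ≠ 0 := by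
  classical
  haveI : IsArtinianRing C := IsArtinianRing.of_finite κ C
  haveI : Fintype (MaximalSpectrum C) := Fintype.ofFinite _
  have hG : ∀ q : MaximalSpectrum C,
      LocCoh.IsGorensteinLocalRing (Localization.AtPrime q.asIdeal) := fun q =>
    LocCoh.IsGorensteinRing.isGorensteinLocalRing_localization q.asIdeal
  have hs : ∀ q : MaximalSpectrum C, ∃ s : Localization.AtPrime q.asIdeal, s ≠ 0 ∧
      ∀ I : Ideal (Localization.AtPrime q.asIdeal), I ≠ ⊥ → s ∈ I := fun q => by
    haveI := hG q
    exact Frob1.exists_ess_socle _ (baer_of_gorenstein_artinian _)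
  choose s hs0 hs using hs
  have hl : ∀ q : MaximalSpectrum C, ∃ l : Localization.AtPrime q.asIdeal →ₗ[κ] κ,
      l (s q) ≠ 0 := fun q => by
    by_contra hcon
    push Not at hcon
    exact hs0 q ((Module.forall_dual_apply_eq_zero_iff κ (s q)).mp hcon)
  choose l hl using hl
  refine ⟨∑ q, (l q) ∘ₗ (IsScalarTower.toAlgHom κ C (Localization.AtPrime q.asIdeal)).toLinearMap,
    fun c hc => ?_⟩
  obtain ⟨q, hq⟩ : ∃ q : MaximalSpectrum C, algebraMap C (Localization.AtPrime q.asIdeal) c ≠ 0 := by
    by_contra hcon
    push Not at hcon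
    apply hc
    apply MaximalSpectrum.toPiLocalization_injective C
    funext q
    simpa [MaximalSpectrum.toPiLocalization_apply_apply] using hcon q
  have hmem : s q ∈ Ideal.span {algebraMap C (Localization.AtPrime q.asIdeal) c} := by
    apply hs q
    rw [Ne, Ideal.span_singleton_eq_bot]
    exact hq
  obtain ⟨d, hd⟩ := Ideal.mem_span_singleton'.mp hmem
  obtain ⟨x, hx⟩ := PrimeSpectrum.maximalSpectrumToPiLocalization_surjective_of_discreteTopology C
    (Pi.single q d)
  have hx' : ∀ q' : MaximalSpectrum C, algebraMap C (Localization.AtPrime q'.asIdeal) x =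
      (Pi.single q d : MaximalSpectrum.PiLocalization C) q' := fun q' => by
    rw [← hx]; rfl
  refine ⟨x, ?_⟩
  rw [LinearMap.sum_apply, Finset.sum_eq_single q]
  · simp only [LinearMap.comp_apply, AlgHom.toLinearMap_apply, IsScalarTower.coe_toAlgHom',
      map_mul, hx' q, Pi.single_eq_same]
    rw [mul_comm, hd]
    exact hl q
  · intro q' _ hq'
    simp only [LinearMap.comp_apply, AlgHom.toLinearMap_apply, IsScalarTower.coe_toAlgHom',
      map_mul, hx' q', Pi.single_eq_of_ne hq', mul_zero, map_zero]
  · intro h; exact absurd (Finset.mem_univ q) h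

end Groth.Agent.Lib.Helper77.Frob2
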