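import Mathlib
import Groth.Agent.Lib.Helper4.GorGlobal
import Groth.Agent.Lib.Helper94.QFDualLib
import Groth.Agent.Lib.Helper77.Frob2

/-!
# `Hom_κ(C, κ)` is injective; Frobenius ⇔ Gorenstein for finite algebras over a field (helper77)
-/
set_option autoImplicit false
universe u
open IsLocalRing CategoryTheory

namespace Groth.Agent.Lib.Helper77.Frob3

open Groth.Agent.Lib.Helper94.QFDualLib

attribute [local instance 10] omegaModule

variable (κ C : Type u) [Field κ] [CommRing C] [Algebra κ C]

theorem omega_baer : Module.Baer C (Disc.Omega κ C) := by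
  intro I g
  let Λ₀ : (I.restrictScalars κ) →ₗ[κ] κ :=
    { toFun := fun x => (g ⟨x.1, x.2⟩).toLinearMap 1
      map_add' := fun x y => by
        have : g (⟨x.1, x.2⟩ + ⟨y.1, y.2⟩) = g ⟨x.1, x.2⟩ + g ⟨y.1, y.2⟩ := map_add _ _ _
        change (g (⟨x.1, x.2⟩ + ⟨y.1, y.2⟩)).toLinearMap 1 = _
        rw [this]; rfl
      map_smul' := fun a x => by
        have h1 : g ⟨(a • x).1, (a • x).2⟩ = (algebraMap κ C a) • g ⟨x.1, x.2⟩ := by
          rw [← map_smul]
          congr 1
          apply Subtype.ext
          change a • x.1 = algebraMap κ C a * x.1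
          rw [Algebra.smul_def]
        change (g ⟨(a • x).1, (a • x).2⟩).toLinearMap 1 = a • (g ⟨x.1, x.2⟩).toLinearMap 1
        rw [h1, Disc.Omega.smul_toLinearMap_apply, mul_one, ← mul_one (algebraMap κ C a),
          ← Algebra.smul_def, map_smul] }
  obtain ⟨Λ, hΛ⟩ := LinearMap.exists_extend Λ₀
  refine ⟨LinearMap.toSpanSingleton C (Disc.Omega κ C) ⟨Λ⟩, fun x hx => ?_⟩
  apply Disc.Omega.toLinearMap_injective
  apply LinearMap.ext
  intro y
  rw [LinearMap.toSpanSingleton_apply, Disc.Omega.smul_toLinearMap_apply]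
  have hxy : x * y ∈ I := I.mul_mem_right y hx
  have h1 : Λ (x * y) = Λ₀ ⟨x * y, hxy⟩ := by
    rw [← hΛ]; rfl
  rw [h1]
  change (g ⟨x * y, hxy⟩).toLinearMap 1 = _
  have h2 : g ⟨x * y, hxy⟩ = y • g ⟨x, hx⟩ := by
    rw [← map_smul]
    congr 1
    apply Subtype.ext
    change x * y = y * x
    ring
  rw [h2, Disc.Omega.smul_toLinearMap_apply, mul_one]

variable [Module.Finite κ C]

include κ in
theorem isNoetherianRing_of_finite' : IsNoetherianRing C :=
  isNoetherian_of_tower κ (isNoetherian_of_isNoetherianRing_of_finite κ C)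

theorem gorenstein_of_equiv (e : Disc.Omega κ C ≃ₗ[C] C) : LocCoh.IsGorensteinRing C := by
  haveI := isNoetherianRing_of_finite' κ C
  have h1 : Module.Baer C C := (omega_baer κ C).of_equiv e
  have h2 : Module.Injective C C := h1.injective
  have h3 : Injective (ModuleCat.of C C) := Module.injective_object_of_injective_module C C
  have h4 : HasInjectiveDimensionLT (ModuleCat.of C C) 1 :=
    injective_iff_hasInjectiveDimensionLT_one.mp h3
  refine { isGorensteinLocalRing_localization := ?_ }
  intro p _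
  exact Groth.Agent.Lib.Helper4.GorGlobal.isGorensteinLocalRing_localization_of_hasInjectiveDimensionLT
      C 1 h4 p

theorem finrank_omega : Module.finrank κ (Disc.Omega κ C) = Module.finrank κ C := by
  rw [(omegaToDual (A := κ) (B' := C)).finrank_eq]
  exact Subspace.dual_finrank_eq

theorem equiv_of_nondeg (l : C →ₗ[κ] κ) (hl : ∀ c : C, c ≠ 0 → ∃ x : C, l (c * x) ≠ 0) :
    Nonempty (C ≃ₗ[C] Disc.Omega κ C) := by
  let f : C →ₗ[C] Disc.Omega κ C := LinearMap.toSpanSingleton C (Disc.Omega κ C) ⟨l⟩
  have hinj : Function.Injective f := by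
    rw [injective_iff_map_eq_zero]
    intro c hc
    by_contra hc0
    obtain ⟨x, hx⟩ := hl c hc0
    apply hx
    have := congrArg (fun ω : Disc.Omega κ C => ω.toLinearMap x) hc
    simpa [f, LinearMap.toSpanSingleton_apply] using this
  haveI : Module.Finite κ (Disc.Omega κ C) :=
    Module.Finite.equiv (omegaToDual (A := κ) (B' := C)).symm
  have hsurj : Function.Surjective (f.restrictScalars κ) :=
    (LinearMap.injective_iff_surjective_of_finrank_eq_finrank (finrank_omega κ C).symm).mp hinj
  exact ⟨LinearEquiv.ofBijective f ⟨hinj, hsurj⟩⟩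

/-- finite-dimensional Gorenstein algebras over a field are Frobenius -/
theorem equiv_of_gorenstein [LocCoh.IsGorensteinRing C] : Nonempty (C ≃ₗ[C] Disc.Omega κ C) := by
  obtain ⟨l, hl⟩ := Frob2.exists_nondeg κ C
  exact equiv_of_nondeg κ C l hl

end Groth.Agent.Lib.Helper77.Frob3
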