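import Mathlib
import Groth.Agent.Lib.Helper85.GorRing
import Groth.Agent.Lib.Helper85.GorFlat
import Groth.Agent.Lib.Helper77.CMQuot

/-!
# Quotients of Gorenstein local rings by systems of parameters are Gorenstein (helper77)
-/
set_option autoImplicit false
universe u
open IsLocalRing

namespace Groth.Agent.Lib.Helper77.GorCI

theorem encard_range_le {R : Type*} (n : ℕ) (x : Fin n → R) : (Set.range x).encard ≤ n := by
  rw [← Set.image_univ]
  refine le_trans (Set.encard_image_le _ _) ?_
  simp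

/-- `dim R ≤ dim R' + n` if `R' = R/(x_1, …, x_n)` -/
theorem dim_le_of_surjective {R R' : Type u} [CommRing R] [CommRing R'] [IsNoetherianRing R]
    [IsLocalRing R] (n : ℕ) (x : Fin n → R) (hx : ∀ i, x i ∈ maximalIdeal R)
    (φ : R →+* R') (hφ : Function.Surjective φ) (hker : RingHom.ker φ = Ideal.span (Set.range x)) :
    ringKrullDim R ≤ ringKrullDim R' + n := by
  have h1 := ringKrullDim_le_ringKrullDim_quotient_add_encard (Set.range x) (by
    rw [IsLocalRing.ringJacobson_eq_maximalIdeal]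
    rintro _ ⟨i, rfl⟩
    exact hx i)
  rw [← hker, ringKrullDim_eq_of_ringEquiv (RingHom.quotientKerEquivOfSurjective hφ)] at h1
  refine le_trans h1 ?_
  gcongr
  exact_mod_cast encard_range_le n x

theorem gor_of_surjective_of_dim (n : ℕ) : ∀ (R R' : Type u) [CommRing R] [CommRing R']
    [LocCoh.IsGorensteinLocalRing R] (x : Fin n → R) (_ : ∀ i, x i ∈ maximalIdeal R)
    (φ : R →+* R') (_ : Function.Surjective φ) (_ : RingHom.ker φ = Ideal.span (Set.range x))
    (_ : ringKrullDim R' + n ≤ ringKrullDim R), LocCoh.IsGorensteinLocalRing R' := by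
  induction n with
  | zero =>
    intro R R' _ _ _ x hx φ hφ hker hdim
    have hinj : Function.Injective φ := by
      rw [RingHom.injective_iff_ker_eq_bot, hker]
      have : Set.range x = ∅ := Set.range_eq_empty x
      rw [this, Ideal.span_empty]
    exact Groth.Agent.Lib.Helper85.GorRing.gor_of_ringEquiv (RingEquiv.ofBijective φ ⟨hinj, hφ⟩)
  | succ n ih =>
    intro R R' _ _ _ x hx φ hφ hker hdim
    obtain ⟨y, hy⟩ : ∃ y, y = x 0 := ⟨_, rfl⟩
    have hym : y ∈ maximalIdeal R := hy ▸ hx 0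
    obtain ⟨J, hJ⟩ : ∃ J : Ideal R, J = Ideal.span {y} := ⟨_, rfl⟩
    have hJm : J ≤ maximalIdeal R := by
      rw [hJ, Ideal.span_singleton_le_iff_mem]; exact hym
    have hJker : J ≤ RingHom.ker φ := by
      rw [hJ, hker, Ideal.span_singleton_le_iff_mem, hy]
      exact Ideal.subset_span ⟨0, rfl⟩
    haveI : IsLocalRing (R ⧸ J) := Groth.Agent.Lib.Helper85.GorFlat.isLocalRing_quot J hJm
    let φ₁ : R ⧸ J →+* R' := Ideal.Quotient.lift J φ (fun a ha => hJker ha)
    have hφ₁ : Function.Surjective φ₁ := Ideal.Quotient.lift_surjective_of_surjective J _ hφ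
    let x₁ : Fin n → R ⧸ J := fun i => Ideal.Quotient.mk J (x i.succ)
    have hx₁ : ∀ i, x₁ i ∈ maximalIdeal (R ⧸ J) := by
      intro i
      haveI : IsLocalHom (Ideal.Quotient.mk J) :=
        IsLocalHom.of_surjective _ Ideal.Quotient.mk_surjective
      exact map_nonunit (Ideal.Quotient.mk J) _ (hx i.succ)
    have hker₁ : RingHom.ker φ₁ = Ideal.span (Set.range x₁) := by
      rw [Ideal.ker_quotient_lift, hker, Ideal.map_span, Fin.range_fin_succ, Set.image_insert_eq,
        Ideal.span_insert]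
      have h0 : Ideal.Quotient.mk J (x 0) = 0 := by
        rw [Ideal.Quotient.eq_zero_iff_mem, hJ, ← hy]
        exact Ideal.mem_span_singleton_self y
      rw [h0, Ideal.span_singleton_zero, bot_sup_eq, ← Set.range_comp]
      rfl
    -- dimensions
    obtain ⟨dR, hdR⟩ := Groth.Agent.Lib.Helper77.FlatDepth.exists_nat_dim R
    obtain ⟨d1, hd1⟩ := Groth.Agent.Lib.Helper77.FlatDepth.exists_nat_dim (R ⧸ J)
    have ha : ringKrullDim R ≤ ringKrullDim (R ⧸ J) + 1 := by
      have := dim_le_of_surjective (R := R) (R' := R ⧸ J) 1 (fun _ => y) (fun _ => hym)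
        (Ideal.Quotient.mk J) Ideal.Quotient.mk_surjective (by
          rw [Ideal.mk_ker, hJ]; congr 1; ext; simp)
      exact_mod_cast this
    have hb := dim_le_of_surjective n x₁ hx₁ φ₁ hφ₁ hker₁
    have hR'ne : ringKrullDim R' ≠ ⊤ := by
      intro h
      rw [h, hdR] at hdim
      have h0 : (⊤ : WithBot ℕ∞) = ((⊤ : ℕ∞) : WithBot ℕ∞) := rfl
      rw [h0] at hdim
      have h4 : (⊤ : ℕ∞) + ((n + 1 : ℕ) : ℕ∞) ≤ (dR : ℕ∞) := by exact_mod_cast hdim
      rw [top_add] at h4
      exact absurd h4 (by simp)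
    have hR'ne' : ringKrullDim R' ≠ ⊥ := by
      intro h
      rw [h, hd1] at hb
      exact absurd hb (by simp)
    obtain ⟨d', hd'⟩ : ∃ d' : ℕ, ringKrullDim R' = d' := by
      cases h : ringKrullDim R' with
      | bot => exact absurd h hR'ne'
      | coe a =>
        cases a with
        | top => exact absurd h hR'ne
        | coe m => exact ⟨m, rfl⟩
    rw [hdR, hd1] at ha
    rw [hd1, hd'] at hb
    rw [hd', hdR] at hdim
    have ha' : dR ≤ d1 + 1 := by exact_mod_cast ha
    have hb' : d1 ≤ d' + n := by exact_mod_cast hb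
    have hc' : d' + (n + 1) ≤ dR := by exact_mod_cast hdim
    have h1 : d1 + 1 = dR := by omega
    have h2 : d' + n ≤ d1 := by omega
    haveI : LocCoh.IsCohenMacaulayLocalRing R :=
      Groth.Agent.Lib.Helper4.GorCM.isCohenMacaulayLocalRing_of_gorenstein R
    have hreg : IsSMulRegular R y :=
      Groth.Agent.Lib.Helper77.CMQuot.isSMulRegular_of_dim R y J hJ (by
        rw [hd1, hdR]; exact_mod_cast h1)
    haveI : LocCoh.IsGorensteinLocalRing (R ⧸ J) :=
      (Groth.Agent.Lib.Helper85.GorFlat.gorenstein_quot_iff y hym hreg J hJ).mpr inferInstance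
    exact ih (R ⧸ J) R' x₁ hx₁ φ₁ hφ₁ hker₁ (by rw [hd', hd1]; exact_mod_cast h2)

end Groth.Agent.Lib.Helper77.GorCI
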