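import Mathlib
import Groth.Agent.Lib.Helper73.DimFT.Catenary
import Groth.Agent.Lib.Helper77.GorCI
import Groth.Agent.Lib.Helper77.Frob3

/-!
# The dualizing module of a zero-dimensional global complete intersection is free of rank one
(helper77)
-/
set_option autoImplicit false
universe u
open IsLocalRing

namespace Groth.Agent.Lib.Helper77.CIOmega

open Groth.Agent.Lib.Helper85.GorRing

theorem gorRing_mvPolynomial_fin (k : Type u) [Field k] (n : ℕ) :
    LocCoh.IsGorensteinRing (MvPolynomial (Fin n) k) := by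
  haveI : LocCoh.IsGorensteinLocalRing k := gor_of_isField k (Field.toIsField k)
  haveI : LocCoh.IsGorensteinRing k := gorRing_of_gorLocal k
  haveI := gorRing_mvPolynomial k (ULift.{u} (Fin n))
  exact gorRing_of_ringEquiv (MvPolynomial.renameEquiv k (Equiv.ulift (α := Fin n))).toRingEquiv

theorem gorRing_quot (k : Type u) [Field k] (n : ℕ) (f : Fin n → MvPolynomial (Fin n) k)
    (h0 : ringKrullDim (MvPolynomial (Fin n) k ⧸ Ideal.span (Set.range f)) = 0) :
    LocCoh.IsGorensteinRing (MvPolynomial (Fin n) k ⧸ Ideal.span (Set.range f)) := by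
  obtain ⟨I, hI⟩ : ∃ I : Ideal (MvPolynomial (Fin n) k), I = Ideal.span (Set.range f) := ⟨_, rfl⟩
  rw [← hI] at h0 ⊢
  haveI : Ring.KrullDimLE 0 (MvPolynomial (Fin n) k ⧸ I) :=
    Ring.krullDimLE_iff.mpr (by rw [h0]; rfl)
  haveI := gorRing_mvPolynomial_fin k n
  refine { isGorensteinLocalRing_localization := ?_ }
  intro q _
  obtain ⟨Q, hQ⟩ : ∃ Q : Ideal (MvPolynomial (Fin n) k), Q = q.comap (Ideal.Quotient.mk I) :=
    ⟨_, rfl⟩
  haveI hqmax : q.IsMaximal := Ideal.isMaximal_of_isPrime q
  haveI hQmax : Q.IsMaximal := by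
    rw [hQ]; exact Ideal.comap_isMaximal_of_surjective _ Ideal.Quotient.mk_surjective
  haveI hQp : Q.IsPrime := hQmax.isPrime
  obtain ⟨φ, hφ, hker, -⟩ := exists_loc_surjective (Ideal.Quotient.mk I)
    Ideal.Quotient.mk_surjective Q q hQ.symm
  haveI : LocCoh.IsGorensteinLocalRing (Localization.AtPrime Q) :=
    LocCoh.IsGorensteinRing.isGorensteinLocalRing_localization Q
  have hIQ : I ≤ Q := by
    rw [hQ]
    intro a ha
    rw [Ideal.mem_comap, Ideal.Quotient.eq_zero_iff_mem.mpr ha]
    exact q.zero_mem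
  refine Groth.Agent.Lib.Helper77.GorCI.gor_of_surjective_of_dim n (Localization.AtPrime Q)
    (Localization.AtPrime q) (fun i => algebraMap _ (Localization.AtPrime Q) (f i)) ?_ φ hφ ?_ ?_
  · intro i
    rw [IsLocalization.AtPrime.to_map_mem_maximal_iff (Localization.AtPrime Q) Q]
    exact hIQ (hI ▸ Ideal.subset_span ⟨i, rfl⟩)
  · rw [hker, Ideal.mk_ker, hI, Ideal.map_span, ← Set.range_comp]
    rfl
  · have h1 : ringKrullDim (Localization.AtPrime q) ≤ 0 := by
      rw [IsLocalization.AtPrime.ringKrullDim_eq_height q (Localization.AtPrime q), ← h0]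
      exact Ideal.height_le_ringKrullDim_of_ne_top hqmax.ne_top
    have h2 : ringKrullDim (Localization.AtPrime Q) = n := by
      rw [IsLocalization.AtPrime.ringKrullDim_eq_height Q (Localization.AtPrime Q),
        Groth.Agent.Lib.Helper73.height_eq_ringKrullDim_of_isMaximal k Q,
        MvPolynomial.ringKrullDim_of_isNoetherianRing, ringKrullDim_eq_zero_of_field]
      simp
    rw [h2]
    calc ringKrullDim (Localization.AtPrime q) + (n : WithBot ℕ∞) ≤ 0 + n := by gcongr
      _ = n := zero_add _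

theorem main (k : Type u) [Field k] (n : ℕ) (f : Fin n → MvPolynomial (Fin n) k)
    (h0 : ringKrullDim (MvPolynomial (Fin n) k ⧸ Ideal.span (Set.range f)) = 0) :
    Nonempty (Disc.Omega k (MvPolynomial (Fin n) k ⧸ Ideal.span (Set.range f))
      ≃ₗ[MvPolynomial (Fin n) k ⧸ Ideal.span (Set.range f)]
      (MvPolynomial (Fin n) k ⧸ Ideal.span (Set.range f))) := by
  haveI := gorRing_quot k n f h0
  haveI : Ring.KrullDimLE 0 (MvPolynomial (Fin n) k ⧸ Ideal.span (Set.range f)) :=
    Ring.krullDimLE_iff.mpr (by rw [h0]; rfl)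
  haveI : Module.Finite k (MvPolynomial (Fin n) k ⧸ Ideal.span (Set.range f)) :=
    (Module.finite_iff_krullDimLE_zero k _).mpr inferInstance
  obtain ⟨e⟩ := Frob3.equiv_of_gorenstein k (MvPolynomial (Fin n) k ⧸ Ideal.span (Set.range f))
  exact ⟨e.symm⟩

end Groth.Agent.Lib.Helper77.CIOmega
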