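import Mathlib

/-!
# Family version of `IsLocalRing.linearIndependent_of_flat`

Requested by helper55 (step (4) of the FamFlat request, for S4856).
-/

set_option autoImplicit false
universe u

open IsLocalRing

namespace Groth.Agent.Lib.Helper77.FamIndep

/-- Family version of Mathlib's `IsLocalRing.linearIndependent_of_flat`: `A'` local, `(N l)` a
family of flat `A'`-modules, `w j ∈ ∏ l, N l` jointly independent modulo the maximal ideal.  Then
any relation `∑ a j • w j l = 0` holding for every `l` is trivial. -/
theorem eq_zero_of_family_flat {A' : Type u} [CommRing A'] [IsLocalRing A'] {Λ : Type u}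
    (N : Λ → Type u) [∀ l, AddCommGroup (N l)] [∀ l, Module A' (N l)]
    [∀ l, Module.Flat A' (N l)] {J : Type u} (s : Finset J) (w : J → ∀ l, N l) (a : J → A')
    (hJI : ∀ b : J → A', (∀ l, ∑ j ∈ s, b j • w j l ∈
      IsLocalRing.maximalIdeal A' • (⊤ : Submodule A' (N l))) →
      ∀ j ∈ s, b j ∈ IsLocalRing.maximalIdeal A')
    (hrel : ∀ l, ∑ j ∈ s, a j • w j l = 0) : ∀ j ∈ s, a j = 0 := by
  classical
  induction s using Finset.induction generalizing w a with
  | empty => intro j hj; exact (Finset.notMem_empty _ hj).elim
  | insert n s hn ih =>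
    -- step 1: some component of `w n` is nonzero modulo the maximal ideal
    obtain ⟨l0, hl0⟩ : ∃ l0, w n l0 ∉ maximalIdeal A' • (⊤ : Submodule A' (N l0)) := by
      by_contra hcon
      push Not at hcon
      have h1 := hJI (Pi.single n 1) (fun l => by
        rw [Finset.sum_eq_single n]
        · simpa using hcon l
        · intro j _ hjn
          simp [Pi.single_eq_of_ne hjn]
        · intro h
          exact absurd (Finset.mem_insert_self n s) h) n (Finset.mem_insert_self n s)
      rw [Pi.single_eq_same] at h1
      exact (Ideal.ne_top_iff_one _).mp (IsLocalRing.maximalIdeal.isMaximal A').ne_top h1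
    -- step 2: the relation in `N l0` is trivial
    have hrel0 := hrel l0
    rw [← Finset.sum_coe_sort] at hrel0
    obtain ⟨κ, c, y, hcy, hac⟩ := Module.Flat.isTrivialRelation_of_sum_smul_eq_zero hrel0
    obtain ⟨k, hk⟩ : ∃ k, IsUnit (c ⟨n, Finset.mem_insert_self n s⟩ k) := by
      by_contra hcon
      push Not at hcon
      apply hl0
      rw [show w n l0 = _ from hcy ⟨n, Finset.mem_insert_self n s⟩]
      exact sum_mem fun k _ => Submodule.smul_mem_smul
        ((IsLocalRing.mem_maximalIdeal _).mpr (hcon k)) trivial
    let c' (i : J) : A' := if hi : i ∈ insert n s then c ⟨i, hi⟩ k else 0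
    have c_eq (i : ↥(insert n s)) : c i k = c' i.1 := by
      simp only [c', dif_pos i.2]
    have hsum : a n * c' n + ∑ j ∈ s, a j * c' j = 0 := by
      have h2 := hac k
      simp_rw [c_eq] at h2
      rw [Finset.sum_coe_sort (insert n s) (fun i => a i * c' i), Finset.sum_insert hn] at h2
      exact h2
    have hun : IsUnit (c' n) := by
      have := c_eq ⟨n, Finset.mem_insert_self n s⟩
      rw [← this]
      exact hk
    obtain ⟨u, hu⟩ := hun
    let d (j : J) : A' := - (c' j) * ↑u⁻¹
    have han : a n = ∑ j ∈ s, a j * d j := by
      have h1 : a n * ↑u = - ∑ j ∈ s, a j * c' j := by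
        rw [hu]
        linear_combination hsum
      calc a n = a n * ↑u * ↑u⁻¹ := by rw [mul_assoc, Units.mul_inv, mul_one]
        _ = (- ∑ j ∈ s, a j * c' j) * ↑u⁻¹ := by rw [h1]
        _ = ∑ j ∈ s, a j * d j := by
          rw [neg_mul, Finset.sum_mul, ← Finset.sum_neg_distrib]
          refine Finset.sum_congr rfl fun j _ => ?_
          simp only [d]
          ring
    have key := ih (fun j l => w j l + d j • w n l) a ?_ ?_
    · intro j hj
      rcases Finset.mem_insert.mp hj with rfl | hj
      · rw [han]
        exact Finset.sum_eq_zero fun i hi => by rw [key i hi, zero_mul]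
      · exact key j hj
    · intro b hb
      let b' : J → A' := fun j => if j = n then ∑ i ∈ s, b i * d i else b j
      have h3 := hJI b' (fun l => by
        rw [Finset.sum_insert hn]
        have h1 : ∑ j ∈ s, b' j • w j l = ∑ j ∈ s, b j • w j l :=
          Finset.sum_congr rfl (fun j hj => by
            simp only [b', if_neg (ne_of_mem_of_not_mem hj hn)])
        have h2 : b' n = ∑ i ∈ s, b i * d i := by simp only [b', if_pos]
        rw [h1, h2]
        have h4 := hb l
        have h5 : ∑ j ∈ s, b j • (w j l + d j • w n l) =
            (∑ i ∈ s, b i * d i) • w n l + ∑ j ∈ s, b j • w j l := by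
          simp only [smul_add, Finset.sum_add_distrib, smul_smul, Finset.sum_smul]
          rw [add_comm]
        rw [← h5]
        exact h4)
      intro j hj
      have h6 := h3 j (Finset.mem_insert_of_mem hj)
      simpa only [b', if_neg (ne_of_mem_of_not_mem hj hn)] using h6
    · intro l
      have h7 := hrel l
      rw [Finset.sum_insert hn, han] at h7
      simp only [smul_add, Finset.sum_add_distrib, smul_smul]
      rw [← Finset.sum_smul, add_comm]
      exact h7

end Groth.Agent.Lib.Helper77.FamIndep
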