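import Mathlib
import Groth.Agent.Lib.Helper85.Reflexive2
import Groth.Agent.Lib.Helper56.FibreRegular

/-!
# Reflexive modules with `End M = R` over reduced one-dimensional rings (helper77)
-/
set_option autoImplicit false
universe u
open IsLocalRing Module

namespace Groth.Agent.Lib.Helper77.ReflRank1

section Ann

variable {R : Type u} [CommRing R] [IsNoetherianRing R]

/-- an ideal consisting of zero divisors is killed by a nonzero element -/
theorem exists_ann_of_forall_not_nzd (I : Ideal R) (h : ∀ a ∈ I, a ∉ nonZeroDivisors R) :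
    ∃ z : R, z ≠ 0 ∧ ∀ a ∈ I, a * z = 0 := by
  have hsub : (I : Set R) ⊆ ⋃ p ∈ (associatedPrimes.finite R R).toFinset, (p : Set R) := by
    intro a ha
    have : a ∈ (nonZeroDivisors R : Set R)ᶜ := h a ha
    rw [← biUnion_associatedPrimes_eq_compl_nonZeroDivisors] at this
    simpa using this
  obtain ⟨p, hp, hIp⟩ := (Ideal.subset_union_prime (R := R) (f := fun p : Ideal R => p) ⊥ ⊥
    (fun i hi _ _ => by
      have : i ∈ associatedPrimes R R := by simpa using hi
      exact this.isPrime)).mp hsub
  have hp' : p ∈ associatedPrimes R R := by simpa using hp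
  obtain ⟨hpp, z, hz⟩ := (isAssociatedPrime_iff).mp hp'
  refine ⟨z, ?_, fun a ha => ?_⟩
  · rintro rfl
    apply hpp.ne_top
    rw [hz, eq_top_iff]
    intro a _
    rw [Submodule.mem_colon_singleton]
    simp
  · have := hIp ha
    rw [hz, Submodule.mem_colon_singleton] at this
    simpa using this

end Ann

section Local

variable {R : Type u} [CommRing R] [IsNoetherianRing R] [IsLocalRing R]

/-- a reduced Noetherian local ring is a field or has a nonzerodivisor in its maximal ideal -/
theorem maximalIdeal_eq_bot_or_exists_nzd [IsReduced R] :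
    maximalIdeal R = ⊥ ∨ ∃ x ∈ maximalIdeal R, x ∈ nonZeroDivisors R := by
  by_contra hcon
  push Not at hcon
  obtain ⟨hne, hall⟩ := hcon
  obtain ⟨z, hz0, hz⟩ := exists_ann_of_forall_not_nzd (maximalIdeal R) hall
  by_cases hzm : z ∈ maximalIdeal R
  · have : z * z = 0 := hz z hzm
    exact hz0 (IsReduced.eq_zero z ⟨2, by rw [pow_two]; exact this⟩)
  · have hu : IsUnit z := by
      by_contra h
      exact hzm ((mem_maximalIdeal z).mpr h)
    apply hne
    rw [eq_bot_iff]
    intro a ha
    have := hz a ha
    rw [Ideal.mem_bot]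
    exact (hu.mul_left_eq_zero).mp this

/-- in a one-dimensional local ring with a nonzerodivisor `x ∈ m`, there is `y ∉ (x)` with
`m y ⊆ (x)` -/
theorem exists_socle_mod (hdim : ringKrullDim R ≤ 1) (x : R) (hxm : x ∈ maximalIdeal R)
    (hx : x ∈ nonZeroDivisors R) :
    ∃ y : R, y ∉ Ideal.span {x} ∧ ∀ a ∈ maximalIdeal R, a * y ∈ Ideal.span {x} := by
  have hJm : Ideal.span {x} ≤ maximalIdeal R := by
    rw [Ideal.span_le, Set.singleton_subset_iff]; exact hxm
  haveI : Nontrivial (R ⧸ Ideal.span {x}) := Ideal.Quotient.nontrivial_iff.mpr (fun h => by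
    rw [h] at hJm
    exact (IsLocalRing.maximalIdeal.isMaximal R).ne_top (top_le_iff.mp hJm))
  haveI : IsLocalRing (R ⧸ Ideal.span {x}) :=
    IsLocalRing.of_surjective' (Ideal.Quotient.mk _) Ideal.Quotient.mk_surjective
  have h1 := ringKrullDim_quotient_succ_le_of_nonZeroDivisor hx
  haveI : IsArtinianRing (R ⧸ Ideal.span {x}) := by
    rw [isArtinianRing_iff_krullDimLE_zero, Ring.krullDimLE_iff]
    have h := h1.trans hdim
    generalize ringKrullDim (R ⧸ Ideal.span {x}) = d at h ⊢
    induction d using WithBot.recBotCoe with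
    | bot => exact bot_le
    | coe n =>
      induction n using ENat.recTopCoe with
      | top => exact absurd h (by simp [← WithBot.coe_top, ← WithBot.coe_one, ← WithBot.coe_add])
      | coe n =>
        have h' : ((n + 1 : ℕ) : WithBot ℕ∞) ≤ ((1 : ℕ) : WithBot ℕ∞) := by exact_mod_cast h
        have h'' : n + 1 ≤ 1 := by exact_mod_cast h'
        have : n = 0 := by omega
        subst this
        exact le_rfl
  obtain ⟨n, hn⟩ := (isArtinianRing_iff_isNilpotent_maximalIdeal (R ⧸ Ideal.span {x})).mp
    inferInstance
  have hmap : (maximalIdeal R).map (Ideal.Quotient.mk (Ideal.span {x})) =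
      maximalIdeal (R ⧸ Ideal.span {x}) :=
    Groth.Agent.Lib.Helper56.map_quotientMk_maximalIdeal (Ideal.span {x})
  have hpow : ∃ n : ℕ, maximalIdeal R ^ n ≤ Ideal.span {x} := by
    refine ⟨n, ?_⟩
    have hn' : (maximalIdeal R ^ n).map (Ideal.Quotient.mk (Ideal.span {x})) = ⊥ := by
      rw [Ideal.map_pow, hmap]; exact hn
    rw [Ideal.map_eq_bot_iff_le_ker, Ideal.mk_ker] at hn'
    exact hn'
  classical
  let N := Nat.find hpow
  have hN : maximalIdeal R ^ N ≤ Ideal.span {x} := Nat.find_spec hpow
  have hN0 : N ≠ 0 := by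
    intro h0
    rw [h0, pow_zero, Ideal.one_eq_top] at hN
    exact (IsLocalRing.maximalIdeal.isMaximal R).ne_top (top_le_iff.mp (hN.trans hJm))
  obtain ⟨N', hN'⟩ := Nat.exists_eq_succ_of_ne_zero hN0
  have hlt : ¬ maximalIdeal R ^ N' ≤ Ideal.span {x} := Nat.find_min hpow (by omega)
  obtain ⟨y, hym, hy⟩ := SetLike.not_le_iff_exists.mp hlt
  refine ⟨y, hy, fun a ha => hN ?_⟩
  rw [hN', pow_succ']
  exact Ideal.mul_mem_mul ha hym

/-- in a one-dimensional local ring with a nonzerodivisor in `m`, some homomorphism `m → R`
is not multiplication by an element of `R` -/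
theorem exists_hom_not_smul (hdim : ringKrullDim R ≤ 1) (x : R) (hxm : x ∈ maximalIdeal R)
    (hx : x ∈ nonZeroDivisors R) :
    ∃ ψ : maximalIdeal R →ₗ[R] R, ¬ ∃ r : R, ∀ a : maximalIdeal R, ψ a = r * a := by
  obtain ⟨y, hy, hmy⟩ := exists_socle_mod hdim x hxm hx
  have hex : ∀ a : maximalIdeal R, ∃ b : R, x * b = a * y := by
    intro a
    obtain ⟨b, hb⟩ := Ideal.mem_span_singleton'.mp (hmy a a.2)
    exact ⟨b, by rw [mul_comm]; exact hb⟩
  choose ψ hψ using hex
  have hcancel : ∀ b c : R, x * b = x * c → b = c := fun b c h =>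
    (mul_cancel_left_mem_nonZeroDivisors hx).mp h
  let Ψ : maximalIdeal R →ₗ[R] R :=
    { toFun := ψ
      map_add' := by
        intro a b
        apply hcancel
        rw [mul_add, hψ, hψ, hψ, Submodule.coe_add, add_mul]
      map_smul' := by
        intro c a
        apply hcancel
        rw [RingHom.id_apply, smul_eq_mul, hψ, Submodule.coe_smul, smul_eq_mul,
          mul_left_comm, hψ, mul_assoc] }
  refine ⟨Ψ, ?_⟩
  rintro ⟨r, hr⟩
  have h1 : x * ψ ⟨x, hxm⟩ = x * y := hψ ⟨x, hxm⟩
  have h2 : ψ ⟨x, hxm⟩ = y := hcancel _ _ h1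
  have h3 : ψ ⟨x, hxm⟩ = r * x := hr ⟨x, hxm⟩
  apply hy
  rw [Ideal.mem_span_singleton']
  exact ⟨r, by rw [← h3, h2]⟩

end Local

section Main

variable {R : Type u} [CommRing R] [IsNoetherianRing R] [IsLocalRing R] [IsReduced R]
  (M : Type u) [AddCommGroup M] [Module R M] [Module.IsReflexive R M]

theorem eq_zero_of_forall_dual (x : M) (hx : ∀ φ : Module.Dual R M, φ x = 0) : x = 0 := by
  apply (Module.bijective_dual_eval R M).1
  rw [map_zero]
  ext φ
  rw [Module.Dual.eval_apply, LinearMap.zero_apply]
  exact hx φ

theorem exists_isUnit_apply (hdim : ringKrullDim R ≤ 1)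
    (hbij : Function.Bijective (algebraMap R (Module.End R M))) :
    ∃ (φ : Module.Dual R M) (x : M), IsUnit (φ x) := by
  by_contra hcon
  push Not at hcon
  have hm : ∀ (φ : Module.Dual R M) (x : M), φ x ∈ maximalIdeal R :=
    fun φ x => (mem_maximalIdeal _).mpr (hcon φ x)
  rcases maximalIdeal_eq_bot_or_exists_nzd (R := R) with hbot | ⟨x, hxm, hx⟩
  · have hM : ∀ y : M, y = 0 := fun y => eq_zero_of_forall_dual M y (fun φ => by
      have := hm φ y
      rw [hbot] at this
      exact this)
    have : algebraMap R (Module.End R M) 1 = algebraMap R (Module.End R M) 0 := by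
      ext y
      rw [hM y]
      simp
    exact one_ne_zero (hbij.1 this)
  · obtain ⟨ψ, hψ⟩ := exists_hom_not_smul hdim x hxm hx
    let B : M →ₗ[R] Module.Dual R M →ₗ[R] R :=
      LinearMap.mk₂ R (fun y φ => ψ ⟨φ y, hm φ y⟩)
        (fun y y' φ => by
          rw [← map_add]; congr 1; exact Subtype.ext (map_add φ y y'))
        (fun c y φ => by
          rw [← map_smul]; congr 1; exact Subtype.ext (map_smul φ c y))
        (fun y φ φ' => by
          rw [← map_add]; congr 1)
        (fun c y φ => by
          rw [← map_smul]; congr 1)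
    let Ψ : Module.End R M := (Module.evalEquiv R M).symm.toLinearMap ∘ₗ B
    obtain ⟨r, hr⟩ := hbij.2 Ψ
    have key : ∀ (φ : Module.Dual R M) (y : M), ψ ⟨φ y, hm φ y⟩ = r * φ y := by
      intro φ y
      have h1 : Module.evalEquiv R M (Ψ y) = B y :=
        (Module.evalEquiv R M).apply_symm_apply _
      have h2 : φ (Ψ y) = B y φ := by rw [← h1]; rfl
      rw [← hr] at h2
      rw [Module.algebraMap_end_apply, map_smul, smul_eq_mul] at h2
      rw [h2]
      rfl
    -- the ideal where `ψ = r`
    let T : Ideal R := (LinearMap.eqLocus ψ (r • (maximalIdeal R).subtype)).map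
      (maximalIdeal R).subtype
    have hT : ∀ (φ : Module.Dual R M) (y : M), φ y ∈ T := by
      intro φ y
      refine ⟨⟨φ y, hm φ y⟩, ?_, rfl⟩
      change ψ ⟨φ y, hm φ y⟩ = (r • (maximalIdeal R).subtype) ⟨φ y, hm φ y⟩
      rw [key]
      rfl
    have hTnzd : ∃ t ∈ T, t ∈ nonZeroDivisors R := by
      by_contra hno
      push Not at hno
      obtain ⟨z, hz0, hz⟩ := exists_ann_of_forall_not_nzd T hno
      have hzM : ∀ y : M, z • y = 0 := by
        intro y
        apply eq_zero_of_forall_dual (R := R)
        intro φ
        rw [map_smul, smul_eq_mul, mul_comm]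
        exact hz _ (hT φ y)
      have : algebraMap R (Module.End R M) z = algebraMap R (Module.End R M) 0 := by
        ext y
        rw [Module.algebraMap_end_apply, hzM y]
        simp
      exact hz0 (hbij.1 this)
    obtain ⟨t, ⟨⟨t', ht'm⟩, ht', rfl⟩, htn⟩ := hTnzd
    have ht'' : ψ ⟨t', ht'm⟩ = r * t' := ht'
    apply hψ
    refine ⟨r, fun a => ?_⟩
    have h1 : (a : R) • (⟨t', ht'm⟩ : maximalIdeal R) = t' • a := by
      apply Subtype.ext
      simp [mul_comm]
    have h2 := congrArg ψ h1
    rw [map_smul, map_smul, ht'', smul_eq_mul, smul_eq_mul] at h2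
    have h3 : t' * ψ a = t' * (r * a) := by rw [← h2]; ring
    exact (mul_cancel_left_mem_nonZeroDivisors htn).mp h3

/-- the local case: a reflexive module with `End M = R` over a reduced Noetherian local ring of
dimension at most one is free of rank one -/
theorem nonempty_equiv_of_local (hdim : ringKrullDim R ≤ 1)
    (hbij : Function.Bijective (algebraMap R (Module.End R M))) :
    Nonempty (M ≃ₗ[R] R) := by
  obtain ⟨φ₀, x, hu⟩ := exists_isUnit_apply M hdim hbij
  obtain ⟨u, hu⟩ := hu
  let φ : Module.Dual R M := (↑u⁻¹ : R) • φ₀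
  have hφx : φ x = 1 := by
    change (↑u⁻¹ : R) • φ₀ x = 1
    rw [← hu, smul_eq_mul, Units.inv_mul]
  let π : Module.End R M := LinearMap.toSpanSingleton R M x ∘ₗ φ
  have hπ : ∀ y, π y = φ y • x := fun y => rfl
  obtain ⟨r, hr⟩ := hbij.2 π
  have hrr : r * r = r := by
    apply hbij.1
    rw [map_mul, hr]
    ext y
    rw [Module.End.mul_apply, hπ, hπ, map_smul, hφx, smul_eq_mul, mul_one]
  have hr1 : r = 1 := by
    by_cases hru : IsUnit r
    · exact (hru.mul_left_inj).mp (by rw [hrr, one_mul])
    · have h1r : IsUnit (1 - r) := by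
        rcases IsLocalRing.isUnit_or_isUnit_one_sub_self r with h | h
        · exact absurd h hru
        · exact h
      have h0 : r * (1 - r) = 0 := by rw [mul_sub, mul_one, hrr, sub_self]
      have hr0 : r = 0 := (h1r.mul_left_eq_zero).mp h0
      exfalso
      have : π x = 0 := by rw [← hr, hr0, map_zero, LinearMap.zero_apply]
      rw [hπ, hφx, one_smul] at this
      rw [this, map_zero] at hφx
      exact zero_ne_one hφx
  have hid : ∀ y, φ y • x = y := by
    intro y
    rw [← hπ, ← hr, hr1, map_one, Module.End.one_apply]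
  refine ⟨LinearEquiv.ofBijective φ ⟨?_, ?_⟩⟩
  · rw [← LinearMap.ker_eq_bot, eq_bot_iff]
    intro y hy
    rw [LinearMap.mem_ker] at hy
    rw [Submodule.mem_bot, ← hid y, hy, zero_smul]
  · intro a
    exact ⟨a • x, by rw [map_smul, hφx, smul_eq_mul, mul_one]⟩

end Main

section Global

variable (S : Type u) [CommRing S] [IsNoetherianRing S]
  (M : Type u) [AddCommGroup M] [Module S M] [Module.Finite S M]

/-- the localized `End` map -/
noncomputable abbrev L (P : Ideal S) [P.IsPrime] :
    Module.End S M →ₗ[S] Module.End (Localization.AtPrime P) (LocalizedModule P.primeCompl M) :=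
  LocalizedModule.map P.primeCompl (M := M) (N := M)

theorem L_algebraMap (P : Ideal S) [P.IsPrime] (s : S) :
    L S M P (algebraMap S (Module.End S M) s) =
      algebraMap (Localization.AtPrime P) _ (algebraMap S (Localization.AtPrime P) s) := by
  ext y
  induction y using LocalizedModule.induction_on with
  | h m t =>
    change LocalizedModule.map P.primeCompl (algebraMap S (Module.End S M) s)
      (LocalizedModule.mk m t) = _
    rw [LocalizedModule.map_mk, Module.algebraMap_end_apply, Module.algebraMap_end_apply,
      algebraMap_smul, LocalizedModule.smul'_mk]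

instance (P : Ideal S) [P.IsPrime] : IsLocalizedModule P.primeCompl (L S M P) := by
  haveI : Module.FinitePresentation S M := Module.finitePresentation_of_finite S M
  infer_instance

theorem bijective_localized (P : Ideal S) [P.IsPrime]
    (hbij : Function.Bijective (algebraMap S (Module.End S M))) :
    Function.Bijective (algebraMap (Localization.AtPrime P)
      (Module.End (Localization.AtPrime P) (LocalizedModule P.primeCompl M))) := by
  constructor
  · rw [injective_iff_map_eq_zero]
    intro a ha
    obtain ⟨s, t, rfl⟩ := IsLocalization.exists_mk'_eq P.primeCompl a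
    have h1 : algebraMap S (Localization.AtPrime P) s =
        algebraMap S (Localization.AtPrime P) t * IsLocalization.mk' _ s t := by
      rw [mul_comm, IsLocalization.mk'_spec]
    have h2 : L S M P (algebraMap S (Module.End S M) s) = L S M P 0 := by
      rw [L_algebraMap, h1, map_mul, ha, mul_zero, map_zero]
    obtain ⟨c, hc⟩ := IsLocalizedModule.exists_of_eq (S := P.primeCompl) (f := L S M P) h2
    have hc' : algebraMap S (Module.End S M) ((c : S) * s) = algebraMap S (Module.End S M) 0 := by
      rw [map_mul, map_zero, ← Algebra.smul_def]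
      rw [smul_zero, Submonoid.smul_def] at hc
      exact hc
    have h3 : (c : S) * s = 0 := hbij.1 hc'
    rw [IsLocalization.mk'_eq_zero_iff]
    exact ⟨c, h3⟩
  · intro g
    obtain ⟨⟨f, t⟩, hft⟩ := IsLocalizedModule.surj P.primeCompl (L S M P) g
    obtain ⟨s, rfl⟩ := hbij.2 f
    refine ⟨IsLocalization.mk' _ s t, ?_⟩
    have htu : IsUnit (algebraMap S (Localization.AtPrime P) t) :=
      IsLocalization.map_units _ t
    ext y
    have h1 : (t : S) • g y = algebraMap S (Localization.AtPrime P) s • y := by
      have := LinearMap.congr_fun hft y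
      rw [L_algebraMap] at this
      exact this
    rw [Module.algebraMap_end_apply]
    have h2 : algebraMap S (Localization.AtPrime P) t • (IsLocalization.mk' (Localization.AtPrime P) s t • y) =
        algebraMap S (Localization.AtPrime P) t • g y := by
      rw [algebraMap_smul (Localization.AtPrime P) (t : S) (g y), h1, ← mul_smul,
        IsLocalization.mk'_spec']
    exact (htu.smul_left_cancel).mp h2

theorem dim_localization_le (hdim : ringKrullDim S ≤ 1) (P : Ideal S) [P.IsPrime] :
    ringKrullDim (Localization.AtPrime P) ≤ 1 := by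
  rw [IsLocalization.AtPrime.ringKrullDim_eq_height P (Localization.AtPrime P)]
  exact (Ideal.height_le_ringKrullDim_of_ne_top Ideal.IsPrime.ne_top').trans hdim

theorem locallyFree_of_bijective [IsReduced S] (hdim : ringKrullDim S ≤ 1)
    [Module.IsReflexive S M]
    (hbij : Function.Bijective (algebraMap S (Module.End S M))) (P : Ideal S) [P.IsPrime] :
    Nonempty (LocalizedModule P.primeCompl M ≃ₗ[Localization.AtPrime P] Localization.AtPrime P) := by
  haveI : Module.IsReflexive (Localization.AtPrime P) (LocalizedModule P.primeCompl M) :=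
    Groth.Agent.Lib.Helper85.Reflexive.isReflexive_localization P M
  exact nonempty_equiv_of_local (R := Localization.AtPrime P) (LocalizedModule P.primeCompl M)
    (dim_localization_le S hdim P) (bijective_localized S M P hbij)

/-- endomorphisms of a free module of rank one are scalars -/
theorem end_eq_smul_of_equiv {R : Type u} [CommRing R] {N : Type u} [AddCommGroup N] [Module R N]
    (e : N ≃ₗ[R] R) (g : Module.End R N) : ∀ y, g y = e (g (e.symm 1)) • y := by
  intro y
  have hy : y = e y • e.symm 1 := by
    apply e.injective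
    rw [map_smul, e.apply_symm_apply, smul_eq_mul, mul_one]
  have hg : g (e.symm 1) = e (g (e.symm 1)) • e.symm 1 := by
    apply e.injective
    rw [map_smul, e.apply_symm_apply, smul_eq_mul, mul_one]
  conv_lhs => rw [hy, map_smul, hg]
  conv_rhs => rw [hy]
  rw [smul_smul, smul_smul, mul_comm]

theorem bijective_of_locallyFree
    (h : ∀ (P : Ideal S) (_ : P.IsPrime),
      Nonempty (LocalizedModule P.primeCompl M ≃ₗ[Localization.AtPrime P] Localization.AtPrime P)) :
    Function.Bijective (algebraMap S (Module.End S M)) := by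
  constructor
  · rw [injective_iff_map_eq_zero]
    intro s hs
    apply eq_zero_of_localization
    intro J hJ
    haveI := hJ.isPrime
    obtain ⟨e⟩ := h J hJ.isPrime
    have h1 : algebraMap (Localization.AtPrime J)
        (Module.End (Localization.AtPrime J) (LocalizedModule J.primeCompl M))
        (algebraMap S (Localization.AtPrime J) s) = 0 := by
      rw [← L_algebraMap, hs, map_zero]
    have h2 := LinearMap.congr_fun h1 (e.symm 1)
    rw [Module.algebraMap_end_apply, LinearMap.zero_apply] at h2
    have h3 := congrArg e h2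
    rw [map_smul, e.apply_symm_apply, smul_eq_mul, mul_one, map_zero] at h3
    exact h3
  · intro f
    let I : Ideal S :=
      { carrier := {s | ∃ r, s • f = algebraMap S (Module.End S M) r}
        add_mem' := by
          rintro a b ⟨r, hr⟩ ⟨r', hr'⟩
          exact ⟨r + r', by rw [add_smul, hr, hr', map_add]⟩
        zero_mem' := ⟨0, by rw [zero_smul, map_zero]⟩
        smul_mem' := by
          rintro c a ⟨r, hr⟩
          exact ⟨c * r, by rw [smul_eq_mul, mul_smul, hr, map_mul, Algebra.smul_def]⟩ }
    have hI : I = ⊤ := by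
      by_contra hne
      obtain ⟨P, hP, hIP⟩ := Ideal.exists_le_maximal I hne
      haveI := hP.isPrime
      obtain ⟨e⟩ := h P hP.isPrime
      obtain ⟨s, t, hst⟩ := IsLocalization.exists_mk'_eq P.primeCompl
        (e ((L S M P f) (e.symm 1)))
      have h1 : (t : S) • L S M P f = L S M P (algebraMap S (Module.End S M) s) := by
        rw [L_algebraMap]
        ext y
        rw [LinearMap.smul_apply, Module.algebraMap_end_apply, end_eq_smul_of_equiv e (L S M P f) y,
          ← hst, ← algebraMap_smul (Localization.AtPrime P) (t : S), ← mul_smul,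
          IsLocalization.mk'_spec']
      rw [← map_smul] at h1
      obtain ⟨c, hc⟩ := IsLocalizedModule.exists_of_eq (S := P.primeCompl) (f := L S M P) h1
      have hmem : (c : S) * t ∈ I := by
        refine ⟨c * s, ?_⟩
        rw [mul_smul, map_mul, ← Algebra.smul_def]
        exact hc
      have := hIP hmem
      rcases Ideal.IsPrime.mem_or_mem ‹P.IsPrime› this with h' | h'
      · exact c.2 h'
      · exact t.2 h'
    have h1 : (1 : S) ∈ I := by rw [hI]; trivial
    obtain ⟨r, hr⟩ := h1
    exact ⟨r, by rw [← hr, one_smul]⟩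

theorem main (S : Type u) [CommRing S]
    [IsReduced S] [LocCoh.IsGorensteinRing S] (hdim : ringKrullDim S ≤ 1)
    (M : Type u) [AddCommGroup M] [Module S M] [Module.Finite S M] [Module.IsReflexive S M] :
    (∀ (P : Ideal S) (_ : P.IsPrime),
        Nonempty (LocalizedModule P.primeCompl M ≃ₗ[Localization.AtPrime P] Localization.AtPrime P)) ↔
      Function.Bijective (algebraMap S (Module.End S M)) := by
  constructor
  · exact bijective_of_locallyFree S M
  · intro hbij P hP
    haveI := hP
    exact locallyFree_of_bijective S M hdim hbij P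

end Global

end Groth.Agent.Lib.Helper77.ReflRank1
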