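import Groth.Agent.S0393
import Groth.Agent.Lib.Helper67.Depth2
import Groth.Agent.Lib.Helper4.GorCM
import Mathlib.RingTheory.Regular.Flat

/-!
# Depth along flat local homomorphisms (helper77)

`depth_eq_add`: `A → B` local hom of Noetherian local rings, `N` a finite `B`-module flat over `A`:
`depth_B N = depth A + depth_B (N / m_A N)`.
-/
universe u
set_option autoImplicit false
open IsLocalRing LocCoh RingTheory.Sequence TensorProduct
open scoped Pointwise

namespace Groth.Agent.Lib.Helper77.FlatDepth
open Groth.Agent.Lib.Helper67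


section
variable {A B : Type u} [CommRing A] [CommRing B] [Algebra A B]
variable (N : Type u) [AddCommGroup N] [Module A N] [Module B N] [IsScalarTower A B N]

/-- membership in `(I B) N` via the tensor product with `A/I` -/
theorem mem_map_smul_top_iff (I : Ideal A) (n : N) :
    n ∈ (I.map (algebraMap A B)) • (⊤ : Submodule B N) ↔
      TensorProduct.mk A (A ⧸ I) N 1 n = 0 := by
  rw [← LinearMap.mem_ker, LinearMap.ker_tensorProductMk]
  have h := Ideal.smul_restrictScalars (R := A) (S := B) (M := N) I (⊤ : Submodule B N)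
  rw [Submodule.restrictScalars_top] at h
  rw [← h]
  rfl

end

section
variable {A B : Type u} [CommRing A] [CommRing B] [IsLocalRing A] [IsLocalRing B]
  [IsNoetherianRing B] [Algebra A B] [IsLocalHom (algebraMap A B)]
variable (N : Type u) [AddCommGroup N] [Module A N] [Module B N] [IsScalarTower A B N]
  [Module.Finite B N] [Module.Flat A N]

/-- An element regular on the closed fibre `N/m_A N` of an `A`-flat finite `B`-module `N`
is regular on `N`, and the quotient stays `A`-flat. -/
theorem regular_of_regular_fib (y : B)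
    (hy : IsSMulRegular (N ⧸ ((maximalIdeal A).map (algebraMap A B)) • (⊤ : Submodule B N)) y) :
    IsSMulRegular N y ∧ Module.Flat A (QuotSMulTop y N) := by
  set u : N →ₗ[A] N := (LinearMap.lsmul B N y).restrictScalars A with hu
  have h : Function.Injective (LinearMap.lTensor (IsLocalRing.ResidueField A) u) := by
    rw [injective_iff_map_eq_zero]
    intro z hz
    obtain ⟨n, rfl⟩ := TensorProduct.mk_surjective A N (A ⧸ maximalIdeal A)
      Ideal.Quotient.mk_surjective z
    have h1 : TensorProduct.mk A (A ⧸ maximalIdeal A) N 1 (y • n) = 0 := hz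
    rw [← mem_map_smul_top_iff (B := B)] at h1
    have h2 : y • (Submodule.Quotient.mk n :
        N ⧸ ((maximalIdeal A).map (algebraMap A B)) • (⊤ : Submodule B N)) = 0 := by
      rw [← Submodule.Quotient.mk_smul]
      exact (Submodule.Quotient.mk_eq_zero _).mpr h1
    have h3 : (Submodule.Quotient.mk n :
        N ⧸ ((maximalIdeal A).map (algebraMap A B)) • (⊤ : Submodule B N)) = 0 :=
      hy (by show y • _ = y • 0; rw [smul_zero]; exact h2)
    rw [Submodule.Quotient.mk_eq_zero] at h3
    exact (mem_map_smul_top_iff (B := B) N _ n).mp h3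
  obtain ⟨hinj, hflat⟩ := Groth.Agent.S0393.result (R := A) (S := B) u h
  refine ⟨hinj, ?_⟩
  have hrange : LinearMap.range u = (y • (⊤ : Submodule B N)).restrictScalars A := by
    ext x
    simp only [LinearMap.mem_range, Submodule.restrictScalars_mem, Submodule.mem_smul_pointwise_iff_exists,
      Submodule.mem_top, true_and]
    rfl
  exact Module.Flat.of_linearEquiv
    ((Submodule.quotEquivOfEq _ _ hrange).trans
      (Submodule.Quotient.restrictScalarsEquiv A (y • (⊤ : Submodule B N)))).symm

end



section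
variable {B : Type u} [CommRing B] (I : Ideal B) (y : B) (N : Type u) [AddCommGroup N] [Module B N]

theorem smul_top_quot_eq_map (S : Submodule B N) :
    I • (⊤ : Submodule B (N ⧸ S)) = (I • (⊤ : Submodule B N)).map S.mkQ := by
  rw [Submodule.map_smul'', Submodule.map_top, Submodule.range_mkQ]

theorem pointwise_smul_top_quot_eq_map (S : Submodule B N) :
    y • (⊤ : Submodule B (N ⧸ S)) = (y • (⊤ : Submodule B N)).map S.mkQ := by
  rw [Submodule.map_pointwise_smul, Submodule.map_top, Submodule.range_mkQ]

/-- `(N/yN)/I(N/yN) ≃ (N/IN)/y(N/IN)` -/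
noncomputable def fibQuotEquiv :
    ((QuotSMulTop y N) ⧸ I • (⊤ : Submodule B (QuotSMulTop y N))) ≃ₗ[B]
      QuotSMulTop y (N ⧸ I • (⊤ : Submodule B N)) :=
  (Submodule.quotEquivOfEq _ _ (smul_top_quot_eq_map I N (y • ⊤))) ≪≫ₗ
    Submodule.quotientQuotientEquivQuotientSup (y • (⊤ : Submodule B N)) (I • ⊤) ≪≫ₗ
    Submodule.quotEquivOfEq _ _ (sup_comm _ _) ≪≫ₗ
    (Submodule.quotientQuotientEquivQuotientSup (I • (⊤ : Submodule B N)) (y • ⊤)).symm ≪≫ₗ
    (Submodule.quotEquivOfEq _ _ (pointwise_smul_top_quot_eq_map y N (I • ⊤))).symm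

end



section
variable {A B : Type u} [CommRing A] [CommRing B] [Algebra A B]
variable (N : Type u) [AddCommGroup N] [Module A N] [Module B N] [IsScalarTower A B N]

theorem mem_map_smul_top_iff' (I : Ideal A) (n : N) :
    n ∈ (I.map (algebraMap A B)) • (⊤ : Submodule B N) ↔ n ∈ I • (⊤ : Submodule A N) := by
  have h := Ideal.smul_restrictScalars (R := A) (S := B) (M := N) I (⊤ : Submodule B N)
  rw [Submodule.restrictScalars_top] at h
  rw [← h]
  rfl

/-- flatness: if `ι : A/I → A/J` is injective with `ι 1 = [a]`, then `a n ∈ J N ⟹ n ∈ I N`. -/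
theorem mem_smul_top_of_smul_mem [Module.Flat A N] (I J : Ideal A) (ι : (A ⧸ I) →ₗ[A] (A ⧸ J))
    (hι : Function.Injective ι) (a : A) (ha : ι 1 = Ideal.Quotient.mk J a)
    (n : N) (hn : a • n ∈ J • (⊤ : Submodule A N)) : n ∈ I • (⊤ : Submodule A N) := by
  have hinj := Module.Flat.rTensor_preserves_injective_linearMap (M := N) ι hι
  rw [← LinearMap.ker_tensorProductMk (Q := N) (I := I), LinearMap.mem_ker]
  apply hinj
  rw [map_zero]
  show (ι.rTensor N) ((1 : A ⧸ I) ⊗ₜ[A] n) = 0
  rw [LinearMap.rTensor_tmul, ha]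
  have h1 : (Ideal.Quotient.mk J a) ⊗ₜ[A] n = TensorProduct.mk A (A ⧸ J) N 1 (a • n) := by
    show _ = (1 : A ⧸ J) ⊗ₜ[A] (a • n)
    rw [TensorProduct.tmul_smul, TensorProduct.smul_tmul']
    congr 1
    rw [Algebra.smul_def, mul_one]
    rfl
  rw [h1, ← LinearMap.mem_ker, LinearMap.ker_tensorProductMk]
  exact hn

end

section Base
variable {A B : Type u} [CommRing A] [CommRing B] [IsLocalRing A] [IsLocalRing B]
  [IsNoetherianRing A] [IsNoetherianRing B] [Algebra A B] [IsLocalHom (algebraMap A B)]
variable (N : Type u) [AddCommGroup N] [Module A N] [Module B N] [IsScalarTower A B N]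
  [Module.Finite B N] [Module.Flat A N] [Nontrivial N]

omit [IsNoetherianRing A] [IsNoetherianRing B] [Module.Finite B N] [Module.Flat A N] [Nontrivial N] in
theorem algebraMap_mem_maximalIdeal {a : A} (ha : a ∈ maximalIdeal A) :
    algebraMap A B a ∈ maximalIdeal B := by
  rw [mem_maximalIdeal] at ha ⊢
  exact (map_mem_nonunits_iff (algebraMap A B) a).mpr ha

/-- Base case: if the closed fibre `N/m_A N` has depth zero over `B` then
`depth_B N = depth A`. -/
theorem depth_eq_of_fib_depth_zero
    (h0 : depth B (N ⧸ ((maximalIdeal A).map (algebraMap A B)) • (⊤ : Submodule B N)) = 0) :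
    depth B N = depth A A := by
  have hA : maximalIdeal A • (⊤ : Submodule A A) ≠ ⊤ := maximalIdeal_smul_top_ne_top A
  obtain ⟨x, -, hxreg, hxmem, hxmax⟩ := exists_maximal_extension (maximalIdeal A) A hA []
    (IsWeaklyRegular.nil A A) (by simp)
  have hlen := length_eq_idealDepth_of_maximal (maximalIdeal A) A hA x hxreg hxmem hxmax
  have h0A : idealDepth (maximalIdeal A) (A ⧸ Ideal.ofList x • (⊤ : Submodule A A)) = 0 := by
    rw [idealDepth_eq_zero_iff_forall]
    refine ⟨smul_top_quot_ofList_ne_top (maximalIdeal A) hA x hxmem, fun r hr hcon => ?_⟩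
    exact hxmax r hr ((isWeaklyRegular_append_singleton_iff A x r).mpr ⟨hxreg, hcon⟩)
  have hJ : (Ideal.ofList x • (⊤ : Submodule A A)) = Ideal.ofList x := by simp
  have h0A' : depth A (A ⧸ Ideal.ofList x) = 0 := by
    unfold depth
    rw [← h0A]
    exact idealDepth_congr _ (Submodule.quotEquivOfEq _ _ hJ.symm)
  have hass : maximalIdeal A ∈ associatedPrimes A (A ⧸ Ideal.ofList x) :=
    (depth_eq_zero_iff _).mp h0A'
  obtain ⟨-, ι, hι⟩ := (isAssociatedPrime_iff_exists_injective_linearMap _ _).mp hass
  obtain ⟨a, ha⟩ := Ideal.Quotient.mk_surjective (ι 1)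
  -- the sequence on N
  have hregN : IsWeaklyRegular N x :=
    ((TensorProduct.lid A N).isWeaklyRegular_congr x).mp (hxreg.isWeaklyRegular_rTensor (M₂ := N))
  have hregN' : IsWeaklyRegular N (x.map (algebraMap A B)) :=
    (isWeaklyRegular_map_algebraMap_iff B N x).mpr hregN
  have hmem' : ∀ r ∈ x.map (algebraMap A B), r ∈ maximalIdeal B := by
    intro r hr
    obtain ⟨a', ha', rfl⟩ := List.mem_map.mp hr
    exact algebraMap_mem_maximalIdeal (hxmem a' ha')
  have hBN : maximalIdeal B • (⊤ : Submodule B N) ≠ ⊤ := maximalIdeal_smul_top_ne_top N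
  have h1 := idealDepth_quot_ofList_add_length (maximalIdeal B) (x.map (algebraMap A B)) N hBN
    hregN' hmem'
  -- the B-linear injection Fib N → N / x N
  have hF1 : ((maximalIdeal A).map (algebraMap A B)) • (⊤ : Submodule B N) ≤
      (Ideal.ofList (x.map (algebraMap A B)) • (⊤ : Submodule B N)).comap
        (algebraMap A B a • (LinearMap.id : N →ₗ[B] N)) := by
    intro t ht
    rw [Submodule.mem_comap, ← Ideal.map_ofList, mem_map_smul_top_iff']
    rw [mem_map_smul_top_iff'] at ht
    show algebraMap A B a • t ∈ _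
    rw [algebraMap_smul]
    refine Submodule.smul_induction_on ht ?_ ?_
    · intro m hm n _
      rw [smul_smul]
      refine Submodule.smul_mem_smul ?_ Submodule.mem_top
      have h2 : ι (Ideal.Quotient.mk _ m) = 0 := by
        rw [Ideal.Quotient.eq_zero_iff_mem.mpr hm, map_zero]
      have h3 : ι (Ideal.Quotient.mk _ m) = Ideal.Quotient.mk _ (m * a) := by
        have : (Ideal.Quotient.mk (maximalIdeal A) m) = m • (1 : A ⧸ maximalIdeal A) := by
          rw [Algebra.smul_def, mul_one]; rfl
        rw [this, map_smul, ← ha, Algebra.smul_def]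
        rw [map_mul]; rfl
      rw [h3] at h2
      rw [mul_comm]
      exact Ideal.Quotient.eq_zero_iff_mem.mp h2
    · intro t1 t2 h1 h2
      rw [smul_add]
      exact Submodule.add_mem _ h1 h2
  let φ : (N ⧸ ((maximalIdeal A).map (algebraMap A B)) • (⊤ : Submodule B N)) →ₗ[B]
      (N ⧸ Ideal.ofList (x.map (algebraMap A B)) • (⊤ : Submodule B N)) :=
    Submodule.mapQ _ _ (algebraMap A B a • (LinearMap.id : N →ₗ[B] N)) hF1
  have hφ : Function.Injective φ := by
    rw [injective_iff_map_eq_zero]
    intro w hw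
    obtain ⟨n, rfl⟩ := Submodule.Quotient.mk_surjective _ w
    have h2 : algebraMap A B a • n ∈ Ideal.ofList (x.map (algebraMap A B)) • (⊤ : Submodule B N) :=
      (Submodule.Quotient.mk_eq_zero _).mp hw
    rw [← Ideal.map_ofList, mem_map_smul_top_iff', algebraMap_smul] at h2
    rw [Submodule.Quotient.mk_eq_zero, mem_map_smul_top_iff']
    exact mem_smul_top_of_smul_mem N (maximalIdeal A) (Ideal.ofList x) ι hι a ha.symm n h2
  have hassF : maximalIdeal B ∈ associatedPrimes B
      (N ⧸ ((maximalIdeal A).map (algebraMap A B)) • (⊤ : Submodule B N)) :=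
    (depth_eq_zero_iff _).mp h0
  have hassQ := associatedPrimes.subset_of_injective hφ hassF
  have h0Q : idealDepth (maximalIdeal B)
      (N ⧸ Ideal.ofList (x.map (algebraMap A B)) • (⊤ : Submodule B N)) = 0 :=
    (depth_eq_zero_iff _).mpr hassQ
  rw [h0Q, zero_add, List.length_map] at h1
  unfold depth
  rw [← h1, hlen]

end Base
section Main
variable {A B : Type u} [CommRing A] [CommRing B] [IsLocalRing A] [IsLocalRing B]
  [IsNoetherianRing A] [IsNoetherianRing B] [Algebra A B] [IsLocalHom (algebraMap A B)]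

theorem enat_cancel (d : ℕ∞) (s : ℕ) (h : d + 1 = ((s + 1 : ℕ) : ℕ∞)) : d = s := by
  induction d using ENat.recTopCoe with
  | top =>
    exfalso
    rw [top_add] at h
    exact ENat.natCast_ne_top _ h.symm
  | coe k =>
    norm_cast at h ⊢
    omega

omit [IsNoetherianRing A] [IsNoetherianRing B] in
theorem map_maximalIdeal_le : (maximalIdeal A).map (algebraMap A B) ≤ maximalIdeal B := by
  rw [Ideal.map_le_iff_le_comap]
  intro a ha
  exact algebraMap_mem_maximalIdeal ha

omit [IsNoetherianRing A] [IsNoetherianRing B] in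
theorem fib_nontrivial (N : Type u) [AddCommGroup N] [Module B N] [Module.Finite B N]
    [Nontrivial N] :
    Nontrivial (N ⧸ ((maximalIdeal A).map (algebraMap A B)) • (⊤ : Submodule B N)) := by
  apply Submodule.Quotient.nontrivial_iff.mpr
  intro htop
  have hle : ((maximalIdeal A).map (algebraMap A B)) • (⊤ : Submodule B N) ≤
      maximalIdeal B • ⊤ := Submodule.smul_mono_left map_maximalIdeal_le
  rw [htop] at hle
  exact maximalIdeal_smul_top_ne_top N (top_le_iff.mp hle)

theorem depth_eq_add_aux (s : ℕ) : ∀ (N : Type u) [AddCommGroup N] [Module A N] [Module B N]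
    [IsScalarTower A B N] [Module.Finite B N] [Module.Flat A N] [Nontrivial N],
    depth B (N ⧸ ((maximalIdeal A).map (algebraMap A B)) • (⊤ : Submodule B N)) = s →
    depth B N = depth A A + s := by
  induction s with
  | zero =>
    intro N _ _ _ _ _ _ _ h
    rw [depth_eq_of_fib_depth_zero N (by simpa using h)]
    simp
  | succ s ih =>
    intro N _ _ _ _ _ _ _ h
    have hFnt := fib_nontrivial (A := A) (B := B) N
    have hBF := maximalIdeal_smul_top_ne_top (R := B)
      (N ⧸ ((maximalIdeal A).map (algebraMap A B)) • (⊤ : Submodule B N))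
    have h1 : (1 : ℕ∞) ≤ idealDepth (maximalIdeal B)
        (N ⧸ ((maximalIdeal A).map (algebraMap A B)) • (⊤ : Submodule B N)) := by
      unfold depth at h
      rw [h]
      exact_mod_cast Nat.succ_le_succ (Nat.zero_le s)
    rcases (one_le_idealDepth_iff _ _).mp h1 with htop | ⟨y, hym, hy⟩
    · exact absurd htop hBF
    obtain ⟨hyN, hflat⟩ := regular_of_regular_fib N y hy
    have hBN := maximalIdeal_smul_top_ne_top (R := B) N
    have hN'nt : Nontrivial (QuotSMulTop y N) := by
      apply Submodule.Quotient.nontrivial_iff.mpr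
      intro htop
      have hle : y • (⊤ : Submodule B N) ≤ maximalIdeal B • ⊤ := by
        rw [← Submodule.ideal_span_singleton_smul]
        exact Submodule.smul_mono_left ((Ideal.span_singleton_le_iff_mem _).mpr hym)
      rw [htop] at hle
      exact hBN (top_le_iff.mp hle)
    have hdF := idealDepth_quotSMulTop_add_one (maximalIdeal B) _ hBF y hym hy
    have hdN := idealDepth_quotSMulTop_add_one (maximalIdeal B) N hBN y hym hyN
    have hfib : depth B ((QuotSMulTop y N) ⧸ ((maximalIdeal A).map (algebraMap A B)) •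
        (⊤ : Submodule B (QuotSMulTop y N))) = s := by
      unfold depth at h ⊢
      rw [idealDepth_congr _ (fibQuotEquiv ((maximalIdeal A).map (algebraMap A B)) y N)]
      rw [h] at hdF
      exact enat_cancel _ s hdF
    have h2 := ih (QuotSMulTop y N) hfib
    unfold depth at h2 ⊢
    rw [← hdN, h2]
    push_cast
    ring

/-- **Depth formula for flat local homomorphisms (module form).** -/
theorem depth_eq_add (N : Type u) [AddCommGroup N] [Module A N] [Module B N]
    [IsScalarTower A B N] [Module.Finite B N] [Module.Flat A N] [Nontrivial N] :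
    depth B N = depth A A +
      depth B (N ⧸ ((maximalIdeal A).map (algebraMap A B)) • (⊤ : Submodule B N)) := by
  have hFnt := fib_nontrivial (A := A) (B := B) N
  have hne := depth_ne_top (R := B)
    (N ⧸ ((maximalIdeal A).map (algebraMap A B)) • (⊤ : Submodule B N))
  obtain ⟨s, hs⟩ := ENat.ne_top_iff_exists.mp hne
  rw [depth_eq_add_aux s N hs.symm, ← hs]

end Main

end Groth.Agent.Lib.Helper77.FlatDepth
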