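import Groth.Agent.Lib.Helper49.FSRegular2
import Mathlib.RingTheory.LocalRing.Length
import Mathlib.RingTheory.Smooth.Basic
universe u v
set_option autoImplicit false
open IsLocalRing TensorProduct

/-!
# Flat formally smooth maps of Artinian local rings preserve length (helper77)
-/
namespace Groth.Agent.Lib.Helper77.ArtinSmoothLength

/-- `B` formally smooth over `A`, `I` an ideal of `A`, `k` a ring through which `A → B/IB`
factors, with `A → k` surjective and killing `I`: then `B/IB` has the lifting property over `k`. -/
theorem lift_quot (A : Type u) (B : Type v) [CommRing A] [CommRing B] [Algebra A B]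
    [Algebra.FormallySmooth A B] (I : Ideal A)
    (k : Type v) [CommRing k] [Algebra k (B ⧸ I.map (algebraMap A B))]
    (π : A →+* k) (hπ : Function.Surjective π) (hI : I ≤ RingHom.ker π)
    (hcomp : ∀ a, algebraMap k (B ⧸ I.map (algebraMap A B)) (π a) =
      Ideal.Quotient.mk _ (algebraMap A B a))
    (n : Ideal (B ⧸ I.map (algebraMap A B))) :
    CAlgX.IsAdicFormallySmooth k (B ⧸ I.map (algebraMap A B)) n := by
  intro A' _ _ J hJ ψ _
  letI : Algebra A A' := ((algebraMap k A').comp π).toAlgebra
  have halg : ∀ a, algebraMap A A' a = algebraMap k A' (π a) := fun a => rfl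
  let ψB : B →ₐ[A] A' ⧸ J :=
    { toRingHom := ψ.toRingHom.comp (Ideal.Quotient.mk (I.map (algebraMap A B)))
      commutes' := fun a => by
        change ψ (Ideal.Quotient.mk _ (algebraMap A B a)) = _
        rw [← hcomp, ψ.commutes]
        rfl }
  obtain ⟨χB, hχB⟩ := Algebra.FormallySmooth.comp_surjective A B J hJ ψB
  have hkill : I.map (algebraMap A B) ≤ RingHom.ker χB.toRingHom := by
    rw [Ideal.map_le_iff_le_comap]
    intro a ha
    rw [Ideal.mem_comap, RingHom.mem_ker]
    change χB (algebraMap A B a) = 0
    rw [χB.commutes, halg, RingHom.mem_ker.mp (hI ha), map_zero]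
  let χ : (B ⧸ I.map (algebraMap A B)) →ₐ[k] A' :=
    { toRingHom := Ideal.Quotient.lift (I.map (algebraMap A B)) χB.toRingHom
        (fun b hb => RingHom.mem_ker.mp (hkill hb))
      commutes' := fun x => by
        obtain ⟨a, rfl⟩ := hπ x
        rw [hcomp]
        change Ideal.Quotient.lift _ χB.toRingHom _ (Ideal.Quotient.mk _ (algebraMap A B a)) = _
        rw [Ideal.Quotient.lift_mk]
        change χB (algebraMap A B a) = _
        rw [χB.commutes, halg] }
  refine ⟨χ, ?_⟩
  apply AlgHom.ext
  intro c
  obtain ⟨b, rfl⟩ := Ideal.Quotient.mk_surjective c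
  have h1 := AlgHom.congr_fun hχB b
  change Ideal.Quotient.mk J (χB b) = ψ (Ideal.Quotient.mk _ b) at h1
  have hχ : χ (Ideal.Quotient.mk _ b) = χB b := rfl
  change Ideal.Quotient.mk J (χ (Ideal.Quotient.mk _ b)) = _
  rw [hχ]
  exact h1

/-- a ring map out of an Artinian local ring into a nontrivial ring is local -/
theorem isLocalHom_of_artinian (A : Type u) (B : Type v) [CommRing A] [CommRing B]
    [IsLocalRing A] [Nontrivial B] [IsArtinianRing A] (f : A →+* B) : IsLocalHom f := by
  constructor
  intro a ha
  by_contra hna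
  have hmem : a ∈ maximalIdeal A := (IsLocalRing.mem_maximalIdeal a).mpr hna
  have hnil : IsNilpotent (maximalIdeal A) := by
    rw [← IsLocalRing.jacobson_eq_maximalIdeal (⊥ : Ideal A) bot_ne_top]
    exact IsArtinianRing.isNilpotent_jacobson_bot
  obtain ⟨n, hn⟩ := hnil
  have han : a ^ n = 0 := by
    have : a ^ n ∈ maximalIdeal A ^ n := Ideal.pow_mem_pow hmem n
    rw [hn] at this
    exact this
  have hfn : IsNilpotent (f a) := ⟨n, by rw [← map_pow, han, map_zero]⟩
  exact hfn.not_isUnit ha

/-- a regular local ring which is Artinian is a field -/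
theorem isField_of_regular_of_artinian (C : Type v) [CommRing C] [IsRegularLocalRing C]
    [IsArtinianRing C] : IsField C := by
  have h := IsRegularLocalRing.spanFinrank_maximalIdeal (R := C)
  have h0 : ringKrullDim C = 0 := ringKrullDimZero_iff_ringKrullDim_eq_zero.mp inferInstance
  rw [h0] at h
  have h1 : (maximalIdeal C).spanFinrank = 0 := by exact_mod_cast h
  have h2 : maximalIdeal C = ⊥ :=
    (Submodule.spanFinrank_eq_zero_iff_eq_bot (IsNoetherian.noetherian _)).mp h1
  exact IsLocalRing.isField_iff_maximalIdeal_eq.mpr h2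

/-- for a formally smooth local map from a local ring to an Artinian local ring the closed
fibre is a field -/
theorem isField_quot (A : Type u) (B : Type v) [CommRing A] [CommRing B]
    [IsLocalRing A] [IsLocalRing B] [IsArtinianRing B] [Algebra A B]
    [IsLocalHom (algebraMap A B)] [Algebra.FormallySmooth A B] :
    IsField (B ⧸ (maximalIdeal A).map (algebraMap A B)) := by
  have hle : (maximalIdeal A).map (algebraMap A B) ≤ maximalIdeal B :=
    ((local_hom_TFAE (algebraMap A B)).out 0 2 rfl rfl).mp ‹_›
  have hnt : Nontrivial (B ⧸ (maximalIdeal A).map (algebraMap A B)) :=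
    Ideal.Quotient.nontrivial_iff.mpr
      (ne_top_of_le_ne_top (maximalIdeal.isMaximal B).ne_top hle)
  have hlocC : IsLocalRing (B ⧸ (maximalIdeal A).map (algebraMap A B)) :=
    .of_surjective' _ Ideal.Quotient.mk_surjective
  let φ : A →+* (B ⧸ (maximalIdeal A).map (algebraMap A B)) := algebraMap A _
  have hφ : ∀ a, φ a = Ideal.Quotient.mk _ (algebraMap A B a) := fun a => rfl
  have hker : ∀ a ∈ maximalIdeal A, φ a = 0 := fun a ha => by
    rw [hφ]; exact Ideal.Quotient.eq_zero_iff_mem.mpr (Ideal.mem_map_of_mem _ ha)
  have hF : IsField φ.range := by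
    refine { exists_pair_ne := ⟨0, 1, zero_ne_one⟩, mul_comm := mul_comm, mul_inv_cancel := ?_ }
    rintro ⟨x, a, rfl⟩ hx
    have ha : IsUnit a := by
      by_contra hna
      apply hx
      apply Subtype.ext
      exact hker a ((mem_maximalIdeal a).mpr hna)
    obtain ⟨b, hab⟩ := ha.exists_right_inv
    exact ⟨⟨φ b, b, rfl⟩, Subtype.ext (by change φ a * φ b = 1; rw [← map_mul, hab, map_one])⟩
  letI : Field φ.range := hF.toField
  letI : Algebra φ.range (B ⧸ (maximalIdeal A).map (algebraMap A B)) :=
    φ.range.subtype.toAlgebra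
  have hsm := lift_quot A B (maximalIdeal A) φ.range φ.rangeRestrict φ.rangeRestrict_surjective
    (fun a ha => by rw [RingHom.mem_ker]; apply Subtype.ext; exact hker a ha) (fun a => rfl)
    (maximalIdeal _)
  have hreg := (Groth.Agent.Lib.Helper49.FSRegular.isRegularLocalRing_of_isAdicFormallySmooth_field
    hsm).1
  exact isField_of_regular_of_artinian _

theorem main (A : Type u) (B : Type v) [CommRing A] [CommRing B]
    [IsLocalRing A] [IsLocalRing B] [IsArtinianRing A] [IsArtinianRing B] [Algebra A B]
    [Module.Flat A B] [Algebra.FormallySmooth A B] :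
    Module.length A A = Module.length B B := by
  have hloc : IsLocalHom (algebraMap A B) := isLocalHom_of_artinian A B _
  have h1 := IsLocalRing.length_baseChange (A := A) (B := B) (M := A)
  have h2 : Module.length B (B ⊗[A] A) = Module.length B B :=
    (AlgebraTensorModule.rid A B B).length_eq
  have hF := isField_quot A B
  have hmax : ((maximalIdeal A).map (algebraMap A B)).IsMaximal :=
    Ideal.Quotient.maximal_of_isField _ hF
  have h3 : Module.length B (B ⧸ (maximalIdeal A).map (algebraMap A B)) = 1 := by
    rw [Module.length_eq_one_iff, isSimpleModule_iff_isCoatom]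
    exact Ideal.isMaximal_def.mp hmax
  rw [h2, h3, mul_one] at h1
  exact h1.symm

end Groth.Agent.Lib.Helper77.ArtinSmoothLength
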