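import Mathlib

/-!
# A criterion for invertibility of a module (helper77)
-/
set_option autoImplicit false
universe u v
open TensorProduct

namespace Groth.Agent.Lib.Helper77.Frob4

variable {B : Type u} {M : Type v} [CommRing B] [AddCommGroup M] [Module B M]

theorem dual_swap (hrank : ∀ (f : Module.Dual B M) (x y : M), f x • y = f y • x)
    (f g : Module.Dual B M) (x : M) : g x • f = f x • g := by
  apply LinearMap.ext
  intro y
  rw [LinearMap.smul_apply, LinearMap.smul_apply, smul_eq_mul, smul_eq_mul]
  have h1 : g (f y • x) = g (f x • y) := by rw [hrank f y x]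
  rw [map_smul, map_smul, smul_eq_mul, smul_eq_mul] at h1
  rw [mul_comm, h1]

theorem contract_swap (hrank : ∀ (f : Module.Dual B M) (x y : M), f x • y = f y • x)
    (u ξ : Module.Dual B M ⊗[B] M) :
    contractLeft B M u • ξ = contractLeft B M ξ • u := by
  induction u using TensorProduct.induction_on with
  | zero => simp
  | tmul g y =>
    induction ξ using TensorProduct.induction_on with
    | zero => simp
    | tmul f x =>
      rw [contractLeft_apply, contractLeft_apply, TensorProduct.smul_tmul' (f x),
        ← dual_swap hrank f g x, TensorProduct.smul_tmul, ← hrank g y x, TensorProduct.tmul_smul]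
    | add a b ha hb => rw [smul_add, ha, hb, map_add, add_smul]
  | add a b ha hb => rw [map_add, add_smul, ha, hb, smul_add]

/-- rank-one identity + surjectivity of the evaluation ⇒ invertible -/
theorem invertible_of_rankOne (hrank : ∀ (f : Module.Dual B M) (x y : M), f x • y = f y • x)
    (u : Module.Dual B M ⊗[B] M) (hu : contractLeft B M u = 1) : Module.Invertible B M := by
  refine ⟨⟨?_, ?_⟩⟩
  · rw [injective_iff_map_eq_zero]
    intro ξ hξ
    have := contract_swap hrank u ξ
    rw [hu, hξ, one_smul, zero_smul] at this
    exact this
  · intro b
    exact ⟨b • u, by rw [map_smul, hu, smul_eq_mul, mul_one]⟩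

end Groth.Agent.Lib.Helper77.Frob4
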