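import Mathlib
import Groth.Agent.Lib.Helper94.QFDualLib
import Groth.Agent.Lib.Helper77.Frob4

/-!
# Gram matrices of functionals and invertibility of `Hom_A(B, A)` (helper77)
-/
set_option autoImplicit false
universe u v
open TensorProduct

namespace Groth.Agent.Lib.Helper77.Frob5

variable {A : Type u} {B : Type v} [CommRing A] [CommRing B] [Algebra A B]
variable {ι : Type*} [Fintype ι] [DecidableEq ι] (𝓑 : Module.Basis ι A B)

/-- coordinates of a functional in the dual basis -/
noncomputable def vec (l : Disc.Omega A B) : ι → A := fun j => l.toLinearMap (𝓑 j)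

omit [Fintype ι] [DecidableEq ι] in
theorem vec_injective : Function.Injective (vec 𝓑) := by
  intro l l' h
  apply Disc.Omega.toLinearMap_injective
  apply 𝓑.ext
  intro j
  exact congrFun h j

omit [Fintype ι] [DecidableEq ι] in
theorem vec_add (l l' : Disc.Omega A B) : vec 𝓑 (l + l') = vec 𝓑 l + vec 𝓑 l' := by
  funext j
  simp [vec]

omit [Fintype ι] [DecidableEq ι] in
theorem vec_smulA (a : A) (l : Disc.Omega A B) :
    vec 𝓑 (algebraMap A B a • l) = a • vec 𝓑 l := by
  funext j
  simp only [vec, Disc.Omega.smul_toLinearMap_apply, Pi.smul_apply, smul_eq_mul]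
  rw [← Algebra.smul_def, map_smul, smul_eq_mul]

/-- Gram matrix of the bilinear form `(x, y) ↦ τ (x y)` -/
noncomputable def gram (τ : Disc.Omega A B) : Matrix ι ι A := fun i j => τ.toLinearMap (𝓑 i * 𝓑 j)

omit [DecidableEq ι] in
theorem vec_smul (b : B) (τ : Disc.Omega A B) :
    vec 𝓑 (b • τ) = (gram 𝓑 τ).mulVec (𝓑.equivFun b) := by
  funext j
  simp only [vec, Disc.Omega.smul_toLinearMap_apply, Matrix.mulVec, dotProduct, gram]
  conv_lhs => rw [← 𝓑.sum_equivFun b]
  rw [Finset.sum_mul, map_sum]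
  refine Finset.sum_congr rfl fun k _ => ?_
  rw [smul_mul_assoc, map_smul, smul_eq_mul, mul_comm (𝓑 k) (𝓑 j), mul_comm]

/-- `ψ_τ : ω → B`, inverse to `b ↦ b • τ` up to the Gram determinant -/
noncomputable def psi (τ l : Disc.Omega A B) : B :=
  𝓑.equivFun.symm ((gram 𝓑 τ).adjugate.mulVec (vec 𝓑 l))

theorem psi_add (τ l l' : Disc.Omega A B) : psi 𝓑 τ (l + l') = psi 𝓑 τ l + psi 𝓑 τ l' := by
  simp only [psi, vec_add, Matrix.mulVec_add, map_add]

theorem psi_smulA (τ : Disc.Omega A B) (a : A) (l : Disc.Omega A B) :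
    psi 𝓑 τ (algebraMap A B a • l) = algebraMap A B a * psi 𝓑 τ l := by
  simp only [psi, vec_smulA, Matrix.mulVec_smul, map_smul]
  rw [Algebra.smul_def]

theorem psi_smul_self (τ : Disc.Omega A B) (b : B) :
    psi 𝓑 τ (b • τ) = algebraMap A B (gram 𝓑 τ).det * b := by
  rw [psi, vec_smul, Matrix.mulVec_mulVec, Matrix.adjugate_mul, Matrix.smul_mulVec,
    Matrix.one_mulVec, map_smul, LinearEquiv.symm_apply_apply, Algebra.smul_def]

theorem psi_smul (τ l : Disc.Omega A B) :
    psi 𝓑 τ l • τ = algebraMap A B (gram 𝓑 τ).det • l := by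
  apply vec_injective 𝓑
  rw [vec_smul, vec_smulA, psi, LinearEquiv.apply_symm_apply, Matrix.mulVec_mulVec,
    Matrix.mul_adjugate, Matrix.smul_mulVec, Matrix.one_mulVec]

/-- the `B`-linear functional `det · ψ_τ` -/
noncomputable def Psi (τ : Disc.Omega A B) : Disc.Omega A B →ₗ[B] B where
  toFun l := algebraMap A B (gram 𝓑 τ).det * psi 𝓑 τ l
  map_add' l l' := by rw [psi_add, mul_add]
  map_smul' b l := by
    rw [RingHom.id_apply, smul_eq_mul, ← psi_smulA, smul_comm, ← psi_smul, smul_smul,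
      psi_smul_self]
    ring

theorem Psi_apply (τ l : Disc.Omega A B) :
    Psi 𝓑 τ l = algebraMap A B (gram 𝓑 τ).det * psi 𝓑 τ l := rfl

theorem Psi_self (τ : Disc.Omega A B) : Psi 𝓑 τ τ = algebraMap A B ((gram 𝓑 τ).det ^ 2) := by
  have := psi_smul_self 𝓑 τ 1
  rw [one_smul, mul_one] at this
  rw [Psi_apply, this, map_pow, sq]

theorem Psi_smul (τ l : Disc.Omega A B) :
    Psi 𝓑 τ l • τ = algebraMap A B ((gram 𝓑 τ).det ^ 2) • l := by
  rw [Psi_apply, mul_smul, psi_smul, smul_smul, map_pow, sq]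

theorem invertible_of_forall_maximal
    (h : ∀ m : Ideal A, m.IsMaximal → ∃ τ : Disc.Omega A B, (gram 𝓑 τ).det ∉ m) :
    Module.Invertible B (Disc.Omega A B) := by
  have hrank : ∀ (f : Module.Dual B (Disc.Omega A B)) (x y : Disc.Omega A B),
      f x • y = f y • x := by
    intro f x y
    obtain ⟨z, hz⟩ : ∃ z, z = f x • y - f y • x := ⟨_, rfl⟩
    let J : Ideal A := Ideal.comap (algebraMap A B)
      (LinearMap.ker (LinearMap.toSpanSingleton B (Disc.Omega A B) z) : Ideal B)
    have hJ : J = ⊤ := by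
      by_contra hne
      obtain ⟨m, hm, hJm⟩ := Ideal.exists_le_maximal J hne
      obtain ⟨τ, hτ⟩ := h m hm
      apply hτ
      have hmem : ((gram 𝓑 τ).det ^ 2) ^ 2 ∈ J := by
        change algebraMap A B (((gram 𝓑 τ).det ^ 2) ^ 2) ∈
          LinearMap.ker (LinearMap.toSpanSingleton B (Disc.Omega A B) z)
        rw [LinearMap.mem_ker, LinearMap.toSpanSingleton_apply, hz, smul_sub, sub_eq_zero]
        obtain ⟨e, he⟩ : ∃ e, e = algebraMap A B ((gram 𝓑 τ).det ^ 2) := ⟨_, rfl⟩
        have key : ∀ x y : Disc.Omega A B,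
            (e ^ 2) • (f x • y) = (Psi 𝓑 τ x * Psi 𝓑 τ y * f τ) • τ := by
          intro x y
          have h1 : e • y = Psi 𝓑 τ y • τ := by rw [he, Psi_smul]
          have h2 : e * f x = Psi 𝓑 τ x * f τ := by
            rw [← smul_eq_mul, ← map_smul, he, ← Psi_smul, map_smul, smul_eq_mul]
          calc (e ^ 2) • (f x • y) = (e * f x) • (e • y) := by
                rw [smul_smul, smul_smul]; congr 1; ring
            _ = (Psi 𝓑 τ x * Psi 𝓑 τ y * f τ) • τ := by
                rw [h1, h2, smul_smul]; congr 1; ring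
        rw [map_pow, ← he, key x y, key y x]
        congr 1; ring
      have := hJm hmem
      exact hm.isPrime.mem_of_pow_mem _ (hm.isPrime.mem_of_pow_mem _ this)
    have h1 : (1 : A) ∈ J := by rw [hJ]; trivial
    have h2 : algebraMap A B 1 ∈
        LinearMap.ker (LinearMap.toSpanSingleton B (Disc.Omega A B) z) := h1
    rw [LinearMap.mem_ker, LinearMap.toSpanSingleton_apply, map_one, one_smul] at h2
    rw [← sub_eq_zero, ← hz, h2]
  obtain ⟨u, hu⟩ : ∃ u : Module.Dual B (Disc.Omega A B) ⊗[B] Disc.Omega A B,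
      contractLeft B (Disc.Omega A B) u = 1 := by
    let J : Ideal A := Ideal.comap (algebraMap A B)
      (LinearMap.range (contractLeft B (Disc.Omega A B)) : Ideal B)
    have hJ : J = ⊤ := by
      by_contra hne
      obtain ⟨m, hm, hJm⟩ := Ideal.exists_le_maximal J hne
      obtain ⟨τ, hτ⟩ := h m hm
      apply hτ
      have hmem : (gram 𝓑 τ).det ^ 2 ∈ J := by
        change algebraMap A B ((gram 𝓑 τ).det ^ 2) ∈ LinearMap.range (contractLeft B (Disc.Omega A B))
        exact ⟨Psi 𝓑 τ ⊗ₜ τ, by rw [contractLeft_apply, Psi_self]⟩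
      exact hm.isPrime.mem_of_pow_mem _ (hJm hmem)
    have h1 : (1 : A) ∈ J := by rw [hJ]; trivial
    have h2 : algebraMap A B 1 ∈ LinearMap.range (contractLeft B (Disc.Omega A B)) := h1
    rw [map_one] at h2
    exact h2
  exact Frob4.invertible_of_rankOne hrank u hu

end Groth.Agent.Lib.Helper77.Frob5
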