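import Mathlib
import Groth.Agent.Lib.Helper77.Frob3
import Groth.Agent.Lib.Helper77.Frob5

/-!
# Gorenstein fibres give functionals with unit Gram determinant (helper77)
-/
set_option autoImplicit false
universe u
open TensorProduct

namespace Groth.Agent.Lib.Helper77.Frob6

open Groth.Agent.Lib.Helper77.Frob5

variable {A B : Type u} [CommRing A] [CommRing B] [Algebra A B]
variable {ι : Type*} [Fintype ι] [DecidableEq ι] (𝓑 : Module.Basis ι A B)

/-- nondegenerate functional on a finite free algebra over a field has nonzero Gram determinant -/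
theorem det_ne_zero_of_nondeg {κ C : Type u} [Field κ] [CommRing C] [Algebra κ C]
    (e : Module.Basis ι κ C) (l : C →ₗ[κ] κ) (hl : ∀ c : C, c ≠ 0 → ∃ x : C, l (c * x) ≠ 0) :
    (Matrix.of fun i j => l (e i * e j)).det ≠ 0 := by
  intro hdet
  obtain ⟨v, hv0, hv⟩ := Matrix.exists_mulVec_eq_zero_iff.mpr hdet
  have hc0 : e.equivFun.symm v ≠ 0 := by
    intro h
    apply hv0
    have := congrArg e.equivFun h
    rwa [LinearEquiv.apply_symm_apply, map_zero] at this
  obtain ⟨x, hx⟩ := hl _ hc0
  apply hx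
  have h1 : ∀ i, l (e.equivFun.symm v * e i) = 0 := by
    intro i
    rw [Module.Basis.equivFun_symm_apply, Finset.sum_mul, map_sum]
    have := congrFun hv i
    simp only [Matrix.mulVec, dotProduct, Matrix.of_apply, Pi.zero_apply] at this
    rw [← this]
    refine Finset.sum_congr rfl fun j _ => ?_
    rw [smul_mul_assoc, map_smul, smul_eq_mul, mul_comm (e j) (e i), mul_comm]
  rw [← e.sum_equivFun x, Finset.mul_sum, map_sum]
  refine Finset.sum_eq_zero fun i _ => ?_
  rw [mul_smul_comm, map_smul, h1, smul_zero]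

theorem exists_gram_det_ne_zero (κ : Type u) [Field κ] [Algebra A κ]
    (hsurj : Function.Surjective (algebraMap A κ))
    [LocCoh.IsGorensteinRing (κ ⊗[A] B)] :
    ∃ τ : Disc.Omega A B, algebraMap A κ (gram 𝓑 τ).det ≠ 0 := by
  haveI : Module.Finite A B := Module.Finite.of_basis 𝓑
  obtain ⟨l, hl⟩ := Frob2.exists_nondeg κ (κ ⊗[A] B)
  have hdet := det_ne_zero_of_nondeg (𝓑.baseChange κ) l hl
  choose a ha using fun i => hsurj (l (1 ⊗ₜ[A] 𝓑 i))
  let τ : Disc.Omega A B := ⟨𝓑.constr A a⟩
  have hτ : ∀ b : B, algebraMap A κ (τ.toLinearMap b) = l (1 ⊗ₜ[A] b) := by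
    intro b
    have h1 : (Algebra.linearMap A κ) ∘ₗ τ.toLinearMap =
        (l.restrictScalars A) ∘ₗ (TensorProduct.mk A κ B 1) := by
      apply 𝓑.ext
      intro i
      simp only [LinearMap.comp_apply, Algebra.linearMap_apply, LinearMap.restrictScalars_apply,
        TensorProduct.mk_apply]
      change algebraMap A κ (𝓑.constr A a (𝓑 i)) = _
      rw [Module.Basis.constr_basis, ha]
    exact LinearMap.congr_fun h1 b
  refine ⟨τ, ?_⟩
  rw [RingHom.map_det]
  convert hdet using 2
  ext i j
  simp only [RingHom.mapMatrix_apply, Matrix.map_apply, gram, Matrix.of_apply,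
    Module.Basis.baseChange_apply, Algebra.TensorProduct.tmul_mul_tmul, mul_one]
  exact hτ _

/-- for a maximal ideal with Gorenstein fibre there is a functional with Gram determinant
outside the ideal -/
theorem exists_gram_det_notMem (m : Ideal A) [m.IsMaximal]
    [LocCoh.IsGorensteinRing (m.Fiber B)] :
    ∃ τ : Disc.Omega A B, (gram 𝓑 τ).det ∉ m := by
  obtain ⟨τ, hτ⟩ := exists_gram_det_ne_zero 𝓑 m.ResidueField
    (Ideal.algebraMap_residueField_surjective m)
  exact ⟨τ, fun h => hτ (Ideal.algebraMap_residueField_eq_zero.mpr h)⟩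

end Groth.Agent.Lib.Helper77.Frob6
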