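import Mathlib
import Groth.Agent.Lib.Helper94.QFDualLib
import Groth.Agent.Lib.Helper77.Frob6

/-!
# Fibres Gorenstein ⇔ `Hom_A(B, A)` invertible, for finite free `B` (helper77)
-/
set_option autoImplicit false
universe u
open TensorProduct

namespace Groth.Agent.Lib.Helper77.Frob7

open Groth.Agent.Lib.Helper94.QFDualLib

variable {A B : Type u} [CommRing A] [CommRing B] [Algebra A B]
  [Module.Finite A B] [Module.Free A B]

theorem invertible_of_fibres
    (h : ∀ (p : Ideal A) [p.IsPrime], LocCoh.IsGorensteinRing (p.Fiber B)) :
    Module.Invertible B (Disc.Omega A B) := by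
  classical
  exact Frob5.invertible_of_forall_maximal (Module.Free.chooseBasis A B) (fun m hm => by
    haveI := hm
    haveI := h m
    exact Frob6.exists_gram_det_notMem (Module.Free.chooseBasis A B) m)

attribute [local instance] Algebra.TensorProduct.rightAlgebra
attribute [local instance 10] omegaModule'

theorem gorenstein_fibre_of_invertible [Module.Invertible B (Disc.Omega A B)]
    (p : Ideal A) [p.IsPrime] : LocCoh.IsGorensteinRing (p.Fiber B) := by
  have hB : Algebra.IsPushout A p.ResidueField B (p.ResidueField ⊗[A] B) := inferInstance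
  have hf := isBaseChange_bcLin hB hB.out.dual
  haveI : Module.Invertible (p.ResidueField ⊗[A] B) (Disc.Omega p.ResidueField (p.ResidueField ⊗[A] B)) :=
    Module.Invertible.congr hf.equiv
  haveI : Module.Finite p.ResidueField (p.ResidueField ⊗[A] B) := inferInstance
  haveI : IsArtinianRing (p.ResidueField ⊗[A] B) :=
    IsArtinianRing.of_finite p.ResidueField (p.ResidueField ⊗[A] B)
  haveI : Module.Free (p.ResidueField ⊗[A] B)
      (Disc.Omega p.ResidueField (p.ResidueField ⊗[A] B)) := inferInstance
  obtain ⟨e⟩ := Module.Invertible.free_iff_linearEquiv.mp this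
  exact Frob3.gorenstein_of_equiv p.ResidueField (p.ResidueField ⊗[A] B) e

theorem main :
    (∀ (p : Ideal A) [p.IsPrime], LocCoh.IsGorensteinRing (p.Fiber B)) ↔
      Module.Invertible B (Disc.Omega A B) :=
  ⟨fun h => invertible_of_fibres h, fun h p _ => gorenstein_fibre_of_invertible p⟩

end Groth.Agent.Lib.Helper77.Frob7
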