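import Mathlib
import Groth.Agent.Lib.Helper63.FiltApprox

/-! Abstract comparison of adic topologies on "invariants" in the presence of a Reynolds operator
(helper77).  `B → A` rings, `B` complete Noetherian local, `M` a finite `A`-module, `W ⊆ M` a
`B`-submodule with a `B`-linear retraction `EM : M → W` which is `EA`-semilinear on `A • W`. -/

set_option autoImplicit false

namespace Groth.Agent.Lib.Helper77.AdicInv

open IsLocalRing

variable {B A M : Type*} [CommRing B] [CommRing A] [Algebra B A] [IsNoetherianRing A]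
  [IsLocalRing B] [IsNoetherianRing B]
  [AddCommGroup M] [Module A M] [Module B M] [IsScalarTower B A M] [Module.Finite A M]
  (m : Ideal A)
  (EA : A →ₗ[B] B) (EM : M →ₗ[B] M) (W : Submodule B M)
  (hEW : ∀ x, EM x ∈ W) (hEfix : ∀ w ∈ W, EM w = w)
  (hEmul : ∀ (a : A), ∀ w ∈ W, EM (a • w) = EA a • w)
  (hEm : ∀ r ∈ m, EA r ∈ maximalIdeal B)
  (hnm : ∀ c ∈ maximalIdeal B, algebraMap B A c ∈ m)

include hEfix hEmul hEm in
theorem key (w : M) (hw : w ∈ W) (r : A) (hr : r ∈ m) :
    ∃ u : B, w = u • EM ((1 - r) • w) := by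
  have h1 : EM ((1 - r) • w) = (1 - EA r) • w := by
    rw [sub_smul, one_smul, map_sub, hEfix w hw, hEmul r w hw, sub_smul, one_smul]
  have hu : IsUnit (1 - EA r) :=
    IsLocalRing.isUnit_one_sub_self_of_mem_nonunits _ (hEm r hr)
  obtain ⟨u, hu⟩ := hu
  refine ⟨↑u⁻¹, ?_⟩
  rw [h1, ← hu, smul_smul, Units.inv_mul, one_smul]

include hEfix hEmul hEm in
theorem eq_zero_of_mem_iInf (w : M) (hw : w ∈ W)
    (h : ∀ n : ℕ, w ∈ (m ^ n • ⊤ : Submodule A M)) : w = 0 := by
  have h' : w ∈ (⨅ i : ℕ, m ^ i • ⊤ : Submodule A M) := (Submodule.mem_iInf _).mpr h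
  obtain ⟨r, hr⟩ := (Ideal.mem_iInf_smul_pow_eq_bot_iff m w).mp h'
  obtain ⟨u, hu⟩ := key m EA EM W hEfix hEmul hEm w hw r r.2
  rw [sub_smul, one_smul, hr, sub_self, map_zero, smul_zero] at hu
  exact hu

include hEfix hEmul in
theorem fg_W : W.FG := by
  classical
  have hfg : (Submodule.span A (W : Set M)).FG := IsNoetherian.noetherian _
  obtain ⟨S, hSW, hS⟩ := (Submodule.fg_span_iff_fg_span_finset_subset (W : Set M)).mp hfg
  refine ⟨S, le_antisymm (Submodule.span_le.mpr hSW) ?_⟩
  intro w hw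
  have : w ∈ Submodule.span A (S : Set M) := by rw [← hS]; exact Submodule.subset_span hw
  obtain ⟨g, -, hg⟩ := Submodule.mem_span_finset.mp this
  rw [← hEfix w hw, ← hg, map_sum]
  apply Submodule.sum_mem
  intro j hj
  rw [hEmul (g j) j (hSW hj)]
  exact Submodule.smul_mem _ _ (Submodule.subset_span hj)

/-- `I M` as an `A`-submodule, for an ideal `I` of `B` -/
def NI (A : Type*) {B M : Type*} [CommRing B] [CommRing A] [Algebra B A]
    [AddCommGroup M] [Module A M] [Module B M] [IsScalarTower B A M]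
    (I : Ideal B) : Submodule A M where
  carrier := ((I • (⊤ : Submodule B M) : Submodule B M) : Set M)
  add_mem' := Submodule.add_mem _
  zero_mem' := Submodule.zero_mem _
  smul_mem' := by
    intro a x hx
    have hx' : x ∈ (I • (⊤ : Submodule B M) : Submodule B M) := hx
    show a • x ∈ (I • (⊤ : Submodule B M) : Submodule B M)
    refine Submodule.smul_induction_on hx' ?_ ?_
    · intro c hc z _
      rw [smul_comm]
      exact Submodule.smul_mem_smul hc trivial
    · intro x y hx hy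
      rw [smul_add]
      exact Submodule.add_mem _ hx hy

omit [IsNoetherianRing A] [IsLocalRing B] [IsNoetherianRing B] [Module.Finite A M] in
theorem mem_NI (I : Ideal B) (x : M) :
    x ∈ NI A I ↔ x ∈ (I • (⊤ : Submodule B M) : Submodule B M) := Iff.rfl

omit [IsNoetherianRing A] [IsLocalRing B] [IsNoetherianRing B] [Module.Finite A M] in
include hEW in
theorem EM_mem (I : Ideal B) (y : M) (hy : y ∈ (I • (⊤ : Submodule B M) : Submodule B M)) :
    EM y ∈ I • W := by
  refine Submodule.smul_induction_on hy ?_ ?_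
  · intro c hc z _
    rw [map_smul]
    exact Submodule.smul_mem_smul hc (hEW z)
  · intro x y hx hy
    rw [map_add]
    exact Submodule.add_mem _ hx hy

theorem isArtinian_quot {W' : Type*} [AddCommGroup W'] [Module B W'] [Module.Finite B W'] (k : ℕ)
    (hk : k ≠ 0) : IsArtinian B (W' ⧸ ((maximalIdeal B ^ k) • ⊤ : Submodule B W')) := by
  have hmin : maximalIdeal B ∈ (maximalIdeal B ^ k).minimalPrimes := by
    refine ⟨⟨inferInstance, Ideal.pow_le_self hk⟩, fun q hq _ => ?_⟩
    exact hq.1.le_of_pow_le hq.2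
  have hart : IsArtinianRing (B ⧸ maximalIdeal B ^ k) :=
    IsLocalRing.quotient_artinian_of_mem_minimalPrimes_of_isLocalRing _ hmin
  have : Module.Finite (B ⧸ maximalIdeal B ^ k)
      (W' ⧸ ((maximalIdeal B ^ k) • ⊤ : Submodule B W')) :=
    Module.Finite.of_restrictScalars_finite B _ _
  have : IsArtinian (B ⧸ maximalIdeal B ^ k)
      (W' ⧸ ((maximalIdeal B ^ k) • ⊤ : Submodule B W')) := inferInstance
  exact isArtinian_of_surjective_algebraMap (R := B ⧸ maximalIdeal B ^ k)
    Ideal.Quotient.mk_surjective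

include hEW hEfix hEmul hEm in
/-- cofinality of the two filtrations on `W` -/
theorem exists_pow_le (k : ℕ) :
    ∃ n0 : ℕ, ∀ w ∈ W, w ∈ (m ^ n0 • ⊤ : Submodule A M) → w ∈ (maximalIdeal B ^ k) • W := by
  classical
  by_cases hk : k = 0
  · subst hk
    refine ⟨0, fun w hw _ => ?_⟩
    rw [pow_zero, Ideal.one_eq_top, Submodule.top_smul]
    exact hw
  obtain ⟨I, hI⟩ : ∃ I : Ideal B, I = maximalIdeal B ^ k := ⟨_, rfl⟩
  have hWfin : Module.Finite B W := Module.Finite.iff_fg.mpr (fg_W EA EM W hEfix hEmul)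
  have hart : IsArtinian B (↥W ⧸ (I • ⊤ : Submodule B W)) := by
    rw [hI]; exact isArtinian_quot k hk
  -- the chain
  let F : ℕ → Submodule B W := fun n =>
    ((m ^ n • (⊤ : Submodule A M)).restrictScalars B).comap W.subtype
  have hF : ∀ a b, a ≤ b → F b ≤ F a := by
    intro a b hab x hx
    exact Submodule.smul_mono_left (Ideal.pow_le_pow_right hab) hx
  let G : ℕ →o (Submodule B (↥W ⧸ (I • ⊤ : Submodule B W)))ᵒᵈ :=
    { toFun := fun n => OrderDual.toDual ((F n).map (I • ⊤ : Submodule B W).mkQ)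
      monotone' := fun a b hab => Submodule.map_mono (hF a b hab) }
  obtain ⟨n0, hn0⟩ := IsArtinian.monotone_stabilizes G
  refine ⟨n0, fun w hw hwn0 => ?_⟩
  -- decomposition for every n
  have hdec : ∀ n : ℕ, ∃ q ∈ (m ^ n • ⊤ : Submodule A M), ∃ v ∈ I • W, w = q + v := by
    intro n
    by_cases hn : n ≤ n0
    · exact ⟨w, Submodule.smul_mono_left (Ideal.pow_le_pow_right hn) hwn0, 0,
        Submodule.zero_mem _, (add_zero w).symm⟩
    · have hle : n0 ≤ n := le_of_not_ge hn
      have h1 : (F n0).map (I • ⊤ : Submodule B W).mkQ = (F n).map (I • ⊤ : Submodule B W).mkQ :=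
        hn0 n hle
      have h2 : (I • ⊤ : Submodule B W).mkQ ⟨w, hw⟩ ∈ (F n0).map (I • ⊤ : Submodule B W).mkQ :=
        ⟨⟨w, hw⟩, hwn0, rfl⟩
      rw [h1] at h2
      obtain ⟨q', hq', hqq⟩ := h2
      have h3 : (⟨w, hw⟩ : W) - q' ∈ (I • ⊤ : Submodule B W) := by
        rw [← Submodule.ker_mkQ (I • ⊤ : Submodule B W), LinearMap.mem_ker, map_sub, hqq, sub_self]
      have h4 : W.subtype ((⟨w, hw⟩ : W) - q') ∈ (I • ⊤ : Submodule B W).map W.subtype :=
        ⟨_, h3, rfl⟩
      rw [Submodule.map_smul'', Submodule.map_subtype_top] at h4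
      refine ⟨(q' : M), hq', _, h4, ?_⟩
      simp
  -- pass to the quotient by `I M`
  have hq : (NI A I).mkQ w ∈ (⨅ i : ℕ, m ^ i • ⊤ : Submodule A (M ⧸ NI (M := M) A I)) := by
    rw [Submodule.mem_iInf]
    intro n
    obtain ⟨q, hq, v, hv, rfl⟩ := hdec n
    have hv' : v ∈ NI (M := M) A I := by
      rw [mem_NI]
      exact Submodule.smul_mono le_rfl le_top hv
    have hv0 : (NI (M := M) A I).mkQ v = 0 := (Submodule.Quotient.mk_eq_zero _).mpr hv'
    rw [map_add, hv0, add_zero]
    have : (NI (M := M) A I).mkQ q ∈ (m ^ n • (⊤ : Submodule A M)).map (NI (M := M) A I).mkQ :=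
      ⟨q, hq, rfl⟩
    rw [Submodule.map_smul''] at this
    exact Submodule.smul_mono le_rfl le_top this
  obtain ⟨r, hr⟩ := (Ideal.mem_iInf_smul_pow_eq_bot_iff m _).mp hq
  have hmem : (1 - (r : A)) • w ∈ NI (M := M) A I := by
    rw [← Submodule.Quotient.mk_eq_zero, Submodule.Quotient.mk_smul, sub_smul, one_smul]
    exact sub_eq_zero.mpr hr.symm
  obtain ⟨u, hu⟩ := key m EA EM W hEfix hEmul hEm w hw r r.2
  rw [hu, ← hI]
  exact Submodule.smul_mem _ _ (EM_mem EM W hEW I _ ((mem_NI I _).mp hmem))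

omit [IsNoetherianRing A] [IsLocalRing B] [IsNoetherianRing B] [Module.Finite A M] in
theorem sub_mem_of_le (x : ℕ → M)
    (hx : ∀ n, x (n + 1) - x n ∈ (m ^ n • ⊤ : Submodule A M)) (a b : ℕ) (hab : a ≤ b) :
    x b - x a ∈ (m ^ a • ⊤ : Submodule A M) := by
  induction b, hab using Nat.le_induction with
  | base => rw [sub_self]; exact Submodule.zero_mem _
  | succ b hab ih =>
    have : x (b + 1) - x a = (x (b + 1) - x b) + (x b - x a) := by abel
    rw [this]
    exact Submodule.add_mem _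
      (Submodule.smul_mono_left (Ideal.pow_le_pow_right hab) (hx b)) ih

omit [IsNoetherianRing A] [IsNoetherianRing B] [Module.Finite A M] in
include hnm in
theorem pow_smul_W_le (j : ℕ) (y : M) (hy : y ∈ (maximalIdeal B ^ j) • W) :
    y ∈ (m ^ j • ⊤ : Submodule A M) := by
  have hmap : (maximalIdeal B ^ j).map (algebraMap B A) ≤ m ^ j := by
    rw [Ideal.map_pow]
    apply Ideal.pow_right_mono
    rw [Ideal.map_le_iff_le_comap]
    intro c hc
    exact hnm c hc
  refine Submodule.smul_induction_on hy ?_ ?_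
  · intro c hc z _
    rw [← algebraMap_smul A c z]
    exact Submodule.smul_mem_smul (hmap (Ideal.mem_map_of_mem _ hc)) trivial
  · intro x y hx hy
    exact Submodule.add_mem _ hx hy

include hEW hEfix hEmul hEm hnm in
/-- completeness of `W` for the `m`-adic filtration of `M` -/
theorem exists_limit [IsAdicComplete (maximalIdeal B) B] (x : ℕ → M) (hxW : ∀ n, x n ∈ W)
    (hx : ∀ n, x (n + 1) - x n ∈ (m ^ n • ⊤ : Submodule A M)) :
    ∃ y ∈ W, ∀ n, y - x n ∈ (m ^ n • ⊤ : Submodule A M) := by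
  classical
  choose ν hν using exists_pow_le m EA EM W hEW hEfix hEmul hEm
  let μ : ℕ → ℕ := fun k => k + ∑ j ∈ Finset.range (k + 1), ν j
  have hμk : ∀ k, k ≤ μ k := fun k => Nat.le_add_right _ _
  have hμν : ∀ k, ν k ≤ μ k := by
    intro k
    have : ν k ≤ ∑ j ∈ Finset.range (k + 1), ν j :=
      Finset.single_le_sum (f := ν) (fun _ _ => Nat.zero_le _) (Finset.self_mem_range_succ k)
    exact this.trans (Nat.le_add_left _ _)
  have hμmono : ∀ k, μ k ≤ μ (k + 1) := by
    intro k
    show k + ∑ j ∈ Finset.range (k + 1), ν j ≤ (k + 1) + ∑ j ∈ Finset.range (k + 1 + 1), ν j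
    rw [Finset.sum_range_succ _ (k + 1)]
    omega
  have hfg : W.FG := fg_W EA EM W hEfix hEmul
  have hsub := Groth.Agent.Lib.Helper63.FiltApprox.subPrec_of_fg (maximalIdeal B) W hfg
  obtain ⟨t, htW, ht⟩ := hsub (fun k => x (μ k)) (fun k => hxW _) (by
    intro k
    apply hν k _ (W.sub_mem (hxW _) (hxW _))
    exact Submodule.smul_mono_left (Ideal.pow_le_pow_right (hμν k))
      (sub_mem_of_le m x hx (μ k) (μ (k + 1)) (hμmono k)))
  refine ⟨t, htW, fun n => ?_⟩
  have : t - x n = (t - x (μ n)) + (x (μ n) - x n) := by abel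
  rw [this]
  exact Submodule.add_mem _ (pow_smul_W_le m W hnm n _ (ht n))
    (sub_mem_of_le m x hx n (μ n) (hμk n))

end Groth.Agent.Lib.Helper77.AdicInv
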