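import Groth.Agent.Lib.Helper77.AdicInv
import Groth.Agent.Lib.Helper96.Reynolds
import Groth.Agent.Lib.Helper96.LinRed
import Groth.Prelude.Def_GLin
import Groth.Prelude.Def_W4c1tameactTame

/-! The `m`-adic topology on the invariants of an equivariant module, for a linearly reductive
group with complete local ring of invariants (helper77). -/

set_option autoImplicit false

open TensorProduct
universe u v w w'
namespace Groth.Agent.Lib.Helper77.AdicInvHopf

open Groth.Agent.Lib.Helper96 IsLocalRing

section Slice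

variable {k : Type u} [Field k] {H : Type v} [CommRing H] [HopfAlgebra k H]
variable {A : Type w} [CommRing A] [Algebra k A]
variable {M : Type w'} [AddCommGroup M] [Module k M] [Module A M] [IsScalarTower k A M]

theorem slice_hmSMul_tmul_one (β : H →ₗ[k] k) (y : A ⊗[k] H) (x : M) :
    slice M β (TameAct.hmSMul k H A M y (x ⊗ₜ[k] (1 : H))) = slice A β y • x := by
  induction y with
  | zero => simp
  | add y z hy hz => simp only [map_add, LinearMap.add_apply, hy, hz, add_smul]
  | tmul a h => rw [TameAct.hmSMul_tmul, slice_tmul, slice_tmul, mul_one, smul_assoc]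

theorem slice_hmSMul_one_tmul (β : H →ₗ[k] k) (b : A) (z : M ⊗[k] H) :
    slice M β (TameAct.hmSMul k H A M (b ⊗ₜ[k] (1 : H)) z) = b • slice M β z := by
  induction z with
  | zero => simp
  | add y z hy hz => simp only [map_add, hy, hz, smul_add]
  | tmul x h => rw [TameAct.hmSMul_tmul, slice_tmul, slice_tmul, one_mul, smul_comm]

end Slice

section Reyn

variable {k : Type u} [Field k] {H : Type v} [CommRing H] [HopfAlgebra k H]
variable {A : Type w} [CommRing A] [Algebra k A] [HopfRep.Comod k H A] [GLin.IsCoactAlg k H A]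
variable {M : Type w'} [AddCommGroup M] [Module k M] [Module A M] [IsScalarTower k A M]
  [HopfRep.Comod k H M] [TameAct.IsHopfMod k H A M]

theorem reyn_smul_fixed (α : H →ₗ[k] k) (a : A) (x : M)
    (hx : HopfRep.Comod.coact (k := k) (A := H) x = x ⊗ₜ[k] (1 : H)) :
    reyn (inferInstance : HopfRep.Comod k H M) α (a • x) =
      reyn (inferInstance : HopfRep.Comod k H A) α a • x := by
  rw [reyn_apply, reyn_apply, TameAct.IsHopfMod.coact_smul (k := k) (A := H), hx]
  exact slice_hmSMul_tmul_one _ _ _

theorem reyn_fixed_smul (α : H →ₗ[k] k) (b : A)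
    (hb : HopfRep.Comod.coact (k := k) (A := H) b = b ⊗ₜ[k] (1 : H)) (x : M) :
    reyn (inferInstance : HopfRep.Comod k H M) α (b • x) =
      b • reyn (inferInstance : HopfRep.Comod k H M) α x := by
  rw [reyn_apply, reyn_apply, TameAct.IsHopfMod.coact_smul (k := k) (A := H), hb]
  exact slice_hmSMul_one_tmul _ _ _

omit [GLin.IsCoactAlg k H A] in
theorem fixed_smul (b : A)
    (hb : HopfRep.Comod.coact (k := k) (A := H) b = b ⊗ₜ[k] (1 : H)) (x : M)
    (hx : HopfRep.Comod.coact (k := k) (A := H) x = x ⊗ₜ[k] (1 : H)) :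
    HopfRep.Comod.coact (k := k) (A := H) (b • x) = (b • x) ⊗ₜ[k] (1 : H) := by
  rw [TameAct.IsHopfMod.coact_smul (k := k) (A := H), hb, hx, TameAct.hmSMul_tmul, mul_one]

omit [GLin.IsCoactAlg k H A] in
theorem reyn_mem_of_isSubcomod (α : H →ₗ[k] k) (m : Ideal A)
    (hm : HopfRep.IsSubcomod (k := k) (A := H) (m.restrictScalars k)) (r : A) (hr : r ∈ m) :
    reyn (inferInstance : HopfRep.Comod k H A) α r ∈ m := by
  obtain ⟨z, hz⟩ := hm r hr
  rw [reyn_apply, ← hz, slice_rTensor]
  exact (slice (↥(m.restrictScalars k)) _ z).2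

end Reyn

section Main

variable {k : Type u} [Field k] {H : Type v} [CommRing H] [HopfAlgebra k H]
variable {A : Type w} [CommRing A] [Algebra k A] [HopfRep.Comod k H A] [GLin.IsCoactAlg k H A]
variable {M : Type w'} [AddCommGroup M] [Module k M] [Module A M] [IsScalarTower k A M]
  [HopfRep.Comod k H M] [TameAct.IsHopfMod k H A M]

/-- Reynolds operator `A → A^G`, linear over the invariants -/
noncomputable def EA (α : H →ₗ[k] k)
    (hα : @Hoch.IsComodHom k _ H _ _ _ H _ _ _ k _ _ (HopfRep.Comod.trivial k H k) α) :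
    A →ₗ[↥(GLin.invariants k H A)] ↥(GLin.invariants k H A) where
  toFun a := ⟨reyn (inferInstance : HopfRep.Comod k H A) α a, coact_reyn _ α hα a⟩
  map_add' a b := by
    apply Subtype.ext
    simp
  map_smul' b a := by
    apply Subtype.ext
    show reyn (inferInstance : HopfRep.Comod k H A) α ((b : A) * a) =
      (b : A) * reyn (inferInstance : HopfRep.Comod k H A) α a
    rw [mul_comm, reyn_mul_fixed _ α (GLin.IsCoactAlg.coact_mul (k := k)) a b b.2, mul_comm]

theorem EA_coe (α : H →ₗ[k] k)
    (hα : @Hoch.IsComodHom k _ H _ _ _ H _ _ _ k _ _ (HopfRep.Comod.trivial k H k) α) (a : A) :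
    ((EA α hα a : ↥(GLin.invariants k H A)) : A) =
      reyn (inferInstance : HopfRep.Comod k H A) α a := rfl

/-- Reynolds operator on `M`, linear over the invariants -/
noncomputable def EM (α : H →ₗ[k] k) : M →ₗ[↥(GLin.invariants k H A)] M where
  toFun x := reyn (inferInstance : HopfRep.Comod k H M) α x
  map_add' a b := by simp
  map_smul' b x := reyn_fixed_smul α (b : A) b.2 x

/-- the invariants of `M` as a module over the invariants of `A` -/
def W (k : Type u) [Field k] (H : Type v) [CommRing H] [HopfAlgebra k H]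
    (A : Type w) [CommRing A] [Algebra k A] [HopfRep.Comod k H A] [GLin.IsCoactAlg k H A]
    (M : Type w') [AddCommGroup M] [Module k M] [Module A M] [IsScalarTower k A M]
    [HopfRep.Comod k H M] [TameAct.IsHopfMod k H A M] :
    Submodule ↥(GLin.invariants k H A) M where
  carrier := {x | HopfRep.Comod.coact (k := k) (A := H) x = x ⊗ₜ[k] (1 : H)}
  add_mem' {a b} ha hb := by
    simp only [Set.mem_setOf_eq] at ha hb ⊢
    rw [map_add, ha, hb, TensorProduct.add_tmul]
  zero_mem' := by simp
  smul_mem' b x hx := fixed_smul (b : A) b.2 x hx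

theorem main
    (hG : HopfRep.IsLinearlyReductive k H) [IsNoetherianRing A]
    (m : Ideal A) [m.IsMaximal] (hm : HopfRep.IsSubcomod (k := k) (A := H) (m.restrictScalars k))
    [IsLocalRing ↥(GLin.invariants k H A)] [IsNoetherianRing ↥(GLin.invariants k H A)]
    [IsAdicComplete (IsLocalRing.maximalIdeal ↥(GLin.invariants k H A)) ↥(GLin.invariants k H A)]
    [Module.Finite A M] :
    (∀ x ∈ HopfRep.fixedPts k H M, (∀ n : ℕ, x ∈ (m ^ n • ⊤ : Submodule A M)) → x = 0) ∧
      ∀ x : ℕ → M, (∀ n, x n ∈ HopfRep.fixedPts k H M) →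
        (∀ n, x (n + 1) - x n ∈ (m ^ n • ⊤ : Submodule A M)) →
          ∃ y ∈ HopfRep.fixedPts k H M, ∀ n, y - x n ∈ (m ^ n • ⊤ : Submodule A M) := by
  obtain ⟨α, hα, h1⟩ := isLinearlyReductive_iff_exists_integral.mp hG
  have hEW : ∀ x : M, EM (A := A) α x ∈ W k H A M := fun x => coact_reyn _ α hα x
  have hEfix : ∀ w ∈ W k H A M, EM (A := A) α w = w := fun w hw => reyn_of_fixed _ α h1 hw
  have hEmul : ∀ (a : A), ∀ w ∈ W k H A M, EM (A := A) α (a • w) = EA α hα a • w :=
    fun a w hw => reyn_smul_fixed α a w hw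
  have hJ : m.comap (algebraMap ↥(GLin.invariants k H A) A) ≤
      maximalIdeal ↥(GLin.invariants k H A) := by
    apply IsLocalRing.le_maximalIdeal
    rw [Ne, Ideal.eq_top_iff_one, Ideal.mem_comap, map_one]
    exact (Ideal.ne_top_iff_one m).mp (Ideal.IsMaximal.ne_top inferInstance)
  have hEm : ∀ r ∈ m, EA α hα r ∈ maximalIdeal ↥(GLin.invariants k H A) := by
    intro r hr
    apply hJ
    rw [Ideal.mem_comap]
    exact reyn_mem_of_isSubcomod α m hm r hr
  have hnm : ∀ c ∈ maximalIdeal ↥(GLin.invariants k H A),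
      algebraMap ↥(GLin.invariants k H A) A c ∈ m := by
    intro c hc
    by_contra hcm
    obtain ⟨y, i, hi, hyi⟩ := Ideal.IsMaximal.exists_inv (inferInstance : m.IsMaximal) hcm
    have hone : reyn (inferInstance : HopfRep.Comod k H A) α (1 : A) = 1 := by
      apply reyn_of_fixed _ α h1
      rw [GLin.IsCoactAlg.coact_one (k := k) (A := H) (R := A), Algebra.TensorProduct.one_def]
    have h2 : EA α hα y * c + EA α hα i = 1 := by
      apply Subtype.ext
      show reyn (inferInstance : HopfRep.Comod k H A) α y * (c : A) +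
        reyn (inferInstance : HopfRep.Comod k H A) α i = 1
      rw [← reyn_mul_fixed _ α (GLin.IsCoactAlg.coact_mul (k := k)) y c c.2, ← map_add]
      have : y * (c : A) + i = 1 := hyi
      rw [this, hone]
    have h3 : (1 : ↥(GLin.invariants k H A)) ∈ maximalIdeal ↥(GLin.invariants k H A) := by
      rw [← h2]
      exact Ideal.add_mem _ (Ideal.mul_mem_left _ _ hc) (hEm i hi)
    exact (Ideal.ne_top_iff_one _).mp (Ideal.IsMaximal.ne_top inferInstance) h3
  refine ⟨?_, ?_⟩
  · intro x hx hxn
    exact AdicInv.eq_zero_of_mem_iInf m (EA α hα) (EM α) (W k H A M) hEfix hEmul hEm x hx hxn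
  · intro x hxW hx
    exact AdicInv.exists_limit m (EA α hα) (EM α) (W k H A M) hEW hEfix hEmul hEm hnm x hxW hx

end Main

end Groth.Agent.Lib.Helper77.AdicInvHopf
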