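import Mathlib

/-!
# The algebraic closure of `k` in a finitely generated field extension is finite over `k`
-/

set_option autoImplicit false

namespace Groth.Agent.Lib.Helper77.AlgClFin

open IntermediateField

variable (k F : Type*) [Field k] [Field F] [Algebra k F]

variable {k F} in
/-- `k`-linearly independent elements of the algebraic closure of `k` in `F` remain linearly
independent over `k[y]` for an algebraically independent family `y`. -/
theorem linearIndependent_adjoin {ι : Type*} {y : ι → F} (hy : AlgebraicIndependent k y)
    {κ : Type*} (ω : κ → algebraicClosure k F) (hω : LinearIndependent k ω) :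
    LinearIndependent (Algebra.adjoin k (Set.range y)) (fun i => (ω i : F)) := by
  classical
  have hyΩ : AlgebraicIndependent (algebraicClosure k F) y := hy.algebraicClosure
  rw [linearIndependent_iff']
  intro t g hg i hi
  obtain ⟨p, hp⟩ : ∃ p : κ → MvPolynomial ι k, ∀ j, hy.aevalEquiv (p j) = g j :=
    ⟨fun j => hy.aevalEquiv.symm (g j), fun j => AlgEquiv.apply_symm_apply _ _⟩
  have hp' : ∀ j, MvPolynomial.aeval y (p j) = (g j : F) := by
    intro j
    rw [← hp j]
    rfl
  have hP : MvPolynomial.aeval y (∑ j ∈ t, MvPolynomial.C (ω j) *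
      MvPolynomial.map (algebraMap k (algebraicClosure k F)) (p j)) = 0 := by
    rw [map_sum, ← hg]
    refine Finset.sum_congr rfl fun j _ => ?_
    rw [map_mul, MvPolynomial.aeval_C, MvPolynomial.aeval_map_algebraMap, hp', mul_comm]
    rfl
  have hP0 := hyΩ (hP.trans (map_zero _).symm)
  have hcoef : ∀ m : ι →₀ ℕ, ∑ j ∈ t, (MvPolynomial.coeff m (p j)) • ω j = 0 := by
    intro m
    have h1 := congrArg (MvPolynomial.coeff m) hP0
    rw [MvPolynomial.coeff_sum, MvPolynomial.coeff_zero] at h1
    rw [← h1]
    refine Finset.sum_congr rfl fun j _ => ?_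
    rw [MvPolynomial.coeff_C_mul, MvPolynomial.coeff_map, Algebra.smul_def, mul_comm]
  have hpi : p i = 0 := by
    ext m
    rw [MvPolynomial.coeff_zero]
    exact (linearIndependent_iff'.mp hω) t _ (hcoef m) i hi
  rw [← hp i, hpi, map_zero]


open scoped IntermediateField.algebraAdjoinAdjoin in
theorem finite_algebraicClosure [Algebra.EssFiniteType k F] :
    Module.Finite k (algebraicClosure k F) := by
  classical
  obtain ⟨s, hs⟩ : ∃ s : Finset F, IsTranscendenceBasis k ((↑) : s → F) := by
    have ⟨s, hs⟩ := IntermediateField.fg_top k F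
    have : Algebra.IsAlgebraic (Algebra.adjoin k (s : Set F)) F := by
      rw [← isAlgebraic_adjoin_iff_top, hs, Algebra.isAlgebraic_iff_isIntegral]
      refine Algebra.isIntegral_of_surjective topEquiv.surjective
    have ⟨t, hts, ht⟩ := exists_isTranscendenceBasis_subset (R := k) (s : Set F)
    lift t to Finset F using s.finite_toSet.subset hts
    exact ⟨t, ht⟩
  have : Module.Finite (adjoin k (s : Set F)) F := by
    apply +allowSynthFailures Algebra.finite_of_essFiniteType_of_isAlgebraic
    · exact .of_comp k _ _
    · convert! hs.isAlgebraic_field <;> simp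
  rw [← Module.rank_lt_aleph0_iff]
  refine lt_of_le_of_lt (rank_le (n := Module.finrank (adjoin k (s : Set F)) F) ?_)
    Cardinal.natCast_lt_aleph0
  intro T hT
  have h1 := linearIndependent_adjoin hs.1 _ hT
  have hr : Set.range ((↑) : s → F) = (s : Set F) := Subtype.range_coe
  rw [hr] at h1
  have h2 : LinearIndependent (adjoin k (s : Set F)) fun i : T => ((i : algebraicClosure k F) : F) :=
    (LinearIndependent.iff_fractionRing (Algebra.adjoin k (s : Set F)) (adjoin k (s : Set F))).mp h1
  have h3 := h2.fintype_card_le_finrank
  simpa using h3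

end Groth.Agent.Lib.Helper77.AlgClFin
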