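import Mathlib
import Groth.Agent.Lib.Helper77.RegularCompletion
import Groth.Agent.Lib.Helper19.UnramifiedBaseChange

/-!
# Dimension of modules under Jacobson-adic completion (helper77)
-/
set_option autoImplicit false
universe u
open TensorProduct

namespace Groth.Agent.Lib.Helper77.ComplDim

section General

variable {A B : Type u} [CommRing A] [CommRing B] [IsNoetherianRing A] [IsNoetherianRing B]
  [Algebra A B]

/-- `dim B/IB ≤ dim A/I` when every maximal ideal of `B` is extended from a maximal ideal of `A` -/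
theorem dim_quot_le
    (hmax : ∀ n : Ideal B, n.IsMaximal → (n.comap (algebraMap A B)).IsMaximal ∧
      n = (n.comap (algebraMap A B)).map (algebraMap A B))
    (I : Ideal A) :
    ringKrullDim (B ⧸ I.map (algebraMap A B)) ≤ ringKrullDim (A ⧸ I) := by
  rw [ringKrullDim_le_iff_isMaximal_height_le]
  intro N hN
  -- `n` the preimage of `N`
  obtain ⟨n, hn⟩ : ∃ n : Ideal B, n = N.comap (Ideal.Quotient.mk (I.map (algebraMap A B))) :=
    ⟨_, rfl⟩
  have hnmax : n.IsMaximal := by
    rw [hn]; exact Ideal.comap_isMaximal_of_surjective _ Ideal.Quotient.mk_surjective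
  have hNn : N = n.map (Ideal.Quotient.mk (I.map (algebraMap A B))) := by
    rw [hn, Ideal.map_comap_of_surjective _ Ideal.Quotient.mk_surjective]
  have hIn : I.map (algebraMap A B) ≤ n := by
    rw [hn]
    intro x hx
    rw [Ideal.mem_comap, Ideal.Quotient.eq_zero_iff_mem.mpr hx]
    exact N.zero_mem
  obtain ⟨hmmax, hnm⟩ := hmax n hnmax
  obtain ⟨m, hm⟩ : ∃ m : Ideal A, m = n.comap (algebraMap A B) := ⟨_, rfl⟩
  rw [← hm] at hmmax hnm
  have hIm : I ≤ m := by
    rw [hm]; exact Ideal.map_le_iff_le_comap.mp hIn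
  -- the prime `p = m/I`
  obtain ⟨p, hp⟩ : ∃ p : Ideal (A ⧸ I), p = m.map (Ideal.Quotient.mk I) := ⟨_, rfl⟩
  haveI hpmax : p.IsMaximal := by
    rw [hp]
    exact Ideal.IsMaximal.map_of_surjective_of_ker_le Ideal.Quotient.mk_surjective
      (by rw [Ideal.mk_ker]; exact hIm)
  haveI := hpmax.isPrime
  haveI := hN.isPrime
  have hpN : p.map (algebraMap (A ⧸ I) (B ⧸ I.map (algebraMap A B))) = N := by
    rw [hp, Ideal.map_map, hNn, hnm, Ideal.map_map]
    congr 1
  haveI : N.LiesOver p := by
    constructor
    have h1 : p ≤ N.comap (algebraMap (A ⧸ I) (B ⧸ I.map (algebraMap A B))) := by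
      rw [← Ideal.map_le_iff_le_comap, hpN]
    have h2 : (N.comap (algebraMap (A ⧸ I) (B ⧸ I.map (algebraMap A B)))) ≠ ⊤ :=
      Ideal.comap_ne_top _ hN.ne_top
    exact (hpmax.eq_of_le h2 h1)
  have h3 := Ideal.height_le_height_add_of_liesOver p N
  rw [hpN] at h3
  have h4 : (N.map (Ideal.Quotient.mk N)) = ⊥ := by
    rw [Ideal.map_eq_bot_iff_le_ker, Ideal.mk_ker]
  rw [h4] at h3
  haveI : Nontrivial ((B ⧸ I.map (algebraMap A B)) ⧸ N) :=
    Ideal.Quotient.nontrivial_iff.mpr hN.ne_top
  have h5 : (⊥ : Ideal ((B ⧸ I.map (algebraMap A B)) ⧸ N)).height = 0 := Ideal.height_bot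
  rw [h5, add_zero] at h3
  calc (N.height : WithBot ℕ∞) ≤ (p.height : WithBot ℕ∞) := by exact_mod_cast h3
    _ ≤ ringKrullDim (A ⧸ I) := Ideal.height_le_ringKrullDim_of_ne_top hpmax.ne_top

theorem map_annihilator_le (M : Type u) [AddCommGroup M] [Module A M] :
    (Module.annihilator A M).map (algebraMap A B) ≤ Module.annihilator B (B ⊗[A] M) := by
  rw [Ideal.map_le_iff_le_comap]
  intro a ha
  rw [Ideal.mem_comap, Module.mem_annihilator]
  intro x
  induction x using TensorProduct.induction_on with
  | zero => simp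
  | tmul b y =>
    rw [TensorProduct.smul_tmul', smul_eq_mul, ← Algebra.smul_def, TensorProduct.smul_tmul,
      Module.mem_annihilator.mp ha y, TensorProduct.tmul_zero]
  | add x y hx hy => rw [smul_add, hx, hy, add_zero]

/-- lifting chains in the support along a flat map which is surjective over closed points -/
theorem supportDim_le_baseChange [Module.Flat A B]
    (hsurj : ∀ m : Ideal A, m.IsMaximal → ∃ n : Ideal B, n.IsPrime ∧ n.comap (algebraMap A B) = m)
    (M : Type u) [AddCommGroup M] [Module A M] [Module.Finite A M] :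
    Module.supportDim A M ≤ Module.supportDim B (B ⊗[A] M) := by
  rw [Module.supportDim, Module.supportDim, Order.krullDim]
  apply iSup_le
  intro l
  let l' : LTSeries (PrimeSpectrum A) := l.map Subtype.val (fun _ _ h => h)
  obtain ⟨m, hm, hlm⟩ := Ideal.exists_le_maximal l'.last.asIdeal l'.last.2.ne_top
  obtain ⟨n, hn, hnm⟩ := hsurj m hm
  haveI := hm.isPrime
  haveI : n.LiesOver m := ⟨hnm.symm⟩
  obtain ⟨P, -, hP, hPl⟩ := Ideal.exists_ideal_le_liesOver_of_le (p := l'.last.asIdeal) (q := m) n hlm
  obtain ⟨L, hlen, -, hmap⟩ := Ideal.exists_ltSeries_of_hasGoingDown l' P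
  have hmem : ∀ i, L i ∈ Module.support B (B ⊗[A] M) := by
    intro i
    apply Groth.Agent.Lib.Helper19.mem_support_baseChange_of_comap_mem
    have h1 : PrimeSpectrum.comap (algebraMap A B) (L i) ∈
        List.map (PrimeSpectrum.comap (algebraMap A B)) L.toList :=
      List.mem_map.mpr ⟨L i, RelSeries.mem_toList.mpr ⟨i, rfl⟩, rfl⟩
    rw [hmap, RelSeries.mem_toList] at h1
    obtain ⟨j, hj⟩ := h1
    rw [← hj]
    exact (l j).2
  let L' : LTSeries (Module.support B (B ⊗[A] M)) :=
    { length := L.length
      toFun := fun i => ⟨L i, hmem i⟩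
      step := fun i => L.step i }
  have : (l.length : WithBot ℕ∞) = (L'.length : WithBot ℕ∞) := by
    have : l.length = L'.length := by
      change l.length = L.length
      rw [hlen]
      rfl
    rw [this]
  rw [this]
  exact Order.LTSeries.length_le_krullDim L'

theorem supportDim_baseChange [Module.Flat A B]
    (hmax : ∀ n : Ideal B, n.IsMaximal → (n.comap (algebraMap A B)).IsMaximal ∧
      n = (n.comap (algebraMap A B)).map (algebraMap A B))
    (hsurj : ∀ m : Ideal A, m.IsMaximal → ∃ n : Ideal B, n.IsPrime ∧ n.comap (algebraMap A B) = m)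
    (M : Type u) [AddCommGroup M] [Module A M] [Module.Finite A M] :
    Module.supportDim B (B ⊗[A] M) = Module.supportDim A M := by
  apply le_antisymm
  · rw [Module.supportDim_eq_ringKrullDim_quotient_annihilator,
      Module.supportDim_eq_ringKrullDim_quotient_annihilator]
    have hle := map_annihilator_le (A := A) (B := B) M
    exact (ringKrullDim_le_of_surjective (Ideal.Quotient.factor hle)
      (Ideal.Quotient.factor_surjective hle)).trans (dim_quot_le hmax _)
  · exact supportDim_le_baseChange hsurj M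

end General

section Completion

variable (A : Type u) [CommRing A] [IsNoetherianRing A] (J : Ideal A)

theorem exists_sub_mem (x : AdicCompletion J A) :
    ∃ a : A, x - algebraMap A (AdicCompletion J A) a ∈ J.map (algebraMap A (AdicCompletion J A)) := by
  obtain ⟨a, ha⟩ := Ideal.Quotient.mk_surjective ((AdicCompletion.evalOneₐ J).toRingHom x)
  refine ⟨a, ?_⟩
  rw [← AdicCompletion.ker_evalOneₐ_eq_map J (IsNoetherian.noetherian J), RingHom.mem_ker,
    map_sub, sub_eq_zero, ← ha]
  rfl

theorem comap_isMaximal (n : Ideal (AdicCompletion J A)) [hn : n.IsMaximal] :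
    (n.comap (algebraMap A (AdicCompletion J A))).IsMaximal := by
  have hJn := Groth.Agent.Lib.Helper77.RegularCompletion.map_le_of_isMaximal A J n
  rw [Ideal.isMaximal_iff]
  refine ⟨fun h => hn.ne_top ((Ideal.eq_top_iff_one n).mpr (by simpa using h)), ?_⟩
  intro I x hmI hxm hxI
  have hx : algebraMap A (AdicCompletion J A) x ∉ n := hxm
  obtain ⟨y, hy⟩ := (hn.exists_inv hx)
  obtain ⟨z, hzn, hz1⟩ := hy
  have hz : y * algebraMap A (AdicCompletion J A) x - 1 ∈ n := by
    have : y * algebraMap A (AdicCompletion J A) x - 1 = -z := by rw [← hz1]; ring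
    rw [this]
    exact n.neg_mem hzn
  obtain ⟨b, hb⟩ := exists_sub_mem A J y
  have h1 : algebraMap A (AdicCompletion J A) (b * x - 1) ∈ n := by
    have : algebraMap A (AdicCompletion J A) (b * x - 1) =
        (y * algebraMap A (AdicCompletion J A) x - 1) -
          (y - algebraMap A (AdicCompletion J A) b) * algebraMap A (AdicCompletion J A) x := by
      rw [map_sub, map_mul, map_one]; ring
    rw [this]
    exact n.sub_mem hz (n.mul_mem_right _ (hJn hb))
  have h2 : b * x - 1 ∈ I := hmI h1
  have h3 : b * x ∈ I := I.mul_mem_left b hxI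
  have : (1 : A) = b * x - (b * x - 1) := by ring
  rw [this]
  exact I.sub_mem h3 h2

theorem main (A : Type u) [CommRing A] [IsNoetherianRing A]
    (M : Type u) [AddCommGroup M] [Module A M] [Module.Finite A M] :
    Module.supportDim (AdicCompletion (Ring.jacobson A) A) (AdicCompletion (Ring.jacobson A) M) =
      Module.supportDim A M := by
  haveI : IsNoetherianRing (AdicCompletion (Ring.jacobson A) A) :=
    Groth.Agent.S0543.result A _
  rw [← Module.supportDim_eq_of_equiv
    (AdicCompletion.ofTensorProductEquivOfFiniteNoetherian (Ring.jacobson A) M)]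
  apply supportDim_baseChange
  · intro n hn
    exact ⟨comap_isMaximal A _ n,
      Groth.Agent.Lib.Helper77.RegularCompletion.maximal_eq_map A _ n⟩
  · intro m hm
    have hle : Ring.jacobson A ≤ m := Ring.jacobson_le_of_isMaximal m
    have hmax := AdicCompletion.isMaximal_map_of_le (Ring.jacobson A) m hle
      (IsNoetherian.noetherian _)
    refine ⟨_, hmax.isPrime, ?_⟩
    symm
    apply hm.eq_of_le (Ideal.comap_ne_top _ hmax.ne_top)
    exact Ideal.le_comap_map

end Completion

end Groth.Agent.Lib.Helper77.ComplDim
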