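import Mathlib
import Groth.Prelude.Def_ResDeg
import Groth.Agent.Lib.Helper9.PtFunSpec

set_option autoImplicit false

universe u

open CategoryTheory CategoryTheory.Limits AlgebraicGeometry

namespace Groth.Agent.Lib.Helper77.Cyc1941GC

open Groth.Agent.Lib.Helper9.PtFunSpec

theorem ev_eq (A : Type u) [CommRing A] (x : Spec (CommRingCat.of A)) (a : A) :
    ev A x a = (Scheme.Spec.residueFieldIso (CommRingCat.of A) x).inv
      (algebraMap A x.asIdeal.ResidueField a) := by
  have h := Scheme.Spec.algebraMap_residueFieldIso_inv (CommRingCat.of A) x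
  have h2 := congrArg (fun f => f.hom a) h
  exact h2.symm

theorem ev_surjective (A : Type u) [CommRing A] (x : Spec (CommRingCat.of A))
    (hx : x.asIdeal.IsMaximal) : Function.Surjective (ev A x) := by
  intro y
  obtain ⟨a, ha⟩ := Ideal.algebraMap_residueField_surjective x.asIdeal
    ((Scheme.Spec.residueFieldIso (CommRingCat.of A) x).hom y)
  refine ⟨a, ?_⟩
  rw [ev_eq, ha]
  exact Iso.hom_inv_id_apply (Scheme.Spec.residueFieldIso (CommRingCat.of A) x) y

theorem ker_ev (A : Type u) [CommRing A] (x : Spec (CommRingCat.of A)) :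
    RingHom.ker (ev A x) = x.asIdeal := by
  ext a
  rw [RingHom.mem_ker, ev_eq_zero_iff]

/-- the residue field at a maximal point of `Spec A` is `A ⧸ m`. -/
noncomputable def quotEquiv (A : Type u) [CommRing A] (x : Spec (CommRingCat.of A))
    (hx : x.asIdeal.IsMaximal) (m : Ideal A) (hm : m = x.asIdeal) :
    (A ⧸ m) ≃+* (Spec (CommRingCat.of A)).residueField x :=
  (Ideal.quotEquivOfEq (hm.trans (ker_ev A x).symm)).trans
    (RingHom.quotientKerEquivOfSurjective (ev_surjective A x hx))

theorem quotEquiv_mk (A : Type u) [CommRing A] (x : Spec (CommRingCat.of A))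
    (hx : x.asIdeal.IsMaximal) (m : Ideal A) (hm : m = x.asIdeal) (a : A) :
    quotEquiv A x hx m hm (Ideal.Quotient.mk m a) = ev A x a := by
  simp only [quotEquiv, RingEquiv.trans_apply, Ideal.quotEquivOfEq_mk,
    RingHom.quotientKerEquivOfSurjective_apply_mk]

theorem residueDegree_specMap_eq {A T : Type u} [CommRing A] [IsLocalRing A] [CommRing T]
    [Algebra A T] [Module.Finite A T] (n : PrimeSpectrum T) (hn : n.asIdeal.IsMaximal) :
    EGA4loc.residueDegree (Spec.map (CommRingCat.ofHom (algebraMap A T))) n =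
      (Module.length A (T ⧸ n.asIdeal)).toNat := by
  haveI := hn
  -- the point below
  let F := Spec.map (CommRingCat.ofHom (algebraMap A T))
  let n' : Spec (CommRingCat.of T) := n
  let x : Spec (CommRingCat.of A) := F n'
  have hxid : x.asIdeal = n.asIdeal.under A := rfl
  haveI hAT : Algebra.IsIntegral A T := Algebra.IsIntegral.of_finite A T
  haveI hmax : (n.asIdeal.under A).IsMaximal :=
    Ideal.isMaximal_comap_of_isIntegral_of_isMaximal n.asIdeal
  have hxmax : x.asIdeal.IsMaximal := hxid ▸ hmax
  -- the two quotient fields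
  letI : Field (A ⧸ n.asIdeal.under A) := Ideal.Quotient.field _
  letI : Field (T ⧸ n.asIdeal) := Ideal.Quotient.field _
  haveI : Module.Finite A (T ⧸ n.asIdeal) :=
    Module.Finite.of_surjective (Ideal.Quotient.mkₐ A n.asIdeal).toLinearMap
      (Ideal.Quotient.mkₐ_surjective A n.asIdeal)
  haveI : Module.Finite (A ⧸ n.asIdeal.under A) (T ⧸ n.asIdeal) :=
    Module.Finite.of_restrictScalars_finite A _ _
  have h1 : Module.length A (T ⧸ n.asIdeal) =
      Module.length (A ⧸ n.asIdeal.under A) (T ⧸ n.asIdeal) :=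
    Module.length_eq_of_surjective (S := A) (R := A ⧸ n.asIdeal.under A)
      (M := T ⧸ n.asIdeal) Ideal.Quotient.mk_surjective
  rw [h1, Module.length_eq_finrank, ENat.toNat_coe]
  -- compare the finranks
  unfold EGA4loc.residueDegree
  let i := quotEquiv A x hxmax (n.asIdeal.under A) hxid.symm
  let j := quotEquiv T n' hn n.asIdeal rfl
  letI := (F.residueFieldMap n').hom.toAlgebra
  symm
  refine Algebra.finrank_eq_of_equiv_equiv i j ?_
  apply Ideal.Quotient.ringHom_ext
  ext a
  simp only [RingHom.comp_apply, RingEquiv.toRingHom_eq_coe, RingEquiv.coe_toRingHom]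
  rw [Ideal.Quotient.algebraMap_mk_of_liesOver]
  show (F.residueFieldMap n').hom (i (Ideal.Quotient.mk _ a)) = j (Ideal.Quotient.mk _ _)
  rw [quotEquiv_mk, quotEquiv_mk]
  exact residueFieldMap_ev A (algebraMap A T) n' a

end Groth.Agent.Lib.Helper77.Cyc1941GC
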