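import Groth.Agent.Lib.Helper67.Depth
import Mathlib.RingTheory.Regular.Flat
import Mathlib.RingTheory.Flat.FaithfullyFlat.Algebra
universe u
set_option autoImplicit false
open RingTheory.Sequence LocCoh TensorProduct
open Groth.Agent.Lib.Helper67

/-!
# Depth under flat / faithfully flat base change (helper77; uses helper67's Depth lib)
-/
namespace Groth.Agent.Lib.Helper77.DepthBaseChange

section
variable {A B : Type u} [CommRing A] [CommRing B] [Algebra A B]
  {M N : Type u} [AddCommGroup M] [Module A M] [AddCommGroup N] [Module A N] [Module B N]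
  [IsScalarTower A B N] {f : M →ₗ[A] N}

theorem map_smul_top_eq_top (hf : IsBaseChange B f) (I : Ideal A)
    (h : I • (⊤ : Submodule A M) = ⊤) :
    I.map (algebraMap A B) • (⊤ : Submodule B N) = ⊤ := by
  rw [eq_top_iff]
  rintro x -
  induction x using hf.inductionOn with
  | zero => exact Submodule.zero_mem _
  | tmul m =>
    have hm : m ∈ I • (⊤ : Submodule A M) := by rw [h]; exact Submodule.mem_top
    refine Submodule.smul_induction_on hm ?_ ?_
    · intro i hi m' _
      rw [map_smul, ← algebraMap_smul B i (f m')]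
      exact Submodule.smul_mem_smul (Ideal.mem_map_of_mem _ hi) Submodule.mem_top
    · intro x y hx hy
      rw [map_add]; exact Submodule.add_mem _ hx hy
  | smul s n hn => exact Submodule.smul_mem _ s hn
  | add n₁ n₂ h₁ h₂ => exact Submodule.add_mem _ h₁ h₂

theorem idealDepth_le_of_flat [Module.Flat A B] (hf : IsBaseChange B f) (I : Ideal A) :
    idealDepth I M ≤ idealDepth (I.map (algebraMap A B)) N := by
  rw [← ENat.forall_natCast_le_iff_le]
  intro n hn
  rw [le_idealDepth_iff] at hn ⊢
  rcases hn with h | ⟨rs, hlen, hreg, hmem⟩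
  · exact Or.inl (map_smul_top_eq_top hf I h)
  · refine Or.inr ⟨rs.map (algebraMap A B), by simp [hlen], hreg.of_flat_of_isBaseChange hf, ?_⟩
    intro r hr
    obtain ⟨a, ha, rfl⟩ := List.mem_map.mp hr
    exact Ideal.mem_map_of_mem _ (hmem a ha)

theorem injective_of_faithfullyFlat [Module.FaithfullyFlat A B] (hf : IsBaseChange B f) :
    Function.Injective f := by
  intro m₁ m₂ h
  have h1 : hf.equiv ((1 : B) ⊗ₜ[A] m₁) = hf.equiv ((1 : B) ⊗ₜ[A] m₂) := by
    rw [hf.equiv_tmul, hf.equiv_tmul, h]
  have h2 := hf.equiv.injective h1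
  exact Module.FaithfullyFlat.tensorProduct_mk_injective (A := A) (B := B) M h2


theorem exists_regular_of_faithfullyFlat [IsNoetherianRing A] [Module.Finite A M]
    [Module.FaithfullyFlat A B] (hf : IsBaseChange B f) (I : Ideal A)
    (hIM : I • (⊤ : Submodule A M) ≠ ⊤)
    (y : B) (hy : y ∈ I.map (algebraMap A B)) (hreg : IsSMulRegular N y) :
    ∃ x ∈ I, IsSMulRegular M x := by
  by_contra hcon
  push Not at hcon
  have hnt : Nontrivial M := by
    by_contra h
    rw [not_nontrivial_iff_subsingleton] at h
    exact hIM (Subsingleton.elim _ _)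
  obtain ⟨p, hp, hIp⟩ := (forall_not_isSMulRegular_iff I M).mp hcon
  obtain ⟨hpp, m, hm⟩ := isAssociatedPrime_iff.mp hp
  have hm0 : m ≠ 0 := by
    rintro rfl
    apply hpp.ne_top
    rw [hm, eq_top_iff]
    intro r _
    rw [Submodule.mem_colon_singleton, smul_zero]
    exact Submodule.zero_mem _
  have hkill : ∀ i ∈ I, i • m = 0 := by
    intro i hi
    have := hIp hi
    rw [hm, Submodule.mem_colon_singleton, Submodule.mem_bot] at this
    exact this
  have hle : I.map (algebraMap A B) ≤ LinearMap.ker (LinearMap.toSpanSingleton B N (f m)) := by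
    rw [Ideal.map_le_iff_le_comap]
    intro i hi
    rw [Ideal.mem_comap, LinearMap.mem_ker, LinearMap.toSpanSingleton_apply, algebraMap_smul,
      ← map_smul, hkill i hi, map_zero]
  have hy0 : y • f m = 0 := by
    have := hle hy
    rwa [LinearMap.mem_ker, LinearMap.toSpanSingleton_apply] at this
  have hfm : f m = 0 := hreg (by show y • f m = y • (0 : N); rw [hy0, smul_zero])
  exact hm0 (injective_of_faithfullyFlat hf (by rw [hfm, map_zero]))

end

theorem le_idealDepth_of_faithfullyFlat {A B : Type u} [CommRing A] [CommRing B] [Algebra A B]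
    [IsNoetherianRing A] [IsNoetherianRing B]
    [Module.FaithfullyFlat A B] (I : Ideal A) (n : ℕ) :
    ∀ (M N : Type u) [AddCommGroup M] [Module A M] [AddCommGroup N] [Module A N] [Module B N]
      [IsScalarTower A B N] [Module.Finite A M] [Module.Finite B N] (f : M →ₗ[A] N)
      (_ : IsBaseChange B f),
      (n : ℕ∞) ≤ idealDepth (I.map (algebraMap A B)) N → (n : ℕ∞) ≤ idealDepth I M := by
  induction n with
  | zero => intros; simp
  | succ n ih =>
    intro M N _ _ _ _ _ _ _ _ f hf hn
    by_cases hIM : I • (⊤ : Submodule A M) = ⊤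
    · rw [idealDepth_eq_top_of_smul_top_eq_top I M hIM]; exact le_top
    · have hIN : I.map (algebraMap A B) • (⊤ : Submodule B N) ≠ ⊤ :=
        (hf.map_smul_top_ne_top_iff_of_faithfullyFlat A M I).mpr hIM
      have h1 : 1 ≤ idealDepth (I.map (algebraMap A B)) N := by
        refine le_trans ?_ hn
        exact_mod_cast Nat.succ_le_succ (Nat.zero_le n)
      obtain h | ⟨y, hy, hyreg⟩ := (one_le_idealDepth_iff _ N).mp h1
      · exact absurd h hIN
      obtain ⟨x, hx, hxreg⟩ := exists_regular_of_faithfullyFlat hf I hIM y hy hyreg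
      have hxN : IsSMulRegular N (algebraMap A B x) := hxreg.of_flat_of_isBaseChange hf
      have e1 := idealDepth_quotSMulTop_add_one I M hIM x hx hxreg
      have e2 := idealDepth_quotSMulTop_add_one (I.map (algebraMap A B)) N hIN (algebraMap A B x)
        (Ideal.mem_map_of_mem _ hx) hxN
      let e := (QuotSMulTop.algebraMapTensorEquivTensorQuotSMulTop x M B).symm ≪≫ₗ
        QuotSMulTop.congr ((algebraMap A B) x) hf.equiv
      have hg : IsBaseChange B
          (e.toLinearMap.restrictScalars A ∘ₗ TensorProduct.mk A B (QuotSMulTop x M) 1) :=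
        IsBaseChange.of_equiv e (fun _ ↦ by simp)
      have hn' : (n : ℕ∞) ≤
          idealDepth (I.map (algebraMap A B)) (QuotSMulTop (algebraMap A B x) N) := by
        rw [← e2] at hn
        push_cast at hn
        exact (ENat.add_le_add_iff_right (by simp)).mp hn
      have := ih (QuotSMulTop x M) (QuotSMulTop (algebraMap A B x) N) _ hg hn'
      rw [← e1]
      push_cast
      exact add_le_add_left this 1

theorem idealDepth_eq_of_faithfullyFlat {A B : Type u} [CommRing A] [CommRing B] [Algebra A B]
    [IsNoetherianRing A] [IsNoetherianRing B] [Module.FaithfullyFlat A B] (I : Ideal A)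
    (M N : Type u) [AddCommGroup M] [Module A M] [AddCommGroup N] [Module A N] [Module B N]
    [IsScalarTower A B N] [Module.Finite A M] [Module.Finite B N] (f : M →ₗ[A] N)
    (hf : IsBaseChange B f) :
    idealDepth (I.map (algebraMap A B)) N = idealDepth I M := by
  apply le_antisymm
  · rw [← ENat.forall_natCast_le_iff_le]
    intro n hn
    exact le_idealDepth_of_faithfullyFlat I n M N f hf hn
  · exact idealDepth_le_of_flat hf I

end Groth.Agent.Lib.Helper77.DepthBaseChange
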