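import Mathlib
import Groth.Prelude.Def_Wider
import Groth.Agent.Lib.Helper67.IterLoc2

set_option autoImplicit false

universe u

namespace Groth.Agent.Lib.Helper77.DepthTransport

/-- depth at primes is invariant under a ring iso + semilinear module iso. -/
theorem depth_atPrime_of_semilinear {R R' : Type u} [CommRing R] [CommRing R']
    [IsNoetherianRing R] [IsNoetherianRing R'] (σ : R ≃+* R') {X X' : Type u}
    [AddCommGroup X] [Module R X] [Module.Finite R X] [AddCommGroup X'] [Module R' X']
    (τ : X ≃+ X') (hτ : ∀ (r : R) (x : X), τ (r • x) = σ r • τ x)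
    (P' : Ideal R') [P'.IsPrime] (P : Ideal R) [P.IsPrime]
    (hP : P = P'.comap (σ : R →+* R')) :
    LocCoh.depth (Localization.AtPrime P) (LocalizedModule P.primeCompl X) =
      LocCoh.depth (Localization.AtPrime P') (LocalizedModule P'.primeCompl X') := by
  have hmem : ∀ r : R, r ∈ P.primeCompl ↔ σ r ∈ P'.primeCompl := by
    intro r
    subst hP
    exact Iff.rfl
  letI algΩ : Algebra R (Localization.AtPrime P') :=
    ((algebraMap R' (Localization.AtPrime P')).comp (σ : R →+* R')).toAlgebra
  have halg : ∀ r : R, algebraMap R (Localization.AtPrime P') r =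
      algebraMap R' (Localization.AtPrime P') (σ r) := fun _ => rfl
  letI modN : Module R (LocalizedModule P'.primeCompl X') :=
    Module.compHom _ (algebraMap R (Localization.AtPrime P'))
  haveI : IsScalarTower R (Localization.AtPrime P') (LocalizedModule P'.primeCompl X') :=
    IsScalarTower.of_algebraMap_smul (fun _ _ => rfl)
  have hsmul : ∀ (r : R) (n : LocalizedModule P'.primeCompl X'), r • n = σ r • n := by
    intro r n
    show algebraMap R (Localization.AtPrime P') r • n = σ r • n
    rw [halg, algebraMap_smul]
  -- the localization ring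
  haveI hloc : IsLocalization.AtPrime (Localization.AtPrime P') P := by
    show IsLocalization P.primeCompl (Localization.AtPrime P')
    rw [isLocalization_iff]
    refine ⟨?_, ?_, ?_⟩
    · rintro ⟨y, hy⟩
      rw [halg]
      exact IsLocalization.map_units (Localization.AtPrime P')
        (⟨σ y, (hmem y).1 hy⟩ : P'.primeCompl)
    · intro z
      obtain ⟨⟨x, s⟩, hx⟩ := IsLocalization.surj P'.primeCompl z
      refine ⟨⟨σ.symm x, ⟨σ.symm s, (hmem _).2 (by rw [σ.apply_symm_apply]; exact s.2)⟩⟩, ?_⟩
      show z * algebraMap R (Localization.AtPrime P') (σ.symm s) =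
        algebraMap R (Localization.AtPrime P') (σ.symm x)
      rw [halg, halg, σ.apply_symm_apply, σ.apply_symm_apply]
      exact hx
    · intro x y hxy
      rw [halg, halg] at hxy
      obtain ⟨c, hc⟩ := (IsLocalization.eq_iff_exists P'.primeCompl _).1 hxy
      refine ⟨⟨σ.symm c, (hmem _).2 (by rw [σ.apply_symm_apply]; exact c.2)⟩, ?_⟩
      apply σ.injective
      show σ (σ.symm c * x) = σ (σ.symm c * y)
      rw [map_mul, map_mul, σ.apply_symm_apply]
      exact hc
  -- the linear map
  let f' : X →ₗ[R] LocalizedModule P'.primeCompl X' :=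
    { toFun := fun x => LocalizedModule.mkLinearMap P'.primeCompl X' (τ x)
      map_add' := fun x y => by rw [map_add, map_add]
      map_smul' := fun r x => by
        rw [hτ, map_smul, RingHom.id_apply, hsmul] }
  have hf' : ∀ x, f' x = LocalizedModule.mkLinearMap P'.primeCompl X' (τ x) := fun _ => rfl
  haveI hlocM : IsLocalizedModule P.primeCompl f' := by
    refine ⟨?_, ?_, ?_⟩
    · rintro ⟨s, hs⟩
      rw [Module.End.isUnit_iff]
      have h1 := IsLocalizedModule.map_units (LocalizedModule.mkLinearMap P'.primeCompl X')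
        (⟨σ s, (hmem s).1 hs⟩ : P'.primeCompl)
      rw [Module.End.isUnit_iff] at h1
      convert h1 using 1
      funext n
      show s • n = σ s • n
      exact hsmul s n
    · intro y
      obtain ⟨⟨x, s⟩, hx⟩ := IsLocalizedModule.surj P'.primeCompl
        (LocalizedModule.mkLinearMap P'.primeCompl X') y
      refine ⟨⟨τ.symm x, ⟨σ.symm s, (hmem _).2 (by rw [σ.apply_symm_apply]; exact s.2)⟩⟩, ?_⟩
      show σ.symm (s : R') • y = f' (τ.symm x)
      rw [hf', hsmul, σ.apply_symm_apply, τ.apply_symm_apply]
      exact hx
    · intro x₁ x₂ h12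
      rw [hf', hf'] at h12
      obtain ⟨c, hc⟩ := (IsLocalizedModule.eq_iff_exists P'.primeCompl
        (LocalizedModule.mkLinearMap P'.primeCompl X')).1 h12
      refine ⟨⟨σ.symm c, (hmem _).2 (by rw [σ.apply_symm_apply]; exact c.2)⟩, ?_⟩
      apply τ.injective
      show τ (σ.symm (c : R') • x₁) = τ (σ.symm (c : R') • x₂)
      rw [hτ, hτ, σ.apply_symm_apply]
      exact hc
  exact (Groth.Agent.Lib.Helper67.depth_supportDim_eq_of_isLocalizedModule P
    (Localization.AtPrime P) (Localization.AtPrime P')
    (LocalizedModule.mkLinearMap P.primeCompl X) f').1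

end Groth.Agent.Lib.Helper77.DepthTransport
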