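import Groth.Prelude.Def_SiteCmp

/-!
# `ε_*` on modules is fully faithful; counit `ε^* ε_* F ⟶ F` is an isomorphism
(requested by helper53 for S9071)
-/

set_option autoImplicit false

namespace Groth.Agent.Lib.Helper77.EpsFF
open CategoryTheory Limits
universe u

variable {C : Type u} [SmallCategory C] {J J' : GrothendieckTopology C}

/-- the ring map of `ε` is the identity on sections. -/
theorem sharpR_app_apply (h : J' ≤ J) (O : Sheaf J CommRingCat.{u}) (X : Cᵒᵖ)
    (r : ((ModSite.ringSh (SiteCmp.epsRing h O)).obj.obj X)) :
    ((SiteCmp.eps h O).sharpR.hom.app X).hom r = r := rfl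

instance faithful_push (h : J' ≤ J) (O : Sheaf J CommRingCat.{u}) :
    (SiteCmp.eps h O).push.Faithful where
  map_injective := by
    intro M N f g hfg
    apply SheafOfModules.hom_ext
    apply PresheafOfModules.hom_ext
    intro X
    have h1 := congrArg (fun t => t.val.app X) hfg
    ext m
    exact congrArg (fun t => t.hom m) h1

/-- the preimage of a morphism `ε_* M ⟶ ε_* N`: same underlying maps. -/
noncomputable def preimage (h : J' ≤ J) (O : Sheaf J CommRingCat.{u}) {M N : ModSite.Mod O}
    (g : (SiteCmp.eps h O).push.obj M ⟶ (SiteCmp.eps h O).push.obj N) : M ⟶ N :=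
  ⟨{ app := fun X => ModuleCat.ofHom
        { toFun := fun m => (g.val.app X).hom m
          map_add' := fun a b => map_add (g.val.app X).hom a b
          map_smul' := fun r m => (g.val.app X).hom.map_smul r m }
     naturality := fun {X Y} f => by
        ext m
        exact PresheafOfModules.naturality_apply g.val f m }⟩

theorem map_preimage (h : J' ≤ J) (O : Sheaf J CommRingCat.{u}) {M N : ModSite.Mod O}
    (g : (SiteCmp.eps h O).push.obj M ⟶ (SiteCmp.eps h O).push.obj N) :
    (SiteCmp.eps h O).push.map (preimage h O g) = g := by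
  apply SheafOfModules.hom_ext
  apply PresheafOfModules.hom_ext
  intro X
  ext m
  rfl

instance full_push (h : J' ≤ J) (O : Sheaf J CommRingCat.{u}) :
    (SiteCmp.eps h O).push.Full where
  map_surjective := fun g => ⟨preimage h O g, map_preimage h O g⟩

/-- The counit `ε^* ε_* F ⟶ F` is an isomorphism. -/
theorem isIso_counit_eps (h : J' ≤ J) (O : Sheaf J CommRingCat.{u}) (F : ModSite.Mod O) :
    IsIso ((SiteCmp.eps h O).adj.counit.app F) := by
  haveI : IsIso (SiteCmp.eps h O).adj.counit :=
    Adjunction.counit_isIso_of_R_fully_faithful (SiteCmp.eps h O).adj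
  infer_instance

end Groth.Agent.Lib.Helper77.EpsFF
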