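import Groth.Agent.Lib.Helper77.EtIC1

set_option autoImplicit false
universe u

namespace Groth.Agent.Lib.Helper77.EtIC

open TensorProduct

section Generic

variable (R K S L : Type*) [CommRing R] [IsDomain R] [IsIntegrallyClosed R]
  [Field K] [Algebra R K] [IsFractionRing R K]
  [CommRing S] [Algebra R S] [Algebra.Etale R S] [Module.Finite R S]
  [Field L] [Algebra R L] [Algebra K L] [IsScalarTower R K L]
  (φ : S →ₐ[R] L)

/-- The induced map `K ⊗ S → L`. -/
noncomputable def psi : K ⊗[R] S →ₐ[K] L :=
  Algebra.TensorProduct.lift (Algebra.ofId K L) φ (fun _ _ => Commute.all _ _)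

@[simp] lemma psi_tmul (k : K) (s : S) : psi R K S L φ (k ⊗ₜ s) = algebraMap K L k * φ s := by
  simp [psi, Algebra.ofId_apply]

variable {R K S L φ}

/-- Data extracted from surjectivity of `psi`: an idempotent `e_S` of `S` generating... -/
theorem exists_idem (hsurj : Function.Surjective (psi R K S L φ)) :
    ∃ e : K ⊗[R] S, IsIdempotentElem e ∧ psi R K S L φ e = 1 ∧
      ∀ z, psi R K S L φ z = 0 → e * z = 0 := by
  haveI : IsArtinianRing (K ⊗[R] S) := IsArtinianRing.of_finite K _
  haveI : IsReduced (K ⊗[R] S) := Algebra.FormallyUnramified.isReduced_of_field K _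
  haveI : (RingHom.ker (psi R K S L φ)).IsMaximal := RingHom.ker_isMaximal_of_surjective _ hsurj
  obtain ⟨e, he, h1, h2⟩ := exists_idempotent_of_maximal (K ⊗[R] S) (RingHom.ker (psi R K S L φ))
  refine ⟨e, he, ?_, fun z hz => h2 z hz⟩
  rw [RingHom.mem_ker, map_sub, map_one, sub_eq_zero] at h1
  exact h1.symm

theorem mem_range_of_isIntegral (hsurj : Function.Surjective (psi R K S L φ)) (x : L)
    (hx : IsIntegral R x) : x ∈ φ.range := by
  obtain ⟨e, he, he1, hez⟩ := exists_idem hsurj
  obtain ⟨y, rfl⟩ := hsurj x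
  obtain ⟨p, hpm, hpx⟩ := hx
  have hpx' : Polynomial.aeval (psi R K S L φ y) p = 0 := hpx
  have h0 : psi R K S L φ (Polynomial.aeval y p) = 0 := by
    rw [← hpx']
    exact (Polynomial.aeval_algHom_apply ((psi R K S L φ).restrictScalars R) y p).symm
  have h1 : e * Polynomial.aeval y p = 0 := hez _ h0
  have hint : IsIntegral R (e * y) := by
    refine ⟨Polynomial.X * p, Polynomial.monic_X.mul hpm, ?_⟩
    show Polynomial.aeval (e * y) (Polynomial.X * p) = 0
    rw [map_mul, Polynomial.aeval_X, mul_comm e y, mul_assoc, mul_comm y e, idem_mul_aeval he, h1,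
      mul_zero]
  obtain ⟨b, hb⟩ := exists_eq_tmul_of_isIntegral R K S (e * y) hint
  refine ⟨b, ?_⟩
  have : psi R K S L φ (e * y) = psi R K S L φ y := by rw [map_mul, he1, one_mul]
  rw [← this, hb]
  simp

theorem integralClosure_eq_range (hsurj : Function.Surjective (psi R K S L φ)) :
    integralClosure R L = φ.range := by
  apply le_antisymm
  · intro x hx
    exact mem_range_of_isIntegral hsurj x hx
  · rintro _ ⟨s, rfl⟩
    exact (Algebra.IsIntegral.isIntegral (R := R) s).map φ

theorem etale_integralClosure (hsurj : Function.Surjective (psi R K S L φ)) :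
    Algebra.Etale R ↥(integralClosure R L) := by
  obtain ⟨e, he, he1, hez⟩ := exists_idem hsurj
  obtain ⟨eS, heS⟩ := exists_eq_tmul_of_isIntegral R K S e
    ⟨Polynomial.X ^ 2 - Polynomial.X, by
      apply Polynomial.monic_X_pow_sub
      rw [Polynomial.degree_X]; norm_num, by
      simp [pow_two, he.eq]⟩
  have hinj : Function.Injective (Algebra.TensorProduct.includeRight : S →ₐ[R] K ⊗[R] S) :=
    Algebra.TensorProduct.includeRight_injective (IsFractionRing.injective R K)
  have hidem : IsIdempotentElem eS := by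
    apply hinj
    show (1 : K) ⊗ₜ[R] (eS * eS) = 1 ⊗ₜ eS
    have := he.eq
    rw [heS, Algebra.TensorProduct.tmul_mul_tmul, one_mul] at this
    exact this
  let φ' : S →ₐ[R] ↥(integralClosure R L) :=
    φ.codRestrict _ (fun s => (Algebra.IsIntegral.isIntegral (R := R) s).map φ)
  have hφ'surj : Function.Surjective φ' := by
    rintro ⟨x, hx⟩
    obtain ⟨s, hs⟩ := mem_range_of_isIntegral hsurj x hx
    exact ⟨s, Subtype.ext hs⟩
  have hφ1 : ∀ s : S, φ s = psi R K S L φ (1 ⊗ₜ s) := by intro s; simp
  have hker : RingHom.ker φ'.toRingHom = Ideal.span {1 - eS} := by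
    apply le_antisymm
    · intro b hb
      have hb0 : φ b = 0 := by
        have := congrArg Subtype.val (RingHom.mem_ker.mp hb)
        exact this
      have h2 : e * (1 ⊗ₜ b) = 0 := hez _ (by rw [← hφ1, hb0])
      rw [heS, Algebra.TensorProduct.tmul_mul_tmul, one_mul] at h2
      have h3 : eS * b = 0 := by
        apply hinj
        show (1 : K) ⊗ₜ[R] (eS * b) = Algebra.TensorProduct.includeRight 0
        rw [h2, map_zero]
      rw [Ideal.mem_span_singleton]
      exact ⟨b, by rw [sub_mul, one_mul, h3, sub_zero]⟩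
    · rw [Ideal.span_singleton_le_iff_mem, RingHom.mem_ker]
      apply Subtype.ext
      show φ (1 - eS) = 0
      rw [hφ1, TensorProduct.tmul_sub, ← heS, map_sub, he1]
      have : psi R K S L φ ((1 : K) ⊗ₜ[R] (1 : S)) = 1 := by
        rw [← Algebra.TensorProduct.one_def, map_one]
      rw [this, sub_self]
  letI : Algebra S ↥(integralClosure R L) := φ'.toRingHom.toAlgebra
  haveI : IsScalarTower R S ↥(integralClosure R L) :=
    IsScalarTower.of_algebraMap_eq fun r => (φ'.commutes r).symm
  haveI : IsLocalization.Away eS ↥(integralClosure R L) :=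
    IsLocalization.away_of_isIdempotentElem hidem hker hφ'surj
  haveI : Algebra.Etale S ↥(integralClosure R L) := Algebra.Etale.of_isLocalizationAway eS
  exact Algebra.Etale.comp R S ↥(integralClosure R L)

end Generic

end Groth.Agent.Lib.Helper77.EtIC
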