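import Groth.Agent.Lib.Helper77.EtIC2

set_option autoImplicit false
universe u

namespace Groth.Agent.Lib.Helper77.EtIC

open TensorProduct

section Main

variable (A A' L L₁ : Type u) [CommRing A] [IsDomain A]
    [IsIntegrallyClosed A] [CommRing A'] [IsDomain A'] [IsIntegrallyClosed A'] [Algebra A A']
    [Field L] [Algebra A L] [Algebra.IsAlgebraic A L]
    [Algebra.Etale A ↥(integralClosure A L)]
    [Field L₁] [Algebra A' L₁] [Algebra L L₁] [Algebra A L₁] [IsScalarTower A A' L₁]
    [IsScalarTower A L L₁]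

/-- The map `C → L₁`. -/
noncomputable def gmap : ↥(integralClosure A L) →ₐ[A] L₁ :=
  (IsScalarTower.toAlgHom A L L₁).comp (integralClosure A L).val

/-- The map `A' ⊗ C → L₁`. -/
noncomputable def phi : A' ⊗[A] ↥(integralClosure A L) →ₐ[A'] L₁ :=
  Algebra.TensorProduct.lift (Algebra.ofId A' L₁) (gmap A L L₁) (fun _ _ => Commute.all _ _)

lemma phi_tmul (a : A') (c : ↥(integralClosure A L)) :
    phi A A' L L₁ (a ⊗ₜ c) = algebraMap A' L₁ a * algebraMap L L₁ (c : L) := by
  simp [phi, gmap, Algebra.ofId_apply]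

theorem main (hinj : Function.Injective (algebraMap A L))
    (hinj' : Function.Injective (algebraMap A' L₁))
    (hgen : Subfield.closure (Set.range (algebraMap A' L₁) ∪ Set.range (algebraMap L L₁)) = ⊤) :
    Algebra.Etale A' ↥(integralClosure A' L₁) ∧
      integralClosure A' L₁ =
        Algebra.adjoin A' ((algebraMap L L₁) '' {x : L | IsIntegral A x}) := by
  -- finiteness of `C`
  haveI : Algebra.IsIntegral A ↥(integralClosure A L) := inferInstance
  haveI : Module.Finite A ↥(integralClosure A L) := Algebra.IsIntegral.finite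
  -- the fraction field of `A'` inside `L₁`
  letI : Algebra (FractionRing A') L₁ := (IsFractionRing.lift hinj').toAlgebra
  haveI : IsScalarTower A' (FractionRing A') L₁ :=
    IsScalarTower.of_algebraMap_eq fun r => (IsFractionRing.lift_algebraMap hinj' r).symm
  -- surjectivity of psi
  have hsurj : Function.Surjective
      (psi A' (FractionRing A') (A' ⊗[A] ↥(integralClosure A L)) L₁ (phi A A' L L₁)) := by
    obtain ⟨ψ, hψ⟩ : ∃ ψ, ψ =
      psi A' (FractionRing A') (A' ⊗[A] ↥(integralClosure A L)) L₁ (phi A A' L L₁) := ⟨_, rfl⟩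
    rw [← hψ]
    have hinv : ∀ x ∈ ψ.range, x⁻¹ ∈ ψ.range := by
      intro x hx
      have : IsAlgebraic (FractionRing A') ((⟨x, hx⟩ : ψ.range) : L₁) := by
        obtain ⟨y, rfl⟩ := hx
        exact ((Algebra.IsIntegral.isIntegral (R := FractionRing A') y).map ψ).isAlgebraic
      exact ψ.range.inv_mem_of_algebraic (x := ⟨x, hx⟩) this
    let T : Subfield L₁ := { ψ.range.toSubring with inv_mem' := hinv }
    have hT : ∀ x, x ∈ T ↔ x ∈ ψ.range := fun x => Iff.rfl
    have hle : Subfield.closure
        (Set.range (algebraMap A' L₁) ∪ Set.range (algebraMap L L₁)) ≤ T := by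
      rw [Subfield.closure_le]
      rintro x (⟨a, rfl⟩ | ⟨l, rfl⟩)
      · rw [SetLike.mem_coe, hT]
        exact (AlgHom.mem_range _).mpr
          ⟨(1 : FractionRing A') ⊗ₜ (a ⊗ₜ 1), by rw [hψ, psi_tmul, phi_tmul]; simp⟩
      · rw [SetLike.mem_coe]
        obtain ⟨y, hy0, hy⟩ := (Algebra.IsAlgebraic.isAlgebraic (R := A) l).exists_integral_multiple
        have hyT : algebraMap A L₁ y ∈ T := by
          rw [hT]
          exact (AlgHom.mem_range _).mpr ⟨(1 : FractionRing A') ⊗ₜ (algebraMap A A' y ⊗ₜ 1), by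
            rw [hψ, psi_tmul, phi_tmul]; simp [← IsScalarTower.algebraMap_apply]⟩
        have hcT : algebraMap L L₁ (y • l) ∈ T := by
          rw [hT]
          exact (AlgHom.mem_range _).mpr ⟨(1 : FractionRing A') ⊗ₜ (1 ⊗ₜ ⟨y • l, hy⟩), by
            rw [hψ, psi_tmul, phi_tmul]; simp⟩
        have hne : algebraMap A L₁ y ≠ 0 := by
          rw [IsScalarTower.algebraMap_apply A L L₁]
          intro h
          have h' := (map_eq_zero (algebraMap L L₁)).mp h
          exact hy0 (hinj (by rw [h', map_zero]))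
        have : algebraMap L L₁ l = (algebraMap A L₁ y)⁻¹ * algebraMap L L₁ (y • l) := by
          rw [Algebra.smul_def, map_mul, ← IsScalarTower.algebraMap_apply A L L₁, ← mul_assoc,
            inv_mul_cancel₀ hne, one_mul]
        rw [this]
        exact T.mul_mem (T.inv_mem hyT) hcT
    rw [hgen] at hle
    intro x
    exact (hT x).mp (hle (Subfield.mem_top x))
  refine ⟨etale_integralClosure hsurj, ?_⟩
  rw [integralClosure_eq_range hsurj]
  apply le_antisymm
  · rintro _ ⟨t, rfl⟩
    induction t with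
    | zero => simp
    | add x y hx hy => rw [map_add]; exact add_mem hx hy
    | tmul a c =>
      have : (phi A A' L L₁).toRingHom (a ⊗ₜ c) = a • algebraMap L L₁ (c : L) := by
        show phi A A' L L₁ (a ⊗ₜ c) = _
        rw [phi_tmul, Algebra.smul_def]
      rw [this]
      have hmem : algebraMap L L₁ (c : L) ∈
          Algebra.adjoin A' ((algebraMap L L₁) '' {x : L | IsIntegral A x}) :=
        Algebra.subset_adjoin (Set.mem_image_of_mem _ c.2)
      exact Subalgebra.smul_mem _ hmem a
  · rw [Algebra.adjoin_le_iff]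
    rintro _ ⟨x, hx, rfl⟩
    exact (AlgHom.mem_range _).mpr ⟨1 ⊗ₜ ⟨x, hx⟩, by
      rw [phi_tmul]; simp⟩

end Main

end Groth.Agent.Lib.Helper77.EtIC
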