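import Groth.Agent.Lib.Helper77.RegularCompletion
import Groth.Agent.Lib.Helper76.RegularLocal
import Mathlib.RingTheory.Smooth.Flat
import Mathlib.RingTheory.Etale.Pi
import Mathlib.RingTheory.Unramified.LocalRing
import Mathlib.RingTheory.DedekindDomain.Dvr
import Mathlib.RingTheory.LocalProperties.Reduced
import Mathlib.RingTheory.DiscreteValuationRing.TFAE
universe u
set_option autoImplicit false
open IsLocalRing Function

/-!
# Etale algebras over Dedekind domains (helper77)
-/
namespace Groth.Agent.Lib.Helper77.EtaleDedekind

/-- localizations of an étale algebra over a Dedekind domain are regular local of dimension ≤ 1 -/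
theorem loc_regular (A C : Type u) [CommRing A] [IsDedekindDomain A] [CommRing C] [Algebra A C]
    [Algebra.Etale A C] (q : Ideal C) [q.IsPrime] :
    IsRegularLocalRing (Localization.AtPrime q) ∧ ringKrullDim (Localization.AtPrime q) ≤ 1 := by
  have hNC : IsNoetherianRing C := Algebra.FiniteType.isNoetherianRing A C
  have : q.LiesOver (q.comap (algebraMap A C)) := ⟨rfl⟩
  let _ := Localization.AtPrime.algebraOfLiesOver (q.comap (algebraMap A C)) q
  have hloc : IsLocalHom (algebraMap (Localization.AtPrime (q.comap (algebraMap A C)))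
      (Localization.AtPrime q)) :=
    Localization.isLocalHom_localRingHom (q.comap (algebraMap A C)) q (algebraMap A C) rfl
  have hNB : IsNoetherianRing (Localization.AtPrime q) :=
    IsLocalization.isNoetherianRing q.primeCompl _ inferInstance
  have hflat : Module.Flat (Localization.AtPrime (q.comap (algebraMap A C)))
      (Localization.AtPrime q) := inferInstance
  have hu1 : Algebra.FormallyUnramified A (Localization.AtPrime q) :=
    Algebra.FormallyUnramified.comp A C _
  have hu2 : Algebra.FormallyUnramified (Localization.AtPrime (q.comap (algebraMap A C)))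
      (Localization.AtPrime q) := Algebra.FormallyUnramified.of_restrictScalars A _ _
  have he1 : Algebra.EssFiniteType A (Localization.AtPrime q) :=
    Algebra.EssFiniteType.comp A C _
  have he2 : Algebra.EssFiniteType (Localization.AtPrime (q.comap (algebraMap A C)))
      (Localization.AtPrime q) := Algebra.EssFiniteType.of_comp A _ _
  have hmap := Algebra.FormallyUnramified.map_maximalIdeal
    (R := Localization.AtPrime (q.comap (algebraMap A C))) (S := Localization.AtPrime q)
  have hreg : IsRegularLocalRing (Localization.AtPrime q) :=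
    RegularCompletion.regular_of_flat_of_map_maximalIdeal
      (Localization.AtPrime (q.comap (algebraMap A C))) (Localization.AtPrime q) hmap
  refine ⟨hreg, ?_⟩
  have h1 : (maximalIdeal (Localization.AtPrime q)).spanFinrank ≤
      (maximalIdeal (Localization.AtPrime (q.comap (algebraMap A C)))).spanFinrank := by
    rw [← hmap]
    exact Ideal.spanFinrank_map_le_of_fg _ (IsNoetherian.noetherian _)
  have h2 : ((maximalIdeal (Localization.AtPrime (q.comap (algebraMap A C)))).spanFinrank :
      WithBot ℕ∞) = ringKrullDim (Localization.AtPrime (q.comap (algebraMap A C))) :=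
    IsRegularLocalRing.spanFinrank_maximalIdeal
  have h3 : ringKrullDim (Localization.AtPrime (q.comap (algebraMap A C))) ≤ 1 :=
    Ring.krullDimLE_iff.mp inferInstance
  calc ringKrullDim (Localization.AtPrime q)
      = ((maximalIdeal (Localization.AtPrime q)).spanFinrank : WithBot ℕ∞) :=
        (IsRegularLocalRing.spanFinrank_maximalIdeal).symm
    _ ≤ ((maximalIdeal (Localization.AtPrime (q.comap (algebraMap A C)))).spanFinrank :
        WithBot ℕ∞) := by exact_mod_cast h1
    _ = _ := h2
    _ ≤ 1 := h3

/-- a regular local ring of dimension `≤ 1` that is not a field is a DVR -/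
theorem dvr_of_regular (R : Type u) [CommRing R] [IsRegularLocalRing R]
    (hd : ringKrullDim R ≤ 1) (hf : ¬ IsField R) :
    ∃ _ : IsDomain R, IsDiscreteValuationRing R := by
  have hdom := Groth.Agent.Lib.Helper76.isDomain_of_isRegularLocalRing R
  refine ⟨hdom, ?_⟩
  have h5 : Module.finrank (ResidueField R) (CotangentSpace R) ≤ 1 := by
    have h := (IsRegularLocalRing.iff_finrank_cotangentSpace R).mp inferInstance
    rw [← h] at hd
    exact_mod_cast hd
  have hP : (maximalIdeal R).IsPrincipal := finrank_cotangentSpace_le_one_iff.mp h5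
  exact ((IsDiscreteValuationRing.TFAE R hf).out 0 4).mpr hP

/-- if `B_m` is a domain then any minimal prime inside `m` is the kernel of `B → B_m` -/
theorem minimalPrime_eq_ker (B : Type u) [CommRing B] (m : Ideal B) [m.IsPrime]
    [IsDomain (Localization.AtPrime m)]
    (p : Ideal B) (hp : p ∈ minimalPrimes B) (hpm : p ≤ m) :
    p = RingHom.ker (algebraMap B (Localization.AtPrime m)) := by
  have hK : (RingHom.ker (algebraMap B (Localization.AtPrime m))).IsPrime := RingHom.ker_isPrime _
  have hle : RingHom.ker (algebraMap B (Localization.AtPrime m)) ≤ p := by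
    intro x hx
    rw [RingHom.mem_ker, IsLocalization.map_eq_zero_iff m.primeCompl] at hx
    obtain ⟨⟨s, hs⟩, hsx⟩ := hx
    have hmem : s * x ∈ p := by rw [hsx]; exact p.zero_mem
    have hpp : p.IsPrime := hp.1.1
    rcases hpp.mem_or_mem hmem with h | h
    · exact absurd (hpm h) hs
    · exact h
  exact le_antisymm (hp.2 ⟨hK, bot_le⟩ hle) hle

/-- a Noetherian ring whose localizations at maximal ideals are domains is the finite product of
its quotients by the minimal primes -/
theorem exists_algEquiv_pi (A B : Type u) [CommRing A] [CommRing B] [Algebra A B]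
    [IsNoetherianRing B]
    (hloc : ∀ (m : Ideal B) [m.IsMaximal], IsDomain (Localization.AtPrime m)) :
    ∃ (n : ℕ) (f : Fin n → Ideal B), (∀ i, (f i).IsPrime) ∧
      Nonempty (B ≃ₐ[A] ∀ i, B ⧸ f i) := by
  classical
  have hfin : (minimalPrimes B).Finite := minimalPrimes.finite_of_isNoetherianRing B
  have : Finite ↥(minimalPrimes B) := hfin.to_subtype
  let e := Finite.equivFin ↥(minimalPrimes B)
  refine ⟨Nat.card ↥(minimalPrimes B), fun i => (e.symm i).1, fun i => (e.symm i).2.1.1, ?_⟩
  have hcop : Pairwise (IsCoprime on fun i => ((e.symm i).1 : Ideal B)) := by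
    intro i j hij
    change IsCoprime ((e.symm i).1 : Ideal B) (e.symm j).1
    rw [Ideal.isCoprime_iff_sup_eq]
    by_contra hne
    obtain ⟨m, hm, hle⟩ := Ideal.exists_le_maximal _ hne
    have := hloc m
    have h1 := minimalPrime_eq_ker B m _ (e.symm i).2 (le_sup_left.trans hle)
    have h2 := minimalPrime_eq_ker B m _ (e.symm j).2 (le_sup_right.trans hle)
    apply hij
    apply e.symm.injective
    apply Subtype.ext
    rw [h1, ← h2]
  have hred : IsReduced B := isReduced_ofLocalizationMaximal B
    (fun m hm => by have := hloc m; infer_instance)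
  have hinf : ⨅ i, ((e.symm i).1 : Ideal B) = ⊥ := by
    rw [e.symm.iInf_comp (g := fun p : ↥(minimalPrimes B) => (p.1 : Ideal B)), ← sInf_eq_iInf']
    rw [minimalPrimes, Ideal.sInf_minimalPrimes]
    exact nilradical_eq_zero B
  let φ : B →ₐ[A] ∀ i, B ⧸ ((e.symm i).1 : Ideal B) :=
    Pi.algHom A _ (fun i => Ideal.Quotient.mkₐ A ((e.symm i).1 : Ideal B))
  have hinj : Function.Injective φ := by
    rw [injective_iff_map_eq_zero]
    intro x hx
    have hmem : x ∈ ⨅ i, ((e.symm i).1 : Ideal B) := by
      rw [Ideal.mem_iInf]
      intro i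
      have := congrFun hx i
      exact Ideal.Quotient.eq_zero_iff_mem.mp this
    rw [hinf] at hmem
    exact hmem
  have hsurj : Function.Surjective φ := by
    intro x
    obtain ⟨r, hr⟩ := Ideal.pi_quotient_surjective hcop x
    exact ⟨r, funext hr⟩
  exact ⟨AlgEquiv.ofBijective φ ⟨hinj, hsurj⟩⟩

theorem main (A B : Type u) [CommRing A] [IsDedekindDomain A] [CommRing B] [Algebra A B]
    [Algebra.Etale A B] :
    (∃ (n : ℕ) (D : Fin n → Type u) (_ : ∀ i, CommRing (D i)) (_ : ∀ i, IsDedekindDomain (D i)),
      Nonempty (B ≃+* ∀ i, D i)) ∧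
    ∀ (q : Ideal B) [q.IsMaximal], ¬ IsField (Localization.AtPrime q) →
      ∃ _ : IsDomain (Localization.AtPrime q),
        IsDiscreteValuationRing (Localization.AtPrime q) := by
  have hNB : IsNoetherianRing B := Algebra.FiniteType.isNoetherianRing A B
  have hloc : ∀ (m : Ideal B) [m.IsPrime], IsDomain (Localization.AtPrime m) := fun m _ => by
    have := (loc_regular A B m).1
    exact Groth.Agent.Lib.Helper76.isDomain_of_isRegularLocalRing _
  constructor
  · obtain ⟨n, f, hf, ⟨e⟩⟩ := exists_algEquiv_pi A B (fun m _ => hloc m)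
    refine ⟨n, fun i => B ⧸ f i, fun i => inferInstance, fun i => ?_, ⟨e.toRingEquiv⟩⟩
    have hfe : Algebra.FormallyEtale A (∀ i, B ⧸ f i) := Algebra.FormallyEtale.of_equiv e
    have hfei : Algebra.FormallyEtale A (B ⧸ f i) := (Algebra.FormallyEtale.pi_iff _).mp hfe i
    have hfp : Algebra.FinitePresentation A (B ⧸ f i) :=
      Algebra.FinitePresentation.of_surjective (f := Ideal.Quotient.mkₐ A (f i))
        (Ideal.Quotient.mkₐ_surjective A (f i))
        (IsNoetherian.noetherian _)
    have het : Algebra.Etale A (B ⧸ f i) := ⟨hfei, hfp⟩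
    have : (f i).IsPrime := hf i
    have hdvr : IsDedekindDomainDvr (B ⧸ f i) :=
      { toIsNoetherian := inferInstance
        is_dvr_at_nonzero_prime := fun P hP hPp => by
          obtain ⟨hreg, hdim⟩ := loc_regular A (B ⧸ f i) P
          have hnf : ¬ IsField (Localization.AtPrime P) :=
            IsLocalization.AtPrime.not_isField (B ⧸ f i) hP _
          obtain ⟨_, h⟩ := dvr_of_regular _ hdim hnf
          exact h }
    infer_instance
  · intro q _ hq
    obtain ⟨hreg, hdim⟩ := loc_regular A B q
    exact dvr_of_regular _ hdim hq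

end Groth.Agent.Lib.Helper77.EtaleDedekind
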