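import Mathlib

/-!
# Krull-type separatedness step for the family flatness criterion
(helper55/helper84 FamFlat, step 6)
-/

set_option autoImplicit false
universe u

open IsLocalRing

namespace Groth.Agent.Lib.Helper77.FamKrull

/-- If an element `p` of an `R'`-module `P` dies in `P_𝔮` for every prime `𝔮` of `R'` containing
the ideal `I`, then there is `π ∈ I` with `π • p = p`. -/
theorem exists_mem_smul_eq_of_forall_localized_eq_zero {R' : Type u} [CommRing R'] (I : Ideal R')
    {P : Type u} [AddCommGroup P] [Module R' P] (p : P)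
    (h : ∀ (𝔮 : Ideal R') [𝔮.IsPrime], I ≤ 𝔮 →
      (LocalizedModule.mk p 1 : LocalizedModule 𝔮.primeCompl P) = 0) :
    ∃ π ∈ I, π • p = p := by
  have hann : LinearMap.ker (LinearMap.toSpanSingleton R' P p) ⊔ I = ⊤ := by
    by_contra hne
    obtain ⟨𝔮, h𝔮max, h𝔮⟩ := Ideal.exists_le_maximal _ hne
    haveI : 𝔮.IsPrime := h𝔮max.isPrime
    have h2 := h 𝔮 (le_trans le_sup_right h𝔮)
    rw [← LocalizedModule.zero_mk (1 : 𝔮.primeCompl), LocalizedModule.mk_eq] at h2
    obtain ⟨u, hu⟩ := h2
    rw [one_smul, one_smul, smul_zero] at hu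
    have hu' : (u : R') ∈ LinearMap.ker (LinearMap.toSpanSingleton R' P p) := by
      rw [LinearMap.mem_ker, LinearMap.toSpanSingleton_apply]
      exact hu
    exact u.2 (h𝔮 (Ideal.mem_sup_left hu'))
  have h1 : (1 : R') ∈ LinearMap.ker (LinearMap.toSpanSingleton R' P p) ⊔ I := by
    rw [hann]
    exact Submodule.mem_top
  obtain ⟨t, ht, π, hπ, htπ⟩ := Submodule.mem_sup.mp h1
  refine ⟨π, hπ, ?_⟩
  rw [LinearMap.mem_ker, LinearMap.toSpanSingleton_apply] at ht
  calc π • p = t • p + π • p := by rw [ht, zero_add]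
    _ = (t + π) • p := (add_smul _ _ _).symm
    _ = p := by rw [htπ, one_smul]

/-- Elements of the extended ideal `I R'` act on an `R'`-module `P` into `I • ⊤` (`R`-span). -/
theorem map_smul_mem_smul_top {R : Type u} [CommRing R] {R' : Type u} [CommRing R'] [Algebra R R']
    {P : Type u} [AddCommGroup P] [Module R' P] [Module R P] [IsScalarTower R R' P] (I : Ideal R)
    {x : R'} (hx : x ∈ I.map (algebraMap R R')) (p : P) :
    x • p ∈ I • (⊤ : Submodule R P) := by
  revert p
  unfold Ideal.map at hx
  induction hx using Submodule.span_induction with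
  | mem y hy =>
    intro p
    obtain ⟨a, ha, rfl⟩ := hy
    rw [algebraMap_smul]
    exact Submodule.smul_mem_smul ha Submodule.mem_top
  | zero =>
    intro p
    rw [zero_smul]
    exact Submodule.zero_mem _
  | add y z _ _ hy hz =>
    intro p
    rw [add_smul]
    exact Submodule.add_mem _ (hy p) (hz p)
  | smul r y _ hy =>
    intro p
    rw [smul_eq_mul, mul_comm, mul_smul]
    exact hy (r • p)

/-- **Step (6), abstract form.**  `R` Noetherian local, `R'` an `R`-algebra, `P` an `R'`-module
admitting a jointly injective family of `R`-linear maps `Θ θ : P → Q` into a finite `R`-module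
`Q`.  If `p ∈ P` dies in `P_𝔮` for every prime `𝔮` of `R'` containing `𝔪_R R'`, then `p = 0`. -/
theorem eq_zero_of_forall_localized_eq_zero {R : Type u} [CommRing R] [IsNoetherianRing R]
    [IsLocalRing R] {R' : Type u} [CommRing R'] [Algebra R R'] {P : Type u} [AddCommGroup P]
    [Module R' P] [Module R P] [IsScalarTower R R' P] {Q : Type u} [AddCommGroup Q] [Module R Q]
    [Module.Finite R Q] {T : Type*} (Θ : T → P →ₗ[R] Q)
    (hΘ : ∀ p : P, (∀ θ, Θ θ p = 0) → p = 0) (p : P)
    (h : ∀ (𝔮 : Ideal R') [𝔮.IsPrime], (maximalIdeal R).map (algebraMap R R') ≤ 𝔮 →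
      (LocalizedModule.mk p 1 : LocalizedModule 𝔮.primeCompl P) = 0) : p = 0 := by
  obtain ⟨π, hπ, hπp⟩ := exists_mem_smul_eq_of_forall_localized_eq_zero _ p h
  have hpow : ∀ n : ℕ, π ^ n • p = p := by
    intro n
    induction n with
    | zero => rw [pow_zero, one_smul]
    | succ n ih => rw [pow_succ, mul_smul, hπp, ih]
  have hmem : ∀ n : ℕ, p ∈ (maximalIdeal R ^ n) • (⊤ : Submodule R P) := by
    intro n
    rw [← hpow n]
    apply map_smul_mem_smul_top
    rw [Ideal.map_pow]
    exact Ideal.pow_mem_pow hπ n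
  apply hΘ
  intro θ
  have h3 : Θ θ p ∈ (⨅ n : ℕ, (maximalIdeal R ^ n) • ⊤ : Submodule R Q) := by
    rw [Submodule.mem_iInf]
    intro n
    have h4 : Θ θ p ∈ Submodule.map (Θ θ) ((maximalIdeal R ^ n) • (⊤ : Submodule R P)) :=
      Submodule.mem_map_of_mem (hmem n)
    rw [Submodule.map_smul''] at h4
    exact Submodule.smul_mono le_rfl le_top h4
  rw [Ideal.iInf_pow_smul_eq_bot_of_isLocalRing (maximalIdeal R)
    (IsLocalRing.maximalIdeal.isMaximal R).ne_top] at h3
  exact (Submodule.mem_bot R).mp h3

open TensorProduct in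
/-- Over a field, an element of `V ⊗ W` killed by `θ ⊗ id` for every functional `θ` on `V` is
zero. -/
theorem eq_zero_of_forall_functional {k : Type u} [Field k] {V W : Type u} [AddCommGroup V]
    [Module k V] [AddCommGroup W] [Module k W] (x : V ⊗[k] W)
    (h : ∀ θ : V →ₗ[k] k, (θ.rTensor W) x = 0) : x = 0 := by
  classical
  let b := Module.Free.chooseBasis k V
  have key : ∀ (i : Module.Free.ChooseBasisIndex k V) (y : V ⊗[k] W),
      (b.coord i).rTensor W y = (1 : k) ⊗ₜ[k] (TensorProduct.equivFinsuppOfBasisLeft b y i) := by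
    intro i y
    induction y using TensorProduct.induction_on with
    | zero => simp
    | tmul v w =>
      rw [LinearMap.rTensor_tmul, TensorProduct.equivFinsuppOfBasisLeft_apply_tmul_apply,
        Module.Basis.coord_apply, ← TensorProduct.smul_tmul, smul_eq_mul, mul_one]
    | add y z hy hz =>
      rw [map_add, hy, hz, map_add, Finsupp.add_apply, TensorProduct.tmul_add]
  apply (TensorProduct.equivFinsuppOfBasisLeft b).injective
  rw [map_zero]
  ext i
  have h1 := h (b.coord i)
  rw [key i x] at h1
  have h2 := congrArg (TensorProduct.lid k W) h1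
  rw [TensorProduct.lid_tmul, one_smul, map_zero] at h2
  rw [h2, Finsupp.zero_apply]

end Groth.Agent.Lib.Helper77.FamKrull
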