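import Mathlib
import Groth.Agent.Lib.Helper77.FamKrull

/-!
# Krull step of the family flatness criterion, denominator-free form (helper55 msg 2988)
-/

set_option autoImplicit false
universe u

open TensorProduct IsLocalRing
open scoped Pointwise

namespace Groth.Agent.Lib.Helper77.FamMem

section StepA

variable {A' : Type u} [CommRing A'] [IsLocalRing A'] {B' : Type u} [CommRing B'] [Algebra A' B']
  {N : Type u} [AddCommGroup N] [Module B' N] [Module A' N] [IsScalarTower A' B' N]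

/-- elements of `𝔪' • N_𝔮` have numerators in `𝔪'B' • N`. -/
theorem exists_mk_of_mem_smul_top (𝔮 : Ideal B') [𝔮.IsPrime]
    (x : LocalizedModule 𝔮.primeCompl N)
    (hx : x ∈ maximalIdeal A' • (⊤ : Submodule A' (LocalizedModule 𝔮.primeCompl N))) :
    ∃ n ∈ (maximalIdeal A').map (algebraMap A' B') • (⊤ : Submodule B' N),
      ∃ s : 𝔮.primeCompl, x = LocalizedModule.mk n s := by
  refine Submodule.smul_induction_on hx ?_ ?_
  · intro r hr y _
    induction y using LocalizedModule.induction_on with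
    | h n0 s0 =>
      refine ⟨r • n0, ?_, s0, ?_⟩
      · rw [← algebraMap_smul B' r n0]
        exact Submodule.smul_mem_smul (Ideal.mem_map_of_mem _ hr) Submodule.mem_top
      · rw [LocalizedModule.smul'_mk]
  · intro x y hx hy
    obtain ⟨n1, hn1, s1, rfl⟩ := hx
    obtain ⟨n2, hn2, s2, rfl⟩ := hy
    refine ⟨s2 • n1 + s1 • n2, ?_, s1 * s2, ?_⟩
    · exact Submodule.add_mem _ (Submodule.smul_mem _ _ hn1) (Submodule.smul_mem _ _ hn2)
    · rw [LocalizedModule.mk_add_mk]

/-- prime avoidance step: if `z` lies in `𝔪' N_𝔮` for every prime `𝔮` of `B'` over `𝔭` and over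
`𝔪'`, then `(σ - π) z ∈ 𝔪'B' N` for some `σ ∉ 𝔭`, `π ∈ 𝔭B'`. -/
theorem exists_sub_smul_mem {B : Type u} [CommRing B] [Algebra B B'] (𝔭 : Ideal B) [𝔭.IsPrime]
    (z : N)
    (hb : ∀ (𝔮 : Ideal B') [𝔮.IsPrime], 𝔮.comap (algebraMap B B') = 𝔭 →
      𝔮.comap (algebraMap A' B') = maximalIdeal A' →
      LocalizedModule.mkLinearMap 𝔮.primeCompl N z ∈
        maximalIdeal A' • (⊤ : Submodule A' (LocalizedModule 𝔮.primeCompl N))) :
    ∃ σ ∈ 𝔭.primeCompl, ∃ π ∈ 𝔭.map (algebraMap B B'),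
      (algebraMap B B' σ - π) • z ∈
        (maximalIdeal A').map (algebraMap A' B') • (⊤ : Submodule B' N) := by
  obtain ⟨W, hW⟩ : ∃ W : Submodule B' N,
      W = (maximalIdeal A').map (algebraMap A' B') • (⊤ : Submodule B' N) := ⟨_, rfl⟩
  rw [← hW]
  let 𝔞 : Ideal B' := W.comap (LinearMap.toSpanSingleton B' N z)
  have h𝔞 : ∀ t : B', t ∈ 𝔞 ↔ t • z ∈ W := by
    intro t
    show LinearMap.toSpanSingleton B' N z t ∈ W ↔ _
    rw [LinearMap.toSpanSingleton_apply]
  by_contra hcon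
  push Not at hcon
  have hdisj : Disjoint ((𝔞 ⊔ 𝔭.map (algebraMap B B') : Ideal B') : Set B')
      (Submonoid.map (algebraMap B B') 𝔭.primeCompl : Set B') := by
    rw [Set.disjoint_left]
    rintro x hx ⟨σ, hσ, rfl⟩
    obtain ⟨a, ha, π, hπ, haπ⟩ := Submodule.mem_sup.mp hx
    apply hcon σ hσ π hπ
    have h1 : algebraMap B B' σ - π = a := by
      rw [← haπ]
      ring
    rw [h1]
    exact (h𝔞 a).mp ha
  obtain ⟨𝔮, h𝔮prime, h𝔮le, h𝔮disj⟩ := Ideal.exists_le_prime_disjoint _ _ hdisj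
  haveI := h𝔮prime
  have h1 : 𝔮.comap (algebraMap B B') = 𝔭 := by
    apply le_antisymm
    · intro x hx
      by_contra hxp
      exact Set.disjoint_left.mp h𝔮disj hx ⟨x, hxp, rfl⟩
    · rw [← Ideal.map_le_iff_le_comap]
      exact le_trans le_sup_right h𝔮le
  have h2 : 𝔮.comap (algebraMap A' B') = maximalIdeal A' := by
    have hle : maximalIdeal A' ≤ 𝔮.comap (algebraMap A' B') := by
      rw [← Ideal.map_le_iff_le_comap]
      refine le_trans ?_ (le_trans le_sup_left h𝔮le)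
      intro t ht
      rw [h𝔞 t, hW]
      exact Submodule.smul_mem_smul ht Submodule.mem_top
    exact ((IsLocalRing.maximalIdeal.isMaximal A').eq_of_le
      (Ideal.comap_ne_top _ h𝔮prime.ne_top) hle).symm
  have h3 := hb 𝔮 h1 h2
  obtain ⟨n, hn, s, hs⟩ := exists_mk_of_mem_smul_top 𝔮 _ h3
  rw [LocalizedModule.mkLinearMap_apply, LocalizedModule.mk_eq] at hs
  obtain ⟨u, hu⟩ := hs
  have ht : ((u * s : 𝔮.primeCompl) : B') ∈ 𝔞 := by
    rw [h𝔞]
    have h4 : ((u * s : 𝔮.primeCompl) : B') • z = (u : B') • n := by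
      rw [Submonoid.coe_mul, mul_smul]
      simpa [Submonoid.smul_def] using hu
    rw [h4, hW]
    exact Submodule.smul_mem _ _ hn
  exact (u * s).2 (h𝔮le (Ideal.mem_sup_left ht))

end StepA

section StepC

theorem pow_sub_pow_smul_mem {R : Type u} [CommRing R] {N : Type u} [AddCommGroup N] [Module R N]
    (W : Submodule R N) (x y : R) (z : N) (h : (x - y) • z ∈ W) (n : ℕ) :
    (x ^ n - y ^ n) • z ∈ W := by
  obtain ⟨c, hc⟩ := sub_dvd_pow_sub_pow x y n
  rw [hc, mul_comm, mul_smul]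
  exact W.smul_mem c h

variable {B : Type u} [CommRing B] [IsNoetherianRing B] (𝔭 : Ideal B) [𝔭.IsPrime]
  {B' : Type u} [CommRing B'] [Algebra B B']
  {N : Type u} [AddCommGroup N] [Module B' N] [Module B N] [IsScalarTower B B' N]
  {T : Type u} [AddCommGroup T] [Module (Localization.AtPrime 𝔭) T] [Module B T]
  [IsScalarTower B (Localization.AtPrime 𝔭) T] [Module.Finite (Localization.AtPrime 𝔭) T]

/-- Krull step: a `B`-linear map into a finite `B_𝔭`-module killing `W` kills every `z` with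
`(σ - π) z ∈ W`, `σ ∉ 𝔭`, `π ∈ 𝔭B'`. -/
theorem eq_zero_of_sub_smul_mem (W : Submodule B' N) (Θ : N →ₗ[B] T) (hΘ : ∀ x ∈ W, Θ x = 0)
    (z : N) (σ : B) (hσ : σ ∈ 𝔭.primeCompl) (π : B') (hπ : π ∈ 𝔭.map (algebraMap B B'))
    (h : (algebraMap B B' σ - π) • z ∈ W) : Θ z = 0 := by
  have hmem : ∀ n : ℕ, Θ z ∈ (maximalIdeal (Localization.AtPrime 𝔭) ^ n) •
      (⊤ : Submodule (Localization.AtPrime 𝔭) T) := by
    intro n
    have h1 := pow_sub_pow_smul_mem W _ _ z h n
    have h2 : Θ ((algebraMap B B' σ) ^ n • z) = Θ (π ^ n • z) := by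
      have h0 := hΘ _ h1
      rw [sub_smul, map_sub, sub_eq_zero] at h0
      exact h0
    have h3 : (algebraMap B B' σ) ^ n • z = σ ^ n • z := by
      rw [← map_pow, algebraMap_smul]
    rw [h3, map_smul] at h2
    have h4 : π ^ n • z ∈ (𝔭 ^ n) • (⊤ : Submodule B N) := by
      apply Groth.Agent.Lib.Helper77.FamKrull.map_smul_mem_smul_top
      rw [Ideal.map_pow]
      exact Ideal.pow_mem_pow hπ n
    have h5 : Θ (π ^ n • z) ∈ (𝔭 ^ n) • (⊤ : Submodule B T) := by
      have h0 := Submodule.mem_map_of_mem (f := Θ) h4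
      rw [Submodule.map_smul''] at h0
      exact Submodule.smul_mono le_rfl le_top h0
    have h6 : ∀ x ∈ (𝔭 ^ n) • (⊤ : Submodule B T),
        x ∈ (maximalIdeal (Localization.AtPrime 𝔭) ^ n) •
          (⊤ : Submodule (Localization.AtPrime 𝔭) T) := by
      intro x hx
      refine Submodule.smul_induction_on hx ?_ ?_
      · intro a ha t _
        rw [← algebraMap_smul (Localization.AtPrime 𝔭) a t]
        refine Submodule.smul_mem_smul ?_ Submodule.mem_top
        rw [← Localization.AtPrime.map_eq_maximalIdeal, ← Ideal.map_pow]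
        exact Ideal.mem_map_of_mem _ ha
      · intro x y hx hy
        exact Submodule.add_mem _ hx hy
    have h7 := h6 _ h5
    rw [← h2] at h7
    have hunit : IsUnit (algebraMap B (Localization.AtPrime 𝔭) (σ ^ n)) := by
      rw [map_pow]
      exact (IsLocalization.map_units (Localization.AtPrime 𝔭) ⟨σ, hσ⟩).pow n
    obtain ⟨u, hu⟩ := hunit
    have h8 : Θ z = (↑u⁻¹ : Localization.AtPrime 𝔭) • (σ ^ n • Θ z) := by
      rw [← algebraMap_smul (Localization.AtPrime 𝔭) (σ ^ n) (Θ z), ← hu, smul_smul,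
        Units.inv_mul, one_smul]
    rw [h8]
    exact Submodule.smul_mem _ _ h7
  have h9 : Θ z ∈ (⨅ n : ℕ, (maximalIdeal (Localization.AtPrime 𝔭) ^ n) • ⊤ :
      Submodule (Localization.AtPrime 𝔭) T) := by
    rw [Submodule.mem_iInf]
    exact hmem
  rw [Ideal.iInf_pow_smul_eq_bot_of_isLocalRing _
    (IsLocalRing.maximalIdeal.isMaximal (Localization.AtPrime 𝔭)).ne_top] at h9
  exact (Submodule.mem_bot _).mp h9

end StepC

section Theta

variable {A : Type u} [CommRing A] {B : Type u} [CommRing B] [Algebra A B]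
  {M : Type u} [AddCommGroup M] [Module B M] [Module A M] [IsScalarTower A B M]
  (𝔭 : Ideal B) [𝔭.IsPrime]
  {A' : Type u} [CommRing A'] [Algebra A A'] {B' : Type u} [CommRing B'] [Algebra A B']
  [Algebra A' B'] [Algebra B B'] [IsScalarTower A A' B'] [IsScalarTower A B B']
  [Algebra.IsPushout A A' B B']
  {K : Type u} [AddCommGroup K] [Module A K]

/-- `q ↦ q ⊗ x`, `B`-linear. -/
noncomputable def tmulRight (x : K) :
    LocalizedModule 𝔭.primeCompl M →ₗ[B] (LocalizedModule 𝔭.primeCompl M) ⊗[A] K where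
  toFun q := q ⊗ₜ[A] x
  map_add' a b := TensorProduct.add_tmul a b x
  map_smul' r q := (TensorProduct.smul_tmul' r q x).symm

@[simp] theorem tmulRight_apply (x : K) (q : LocalizedModule 𝔭.primeCompl M) :
    tmulRight 𝔭 x q = q ⊗ₜ[A] x := rfl

/-- `a' ↦ (m ↦ m/1 ⊗ θ a')`. -/
noncomputable def gMap (θ : A' →ₗ[A] K) :
    A' →ₗ[A] (M →ₗ[B] (LocalizedModule 𝔭.primeCompl M) ⊗[A] K) where
  toFun a' := (tmulRight 𝔭 (θ a')).comp (LocalizedModule.mkLinearMap 𝔭.primeCompl M)
  map_add' a b := by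
    ext m
    simp [TensorProduct.tmul_add]
  map_smul' c a := by
    ext m
    simp [TensorProduct.tmul_smul]

theorem isBaseChange_symm :
    IsBaseChange B (IsScalarTower.toAlgHom A A' B').toLinearMap :=
  (Algebra.IsPushout.symm (inferInstance : Algebra.IsPushout A A' B B')).out

/-- The map `Θ_θ : B' ⊗_B M → M_𝔭 ⊗_A K`, `f(a') ⊗ m ↦ m/1 ⊗ θ a'`. -/
noncomputable def Theta (θ : A' →ₗ[A] K) :
    B' ⊗[B] M →ₗ[B] (LocalizedModule 𝔭.primeCompl M) ⊗[A] K :=
  TensorProduct.lift ((isBaseChange_symm (A := A) (B := B) (A' := A') (B' := B')).lift (gMap 𝔭 θ))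

theorem Theta_tmul (θ : A' →ₗ[A] K) (a' : A') (m : M) :
    Theta 𝔭 θ ((algebraMap A' B' a') ⊗ₜ[B] m) =
      (LocalizedModule.mkLinearMap 𝔭.primeCompl M m) ⊗ₜ[A] θ a' := by
  unfold Theta
  rw [TensorProduct.lift.tmul]
  have h1 : algebraMap A' B' a' = (IsScalarTower.toAlgHom A A' B').toLinearMap a' := rfl
  rw [h1, IsBaseChange.lift_eq]
  rfl

/-- `Θ_θ` kills `a' • n` when `θ` vanishes on the ideal generated by `a'`. -/
theorem Theta_smul_eq_zero (θ : A' →ₗ[A] K) (a' : A') (ha' : ∀ a'' : A', θ (a' * a'') = 0)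
    (n : B' ⊗[B] M) : Theta 𝔭 θ (a' • n) = 0 := by
  induction n using TensorProduct.induction_on with
  | zero => rw [smul_zero, map_zero]
  | add x y hx hy => rw [smul_add, map_add, hx, hy, add_zero]
  | tmul b' m =>
    rw [TensorProduct.smul_tmul']
    revert m
    refine (isBaseChange_symm (A := A) (B := B) (A' := A') (B' := B')).inductionOn b'
      (fun b' => ∀ m : M, Theta 𝔭 θ ((a' • b') ⊗ₜ[B] m) = 0) ?_ ?_ ?_ ?_
    · intro m
      rw [smul_zero, TensorProduct.zero_tmul, map_zero]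
    · intro a'' m
      have h1 : a' • (IsScalarTower.toAlgHom A A' B').toLinearMap a'' =
          algebraMap A' B' (a' * a'') := by
        rw [Algebra.smul_def, map_mul]
        rfl
      rw [h1, Theta_tmul, ha', TensorProduct.tmul_zero]
    · intro β b'' hb'' m
      rw [smul_comm, ← TensorProduct.smul_tmul', map_smul, hb'' m, smul_zero]
    · intro x y hx hy m
      rw [smul_add, TensorProduct.add_tmul, map_add, hx m, hy m, add_zero]

/-- `Θ_θ` kills `𝔞B' • N` when `θ` vanishes on the ideal `𝔞` of `A'`. -/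
theorem Theta_eq_zero_of_mem (θ : A' →ₗ[A] K) (𝔞 : Ideal A') (hθ : ∀ a' ∈ 𝔞, θ a' = 0)
    (x : B' ⊗[B] M)
    (hx : x ∈ 𝔞.map (algebraMap A' B') • (⊤ : Submodule B' (B' ⊗[B] M))) :
    Theta 𝔭 θ x = 0 := by
  refine Submodule.smul_induction_on hx ?_ ?_
  · intro t ht n _
    have key : ∀ n : B' ⊗[B] M, Theta 𝔭 θ (t • n) = 0 := by
      unfold Ideal.map at ht
      induction ht using Submodule.span_induction with
      | mem y hy =>
        intro n
        obtain ⟨a', ha', rfl⟩ := hy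
        rw [algebraMap_smul]
        exact Theta_smul_eq_zero 𝔭 θ a' (fun a'' => hθ _ (𝔞.mul_mem_right a'' ha')) n
      | zero =>
        intro n
        rw [zero_smul, map_zero]
      | add y z _ _ hy hz =>
        intro n
        rw [add_smul, map_add, hy n, hz n, add_zero]
      | smul r y _ hy =>
        intro n
        rw [smul_eq_mul, mul_comm, mul_smul]
        exact hy (r • n)
    exact key n
  · intro x y hx hy
    rw [map_add, hx, hy, add_zero]

end Theta

section Final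

theorem finite_tensor_quot {A : Type u} [CommRing A] {B : Type u} [CommRing B] [Algebra A B]
    {M : Type u} [AddCommGroup M] [Module B M] [Module A M] [IsScalarTower A B M]
    [Module.Finite B M] (𝔭 : Ideal B) [𝔭.IsPrime] (I : Ideal A) :
    Module.Finite (Localization.AtPrime 𝔭)
      ((LocalizedModule 𝔭.primeCompl M) ⊗[A] (A ⧸ I)) := by
  let g : LocalizedModule 𝔭.primeCompl M →ₗ[Localization.AtPrime 𝔭]
      (LocalizedModule 𝔭.primeCompl M) ⊗[A] (A ⧸ I) :=
    { toFun := fun q => q ⊗ₜ[A] 1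
      map_add' := fun a b => TensorProduct.add_tmul a b 1
      map_smul' := fun r q => (TensorProduct.smul_tmul' r q 1).symm }
  apply Module.Finite.of_surjective g
  intro x
  induction x using TensorProduct.induction_on with
  | zero => exact ⟨0, map_zero g⟩
  | tmul q c =>
    obtain ⟨c, rfl⟩ := Ideal.Quotient.mk_surjective c
    refine ⟨c • q, ?_⟩
    show (c • q) ⊗ₜ[A] (1 : A ⧸ I) = q ⊗ₜ[A] (Ideal.Quotient.mk I c)
    rw [TensorProduct.smul_tmul]
    congr 1
    rw [Algebra.smul_def, mul_one]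
    rfl
  | add x y hx hy =>
    obtain ⟨a, ha⟩ := hx
    obtain ⟨b, hb⟩ := hy
    exact ⟨a + b, by rw [map_add, ha, hb]⟩

theorem mem_maximalIdeal_of_family {A : Type u} [CommRing A] [IsLocalRing A] {B : Type u}
    [CommRing B] [Algebra A B] [IsNoetherianRing B] {M : Type u} [AddCommGroup M] [Module B M]
    [Module A M] [IsScalarTower A B M] [Module.Finite B M] (𝔭 : Ideal B) [𝔭.IsPrime]
    {A' : Type u} [CommRing A'] [IsLocalRing A'] [Algebra A A'] [IsLocalHom (algebraMap A A')]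
    {B' : Type u} [CommRing B'] [Algebra A B'] [Algebra A' B'] [Algebra B B']
    [IsScalarTower A A' B'] [IsScalarTower A B B'] [Algebra.IsPushout A A' B B'] {J : Type u}
    (s : Finset J) (m : J → M)
    (hind : ∀ c : J → A, (∑ j ∈ s, c j • LocalizedModule.mkLinearMap 𝔭.primeCompl M (m j)) ∈
      IsLocalRing.maximalIdeal A • (⊤ : Submodule A (LocalizedModule 𝔭.primeCompl M)) →
      ∀ j ∈ s, c j ∈ IsLocalRing.maximalIdeal A)
    (b : J → A')
    (hb : ∀ (𝔮 : Ideal B') [𝔮.IsPrime], 𝔮.comap (algebraMap B B') = 𝔭 →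
      𝔮.comap (algebraMap A' B') = IsLocalRing.maximalIdeal A' →
      LocalizedModule.mkLinearMap 𝔮.primeCompl (B' ⊗[B] M)
        (∑ j ∈ s, b j • ((1 : B') ⊗ₜ[B] m j)) ∈
      IsLocalRing.maximalIdeal A' • (⊤ : Submodule A' (LocalizedModule 𝔮.primeCompl (B' ⊗[B] M)))) :
    ∀ j ∈ s, b j ∈ IsLocalRing.maximalIdeal A' := by
  classical
  intro j hj
  by_contra hbj
  have hne : IsLocalRing.residue A' (b j) ≠ 0 := by
    rwa [Ne, IsLocalRing.residue_eq_zero_iff]
  obtain ⟨φ, hφ⟩ : ∃ φ : Module.Dual (ResidueField A) (ResidueField A'),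
      φ (residue A' (b j)) ≠ 0 := by
    by_contra hcon
    push Not at hcon
    exact hne ((Module.forall_dual_apply_eq_zero_iff (ResidueField A) _).mp hcon)
  let resA' : A' →ₗ[A] ResidueField A' :=
    (IsScalarTower.toAlgHom A A' (ResidueField A')).toLinearMap
  let θ : A' →ₗ[A] (A ⧸ maximalIdeal A) := (φ.restrictScalars A).comp resA'
  have hθapp : ∀ a', θ a' = φ (residue A' a') := fun a' => rfl
  have hθ : ∀ a' ∈ maximalIdeal A', θ a' = 0 := by
    intro a' ha'
    rw [hθapp, (IsLocalRing.residue_eq_zero_iff a').mpr ha', map_zero]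
    rfl
  obtain ⟨σ, hσ, π, hπ, hσπ⟩ := exists_sub_smul_mem (A' := A') (B' := B')
    (N := B' ⊗[B] M) 𝔭 (∑ j ∈ s, b j • ((1 : B') ⊗ₜ[B] m j)) hb
  haveI := finite_tensor_quot (A := A) (M := M) 𝔭 (maximalIdeal A)
  have hz := eq_zero_of_sub_smul_mem 𝔭
    (T := (LocalizedModule 𝔭.primeCompl M) ⊗[A] (A ⧸ maximalIdeal A)) _ (Theta 𝔭 θ)
    (fun x hx => Theta_eq_zero_of_mem 𝔭 θ (maximalIdeal A') hθ x hx) _ σ hσ π hπ hσπ
  rw [map_sum] at hz
  have h1 : ∀ i ∈ s, Theta 𝔭 θ (b i • ((1 : B') ⊗ₜ[B] m i)) =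
      (LocalizedModule.mkLinearMap 𝔭.primeCompl M (m i)) ⊗ₜ[A] θ (b i) := by
    intro i _
    rw [TensorProduct.smul_tmul', Algebra.smul_def, mul_one, Theta_tmul]
  rw [Finset.sum_congr rfl h1] at hz
  choose c hc using fun i => Ideal.Quotient.mk_surjective (θ (b i))
  have h2 : ∀ i ∈ s, (LocalizedModule.mkLinearMap 𝔭.primeCompl M (m i)) ⊗ₜ[A] θ (b i) =
      (c i • LocalizedModule.mkLinearMap 𝔭.primeCompl M (m i)) ⊗ₜ[A]
        (1 : A ⧸ maximalIdeal A) := by
    intro i _
    rw [← hc i, TensorProduct.smul_tmul]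
    congr 1
    rw [Algebra.smul_def, mul_one]
    rfl
  rw [Finset.sum_congr rfl h2, ← TensorProduct.sum_tmul] at hz
  have h3 : (∑ i ∈ s, c i • LocalizedModule.mkLinearMap 𝔭.primeCompl M (m i)) ∈
      maximalIdeal A • (⊤ : Submodule A (LocalizedModule 𝔭.primeCompl M)) := by
    rw [← LinearMap.ker_tensorProductMk, LinearMap.mem_ker, TensorProduct.mk_apply]
    have h0 := congrArg (TensorProduct.comm A _ _) hz
    rw [TensorProduct.comm_tmul, map_zero] at h0
    exact h0
  have h4 := hind c h3 j hj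
  have h5 : θ (b j) = 0 := by
    rw [← hc j]
    exact Ideal.Quotient.eq_zero_iff_mem.mpr h4
  exact hφ h5

end Final

end Groth.Agent.Lib.Helper77.FamMem
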