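import Groth.Agent.Lib.Helper77.FlatDepth3
import Groth.Agent.Lib.Helper77.RegularCompletion
import Groth.Agent.S0565

/-!
# `(R_k)` along flat maps with unramified zero-dimensional fibres (helper77)
-/
universe u
set_option autoImplicit false
open IsLocalRing LocCoh

namespace Groth.Agent.Lib.Helper77.FlatRk
open Groth.Agent.Lib.Helper77.FlatDepth Groth.Agent.Lib.Helper67

section
variable (A B : Type u) [CommRing A] [CommRing B] [Algebra A B]
  [IsNoetherianRing A] [IsNoetherianRing B] [Module.Flat A B]
variable (q : Ideal B) [q.IsPrime]

/-- if `p B_q = q B_q` (`p = q ∩ A`) then `B_q` is regular iff `A_p` is, and `ht q = ht p` -/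
theorem regular_loc_iff_and_height_eq
    (hunr : (q.comap (algebraMap A B)).map (algebraMap A (Localization.AtPrime q)) =
      maximalIdeal (Localization.AtPrime q)) :
    (IsRegularLocalRing (Localization.AtPrime q) ↔
      IsRegularLocalRing (Localization.AtPrime (q.comap (algebraMap A B)))) ∧
    q.height = (q.comap (algebraMap A B)).height := by
  set p := q.comap (algebraMap A B) with hp
  haveI : q.LiesOver p := ⟨rfl⟩
  letI := Localization.AtPrime.algebraOfLiesOver p q
  have hloc : IsLocalHom (algebraMap (Localization.AtPrime p) (Localization.AtPrime q)) :=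
    Localization.isLocalHom_localRingHom p q (algebraMap A B) rfl
  have hNA : IsNoetherianRing (Localization.AtPrime p) :=
    IsLocalization.isNoetherianRing p.primeCompl _ inferInstance
  have hNB : IsNoetherianRing (Localization.AtPrime q) :=
    IsLocalization.isNoetherianRing q.primeCompl _ inferInstance
  have hI : (maximalIdeal (Localization.AtPrime p)).map
      (algebraMap (Localization.AtPrime p) (Localization.AtPrime q)) =
      maximalIdeal (Localization.AtPrime q) := by
    rw [← Localization.AtPrime.map_eq_maximalIdeal, Ideal.map_map,
      ← IsScalarTower.algebraMap_eq, hunr]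
  refine ⟨⟨fun h => ?_, fun h => ?_⟩, ?_⟩
  · exact Groth.Agent.S0565.result (Localization.AtPrime p) (Localization.AtPrime q)
  · exact Groth.Agent.Lib.Helper77.RegularCompletion.regular_of_flat_of_map_maximalIdeal
      (Localization.AtPrime p) (Localization.AtPrime q) hI
  · obtain ⟨-, h2, -⟩ := loc_formulas A B q
    have h0 : ringKrullDim (FibLoc A B q) = 0 := by
      have : ∀ (I : Ideal (Localization.AtPrime q)), I = maximalIdeal (Localization.AtPrime q) →
          ringKrullDim (Localization.AtPrime q ⧸ I) = 0 := by
        rintro _ rfl
        exact ringKrullDim_quotient_maximalIdeal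
      exact this _ hunr
    rw [h0, add_zero, IsLocalization.AtPrime.ringKrullDim_eq_height q,
      IsLocalization.AtPrime.ringKrullDim_eq_height p] at h2
    exact_mod_cast h2

/-- `(R_k)` ascends and descends along faithfully flat maps with `p B_q = q B_q` for all `q` -/
theorem hasRk_iff_of_unramified [Module.FaithfullyFlat A B] (k : ℕ)
    (hunr : ∀ (q : Ideal B) [q.IsPrime],
      (q.comap (algebraMap A B)).map (algebraMap A (Localization.AtPrime q)) =
      maximalIdeal (Localization.AtPrime q)) :
    HasRk k B ↔ HasRk k A := by
  constructor
  · intro h p _ hpk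
    obtain ⟨q, hqprime, hqlo⟩ := Ideal.exists_isPrime_liesOver_of_faithfullyFlat (B := B) p
    obtain ⟨h1, h2⟩ := regular_loc_iff_and_height_eq A B q (hunr q)
    have hcomap : q.comap (algebraMap A B) = p := by
      rw [← Ideal.under_def, ← hqlo.over]
    have key : ∀ (p' : Ideal A) [p'.IsPrime], p' = p →
        IsRegularLocalRing (Localization.AtPrime p') →
        IsRegularLocalRing (Localization.AtPrime p) := by
      intro p' _ hp' hh
      subst hp'
      exact hh
    apply key _ hcomap
    rw [← h1]
    apply h q
    rw [h2, hcomap]
    exact hpk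
  · intro h q _ hqk
    obtain ⟨h1, h2⟩ := regular_loc_iff_and_height_eq A B q (hunr q)
    rw [h1]
    apply h
    rw [← h2]
    exact hqk

end

end Groth.Agent.Lib.Helper77.FlatRk
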