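import Mathlib

/-!
# Finite Frobenius height ⇔ finite with connected geometric fibres (Hopf algebra form)
-/

set_option autoImplicit false
universe u

namespace Groth.Agent.Lib.Helper77.FrobHeight

open TensorProduct

section

variable (R : Type u) [CommRing R] (A : Type u) [CommRing A] [HopfAlgebra R A]

/-- every element of `K ⊗ A` is a scalar plus a nilpotent when the augmentation ideal is nil -/
theorem isNilpotent_sub (K : Type u) [Field K] [Algebra R K]
    (hnil : ∀ a : A, Bialgebra.counitAlgHom R A a = 0 → IsNilpotent a) (b : K ⊗[R] A) :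
    ∃ c : K, IsNilpotent (b - algebraMap K (K ⊗[R] A) c) := by
  induction b using TensorProduct.induction_on with
  | zero => exact ⟨0, by simp⟩
  | tmul x a =>
    refine ⟨x * algebraMap R K (Bialgebra.counitAlgHom R A a), ?_⟩
    have h1 : x ⊗ₜ[R] a - algebraMap K (K ⊗[R] A) (x * algebraMap R K (Bialgebra.counitAlgHom R A a))
        = (x ⊗ₜ[R] (1 : A)) * ((1 : K) ⊗ₜ[R] (a - algebraMap R A (Bialgebra.counitAlgHom R A a))) := by
      have h3 : x ⊗ₜ[R] algebraMap R A (Bialgebra.counitAlgHom R A a) =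
          (x * algebraMap R K (Bialgebra.counitAlgHom R A a)) ⊗ₜ[R] (1 : A) := by
        rw [Algebra.algebraMap_eq_smul_one, ← TensorProduct.smul_tmul, Algebra.smul_def, mul_comm]
      rw [Algebra.TensorProduct.tmul_mul_tmul, mul_one, one_mul, TensorProduct.tmul_sub, h3,
        Algebra.TensorProduct.algebraMap_apply]
      rfl
    rw [h1]
    have h2 : IsNilpotent (a - algebraMap R A (Bialgebra.counitAlgHom R A a)) := by
      apply hnil
      rw [map_sub, AlgHom.commutes]
      simp
    obtain ⟨n, hn⟩ := h2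
    refine (Commute.all _ _).isNilpotent_mul_left ⟨n, ?_⟩
    rw [Algebra.TensorProduct.tmul_pow, hn, TensorProduct.tmul_zero]
  | add x y hx hy =>
    obtain ⟨c, hc⟩ := hx
    obtain ⟨d, hd⟩ := hy
    refine ⟨c + d, ?_⟩
    have : x + y - algebraMap K (K ⊗[R] A) (c + d) =
        (x - algebraMap K (K ⊗[R] A) c) + (y - algebraMap K (K ⊗[R] A) d) := by
      rw [map_add]; ring
    rw [this]
    exact (Commute.all _ _).isNilpotent_add hc hd

/-- the counit of the base change, as a ring hom to `K` -/
noncomputable def counitK (K : Type u) [Field K] [Algebra R K] : K ⊗[R] A →ₐ[R] K :=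
  Algebra.TensorProduct.productMap (AlgHom.id R K)
    ((Algebra.ofId R K).comp (Bialgebra.counitAlgHom R A))

theorem isLocalRing_of_nil (K : Type u) [Field K] [Algebra R K]
    (hnil : ∀ a : A, Bialgebra.counitAlgHom R A a = 0 → IsNilpotent a) :
    IsLocalRing (K ⊗[R] A) := by
  haveI : Nontrivial (K ⊗[R] A) := (counitK R A K).toRingHom.domain_nontrivial
  refine IsLocalRing.of_isUnit_or_isUnit_one_sub_self fun b => ?_
  obtain ⟨c, hc⟩ := isNilpotent_sub R A K hnil b
  by_cases h0 : c = 0
  · right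
    rw [h0, map_zero, sub_zero] at hc
    exact hc.isUnit_one_sub
  · left
    have hu : IsUnit (algebraMap K (K ⊗[R] A) c) := (IsUnit.mk0 c h0).map _
    have : b = algebraMap K (K ⊗[R] A) c + (b - algebraMap K (K ⊗[R] A) c) := by ring
    rw [this]
    exact hc.isUnit_add_left_of_commute hu (Commute.all _ _)

/-- finite type + nil augmentation ideal ⇒ finite -/
theorem finite_of_nil [Algebra.FiniteType R A]
    (hnil : ∀ a : A, Bialgebra.counitAlgHom R A a = 0 → IsNilpotent a) : Module.Finite R A := by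
  classical
  obtain ⟨s, hs⟩ := (Algebra.FiniteType.out : (⊤ : Subalgebra R A).FG)
  let t : Set A := (fun x => x - algebraMap R A (Bialgebra.counitAlgHom R A x)) '' (s : Set A)
  have ht : t.Finite := (Finset.finite_toSet s).image _
  have hint : ∀ x ∈ t, IsIntegral R x := by
    rintro _ ⟨x, -, rfl⟩
    have h2 : IsNilpotent (x - algebraMap R A (Bialgebra.counitAlgHom R A x)) := by
      apply hnil
      rw [map_sub, AlgHom.commutes]
      simp
    obtain ⟨n, hn⟩ := h2
    refine ⟨Polynomial.X ^ n, Polynomial.monic_X_pow n, ?_⟩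
    rw [Polynomial.eval₂_pow, Polynomial.eval₂_X, hn]
  have hadj : Algebra.adjoin R t = ⊤ := by
    rw [eq_top_iff, ← hs]
    apply Algebra.adjoin_le
    intro x hx
    have h1 : x - algebraMap R A (Bialgebra.counitAlgHom R A x) ∈ Algebra.adjoin R t :=
      Algebra.subset_adjoin ⟨x, hx, rfl⟩
    have h2 : algebraMap R A (Bialgebra.counitAlgHom R A x) ∈ Algebra.adjoin R t :=
      Subalgebra.algebraMap_mem _ _
    have := Subalgebra.add_mem _ h1 h2
    rwa [sub_add_cancel] at this
  have hfg := fg_adjoin_of_finite ht hint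
  rw [hadj] at hfg
  exact Module.finite_def.mpr (by simpa using hfg)

/-- if all geometric fibres are local then the augmentation ideal lies in every prime -/
theorem mem_prime_of_local
    (hloc : ∀ (K : Type u) [Field K] [IsAlgClosed K] [Algebra R K], IsLocalRing (K ⊗[R] A))
    (a : A) (ha : Bialgebra.counitAlgHom R A a = 0) (Q : Ideal A) [Q.IsPrime] : a ∈ Q := by
  let L := FractionRing (A ⧸ Q)
  let K := AlgebraicClosure L
  let g0 : A →+* K := (algebraMap L K).comp ((algebraMap (A ⧸ Q) L).comp (Ideal.Quotient.mk Q))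
  letI : Algebra R K := (g0.comp (algebraMap R A)).toAlgebra
  let g : A →ₐ[R] K := { g0 with commutes' := fun r => rfl }
  haveI := hloc K
  let f₁ : K ⊗[R] A →ₐ[R] K := Algebra.TensorProduct.productMap (AlgHom.id R K) g
  let f₂ : K ⊗[R] A →ₐ[R] K := counitK R A K
  have hs₁ : Function.Surjective f₁ := fun c => ⟨c ⊗ₜ 1, by simp [f₁]⟩
  have hs₂ : Function.Surjective f₂ := fun c => ⟨c ⊗ₜ 1, by simp [f₂, counitK]⟩
  have hm₁ : (RingHom.ker f₁.toRingHom).IsMaximal := RingHom.ker_isMaximal_of_surjective _ hs₁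
  have hm₂ : (RingHom.ker f₂.toRingHom).IsMaximal := RingHom.ker_isMaximal_of_surjective _ hs₂
  have heq : RingHom.ker f₁.toRingHom = RingHom.ker f₂.toRingHom :=
    (IsLocalRing.eq_maximalIdeal hm₁).trans (IsLocalRing.eq_maximalIdeal hm₂).symm
  have h2 : (1 : K) ⊗ₜ[R] a ∈ RingHom.ker f₂.toRingHom := by
    rw [RingHom.mem_ker]
    change counitK R A K (1 ⊗ₜ a) = 0
    simp [counitK, ha]
  rw [← heq, RingHom.mem_ker] at h2
  have h3 : g0 a = 0 := by
    have : f₁ (1 ⊗ₜ a) = g a := by simp [f₁]
    exact this.symm.trans h2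
  have h4 : (Ideal.Quotient.mk Q) a = 0 := by
    have hinj : Function.Injective ((algebraMap L K).comp (algebraMap (A ⧸ Q) L)) :=
      (algebraMap L K).injective.comp (IsFractionRing.injective (A ⧸ Q) L)
    apply hinj
    rw [map_zero]
    exact h3
  exact Ideal.Quotient.eq_zero_iff_mem.mp h4

theorem main (p : ℕ) [Fact p.Prime] [CharP R p] [IsNoetherianRing R] [Algebra.FiniteType R A] :
    (∃ n : ℕ, ∀ a : A, Bialgebra.counitAlgHom R A a = 0 → a ^ p ^ n = 0) ↔
      (Module.Finite R A ∧
        ∀ (K : Type u) [Field K] [IsAlgClosed K] [Algebra R K], IsLocalRing (K ⊗[R] A)) := by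
  constructor
  · rintro ⟨n, hn⟩
    have hnil : ∀ a : A, Bialgebra.counitAlgHom R A a = 0 → IsNilpotent a :=
      fun a ha => ⟨p ^ n, hn a ha⟩
    refine ⟨finite_of_nil R A hnil, ?_⟩
    intro K _ _ _
    exact isLocalRing_of_nil R A K hnil
  · rintro ⟨hfin, hloc⟩
    haveI : IsNoetherianRing A := IsNoetherianRing.of_finite R A
    obtain ⟨N, hN⟩ := IsNoetherianRing.isNilpotent_nilradical A
    refine ⟨N, fun a ha => ?_⟩
    have hmem : a ∈ nilradical A := by
      rw [nilradical_eq_sInf, Ideal.mem_sInf]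
      intro Q hQ
      haveI : Q.IsPrime := hQ
      exact mem_prime_of_local R A hloc a ha Q
    have h1 : a ^ N ∈ (nilradical A) ^ N := Ideal.pow_mem_pow hmem N
    rw [hN] at h1
    have h2 : a ^ N = 0 := h1
    have hle : N ≤ p ^ N := (Nat.lt_pow_self (Fact.out : p.Prime).one_lt).le
    rw [← Nat.sub_add_cancel hle, pow_add, h2, mul_zero]

end

end Groth.Agent.Lib.Helper77.FrobHeight
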