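import Mathlib

/-! The `k`-subalgebra generated by the `p^n`-th powers of a finite type `k`-algebra is
geometrically reduced for `n` large (helper77). -/

set_option autoImplicit false
universe u
open TensorProduct

namespace Groth.Agent.Lib.Helper77.FrobImage

variable (k : Type u) [Field k] (p : ℕ) [Fact p.Prime] [CharP k p]
  (R : Type u) [CommRing R] [Algebra k R]

/-- every element of `k̄ ⊗ k[R^(p^n)]`, seen in `k̄ ⊗ R`, is a `p^n`-th power -/
theorem exists_pow_eq (n : ℕ)
    (z : AlgebraicClosure k ⊗[k] ↥(Algebra.adjoin k (Set.range (fun x : R => x ^ (p ^ n))))) :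
    ∃ y : AlgebraicClosure k ⊗[k] R,
      Algebra.TensorProduct.map (AlgHom.id k (AlgebraicClosure k))
        (Algebra.adjoin k (Set.range (fun x : R => x ^ (p ^ n)))).val z = y ^ (p ^ n) := by
  by_cases hsub : Subsingleton (AlgebraicClosure k ⊗[k] R)
  · exact ⟨0, Subsingleton.elim _ _⟩
  rw [not_subsingleton_iff_nontrivial] at hsub
  have hchar : CharP (AlgebraicClosure k ⊗[k] R) p :=
    charP_of_injective_algebraMap (FaithfulSMul.algebraMap_injective k _) p
  have hpn : 0 < p ^ n := pos_of_ne_zero (pow_ne_zero _ (Fact.out : p.Prime).ne_zero)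
  -- sums and products of `p^n`-th powers
  have hadd : ∀ a b : AlgebraicClosure k ⊗[k] R, (∃ y, a = y ^ (p ^ n)) → (∃ y, b = y ^ (p ^ n)) →
      ∃ y, a + b = y ^ (p ^ n) := by
    rintro _ _ ⟨y, rfl⟩ ⟨y', rfl⟩
    exact ⟨y + y', (add_pow_char_pow y y' p n).symm⟩
  have hmul : ∀ a b : AlgebraicClosure k ⊗[k] R, (∃ y, a = y ^ (p ^ n)) → (∃ y, b = y ^ (p ^ n)) →
      ∃ y, a * b = y ^ (p ^ n) := by
    rintro _ _ ⟨y, rfl⟩ ⟨y', rfl⟩
    exact ⟨y * y', (mul_pow _ _ _).symm⟩
  have hconst : ∀ c : AlgebraicClosure k, ∃ y : AlgebraicClosure k ⊗[k] R,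
      c ⊗ₜ[k] (1 : R) = y ^ (p ^ n) := by
    intro c
    obtain ⟨c', hc'⟩ := IsAlgClosed.exists_pow_nat_eq c hpn
    refine ⟨c' ⊗ₜ[k] 1, ?_⟩
    rw [Algebra.TensorProduct.tmul_pow, hc', one_pow]
  have hone : ∀ s ∈ Algebra.adjoin k (Set.range (fun x : R => x ^ (p ^ n))),
      ∃ y : AlgebraicClosure k ⊗[k] R, (1 : AlgebraicClosure k) ⊗ₜ[k] s = y ^ (p ^ n) := by
    intro s hs
    induction hs using Algebra.adjoin_induction with
    | mem x hx =>
      obtain ⟨r, rfl⟩ := hx
      refine ⟨1 ⊗ₜ[k] r, ?_⟩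
      simp only [Algebra.TensorProduct.tmul_pow, one_pow]
    | algebraMap a =>
      have : (1 : AlgebraicClosure k) ⊗ₜ[k] (algebraMap k R a) =
          (algebraMap k (AlgebraicClosure k) a) ⊗ₜ[k] (1 : R) := by
        rw [Algebra.algebraMap_eq_smul_one, Algebra.algebraMap_eq_smul_one, TensorProduct.smul_tmul]
      rw [this]
      exact hconst _
    | add x y _ _ hx hy =>
      rw [TensorProduct.tmul_add]
      exact hadd _ _ hx hy
    | mul x y _ _ hx hy =>
      have : (1 : AlgebraicClosure k) ⊗ₜ[k] (x * y) = (1 ⊗ₜ[k] x) * (1 ⊗ₜ[k] y) := by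
        rw [Algebra.TensorProduct.tmul_mul_tmul, one_mul]
      rw [this]
      exact hmul _ _ hx hy
  induction z with
  | zero => exact ⟨0, by rw [map_zero, zero_pow hpn.ne']⟩
  | tmul c s =>
    rw [Algebra.TensorProduct.map_tmul]
    have : (AlgHom.id k (AlgebraicClosure k)) c ⊗ₜ[k]
        (Algebra.adjoin k (Set.range (fun x : R => x ^ (p ^ n)))).val s =
        (c ⊗ₜ[k] (1 : R)) * ((1 : AlgebraicClosure k) ⊗ₜ[k] (s : R)) := by
      rw [Algebra.TensorProduct.tmul_mul_tmul, mul_one, one_mul]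
      rfl
    rw [this]
    exact hmul _ _ (hconst c) (hone s s.2)
  | add x y hx hy =>
    rw [map_add]
    exact hadd _ _ hx hy

theorem main [Algebra.FiniteType k R] :
    ∃ n : ℕ, Algebra.IsGeometricallyReduced k
      ↥(Algebra.adjoin k (Set.range (fun x : R => x ^ (p ^ n)))) := by
  -- the nilradical of `k̄ ⊗ R` is nilpotent
  have hft : Algebra.FiniteType (AlgebraicClosure k) (AlgebraicClosure k ⊗[k] R) := inferInstance
  have hnoeth : IsNoetherianRing (AlgebraicClosure k ⊗[k] R) :=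
    Algebra.FiniteType.isNoetherianRing (AlgebraicClosure k) _
  obtain ⟨N, hN⟩ := IsNoetherianRing.isNilpotent_nilradical (AlgebraicClosure k ⊗[k] R)
  have hp1 : 1 < p := (Fact.out : p.Prime).one_lt
  obtain ⟨n, hn⟩ : ∃ n : ℕ, N ≤ p ^ n := ⟨N, (Nat.lt_pow_self hp1).le⟩
  refine ⟨n, ?_⟩
  rw [Algebra.isGeometricallyReduced_field_iff]
  -- injectivity of `k̄ ⊗ S → k̄ ⊗ R`
  have hinj : Function.Injective (Algebra.TensorProduct.map (AlgHom.id k (AlgebraicClosure k))
      (Algebra.adjoin k (Set.range (fun x : R => x ^ (p ^ n)))).val) := by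
    have : ⇑(Algebra.TensorProduct.map (AlgHom.id k (AlgebraicClosure k))
        (Algebra.adjoin k (Set.range (fun x : R => x ^ (p ^ n)))).val) =
        ⇑((Algebra.adjoin k (Set.range (fun x : R => x ^ (p ^ n)))).val.toLinearMap.lTensor
          (AlgebraicClosure k)) := by
      ext z
      induction z with
      | zero => simp
      | tmul c s => simp
      | add x y hx hy => simp only [map_add, hx, hy]
    rw [this]
    exact Module.Flat.lTensor_preserves_injective_linearMap _ Subtype.val_injective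
  refine ⟨fun z hz => ?_⟩
  apply hinj
  rw [map_zero]
  obtain ⟨y, hy⟩ := exists_pow_eq k p R n z
  have hznil : IsNilpotent (Algebra.TensorProduct.map (AlgHom.id k (AlgebraicClosure k))
      (Algebra.adjoin k (Set.range (fun x : R => x ^ (p ^ n)))).val z) := hz.map _
  rw [hy] at hznil ⊢
  have hynil : IsNilpotent y := by
    have hpn : p ^ n ≠ 0 := pow_ne_zero _ (Fact.out : p.Prime).ne_zero
    exact (IsNilpotent.pow_iff_pos hpn).mp hznil
  have hyN : y ^ N = 0 := by
    have hmem : y ∈ nilradical (AlgebraicClosure k ⊗[k] R) := hynil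
    have : y ^ N ∈ nilradical (AlgebraicClosure k ⊗[k] R) ^ N := Ideal.pow_mem_pow hmem N
    rw [hN] at this
    exact this
  exact pow_eq_zero_of_le hn hyN

end Groth.Agent.Lib.Helper77.FrobImage
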