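import Mathlib
import Groth.Agent.Lib.Helper85.GorFiber
import Groth.Agent.Lib.Helper85.GorFlat
import Groth.Agent.Lib.Helper85.RegGor
import Groth.Agent.Lib.Helper56.QuotFlat

/-!
# Gorenstein fibres are preserved by composition with a regular map (helper77)
-/
set_option autoImplicit false
universe u
open IsLocalRing TensorProduct

namespace Groth.Agent.Lib.Helper77.GorComp

open Groth.Agent.Lib.Helper85.GorRing Groth.Agent.Lib.Helper85.GorFlat Groth.Agent.Lib.Helper56

/-- flat local hom `R → T`, `I ⊆ m_R`: if `R/I` and `T/m_R T` are Gorenstein then so is `T/IT` -/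
theorem gor_quot_of_flat (R T : Type u) [CommRing R] [CommRing T] [IsLocalRing R] [IsLocalRing T]
    [IsNoetherianRing R] [IsNoetherianRing T] [Algebra R T] [IsLocalHom (algebraMap R T)]
    [Module.Flat R T] (I : Ideal R) (hI : I ≤ maximalIdeal R)
    [IsLocalRing (R ⧸ I)] [IsLocalRing (T ⧸ I.map (algebraMap R T))]
    [IsLocalRing (T ⧸ (maximalIdeal R).map (algebraMap R T))]
    (h1 : LocCoh.IsGorensteinLocalRing (R ⧸ I))
    (h2 : LocCoh.IsGorensteinLocalRing (T ⧸ (maximalIdeal R).map (algebraMap R T))) :
    LocCoh.IsGorensteinLocalRing (T ⧸ I.map (algebraMap R T)) := by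
  haveI : Module.Flat (R ⧸ I) (T ⧸ I.map (algebraMap R T)) := flat_quotient_map R T I
  haveI : IsLocalHom (algebraMap (R ⧸ I) (T ⧸ I.map (algebraMap R T))) :=
    isLocalHom_quotient_map R T I
  have hle : I.map (algebraMap R T) ≤ (maximalIdeal R).map (algebraMap R T) := Ideal.map_mono hI
  refine (gor_iff_fibre (R ⧸ I) (T ⧸ I.map (algebraMap R T))
    (T ⧸ (maximalIdeal R).map (algebraMap R T)) (Ideal.Quotient.factor hle)
    (Ideal.Quotient.factor_surjective hle) ?_).mpr ⟨h1, h2⟩
  rw [map_maximalIdeal_quotient_eq, Ideal.Quotient.factor_ker]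

section Fiber

variable (A B : Type u) [CommRing A] [CommRing B] [Algebra A B]

attribute [local instance] Algebra.TensorProduct.rightAlgebra in
theorem isNoetherianRing_fiber [IsNoetherianRing B] (q : Ideal A) [q.IsPrime] :
    IsNoetherianRing (q.Fiber B) := by
  have e := Ideal.Fiber.algEquivQuotient (S := B) q
  exact isNoetherianRing_of_ringEquiv _ e.symm.toRingEquiv

variable [IsNoetherianRing A] [IsNoetherianRing B] [Module.Flat A B]

/-- the local ring of the fibre at a prime is Gorenstein -/
theorem gor_loc_quot_of_fiber (q : Ideal A) [q.IsPrime] [LocCoh.IsGorensteinRing (q.Fiber B)]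
    (s : Ideal B) [s.IsPrime] (hs : s.comap (algebraMap A B) = q) :
    LocCoh.IsGorensteinLocalRing
      (Localization.AtPrime s ⧸ q.map (algebraMap A (Localization.AtPrime s))) := by
  obtain ⟨P, hP⟩ := Groth.Agent.Lib.Helper85.GorFiber.exists_fiber_prime A B q s hs
  subst hP
  letI := Localization.AtPrime.algebraOfLiesOver q
    (P.asIdeal.comap (Algebra.TensorProduct.includeRight : B →ₐ[A] q.Fiber B))
  let e := Ideal.Fiber.localizationAlgEquivQuotient q P.asIdeal
  haveI := LocCoh.IsGorensteinRing.isGorensteinLocalRing_localization (A := q.Fiber B) P.asIdeal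
  exact gor_of_ringEquiv (R := Localization.AtPrime P.asIdeal) e.toRingEquiv

theorem gor_fiber_loc_of_quot (q : Ideal A) [q.IsPrime] (Q : Ideal (q.Fiber B)) [Q.IsPrime]
    (h : LocCoh.IsGorensteinLocalRing
      (Localization.AtPrime (Q.comap (Algebra.TensorProduct.includeRight : B →ₐ[A] q.Fiber B)) ⧸
        q.map (algebraMap A (Localization.AtPrime
          (Q.comap (Algebra.TensorProduct.includeRight : B →ₐ[A] q.Fiber B)))))) :
    LocCoh.IsGorensteinLocalRing (Localization.AtPrime Q) := by
  letI := Localization.AtPrime.algebraOfLiesOver q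
    (Q.comap (Algebra.TensorProduct.includeRight : B →ₐ[A] q.Fiber B))
  let e := Ideal.Fiber.localizationAlgEquivQuotient q Q
  exact gor_of_ringEquiv (S := Localization.AtPrime Q) e.symm.toRingEquiv

end Fiber

section Core

variable (A B C : Type u) [CommRing A] [CommRing B] [CommRing C] [Algebra A B] [Algebra B C]
  [Algebra A C] [IsScalarTower A B C] [IsNoetherianRing B] [IsNoetherianRing C] [Module.Flat B C]

theorem core (q : Ideal A) (s : Ideal B) [s.IsPrime] (r : Ideal C) [r.IsPrime] [r.LiesOver s]
    (hq : q ≤ s.comap (algebraMap A B))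
    (h1 : LocCoh.IsGorensteinLocalRing
      (Localization.AtPrime s ⧸ q.map (algebraMap A (Localization.AtPrime s))))
    (h2 : LocCoh.IsGorensteinLocalRing
      (Localization.AtPrime r ⧸ s.map (algebraMap B (Localization.AtPrime r)))) :
    LocCoh.IsGorensteinLocalRing
      (Localization.AtPrime r ⧸ q.map (algebraMap A (Localization.AtPrime r))) := by
  letI := Localization.AtPrime.algebraOfLiesOver s r
  haveI : IsLocalHom (algebraMap (Localization.AtPrime s) (Localization.AtPrime r)) :=
    Localization.isLocalHom_localRingHom s r (algebraMap B C) _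
  haveI : Module.Flat (Localization.AtPrime s) (Localization.AtPrime r) :=
    RingHom.Flat.localRingHom (f := algebraMap B C)
      (RingHom.flat_algebraMap_iff.mpr inferInstance) r s Ideal.LiesOver.over
  haveI : IsNoetherianRing (Localization.AtPrime s) :=
    IsLocalization.isNoetherianRing s.primeCompl _ inferInstance
  haveI : IsNoetherianRing (Localization.AtPrime r) :=
    IsLocalization.isNoetherianRing r.primeCompl _ inferInstance
  obtain ⟨I, hIdef⟩ : ∃ I : Ideal (Localization.AtPrime s),
      I = q.map (algebraMap A (Localization.AtPrime s)) := ⟨_, rfl⟩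
  have hI : I ≤ maximalIdeal (Localization.AtPrime s) := by
    rw [hIdef, Ideal.map_le_iff_le_comap]
    intro a ha
    rw [Ideal.mem_comap, IsScalarTower.algebraMap_apply A B (Localization.AtPrime s),
      IsLocalization.AtPrime.to_map_mem_maximal_iff (Localization.AtPrime s) s]
    exact hq ha
  have hmapI : I.map (algebraMap (Localization.AtPrime s) (Localization.AtPrime r)) =
      q.map (algebraMap A (Localization.AtPrime r)) := by
    rw [hIdef, Ideal.map_map, ← IsScalarTower.algebraMap_eq]
  have hmapm : (maximalIdeal (Localization.AtPrime s)).map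
      (algebraMap (Localization.AtPrime s) (Localization.AtPrime r)) =
      s.map (algebraMap B (Localization.AtPrime r)) := by
    rw [← Localization.AtPrime.map_eq_maximalIdeal, Ideal.map_map, ← IsScalarTower.algebraMap_eq]
  have hle2 : (maximalIdeal (Localization.AtPrime s)).map
      (algebraMap (Localization.AtPrime s) (Localization.AtPrime r)) ≤
      maximalIdeal (Localization.AtPrime r) :=
    map_le_maximalIdeal (maximalIdeal (Localization.AtPrime s)) le_rfl
  haveI : IsLocalRing (Localization.AtPrime s ⧸ I) := isLocalRing_quot I hI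
  haveI : IsLocalRing (Localization.AtPrime r ⧸
      I.map (algebraMap (Localization.AtPrime s) (Localization.AtPrime r))) :=
    isLocalRing_quot _ ((Ideal.map_mono hI).trans hle2)
  haveI : IsLocalRing (Localization.AtPrime r ⧸ (maximalIdeal (Localization.AtPrime s)).map
      (algebraMap (Localization.AtPrime s) (Localization.AtPrime r))) :=
    isLocalRing_quot _ hle2
  have h1' : LocCoh.IsGorensteinLocalRing (Localization.AtPrime s ⧸ I) := by
    haveI := h1
    exact gor_of_ringEquiv (Ideal.quotEquivOfEq hIdef.symm)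
  have h2' : LocCoh.IsGorensteinLocalRing (Localization.AtPrime r ⧸
      (maximalIdeal (Localization.AtPrime s)).map
        (algebraMap (Localization.AtPrime s) (Localization.AtPrime r))) := by
    haveI := h2
    exact gor_of_ringEquiv (Ideal.quotEquivOfEq hmapm.symm)
  haveI := gor_quot_of_flat (Localization.AtPrime s) (Localization.AtPrime r) I hI h1' h2'
  exact gor_of_ringEquiv (Ideal.quotEquivOfEq hmapI)

end Core

section Main

variable (A B C : Type u) [CommRing A] [CommRing B] [CommRing C] [IsNoetherianRing A]
  [IsNoetherianRing B] [IsNoetherianRing C] [Algebra A B] [Algebra B C] [Algebra A C]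
  [IsScalarTower A B C] [Module.Flat A B] [Module.Flat B C]

theorem gorRing_fiber_of_regularHom (hBC : CAlg.IsRegularHom B C) (s : Ideal B) [s.IsPrime] :
    LocCoh.IsGorensteinRing (s.Fiber C) := by
  obtain ⟨hN, hreg⟩ := hBC.2 s
  haveI := hreg s.ResidueField (Module.Finite.self _)
  haveI : IsRegularRing (s.Fiber C) :=
    IsRegularRing.of_ringEquiv (R := s.ResidueField ⊗[s.ResidueField] s.Fiber C)
      (Algebra.TensorProduct.lid s.ResidueField (s.Fiber C)).toRingEquiv
  refine { isGorensteinLocalRing_localization := ?_ }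
  intro p _
  exact Groth.Agent.Lib.Helper85.FLCrit.isGorensteinLocalRing_of_regular _

theorem main_aux (hAB : ∀ (q : Ideal A) [q.IsPrime], LocCoh.IsGorensteinRing (q.Fiber B))
    (hBC : CAlg.IsRegularHom B C) (q : Ideal A) [q.IsPrime] (r : Ideal C) [r.IsPrime]
    (hrq : r.comap (algebraMap A C) = q) :
    LocCoh.IsGorensteinLocalRing
      (Localization.AtPrime r ⧸ q.map (algebraMap A (Localization.AtPrime r))) := by
  obtain ⟨s, hs⟩ : ∃ s : Ideal B, s = r.comap (algebraMap B C) := ⟨_, rfl⟩
  haveI : s.IsPrime := by rw [hs]; infer_instance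
  haveI : r.LiesOver s := ⟨hs⟩
  have hsq : s.comap (algebraMap A B) = q := by
    rw [hs, Ideal.comap_comap, ← IsScalarTower.algebraMap_eq, hrq]
  haveI := hAB q
  have h1 := gor_loc_quot_of_fiber A B q s hsq
  haveI := gorRing_fiber_of_regularHom B C hBC s
  have h2 := gor_loc_quot_of_fiber B C s r hs.symm
  exact core A B C q s r (le_of_eq hsq.symm) h1 h2

theorem main (hAB : ∀ (q : Ideal A) [q.IsPrime], LocCoh.IsGorensteinRing (q.Fiber B))
    (hBC : CAlg.IsRegularHom B C) (q : Ideal A) [q.IsPrime] :
    LocCoh.IsGorensteinRing (q.Fiber C) := by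
  haveI := isNoetherianRing_fiber A C q
  haveI : Module.Flat A C := Module.Flat.trans A B C
  refine { isGorensteinLocalRing_localization := ?_ }
  intro Q _
  apply gor_fiber_loc_of_quot A C q Q
  apply main_aux A B C hAB hBC q
  have h := Ideal.over_def Q q
  refine Eq.trans ?_ h.symm
  ext a
  change _ ∈ Q ↔ _ ∈ Q
  rw [AlgHom.commutes]

end Main

end Groth.Agent.Lib.Helper77.GorComp
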