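import Groth.Agent.Lib.Helper77.AuslanderBuchsbaum

/-!
# Auslander–Buchsbaum along a minimal free resolution given by matrices (helper77)

`key`: over a Noetherian ring `R` with an ideal `I` such that `depth_I R = t` is finite, if a finite
module `N` has a free resolution by matrices `d i` with entries in `I`, of length exactly `e`,
then `e + depth_I N = t`.
-/
universe u
set_option autoImplicit false
open CategoryTheory CategoryTheory.Abelian LocCoh

namespace Groth.Agent.Lib.Helper77.GrAB

open Groth.Agent.Lib.Helper67 Groth.Agent.Lib.Helper77.AuslanderBuchsbaum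

section Arith

theorem arithA (t : ℕ) (dN : ℕ∞) (h3 : dN + 1 ≤ (t : ℕ∞))
    (hr : min (t : ℕ∞) ((t : ℕ∞) - 1) ≤ dN) : ((0 + 1 : ℕ) : ℕ∞) + dN = t := by
  have hN : dN ≠ ⊤ := by
    rintro rfl
    simp at h3
  lift dN to ℕ using hN
  have h1 : ((t - 1 : ℕ) : ℕ∞) = (t : ℕ∞) - 1 := by simp
  rw [← h1, min_le_iff] at hr
  norm_cast at *
  omega

theorem arithB (e' t : ℕ) (dN dK : ℕ∞) (ihK : ((e' + 1 : ℕ) : ℕ∞) + dK = t)
    (hl : min (t : ℕ∞) (dN + 1) ≤ dK) (hr : min (t : ℕ∞) (dK - 1) ≤ dN) :
    ((e' + 1 + 1 : ℕ) : ℕ∞) + dN = t := by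
  have hK : dK ≠ ⊤ := by
    rintro rfl
    simp at ihK
  lift dK to ℕ using hK
  have hN : dN ≠ ⊤ := by
    rintro rfl
    rw [top_add, min_top_right] at hl
    have h1 : t ≤ dK := by exact_mod_cast hl
    have h2 : e' + 1 + dK = t := by exact_mod_cast ihK
    omega
  lift dN to ℕ using hN
  have h1 : ((dK - 1 : ℕ) : ℕ∞) = (dK : ℕ∞) - 1 := by simp
  rw [← h1, min_le_iff] at hr
  rw [min_le_iff] at hl
  norm_cast at *
  omega

end Arith

section Key

variable {R : Type u} [CommRing R] [IsNoetherianRing R] (I : Ideal R)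

theorem idealDepth_eq_top_of_subsingleton (M : Type u) [AddCommGroup M] [Module R M]
    [Subsingleton M] : idealDepth I M = ⊤ := by
  unfold idealDepth
  rw [if_pos (Subsingleton.elim _ _)]

theorem idealDepth_fin_fun [Nontrivial R] (s : ℕ) (hs : s ≠ 0) :
    idealDepth I (Fin s → R) = idealDepth I R := by
  obtain ⟨s', rfl⟩ := Nat.exists_eq_succ_of_ne_zero hs
  exact idealDepth_pi_fin I R s'

theorem mulVecLin_mem_smul_top {m n : ℕ} (A : Matrix (Fin m) (Fin n) R) (hA : ∀ a b, A a b ∈ I) :
    Matrix.mulVecLin A ∈ I • (⊤ : Submodule R ((Fin n → R) →ₗ[R] (Fin m → R))) := by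
  apply mem_smul_top_hom
  intro v
  apply mem_smul_top_pi
  intro a
  rw [Matrix.mulVecLin_apply, Matrix.mulVec, dotProduct]
  exact Ideal.sum_mem _ (fun b _ => Ideal.mul_mem_right _ _ (hA a b))

theorem key [Nontrivial R] (t : ℕ) (ht : idealDepth I R = t) :
    ∀ (e : ℕ) (rk : ℕ → ℕ) (d : ∀ i, Matrix (Fin (rk i)) (Fin (rk (i + 1))) R)
      (N : Type u) [AddCommGroup N] [Module R N] [Module.Finite R N]
      (aug : (Fin (rk 0) → R) →ₗ[R] N),
      Function.Surjective aug →
      LinearMap.ker aug = LinearMap.range (Matrix.mulVecLin (d 0)) →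
      (∀ i, LinearMap.ker (Matrix.mulVecLin (d i)) =
        LinearMap.range (Matrix.mulVecLin (d (i + 1)))) →
      (∀ i a b, d i a b ∈ I) →
      (∀ i, e < i → rk i = 0) → rk e ≠ 0 →
      ((e : ℕ) : ℕ∞) + idealDepth I N = t := by
  intro e
  induction e with
  | zero =>
    intro rk d N _ _ _ aug hsurj hker _ _ hlen hrk
    have h1 : rk 1 = 0 := hlen 1 Nat.zero_lt_one
    have hsub : Subsingleton (Fin (rk (0 + 1)) → R) := by
      rw [show rk (0 + 1) = 0 from h1]; infer_instance
    have hrange : LinearMap.range (Matrix.mulVecLin (d 0)) = ⊥ := by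
      rw [LinearMap.range_eq_bot]
      apply LinearMap.ext
      intro v
      rw [Subsingleton.elim v 0]; simp
    have hinj : Function.Injective aug := by
      rw [← LinearMap.ker_eq_bot, hker, hrange]
    have e' : (Fin (rk 0) → R) ≃ₗ[R] N := LinearEquiv.ofBijective aug ⟨hinj, hsurj⟩
    rw [← idealDepth_congr I e', idealDepth_fin_fun I _ hrk, ht]
    simp
  | succ e ih =>
    intro rk d N _ _ _ aug hsurj hker hex hmin hlen hrk
    rcases Nat.eq_zero_or_pos e with rfl | hepos
    · -- length exactly one
      have h2 : rk 2 = 0 := hlen 2 (by omega)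
      have hsub : Subsingleton (Fin (rk (1 + 1)) → R) := by
        rw [show rk (1 + 1) = 0 from h2]; infer_instance
      have hrange : LinearMap.range (Matrix.mulVecLin (d 1)) = ⊥ := by
        rw [LinearMap.range_eq_bot]
        apply LinearMap.ext
        intro v
        rw [Subsingleton.elim v 0]; simp
      have hinj : Function.Injective (Matrix.mulVecLin (d 0)) := by
        rw [← LinearMap.ker_eq_bot, hex 0, hrange]
      have hexact : Function.Exact (Matrix.mulVecLin (d 0)) aug := by
        rw [LinearMap.exact_iff]; exact hker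
      have hF1 : idealDepth I (Fin (rk 1) → R) = t := by
        rw [idealDepth_fin_fun I _ hrk, ht]
      have hrk0 : rk 0 ≠ 0 := by
        intro h0
        have hsub0 : Subsingleton (Fin (rk 0) → R) := by
          rw [h0]; infer_instance
        have hsub1 : Subsingleton (Fin (rk 1) → R) := hinj.subsingleton
        obtain ⟨s', hs'⟩ := Nat.exists_eq_succ_of_ne_zero hrk
        have : Nontrivial (Fin (rk (0 + 1)) → R) := by
          rw [hs']; infer_instance
        exact absurd hsub1 (not_subsingleton _)
      have hF0 : idealDepth I (Fin (rk 0) → R) = t := by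
        rw [idealDepth_fin_fun I _ hrk0, ht]
      have hann : I ≤ Module.annihilator R (ModuleCat.of R (R ⧸ I)) := by
        change I ≤ Module.annihilator R (R ⧸ I)
        rw [Ideal.annihilator_quotient]
      have h3 := idealDepth_add_one_le_of_ext_zero I (Fin (rk 1) → R) (Fin (rk 0) → R) N
        (Matrix.mulVecLin (d 0)) aug hinj hsurj hexact
        (fun n x => ext_comp_eq_zero_of_mem_smul_top I hann _
          (mulVecLin_mem_smul_top I (d 0) (hmin 0)) n x)
      have hr := idealDepth_right_ge I (Fin (rk 1) → R) (Fin (rk 0) → R) N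
        (Matrix.mulVecLin (d 0)) aug hinj hsurj hexact
      rw [hF1] at h3
      rw [hF0, hF1] at hr
      exact arithA t _ h3 hr
    · -- length at least two
      obtain ⟨e', rfl⟩ : ∃ e', e = e' + 1 := ⟨e - 1, by omega⟩
      have hmem : ∀ v, Matrix.mulVecLin (d 0) v ∈ LinearMap.ker aug := by
        intro v
        rw [hker]; exact LinearMap.mem_range_self _ v
      let aug' : (Fin (rk 1) → R) →ₗ[R] LinearMap.ker aug :=
        LinearMap.codRestrict (LinearMap.ker aug) (Matrix.mulVecLin (d 0)) hmem
      have hsurj' : Function.Surjective aug' := by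
        rintro ⟨x, hx⟩
        rw [hker] at hx
        obtain ⟨v, rfl⟩ := hx
        exact ⟨v, rfl⟩
      have hker' : LinearMap.ker aug' = LinearMap.range (Matrix.mulVecLin (d (0 + 1))) := by
        rw [LinearMap.ker_codRestrict]
        exact hex 0
      have ihK := ih (fun i => rk (i + 1)) (fun i => d (i + 1)) (LinearMap.ker aug) aug'
        hsurj' hker' (fun i => hex (i + 1)) (fun i => hmin (i + 1))
        (fun i hi => hlen (i + 1) (by omega)) hrk
      have hKtop : idealDepth I (LinearMap.ker aug) ≠ ⊤ := by
        intro h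
        rw [h] at ihK
        simp at ihK
      have hrk0 : rk 0 ≠ 0 := by
        intro h0
        have hsub0 : Subsingleton (Fin (rk 0) → R) := by
          rw [h0]; infer_instance
        have : Subsingleton (LinearMap.ker aug) :=
          (Submodule.injective_subtype (LinearMap.ker aug)).subsingleton
        exact hKtop (idealDepth_eq_top_of_subsingleton I _)
      have hF0 : idealDepth I (Fin (rk 0) → R) = t := by
        rw [idealDepth_fin_fun I _ hrk0, ht]
      have hinj : Function.Injective (LinearMap.ker aug).subtype := Submodule.injective_subtype _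
      have hexact : Function.Exact (LinearMap.ker aug).subtype aug :=
        LinearMap.exact_subtype_ker_map aug
      have hl := idealDepth_left_ge I (LinearMap.ker aug) (Fin (rk 0) → R) N
        (LinearMap.ker aug).subtype aug hinj hsurj hexact
      have hr := idealDepth_right_ge I (LinearMap.ker aug) (Fin (rk 0) → R) N
        (LinearMap.ker aug).subtype aug hinj hsurj hexact
      rw [hF0] at hl hr
      exact arithB e' t _ _ ihK hl hr

end Key

end Groth.Agent.Lib.Helper77.GrAB
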