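import Groth.Agent.Lib.Helper77.PolyDepth
import Groth.Prelude.Def_GrSyz

/-!
# Graded Auslander–Buchsbaum for the polynomial ring (helper77): S16323
-/
universe u
set_option autoImplicit false
open LocCoh MvPolynomial

namespace Groth.Agent.Lib.Helper77.GrABMain

open Groth.Agent.Lib.Helper77.GrAB Groth.Agent.Lib.Helper77.PolyDepth

section

variable (k : Type u) [Field k] (m : ℕ)

theorem X_mem_irrel (j : Fin m) :
    (X j : MvPolynomial (Fin m) k) ∈ (GrSyz.irrel (GrSyz.stdGr k (Fin m))).toIdeal := by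
  apply Ideal.subset_span
  refine ⟨1, one_pos, ?_⟩
  rw [GrSyz.mem_stdGr_iff]
  exact MvPolynomial.isWeightedHomogeneous_X k (fun _ : Fin m => (1 : ℤ)) j

theorem irrel_le_ker :
    (GrSyz.irrel (GrSyz.stdGr k (Fin m))).toIdeal ≤
      RingHom.ker (MvPolynomial.constantCoeff : MvPolynomial (Fin m) k →+* k) := by
  change Ideal.span _ ≤ _
  rw [Ideal.span_le]
  rintro r ⟨d, hd, hr⟩
  rw [GrSyz.mem_stdGr_iff] at hr
  rw [SetLike.mem_coe, RingHom.mem_ker, MvPolynomial.constantCoeff_eq]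
  by_contra hne
  have := hr hne
  simp at this
  omega

theorem irrel_ne_top : (GrSyz.irrel (GrSyz.stdGr k (Fin m))).toIdeal ≠ ⊤ := by
  intro h
  have h1 : (1 : MvPolynomial (Fin m) k) ∈
      RingHom.ker (MvPolynomial.constantCoeff : MvPolynomial (Fin m) k →+* k) :=
    irrel_le_ker k m (h ▸ Submodule.mem_top)
  rw [RingHom.mem_ker, map_one] at h1
  exact one_ne_zero h1

theorem idealDepth_irrel :
    idealDepth (GrSyz.irrel (GrSyz.stdGr k (Fin m))).toIdeal (MvPolynomial (Fin m) k) = (m : ℕ∞) :=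
  le_antisymm (idealDepth_le_card k m _ (irrel_ne_top k m))
    (le_idealDepth_of_X_mem k m _ (X_mem_irrel k m))

end

theorem main (k : Type u) [Field k] (n : ℕ)
    (M : Type u) [AddCommGroup M] [Module k M] [Module (MvPolynomial (Fin (n + 1)) k) M]
    [IsScalarTower k (MvPolynomial (Fin (n + 1)) k) M]
    [Module.Finite (MvPolynomial (Fin (n + 1)) k) M]
    (ℳ : ℤ → Submodule k M) [DirectSum.Decomposition ℳ]
    [SetLike.GradedSMul (GrSyz.stdGr k (Fin (n + 1))) ℳ]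
    (F : GrSyz.FreeRes (GrSyz.stdGr k (Fin (n + 1))) ℳ)
    (hF : F.IsMinimal (GrSyz.irrel (GrSyz.stdGr k (Fin (n + 1)))).toIdeal)
    (ℓ : ℕ) (hℓ : F.HasLengthLE ℓ) (hℓ' : F.rk ℓ ≠ 0) :
    (ℓ : ℕ∞) + LocCoh.idealDepth (GrSyz.irrel (GrSyz.stdGr k (Fin (n + 1)))).toIdeal M =
      ((n + 1 : ℕ) : ℕ∞) :=
  key (GrSyz.irrel (GrSyz.stdGr k (Fin (n + 1)))).toIdeal (n + 1) (idealDepth_irrel k (n + 1))
    ℓ F.rk F.d M F.augLin F.aug_surjective F.exact_zero F.exact_succ hF hℓ hℓ'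

end Groth.Agent.Lib.Helper77.GrABMain
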