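import Groth.Agent.Lib.Helper8.GrSegK
import Groth.Agent.Lib.Helper8.GrStarLocal
import Groth.Agent.Lib.Helper90.GrModCM2
import Groth.Agent.Lib.Helper92.LocCohDepth

/-!
# Vanishing of local cohomology below the dimension implies Cohen–Macaulay (graded modules)

Requested by helper8 for S19756: lemma (C) `cm_of_H_vanish`.
-/

set_option autoImplicit false
set_option linter.unusedSectionVars false
universe u

open DirectSum GrLC

namespace Groth.Agent.Lib.Helper77.GrCMC

/-- graded Nakayama over a *local ring: a nonzero finite graded module `X` has `𝔪X ≠ X`. -/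
theorem smul_top_ne_top {A : Type u} [CommRing A] [IsNoetherianRing A] (𝒜 : ℤ → AddSubgroup A)
    [GradedRing 𝒜] (m : HomogeneousIdeal 𝒜) (hm : GrLC.IsStarLocal 𝒜 m)
    (hmtop : m.toIdeal ≠ ⊤) {X : Type u} [AddCommGroup X] [Module A X] [Module.Finite A X]
    (𝒳 : ℤ → AddSubgroup X) [DirectSum.Decomposition 𝒳] [SetLike.GradedSMul 𝒜 𝒳]
    [Nontrivial X] : m.toIdeal • (⊤ : Submodule A X) ≠ ⊤ := by
  classical
  intro htop
  obtain ⟨r, hr1, hr0⟩ := Submodule.exists_sub_one_mem_and_smul_eq_zero_of_fg_of_le_smul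
    m.toIdeal (⊤ : Submodule A X) Module.Finite.fg_top (le_of_eq htop.symm)
  have hrm : r ∉ m.toIdeal := by
    intro hr
    apply hmtop
    rw [Ideal.eq_top_iff_one]
    have := Ideal.sub_mem _ hr hr1
    simpa using this
  have hbot : (⊥ : Submodule A X).IsHomogeneous 𝒳 := by
    intro i x hx
    rw [Submodule.mem_bot] at hx
    rw [hx, decompose_zero]
    exact Submodule.zero_mem _
  have hzero : ∀ x : X, x = 0 := by
    intro x
    rw [← DirectSum.sum_support_decompose 𝒳 x]
    apply Finset.sum_eq_zero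
    intro i _
    have hmem : r • ((decompose 𝒳 x i : 𝒳 i) : X) ∈ (⊥ : Submodule A X) := by
      rw [hr0 _ Submodule.mem_top]
      exact Submodule.zero_mem _
    have := Groth.Agent.Lib.Helper8.GrStarLocal.mem_of_smul_mem 𝒜 𝒳 m hm hbot
      (SetLike.coe_mem (decompose 𝒳 x i)) hmem hrm
    exact (Submodule.mem_bot A).mp this
  obtain ⟨x, hx⟩ := exists_ne (0 : X)
  exact hx (hzero x)

/-- (C) for helper8: a finite graded module over a Noetherian *local ring whose local cohomology
with respect to the *maximal ideal vanishes below its dimension is Cohen–Macaulay (or zero) at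
every prime. -/
theorem cm_of_H_vanish {A : Type u} [CommRing A] [IsNoetherianRing A] (𝒜 : ℤ → AddSubgroup A)
    [GradedRing 𝒜] (m : HomogeneousIdeal 𝒜) (hm : GrLC.IsStarLocal 𝒜 m) [m.toIdeal.IsMaximal]
    {X : Type u} [AddCommGroup X] [Module A X] [Module.Finite A X] (𝒳 : ℤ → AddSubgroup X)
    [DirectSum.Decomposition 𝒳] [SetLike.GradedSMul 𝒜 𝒳] (d : ℕ)
    (hd : Module.supportDim A X = d)
    (h : ∀ i : ℕ, i < d → Subsingleton (LocCoh.H m.toIdeal i X)) :
    ∀ (q : Ideal A) [q.IsPrime], Subsingleton (LocalizedModule q.primeCompl X) ∨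
      LocCoh.IsCohenMacaulayModule (Localization.AtPrime q) (LocalizedModule q.primeCompl X) := by
  intro q _
  have hnt : Nontrivial X := by
    by_contra hsub
    rw [not_nontrivial_iff_subsingleton] at hsub
    rw [Module.supportDim_eq_bot_of_subsingleton A X] at hd
    exact WithBot.bot_ne_coe hd
  have hIM : m.toIdeal • (⊤ : Submodule A X) ≠ ⊤ :=
    smul_top_ne_top 𝒜 m hm (Ideal.IsMaximal.ne_top inferInstance) 𝒳
  have hdepth : (d : ℕ∞) ≤ LocCoh.idealDepth m.toIdeal X := by
    by_contra hcon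
    rw [not_le] at hcon
    obtain ⟨n, hn⟩ := ENat.ne_top_iff_exists.mp (ne_top_of_lt hcon)
    rw [← hn] at hcon
    have hnd : n < d := by exact_mod_cast hcon
    have h1 := (Groth.Agent.Lib.Helper92.LC.idealDepth_eq_iff m.toIdeal X hIM n).mp hn.symm
    have hs := h n hnd
    have hnt' := h1.2
    exact (not_subsingleton_iff_nontrivial.mpr hnt') hs
  refine Groth.Agent.Lib.Helper90.GrModCM.cm_of_supportDim_le_idealDepth 𝒜 𝒳 m.toIdeal
    (fun I hI hne => ?_) ?_ q
  · exact _root_.toIdeal_le_toIdeal_iff.mpr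
      (Groth.Agent.Lib.Helper8.GrStarLocal.le_of_isStarLocal 𝒜 m hm ⟨I, hI⟩ hne)
  · rw [hd]
    exact_mod_cast hdepth

end Groth.Agent.Lib.Helper77.GrCMC
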