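import Groth.Agent.Lib.Helper85.MatlisDual
import Groth.Agent.Lib.Helper85.MatlisArt
import Groth.Agent.Lib.Helper85.HullExist

set_option autoImplicit false
universe u

namespace Groth.Agent.Lib.Helper77.HSL1

open IsLocalRing InjHull Groth.Agent.Lib.Helper85.Matlis

variable {R : Type u} [CommRing R] [IsLocalRing R] [IsNoetherianRing R]

/-- power torsion + finite socle implies Artinian -/
theorem isArtinian_of_torsion (N : Type u) [AddCommGroup N] [Module R N]
    (hN : LocCoh.IsPowerTorsion (maximalIdeal R) N)
    (hsoc : Module.Finite R ↥(LocCoh.torsionBy (maximalIdeal R) N)) : IsArtinian R N := by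
  obtain ⟨E, _, _, f, hf⟩ := Groth.Agent.Lib.Helper85.Hull.exists_injectiveHull (R := R)
    (ResidueField R)
  haveI : Module.Finite (R ⧸ maximalIdeal R) ↥(LocCoh.torsionBy (maximalIdeal R) N) :=
    Module.Finite.of_restrictScalars_finite R _ _
  obtain ⟨g, hg⟩ := exists_embedding_pi hf N hN _ rfl
  haveI : IsArtinian R E := isArtinian_hull hf
  exact isArtinian_of_injective g hg


open TensorProduct in
/-- flat base change of annihilator submodules -/
theorem mem_span_of_ann {R S : Type u} [CommRing R] [CommRing S] [Algebra R S] [Module.Flat R S]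
    {N : Type u} [AddCommGroup N] [Module R N] (I : Ideal R) (hI : I.FG)
    (z : S ⊗[R] N) (hz : ∀ b ∈ I.map (algebraMap R S), b • z = 0) :
    z ∈ Submodule.span S ((TensorProduct.mk R S N 1) '' {x | ∀ a ∈ I, a • x = 0}) := by
  classical
  obtain ⟨m, a, ha⟩ := Submodule.fg_iff_exists_fin_generating_family.mp hI
  let g : N →ₗ[R] (Fin m → N) := LinearMap.pi (fun i => a i • LinearMap.id)
  have hex : Function.Exact (LinearMap.ker g).subtype g := LinearMap.exact_subtype_ker_map g
  have hex' := Module.Flat.lTensor_exact S hex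
  have key : ∀ (w : S ⊗[R] N) (i : Fin m),
      (TensorProduct.piRight R S S (fun _ : Fin m => N)) ((g.lTensor S) w) i =
        (algebraMap R S (a i)) • w := by
    intro w i
    induction w using TensorProduct.induction_on with
    | zero => simp
    | tmul s x =>
      rw [LinearMap.lTensor_tmul, TensorProduct.piRight_apply, TensorProduct.piRightHom_tmul]
      change s ⊗ₜ[R] (a i • x) = _
      rw [TensorProduct.tmul_smul, algebraMap_smul]
    | add w₁ w₂ h₁ h₂ => simp only [map_add, Pi.add_apply, h₁, h₂, smul_add]
  have hz' : (g.lTensor S) z = 0 := by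
    apply (TensorProduct.piRight R S S (fun _ : Fin m => N)).injective
    rw [map_zero]
    ext i
    rw [key]
    apply hz
    apply Ideal.mem_map_of_mem
    rw [← ha]
    exact Submodule.subset_span ⟨i, rfl⟩
  obtain ⟨w, rfl⟩ := (hex' z).mp hz'
  clear hz hz'
  induction w using TensorProduct.induction_on with
  | zero => rw [map_zero]; exact Submodule.zero_mem _
  | tmul s k =>
    rw [LinearMap.lTensor_tmul]
    have h1 : s ⊗ₜ[R] ((LinearMap.ker g).subtype k) = s • (TensorProduct.mk R S N 1 k.1) := by
      rw [TensorProduct.mk_apply, TensorProduct.smul_tmul', smul_eq_mul, mul_one]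
      rfl
    rw [h1]
    apply Submodule.smul_mem
    apply Submodule.subset_span
    refine ⟨k.1, ?_, rfl⟩
    intro b hb
    rw [← ha] at hb
    refine Submodule.span_induction (p := fun b _ => b • k.1 = 0) ?_ ?_ ?_ ?_ hb
    · rintro _ ⟨i, rfl⟩
      have := k.2
      rw [LinearMap.mem_ker] at this
      exact congrFun this i
    · rw [zero_smul]
    · intro b c _ _ hb hc
      rw [add_smul, hb, hc, add_zero]
    · intro b c _ hc
      rw [smul_eq_mul, mul_smul, hc, smul_zero]
  | add w₁ w₂ h₁ h₂ =>
    rw [map_add]
    exact Submodule.add_mem _ h₁ h₂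

end Groth.Agent.Lib.Helper77.HSL1
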