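import Groth.Agent.Lib.Helper77.HSL9

set_option autoImplicit false
universe u v

namespace Groth.Agent.Lib.Helper77.HSL10

open IsLocalRing Groth.Agent.Lib.Helper77.HSL7

theorem main (p : ℕ) [Fact p.Prime] (A : Type u) [CommRing A] [IsNoetherianRing A] [IsLocalRing A]
    [CharP A p] (M : Type v) [AddCommGroup M] [Module A M]
    (htors : LocCoh.IsPowerTorsion (IsLocalRing.maximalIdeal A) M)
    (hsoc : Module.Finite A ↥(LocCoh.torsionBy (IsLocalRing.maximalIdeal A) M))
    (φ : M →ₛₗ[frobenius A p] M)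
    (hloc : ∀ x : M, ∃ n : ℕ, (⇑φ)^[n] x = 0) :
    ∃ n : ℕ, ∀ x : M, (⇑φ)^[n] x = 0 := by
  classical
  haveI : IsNoetherianRing (ULift.{v} A) :=
    isNoetherianRing_of_ringEquiv A (ULift.ringEquiv (R := A)).symm
  haveI : IsLocalRing (ULift.{v} A) := (ULift.ringEquiv (R := A)).symm.isLocalRing
  have hmax : ∀ (t : ℕ) (a : ULift.{v} A), a ∈ maximalIdeal (ULift.{v} A) ^ t →
      a.down ∈ maximalIdeal A ^ t := by
    intro t a ha
    have h1 := Ideal.mem_map_of_mem (ULift.ringEquiv (R := A)).toRingHom ha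
    rw [Ideal.map_pow] at h1
    have h2 : (maximalIdeal (ULift.{v} A)).map (ULift.ringEquiv (R := A)).toRingHom =
        maximalIdeal A := map_ringEquiv_maximalIdeal (ULift.ringEquiv (R := A))
    rw [h2] at h1
    exact h1
  have hmax' : ∀ (a : A), a ∈ maximalIdeal A → ULift.up.{v} a ∈ maximalIdeal (ULift.{v} A) := by
    intro a ha
    rw [mem_maximalIdeal, mem_nonunits_iff] at ha ⊢
    intro hu
    exact ha (hu.map (ULift.ringEquiv (R := A)).toRingHom)
  let φ' : ULift.{u} M →ₛₗ[frobenius (ULift.{v} A) p] ULift.{u} M :=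
    { toFun := fun z => ULift.up (φ z.down)
      map_add' := fun z w => by
        apply ULift.ext
        simp
      map_smul' := fun a z => by
        apply ULift.ext
        change φ (a.down • z.down) = (frobenius (ULift.{v} A) p a).down • φ z.down
        rw [φ.map_smulₛₗ]
        rfl }
  have hφ' : ∀ (n : ℕ) (x : M), (⇑φ')^[n] (ULift.up x) = ULift.up ((⇑φ)^[n] x) := by
    intro n x
    induction n with
    | zero => rfl
    | succ n ih =>
      rw [Function.iterate_succ_apply', Function.iterate_succ_apply', ih]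
      rfl
  have hN' : LocCoh.IsPowerTorsion (maximalIdeal (ULift.{v} A)) (ULift.{u} M) := by
    intro z
    obtain ⟨t, ht⟩ := htors z.down
    refine ⟨t, fun a ha => ?_⟩
    apply ULift.ext
    exact ht a.down (hmax t a ha)
  have hsoc' : Module.Finite (ULift.{v} A)
      ↥(LocCoh.torsionBy (maximalIdeal (ULift.{v} A)) (ULift.{u} M)) := by
    obtain ⟨G, hG⟩ := Module.finite_def.mp hsoc
    have hm : ∀ x ∈ LocCoh.torsionBy (maximalIdeal A) M,
        ULift.up.{u} x ∈ LocCoh.torsionBy (maximalIdeal (ULift.{v} A)) (ULift.{u} M) := by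
      intro x hx
      rw [Submodule.mem_torsionBySet_iff] at hx ⊢
      rintro ⟨a, ha⟩
      apply ULift.ext
      have := hmax 1 a (by rw [pow_one]; exact ha)
      rw [pow_one] at this
      exact hx ⟨a.down, this⟩
    refine Module.finite_def.mpr ⟨G.image (fun g => ⟨ULift.up g.1, hm g.1 g.2⟩), ?_⟩
    rw [eq_top_iff]
    rintro ⟨z, hz⟩ -
    have hx : z.down ∈ LocCoh.torsionBy (maximalIdeal A) M := by
      rw [Submodule.mem_torsionBySet_iff] at hz ⊢
      rintro ⟨a, ha⟩
      have := hz ⟨ULift.up a, hmax' a ha⟩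
      exact congrArg ULift.down this
    have hmem : (⟨z.down, hx⟩ : ↥(LocCoh.torsionBy (maximalIdeal A) M)) ∈
        Submodule.span A (G : Set ↥(LocCoh.torsionBy (maximalIdeal A) M)) := by
      rw [hG]; trivial
    have key : ∀ w ∈ Submodule.span A (G : Set ↥(LocCoh.torsionBy (maximalIdeal A) M)),
        (⟨ULift.up w.1, hm w.1 w.2⟩ :
          ↥(LocCoh.torsionBy (maximalIdeal (ULift.{v} A)) (ULift.{u} M))) ∈
          Submodule.span (ULift.{v} A) ((G.image (fun g => (⟨ULift.up g.1, hm g.1 g.2⟩ :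
            ↥(LocCoh.torsionBy (maximalIdeal (ULift.{v} A)) (ULift.{u} M)))) : Finset _) :
              Set _) := by
      intro w hw
      refine Submodule.span_induction ?_ ?_ ?_ ?_ hw
      · intro g hg
        apply Submodule.subset_span
        rw [Finset.coe_image]
        exact ⟨g, hg, rfl⟩
      · exact Submodule.zero_mem _
      · intro a b _ _ ha hb
        exact Submodule.add_mem _ ha hb
      · intro r a _ ha
        exact Submodule.smul_mem _ (ULift.up r) ha
    exact key _ hmem
  have hloc' : ∀ z : ULift.{u} M, ∃ n : ℕ, (⇑φ')^[n] z = 0 := by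
    intro z
    obtain ⟨n, hn⟩ := hloc z.down
    refine ⟨n, ?_⟩
    have : z = ULift.up z.down := rfl
    rw [this, hφ', hn]
    rfl
  obtain ⟨n, hn⟩ := Groth.Agent.Lib.Helper77.HSL9.hsl_local p (ULift.{v} A) (ULift.{u} M) φ'
    hN' hsoc' hloc'
  refine ⟨n, fun x => ?_⟩
  have := hn (ULift.up x)
  rw [hφ'] at this
  exact congrArg ULift.down this

end Groth.Agent.Lib.Helper77.HSL10
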