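import Groth.Agent.Lib.Helper77.HSL1

set_option autoImplicit false
universe u

namespace Groth.Agent.Lib.Helper77.HSL2

open IsLocalRing InjHull Groth.Agent.Lib.Helper85.Matlis

variable {S : Type u} [CommRing S] [IsLocalRing S] [IsNoetherianRing S]
  [IsAdicComplete (maximalIdeal S) S]
  {E : Type u} [AddCommGroup E] [Module S E] {f : ResidueField S →ₗ[S] E}

/-- double annihilator: a functional vanishing on `(0 :_X J)` lies in `J • D(X)`. -/
theorem mem_smul_top_of_vanish (hf : IsInjectiveHull f) {X : Type u} [AddCommGroup X] [Module S X]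
    [IsArtinian S X] (J : Ideal S) (g : X →ₗ[S] E)
    (hg : ∀ x : X, (∀ a ∈ J, a • x = 0) → g x = 0) :
    g ∈ J • (⊤ : Submodule S (X →ₗ[S] E)) := by
  by_contra hcon
  have hne : (J • (⊤ : Submodule S (X →ₗ[S] E))).mkQ g ≠ 0 := by
    rw [Ne, Submodule.mkQ_apply, Submodule.Quotient.mk_eq_zero]
    exact hcon
  obtain ⟨θ, hθ⟩ := exists_hom_apply_ne_zero hf _ hne
  obtain ⟨x, hx⟩ := (applyₗ_bijective_of_isArtinian hf X).2
    (θ.comp (J • (⊤ : Submodule S (X →ₗ[S] E))).mkQ)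
  have hx' : ∀ h : X →ₗ[S] E, h x = θ ((J • (⊤ : Submodule S (X →ₗ[S] E))).mkQ h) := by
    intro h
    have := LinearMap.congr_fun hx h
    exact this
  have hxJ : ∀ a ∈ J, a • x = 0 := by
    intro a ha
    by_contra hax
    obtain ⟨h, hh⟩ := exists_hom_apply_ne_zero hf _ hax
    apply hh
    rw [map_smul, ← LinearMap.smul_apply, hx']
    have : (J • (⊤ : Submodule S (X →ₗ[S] E))).mkQ (a • h) = 0 := by
      rw [Submodule.mkQ_apply, Submodule.Quotient.mk_eq_zero]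
      exact Submodule.smul_mem_smul ha Submodule.mem_top
    rw [this, map_zero]
  apply hθ
  rw [← hx', hg x hxJ]

/-- dual Artin–Rees -/
theorem dual_artinRees (hf : IsInjectiveHull f) {X P : Type u} [AddCommGroup X] [Module S X]
    [IsArtinian S X] [AddCommGroup P] [Module S P] (ψ : X →ₗ[S] P) (hψ : Function.Surjective ψ) :
    ∃ k : ℕ, ∀ (i : ℕ) (y : P), (∀ a ∈ maximalIdeal S ^ i, a • y = 0) →
      ∃ x : X, (∀ a ∈ maximalIdeal S ^ (i + k), a • x = 0) ∧ ψ x = y := by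
  haveI : Module.Finite S (X →ₗ[S] E) := Groth.Agent.Lib.Helper85.Matlis.finite_dual_of_isArtinian hf X
  let L : Submodule S (X →ₗ[S] E) := LinearMap.range (LinearMap.lcomp S E ψ)
  obtain ⟨k, hk⟩ := Ideal.exists_pow_inf_eq_pow_smul (maximalIdeal S) L
  refine ⟨k, fun i y hy => ?_⟩
  let X' : Submodule S X := Submodule.torsionBySet S X ((maximalIdeal S ^ (i + k) : Ideal S) : Set S)
  by_contra hcon
  have hy' : y ∉ X'.map ψ := by
    rintro ⟨x, hx, rfl⟩
    apply hcon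
    refine ⟨x, fun a ha => ?_, rfl⟩
    exact (Submodule.mem_torsionBySet_iff _ _).mp hx ⟨a, ha⟩
  have hne : (X'.map ψ).mkQ y ≠ 0 := by
    rw [Ne, Submodule.mkQ_apply, Submodule.Quotient.mk_eq_zero]
    exact hy'
  obtain ⟨θ, hθ⟩ := exists_hom_apply_ne_zero hf _ hne
  let g : P →ₗ[S] E := θ.comp (X'.map ψ).mkQ
  have hgψ : g.comp ψ ∈ (maximalIdeal S ^ (i + k)) • (⊤ : Submodule S (X →ₗ[S] E)) := by
    apply mem_smul_top_of_vanish hf
    intro x hx
    have hx' : x ∈ X' := by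
      rw [Submodule.mem_torsionBySet_iff]
      rintro ⟨a, ha⟩
      exact hx a ha
    change θ ((X'.map ψ).mkQ (ψ x)) = 0
    have : (X'.map ψ).mkQ (ψ x) = 0 := by
      rw [Submodule.mkQ_apply, Submodule.Quotient.mk_eq_zero]
      exact Submodule.mem_map_of_mem hx'
    rw [this, map_zero]
  have hgL : g.comp ψ ∈ L := ⟨g, rfl⟩
  have h1 : g.comp ψ ∈ maximalIdeal S ^ (i + k - k) • (maximalIdeal S ^ k • ⊤ ⊓ L) := by
    rw [← hk (i + k) (Nat.le_add_left _ _)]
    exact ⟨hgψ, hgL⟩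
  rw [Nat.add_sub_cancel] at h1
  obtain ⟨x, rfl⟩ := hψ y
  have key : ∀ h ∈ maximalIdeal S ^ i • (maximalIdeal S ^ k • ⊤ ⊓ L), h x = 0 := by
    intro h hh
    refine Submodule.smul_induction_on hh ?_ ?_
    · rintro a ha h' ⟨-, ⟨g', rfl⟩⟩
      change a • (g' (ψ x)) = 0
      rw [← map_smul, hy a ha, map_zero]
    · intro h₁ h₂ e₁ e₂
      rw [LinearMap.add_apply, e₁, e₂, add_zero]
  exact hθ (key _ h1)

end Groth.Agent.Lib.Helper77.HSL2
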