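import Groth.Agent.Lib.Helper77.HSL2
import Mathlib.RingTheory.RingHom.Flat

set_option autoImplicit false
universe u

namespace Groth.Agent.Lib.Helper77.HSL3

open IsLocalRing InjHull TensorProduct

/-- elements of `I S` kill what `I` kills -/
theorem smul_eq_zero_of_mem_map {R S : Type*} [CommRing R] [CommRing S] [Algebra R S]
    {Z : Type*} [AddCommGroup Z] [Module S Z] [Module R Z] [IsScalarTower R S Z] (I : Ideal R)
    (z : Z) (h : ∀ r ∈ I, r • z = 0) (b : S) (hb : b ∈ I.map (algebraMap R S)) : b • z = 0 := by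
  refine Submodule.span_induction (p := fun b _ => b • z = 0) ?_ ?_ ?_ ?_ hb
  · rintro _ ⟨x, hx, rfl⟩
    rw [algebraMap_smul]
    exact h x hx
  · rw [zero_smul]
  · intro b c _ _ hb hc
    rw [add_smul, hb, hc, add_zero]
  · intro b c _ hc
    rw [smul_assoc, hc, smul_zero]

section GenLem

variable {R S : Type u} [CommRing R] [CommRing S] [IsLocalRing R] [IsLocalRing S]
  [IsNoetherianRing R] [IsNoetherianRing S] [Algebra R S] [Module.Flat R S]
  {N : Type u} [AddCommGroup N] [Module R N]

theorem isPowerTorsion_baseChange (c : ℕ)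
    (hc : maximalIdeal S ^ c ≤ (maximalIdeal R).map (algebraMap R S))
    (hN : LocCoh.IsPowerTorsion (maximalIdeal R) N) :
    LocCoh.IsPowerTorsion (maximalIdeal S) (S ⊗[R] N) := by
  intro z
  induction z using TensorProduct.induction_on with
  | zero => exact ⟨0, fun a _ => smul_zero a⟩
  | tmul s x =>
    obtain ⟨t, ht⟩ := hN x
    refine ⟨c * t, fun a ha => ?_⟩
    apply smul_eq_zero_of_mem_map (maximalIdeal R ^ t)
    · intro r hr
      rw [← TensorProduct.tmul_smul, ht r hr, TensorProduct.tmul_zero]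
    · rw [Ideal.map_pow]
      rw [pow_mul] at ha
      exact Ideal.pow_right_mono hc t ha
  | add z₁ z₂ h₁ h₂ =>
    obtain ⟨n₁, h₁⟩ := h₁
    obtain ⟨n₂, h₂⟩ := h₂
    refine ⟨max n₁ n₂, fun a ha => ?_⟩
    rw [smul_add, h₁ a (Ideal.pow_le_pow_right (le_max_left _ _) ha),
      h₂ a (Ideal.pow_le_pow_right (le_max_right _ _) ha), add_zero]

theorem finite_socle_baseChange
    (hloc : (maximalIdeal R).map (algebraMap R S) ≤ maximalIdeal S)
    (hsoc : Module.Finite R ↥(LocCoh.torsionBy (maximalIdeal R) N)) :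
    Module.Finite S ↥(LocCoh.torsionBy (maximalIdeal S) (S ⊗[R] N)) := by
  classical
  let T : Submodule S (S ⊗[R] N) :=
    Submodule.span S ((TensorProduct.mk R S N 1) '' {x | ∀ a ∈ maximalIdeal R, a • x = 0})
  have hle : LocCoh.torsionBy (maximalIdeal S) (S ⊗[R] N) ≤ T := by
    intro z hz
    apply Groth.Agent.Lib.Helper77.HSL1.mem_span_of_ann (maximalIdeal R)
      (IsNoetherian.noetherian _)
    intro b hb
    exact (Submodule.mem_torsionBySet_iff _ _).mp hz ⟨b, hloc hb⟩
  have hTfg : T.FG := by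
    obtain ⟨G, hG⟩ := (Module.finite_def.mp hsoc)
    refine ⟨G.image (fun g => TensorProduct.mk R S N 1 g.1), ?_⟩
    apply le_antisymm
    · rw [Submodule.span_le]
      intro w hw
      rw [Finset.coe_image] at hw
      obtain ⟨g, -, rfl⟩ := hw
      apply Submodule.subset_span
      refine ⟨g.1, ?_, rfl⟩
      intro a ha
      exact (Submodule.mem_torsionBySet_iff _ _).mp g.2 ⟨a, ha⟩
    · rw [Submodule.span_le]
      rintro _ ⟨x, hx, rfl⟩
      have hx' : x ∈ LocCoh.torsionBy (maximalIdeal R) N := by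
        rw [Submodule.mem_torsionBySet_iff]
        rintro ⟨a, ha⟩
        exact hx a ha
      have hmem : (⟨x, hx'⟩ : ↥(LocCoh.torsionBy (maximalIdeal R) N)) ∈
          Submodule.span R (G : Set ↥(LocCoh.torsionBy (maximalIdeal R) N)) := by
        rw [hG]; exact Submodule.mem_top
      have key : ∀ w ∈ Submodule.span R (G : Set ↥(LocCoh.torsionBy (maximalIdeal R) N)),
          TensorProduct.mk R S N 1 w.1 ∈ Submodule.span S
            ((G.image (fun g => TensorProduct.mk R S N 1 g.1) : Finset (S ⊗[R] N)) :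
              Set (S ⊗[R] N)) := by
        intro w hw
        refine Submodule.span_induction ?_ ?_ ?_ ?_ hw
        · intro g hg
          apply Submodule.subset_span
          rw [Finset.coe_image]
          exact ⟨g, hg, rfl⟩
        · simp
        · intro a b _ _ ha hb
          rw [Submodule.coe_add, map_add]
          exact Submodule.add_mem _ ha hb
        · intro r a _ ha
          rw [Submodule.coe_smul, map_smul, ← algebraMap_smul S r]
          exact Submodule.smul_mem _ _ ha
      exact key _ hmem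
  haveI : IsNoetherian S T := isNoetherian_of_fg_of_noetherian T hTfg
  haveI : IsNoetherian S ↥(LocCoh.torsionBy (maximalIdeal S) (S ⊗[R] N)) := isNoetherian_of_le hle
  infer_instance

end GenLem

/-- the generic lemma -/
theorem genLem {R S : Type u} [CommRing R] [CommRing S] [IsLocalRing R] [IsLocalRing S]
    [IsNoetherianRing R] [IsNoetherianRing S] [IsAdicComplete (maximalIdeal S) S]
    (f : R →+* S) (hflat : f.Flat) (c : ℕ) (hc : maximalIdeal S ^ c ≤ (maximalIdeal R).map f)
    (hloc : (maximalIdeal R).map f ≤ maximalIdeal S)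
    {N P : Type u} [AddCommGroup N] [Module R N] [AddCommGroup P] [Module S P]
    (hN : LocCoh.IsPowerTorsion (maximalIdeal R) N)
    (hsoc : Module.Finite R ↥(LocCoh.torsionBy (maximalIdeal R) N))
    (ψ₀ : N →ₛₗ[f] P) (hsurj : Submodule.span S (Set.range ψ₀) = ⊤) :
    ∃ k : ℕ, ∀ (i j : ℕ), (maximalIdeal R ^ j).map f ≤ maximalIdeal S ^ (i + k) →
      ∀ y : P, (∀ a ∈ maximalIdeal S ^ i, a • y = 0) →
        y ∈ Submodule.span S (ψ₀ '' {x | ∀ a ∈ maximalIdeal R ^ j, a • x = 0}) := by
  letI : Algebra R S := f.toAlgebra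
  haveI : Module.Flat R S := hflat
  letI : Module R P := Module.compHom P f
  haveI : IsScalarTower R S P := IsScalarTower.of_algebraMap_smul (fun r y => rfl)
  let ψ₁ : N →ₗ[R] P :=
    { toFun := ψ₀
      map_add' := ψ₀.map_add
      map_smul' := fun r x => ψ₀.map_smulₛₗ r x }
  let ψ : S ⊗[R] N →ₗ[S] P := LinearMap.liftBaseChange S ψ₁
  have hψ1 : ∀ x : N, ψ (TensorProduct.mk R S N 1 x) = ψ₀ x := by
    intro x
    change LinearMap.liftBaseChange S ψ₁ ((1 : S) ⊗ₜ[R] x) = _
    rw [LinearMap.liftBaseChange_tmul, one_smul]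
    rfl
  have hψsurj : Function.Surjective ψ := by
    intro y
    have hy : y ∈ Submodule.span S (Set.range ψ₀) := by rw [hsurj]; exact Submodule.mem_top
    have : Submodule.span S (Set.range ψ₀) ≤ LinearMap.range ψ := by
      rw [Submodule.span_le]
      rintro _ ⟨x, rfl⟩
      exact ⟨_, hψ1 x⟩
    exact this hy
  haveI : IsArtinian S (S ⊗[R] N) :=
    Groth.Agent.Lib.Helper77.HSL1.isArtinian_of_torsion _ (isPowerTorsion_baseChange c hc hN)
      (finite_socle_baseChange hloc hsoc)
  obtain ⟨E, _, _, e, he⟩ := Groth.Agent.Lib.Helper85.Hull.exists_injectiveHull (R := S)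
    (ResidueField S)
  obtain ⟨k, hk⟩ := Groth.Agent.Lib.Helper77.HSL2.dual_artinRees he ψ hψsurj
  refine ⟨k, fun i j hij y hy => ?_⟩
  obtain ⟨x, hx, rfl⟩ := hk i y hy
  have hx' := Groth.Agent.Lib.Helper77.HSL1.mem_span_of_ann (maximalIdeal R ^ j)
    (IsNoetherian.noetherian _) x (fun b hb => hx b (hij hb))
  have := Submodule.mem_map_of_mem (f := ψ) hx'
  rw [Submodule.map_span, ← Set.image_comp] at this
  have heq : (⇑ψ ∘ ⇑((TensorProduct.mk R S N) 1)) '' {x | ∀ a ∈ maximalIdeal R ^ j, a • x = 0} =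
      ψ₀ '' {x | ∀ a ∈ maximalIdeal R ^ j, a • x = 0} := by
    apply Set.image_congr
    intro x _
    exact hψ1 x
  rw [heq] at this
  exact this

end Groth.Agent.Lib.Helper77.HSL3
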