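import Groth.Agent.Lib.Helper77.HSL3

set_option autoImplicit false
universe u

namespace Groth.Agent.Lib.Helper77.HSL4

open IsLocalRing

section Iter

variable {p : ℕ} [Fact p.Prime] {R : Type*} [CommRing R] [CharP R p]
  {N : Type*} [AddCommGroup N] [Module R N] (φ : N →ₛₗ[frobenius R p] N)

theorem iter_zero (r : ℕ) : (⇑φ)^[r] 0 = 0 := by
  induction r with
  | zero => rfl
  | succ r ih => rw [Function.iterate_succ_apply', ih, map_zero]

theorem iter_add (r : ℕ) (x y : N) : (⇑φ)^[r] (x + y) = (⇑φ)^[r] x + (⇑φ)^[r] y := by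
  induction r with
  | zero => rfl
  | succ r ih => simp only [Function.iterate_succ_apply', ih, map_add]

theorem iter_smul (r : ℕ) (a : R) (x : N) : (⇑φ)^[r] (a • x) = a ^ (p ^ r) • (⇑φ)^[r] x := by
  induction r with
  | zero => simp
  | succ r ih =>
    simp only [Function.iterate_succ_apply', ih, φ.map_smulₛₗ, frobenius_def, ← pow_mul, ← pow_succ]

/-- the iterate vanishes on the span of a set where it vanishes -/
theorem iter_vanish_span (r : ℕ) (s : Set N) (hs : ∀ x ∈ s, (⇑φ)^[r] x = 0) :
    ∀ y ∈ Submodule.span R s, (⇑φ)^[r] y = 0 := by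
  intro y hy
  refine Submodule.span_induction hs (iter_zero φ r) ?_ ?_ hy
  · intro a b _ _ ha hb
    rw [iter_add, ha, hb, add_zero]
  · intro a b _ hb
    rw [iter_smul, hb, smul_zero]

theorem iter_vanish_of_le {r s : ℕ} (h : r ≤ s) (x : N) (hx : (⇑φ)^[r] x = 0) :
    (⇑φ)^[s] x = 0 := by
  obtain ⟨t, rfl⟩ := Nat.exists_eq_add_of_le h
  rw [add_comm, Function.iterate_add_apply, hx, iter_zero]

end Iter

section Kil

variable {R : Type u} [CommRing R] [IsLocalRing R] [IsNoetherianRing R]
  {N : Type u} [AddCommGroup N] [Module R N]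

/-- the submodule killed by `𝔪^j` is Noetherian when the socle is finite -/
theorem isNoetherian_kil (hsoc : Module.Finite R ↥(LocCoh.torsionBy (maximalIdeal R) N)) (j : ℕ) :
    IsNoetherian R ↥(Submodule.torsionBySet R N ((maximalIdeal R ^ j : Ideal R) : Set R)) := by
  induction j with
  | zero =>
    have : Subsingleton ↥(Submodule.torsionBySet R N ((maximalIdeal R ^ 0 : Ideal R) : Set R)) := by
      constructor
      intro x y
      have h : ∀ z : ↥(Submodule.torsionBySet R N ((maximalIdeal R ^ 0 : Ideal R) : Set R)),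
          z = 0 := by
        intro z
        have := (Submodule.mem_torsionBySet_iff _ _).mp z.2 ⟨1, by simp⟩
        rw [one_smul] at this
        exact Subtype.ext this
      rw [h x, h y]
    infer_instance
  | succ j ih =>
    obtain ⟨m, b, hb⟩ := Submodule.fg_iff_exists_fin_generating_family.mp
      (IsNoetherian.noetherian (maximalIdeal R ^ j))
    haveI : IsNoetherian R ↥(LocCoh.torsionBy (maximalIdeal R) N) := inferInstance
    let K₁ := Submodule.torsionBySet R N ((maximalIdeal R ^ (j + 1) : Ideal R) : Set R)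
    let K₀ := Submodule.torsionBySet R N ((maximalIdeal R ^ j : Ideal R) : Set R)
    have hle : K₀ ≤ K₁ := by
      intro x hx
      rw [Submodule.mem_torsionBySet_iff] at hx ⊢
      rintro ⟨a, ha⟩
      exact hx ⟨a, Ideal.pow_le_pow_right (Nat.le_succ j) ha⟩
    have hbmem : ∀ i, b i ∈ maximalIdeal R ^ j := by
      intro i
      have : b i ∈ Submodule.span R (Set.range b) := Submodule.subset_span ⟨i, rfl⟩
      rw [hb] at this
      exact this
    have hmem : ∀ (i : Fin m), ∀ x ∈ K₁, (b i • (LinearMap.id : N →ₗ[R] N)) x ∈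
        LocCoh.torsionBy (maximalIdeal R) N := by
      intro i x hx
      rw [Submodule.mem_torsionBySet_iff]
      rintro ⟨a, ha⟩
      change a • (b i • x) = 0
      rw [smul_smul]
      have hab : a * b i ∈ maximalIdeal R ^ (j + 1) := by
        rw [pow_succ, mul_comm a]
        exact Ideal.mul_mem_mul (hbmem i) ha
      exact (Submodule.mem_torsionBySet_iff _ _).mp hx ⟨a * b i, hab⟩
    let g : ↥K₁ →ₗ[R] (Fin m → ↥(LocCoh.torsionBy (maximalIdeal R) N)) :=
      LinearMap.pi (fun i => (b i • (LinearMap.id : N →ₗ[R] N)).restrict (hmem i))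
    have hexact : LinearMap.range (Submodule.inclusion hle) = LinearMap.ker g := by
      ext x
      rw [LinearMap.mem_ker, Submodule.range_inclusion]
      constructor
      · intro hx
        ext i
        change b i • x.1 = 0
        have hx' : x.1 ∈ K₀ := hx
        exact (Submodule.mem_torsionBySet_iff _ _).mp hx' ⟨b i, hbmem i⟩
      · intro hx
        change x.1 ∈ K₀
        rw [Submodule.mem_torsionBySet_iff]
        rintro ⟨a, ha⟩
        change a • x.1 = 0
        rw [← hb] at ha
        refine Submodule.span_induction (p := fun a _ => a • x.1 = 0) ?_ ?_ ?_ ?_ ha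
        · rintro _ ⟨i, rfl⟩
          have := congrFun hx i
          exact congrArg Subtype.val this
        · rw [zero_smul]
        · intro a c _ _ ha hc
          rw [add_smul, ha, hc, add_zero]
        · intro a c _ hc
          rw [smul_eq_mul, mul_smul, hc, smul_zero]
    exact isNoetherian_of_range_eq_ker (Submodule.inclusion hle) g hexact

end Kil


section Core

variable {p : ℕ} [Fact p.Prime] {R : Type u} [CommRing R] [IsLocalRing R] [IsNoetherianRing R]
  [CharP R p] {N : Type u} [AddCommGroup N] [Module R N] (φ : N →ₛₗ[frobenius R p] N)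

/-- numeric argument -/
theorem step1 (hN : LocCoh.IsPowerTorsion (maximalIdeal R) N)
    (hsoc : Module.Finite R ↥(LocCoh.torsionBy (maximalIdeal R) N))
    (hloc : ∀ x : N, ∃ n : ℕ, (⇑φ)^[n] x = 0)
    (k : ℕ) (hk : ∀ i j : ℕ, i + k ≤ p * j → ∀ y : N, (∀ a ∈ maximalIdeal R ^ i, a • y = 0) →
        y ∈ Submodule.span R (φ '' {x | ∀ a ∈ maximalIdeal R ^ j, a • x = 0})) :
    ∀ x : N, x = 0 := by
  classical
  by_contra hcon
  push Not at hcon
  obtain ⟨x0, hx0⟩ := hcon
  obtain ⟨a, hax, hsocx⟩ := Groth.Agent.Lib.Helper85.Matlis.exists_smul_mem_socle hN x0 hx0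
  have hx1 : ∀ b ∈ maximalIdeal R ^ (k + 1), b • (a • x0) = 0 := by
    intro b hb
    exact (Submodule.mem_torsionBySet_iff _ _).mp hsocx
      ⟨b, Ideal.pow_le_self (Nat.succ_ne_zero k) hb⟩
  have hnv : ∀ r : ℕ, ¬ (∀ x : N, (∀ b ∈ maximalIdeal R ^ (k + 1), b • x = 0) →
      (⇑φ)^[r] x = 0) := by
    intro r
    induction r with
    | zero => intro h; exact hax (h _ hx1)
    | succ r ih =>
      intro h
      apply ih
      intro y hy
      have hp2 : 2 ≤ p := (Fact.out : p.Prime).two_le
      have hle : (k + 1) + k ≤ p * (k + 1) := by nlinarith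
      have hy' := hk (k + 1) (k + 1) hle y hy
      refine iter_vanish_span φ r _ ?_ y hy'
      rintro _ ⟨x, hx, rfl⟩
      rw [← Function.iterate_succ_apply]
      exact h x hx
  haveI hNoeth := isNoetherian_kil hsoc (k + 1)
  obtain ⟨G, hG⟩ := (Module.finite_def.mp (inferInstance : Module.Finite R
    ↥(Submodule.torsionBySet R N ((maximalIdeal R ^ (k + 1) : Ideal R) : Set R))))
  choose n hn using hloc
  apply hnv (G.sup (fun g => n g.1))
  intro x hx
  have hx' : x ∈ Submodule.torsionBySet R N ((maximalIdeal R ^ (k + 1) : Ideal R) : Set R) := by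
    rw [Submodule.mem_torsionBySet_iff]; rintro ⟨b, hb⟩; exact hx b hb
  have hmem : (⟨x, hx'⟩ : ↥(Submodule.torsionBySet R N
      ((maximalIdeal R ^ (k + 1) : Ideal R) : Set R))) ∈ Submodule.span R (G : Set _) := by
    rw [hG]; trivial
  have hxs : x ∈ Submodule.span R (Subtype.val '' (G : Set ↥(Submodule.torsionBySet R N
      ((maximalIdeal R ^ (k + 1) : Ideal R) : Set R)))) := by
    have := Submodule.mem_map_of_mem (f := (Submodule.torsionBySet R N
      ((maximalIdeal R ^ (k + 1) : Ideal R) : Set R)).subtype) hmem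
    rw [Submodule.map_span] at this
    exact this
  refine iter_vanish_span φ _ _ ?_ x hxs
  rintro _ ⟨g, hg, rfl⟩
  exact iter_vanish_of_le φ (Finset.le_sup (f := fun g => n g.1) hg) g.1 (hn g.1)

omit [IsNoetherianRing R] in
theorem map_frob_pow_le (j : ℕ) :
    (maximalIdeal R ^ j).map (frobenius R p) ≤ maximalIdeal R ^ (p * j) := by
  rw [Ideal.map_le_iff_le_comap]
  intro a ha
  rw [Ideal.mem_comap, frobenius_def, mul_comm, pow_mul]
  exact Ideal.pow_mem_pow ha p

theorem exists_pow_le_map_frob :
    ∃ c : ℕ, maximalIdeal R ^ c ≤ (maximalIdeal R).map (frobenius R p) := by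
  apply Ideal.exists_pow_le_of_le_radical_of_fg _ (IsNoetherian.noetherian _)
  intro a ha
  refine ⟨p, ?_⟩
  rw [← frobenius_def]
  exact Ideal.mem_map_of_mem _ ha

end Core

end Groth.Agent.Lib.Helper77.HSL4
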