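import Groth.Agent.Lib.Helper77.HSL4

set_option autoImplicit false
universe u

namespace Groth.Agent.Lib.Helper77.HSL5

open IsLocalRing Groth.Agent.Lib.Helper77.HSL4

variable {p : ℕ} [Fact p.Prime] {R : Type u} [CommRing R] [IsLocalRing R] [IsNoetherianRing R]
  [CharP R p] {N : Type u} [AddCommGroup N] [Module R N] (φ : N →ₛₗ[frobenius R p] N)

/-- restriction of a semilinear endomorphism to a stable submodule -/
def restr (N' : Submodule R N) (h : ∀ x ∈ N', φ x ∈ N') : ↥N' →ₛₗ[frobenius R p] ↥N' where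
  toFun x := ⟨φ x.1, h x.1 x.2⟩
  map_add' x y := by
    apply Subtype.ext
    simp
  map_smul' a x := by
    apply Subtype.ext
    simp

theorem restr_iter (N' : Submodule R N) (h : ∀ x ∈ N', φ x ∈ N') (n : ℕ) (x : ↥N') :
    ((⇑(restr φ N' h))^[n] x).1 = (⇑φ)^[n] x.1 := by
  induction n with
  | zero => rfl
  | succ n ih =>
    rw [Function.iterate_succ_apply', Function.iterate_succ_apply', ← ih]
    rfl

/-- the core theorem: complete local ring with flat Frobenius -/
theorem core [IsAdicComplete (maximalIdeal R) R] (hflat : (frobenius R p).Flat)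
    (hN : LocCoh.IsPowerTorsion (maximalIdeal R) N)
    (hsoc : Module.Finite R ↥(LocCoh.torsionBy (maximalIdeal R) N))
    (hloc : ∀ x : N, ∃ n : ℕ, (⇑φ)^[n] x = 0) :
    ∃ n : ℕ, ∀ x : N, (⇑φ)^[n] x = 0 := by
  haveI : IsArtinian R N := Groth.Agent.Lib.Helper77.HSL1.isArtinian_of_torsion N hN hsoc
  let T : ℕ → Submodule R N := fun r => Submodule.span R (Set.range (⇑φ)^[r])
  have hanti : Antitone T := antitone_nat_of_succ_le (fun r => by
    rw [Submodule.span_le]
    rintro _ ⟨x, rfl⟩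
    rw [Function.iterate_succ_apply]
    exact Submodule.subset_span ⟨φ x, rfl⟩)
  obtain ⟨r0, hr0⟩ := IsArtinian.monotone_stabilizes
    (⟨fun r => OrderDual.toDual (T r), fun a b h => hanti h⟩ : ℕ →o (Submodule R N)ᵒᵈ)
  have hr0' : T (r0 + 1) = T r0 := (congrArg OrderDual.ofDual (hr0 (r0 + 1) (Nat.le_succ _))).symm
  have hmap : ∀ r, ∀ x ∈ T r, φ x ∈ T (r + 1) := by
    intro r x hx
    refine Submodule.span_induction ?_ ?_ ?_ ?_ hx
    · rintro _ ⟨y, rfl⟩
      have : φ ((⇑φ)^[r] y) = (⇑φ)^[r + 1] y := (Function.iterate_succ_apply' _ _ _).symm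
      rw [this]
      exact Submodule.subset_span ⟨y, rfl⟩
    · rw [map_zero]; exact Submodule.zero_mem _
    · intro a b _ _ ha hb
      rw [map_add]; exact Submodule.add_mem _ ha hb
    · intro c a _ ha
      rw [φ.map_smulₛₗ]; exact Submodule.smul_mem _ _ ha
  have hst : ∀ x ∈ T r0, φ x ∈ T r0 := fun x hx => hr0' ▸ hmap r0 x hx
  let φ' := restr φ (T r0) hst
  have hspan' : Submodule.span R (Set.range φ') = ⊤ := by
    rw [eq_top_iff]
    rintro y -
    have hle : T (r0 + 1) ≤ (Submodule.span R (Set.range φ')).map (T r0).subtype := by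
      rw [Submodule.span_le]
      rintro _ ⟨x, rfl⟩
      have hx : (⇑φ)^[r0] x ∈ T r0 := Submodule.subset_span ⟨x, rfl⟩
      refine ⟨φ' ⟨(⇑φ)^[r0] x, hx⟩, Submodule.subset_span ⟨_, rfl⟩, ?_⟩
      rw [Function.iterate_succ_apply']
      rfl
    have hy : y.1 ∈ T (r0 + 1) := by rw [hr0']; exact y.2
    obtain ⟨z, hz, hzy⟩ := hle hy
    have : z = y := Subtype.ext hzy
    rw [← this]
    exact hz
  have hN' : LocCoh.IsPowerTorsion (maximalIdeal R) ↥(T r0) := by
    intro y
    obtain ⟨n, hn⟩ := hN y.1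
    exact ⟨n, fun a ha => Subtype.ext (hn a ha)⟩
  haveI : IsNoetherian R ↥(LocCoh.torsionBy (maximalIdeal R) N) := inferInstance
  have hsoc' : Module.Finite R ↥(LocCoh.torsionBy (maximalIdeal R) ↥(T r0)) := by
    have hm : ∀ y ∈ LocCoh.torsionBy (maximalIdeal R) ↥(T r0),
        (T r0).subtype y ∈ LocCoh.torsionBy (maximalIdeal R) N := by
      intro y hy
      rw [Submodule.mem_torsionBySet_iff] at hy ⊢
      intro a
      exact congrArg Subtype.val (hy a)
    let ι : ↥(LocCoh.torsionBy (maximalIdeal R) ↥(T r0)) →ₗ[R]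
        ↥(LocCoh.torsionBy (maximalIdeal R) N) := (T r0).subtype.restrict hm
    apply Module.Finite.of_injective ι
    intro a b hab
    apply Subtype.ext
    apply Subtype.ext
    have := congrArg Subtype.val hab
    exact this
  have hloc' : ∀ y : ↥(T r0), ∃ n : ℕ, (⇑φ')^[n] y = 0 := by
    intro y
    obtain ⟨n, hn⟩ := hloc y.1
    refine ⟨n, Subtype.ext ?_⟩
    rw [restr_iter, hn]
    rfl
  obtain ⟨c, hc⟩ := exists_pow_le_map_frob (p := p) (R := R)
  have hlocal : (maximalIdeal R).map (frobenius R p) ≤ maximalIdeal R := by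
    have := map_frob_pow_le (p := p) (R := R) 1
    rw [pow_one] at this
    exact this.trans (Ideal.pow_le_self (by
      have := (Fact.out : p.Prime).pos
      omega))
  obtain ⟨k, hk⟩ := Groth.Agent.Lib.Helper77.HSL3.genLem (frobenius R p) hflat c hc hlocal
    hN' hsoc' φ' hspan'
  have hzero : ∀ y : ↥(T r0), y = 0 := by
    apply step1 φ' hN' hsoc' hloc' k
    intro i j hij y hy
    apply hk i j _ y hy
    exact (map_frob_pow_le j).trans (Ideal.pow_le_pow_right hij)
  refine ⟨r0, fun x => ?_⟩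
  have hx : (⇑φ)^[r0] x ∈ T r0 := Submodule.subset_span ⟨x, rfl⟩
  exact congrArg Subtype.val (hzero ⟨_, hx⟩)

end Groth.Agent.Lib.Helper77.HSL5
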