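import Groth.Agent.Lib.Helper77.HSL5
import Groth.Agent.Lib.Helper77.MiracleFlat
import Groth.Agent.Lib.Helper77.RegularCM

set_option autoImplicit false
universe u

namespace Groth.Agent.Lib.Helper77.HSL6

open IsLocalRing Groth.Agent.Lib.Helper77.HSL4

theorem dim_quot_zero {R : Type u} [CommRing R] [IsLocalRing R] [IsNoetherianRing R]
    (J : Ideal R) (hJ : J ≠ ⊤) (c : ℕ) (hc : maximalIdeal R ^ c ≤ J) :
    ringKrullDim (R ⧸ J) = 0 := by
  haveI : Nontrivial (R ⧸ J) := Ideal.Quotient.nontrivial_iff.mpr hJ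
  haveI : IsLocalRing (R ⧸ J) :=
    IsLocalRing.of_surjective' (Ideal.Quotient.mk J) Ideal.Quotient.mk_surjective
  have hmax : maximalIdeal (R ⧸ J) = (maximalIdeal R).map (Ideal.Quotient.mk J) := by
    symm
    apply IsLocalRing.eq_maximalIdeal
    apply Ideal.IsMaximal.map_of_surjective_of_ker_le Ideal.Quotient.mk_surjective
    rw [Ideal.mk_ker]
    exact IsLocalRing.le_maximalIdeal hJ
  have hnil : IsNilpotent (maximalIdeal (R ⧸ J)) := by
    refine ⟨c, ?_⟩
    rw [hmax, ← Ideal.map_pow, Ideal.zero_eq_bot, Ideal.map_eq_bot_iff_le_ker, Ideal.mk_ker]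
    exact hc
  haveI : IsArtinianRing (R ⧸ J) := (isArtinianRing_iff_isNilpotent_maximalIdeal _).mpr hnil
  have : Ring.KrullDimLE 0 (R ⧸ J) := inferInstance
  exact ringKrullDimZero_iff_ringKrullDim_eq_zero.mp this

/-- Kunz (easy direction): Frobenius is flat on a regular local ring -/
theorem frobenius_flat (p : ℕ) [Fact p.Prime] (R : Type u) [CommRing R] [IsRegularLocalRing R]
    [CharP R p] : (frobenius R p).Flat := by
  have hCM : LocCoh.IsCohenMacaulayLocalRing R :=
    Groth.Agent.Lib.Helper77.RegularCM.isCohenMacaulayLocalRing R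
  have hlochom : IsLocalHom (frobenius R p) := by
    constructor
    intro a ha
    rw [frobenius_def] at ha
    exact (isUnit_pow_iff (Fact.out : p.Prime).ne_zero).mp ha
  obtain ⟨c, hc⟩ := exists_pow_le_map_frob (p := p) (R := R)
  have hne : (maximalIdeal R).map (frobenius R p) ≠ ⊤ := by
    have := map_frob_pow_le (p := p) (R := R) 1
    rw [pow_one] at this
    intro h
    rw [h] at this
    have h2 : maximalIdeal R ^ (p * 1) ≤ maximalIdeal R := Ideal.pow_le_self (by
      have := (Fact.out : p.Prime).pos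
      omega)
    exact (maximalIdeal.isMaximal R).ne_top (top_le_iff.mp (this.trans h2))
  have h0 := dim_quot_zero _ hne c hc
  have hdim : ringKrullDim R = ringKrullDim R +
      ringKrullDim (R ⧸ (maximalIdeal R).map (frobenius R p)) := by
    rw [h0, add_zero]
  exact @Groth.Agent.Lib.Helper77.MiracleFlat.miracle_flatness R R _ _ _ hCM
    (frobenius R p).toAlgebra hlochom hdim

end Groth.Agent.Lib.Helper77.HSL6
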