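import Groth.Agent.Lib.Helper77.HSL6

set_option autoImplicit false
universe u

namespace Groth.Agent.Lib.Helper77.HSL7

open IsLocalRing Groth.Agent.Lib.Helper77.HSL4

/-- the Hartshorne–Speiser–Lyubeznik property of a local ring of characteristic `p` -/
def HSL (p : ℕ) [Fact p.Prime] (R : Type u) [CommRing R] [IsLocalRing R] [CharP R p] : Prop :=
  ∀ (N : Type u) [AddCommGroup N] [Module R N] (φ : N →ₛₗ[frobenius R p] N),
    LocCoh.IsPowerTorsion (maximalIdeal R) N →
    Module.Finite R ↥(LocCoh.torsionBy (maximalIdeal R) N) →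
    (∀ x : N, ∃ n : ℕ, (⇑φ)^[n] x = 0) → ∃ n : ℕ, ∀ x : N, (⇑φ)^[n] x = 0

theorem hsl_regular (p : ℕ) [Fact p.Prime] (R : Type u) [CommRing R] [IsRegularLocalRing R]
    [CharP R p] [IsAdicComplete (maximalIdeal R) R] : HSL p R := by
  intro N _ _ φ hN hsoc hloc
  exact Groth.Agent.Lib.Helper77.HSL5.core φ (Groth.Agent.Lib.Helper77.HSL6.frobenius_flat p R)
    hN hsoc hloc

theorem hsl_of_surjective (p : ℕ) [Fact p.Prime] {R B : Type u} [CommRing R] [CommRing B]
    [IsLocalRing R] [IsLocalRing B] [CharP R p] [CharP B p] (g : R →+* B)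
    (hg : Function.Surjective g) (hR : HSL p R) : HSL p B := by
  intro N _ _ φ hN hsoc hloc
  have hmap : (maximalIdeal R).map g = maximalIdeal B := map_maximalIdeal_of_surjective g hg
  letI : Module R N := Module.compHom N g
  letI : Algebra R B := g.toAlgebra
  haveI : IsScalarTower R B N := IsScalarTower.of_algebraMap_smul (fun r y => rfl)
  have hsmul : ∀ (r : R) (x : N), r • x = g r • x := fun r x => rfl
  let φR : N →ₛₗ[frobenius R p] N :=
    { toFun := φ
      map_add' := φ.map_add
      map_smul' := fun r x => by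
        change φ (g r • x) = g (frobenius R p r) • φ x
        rw [φ.map_smulₛₗ, RingHom.map_frobenius] }
  have hNR : LocCoh.IsPowerTorsion (maximalIdeal R) N := by
    intro x
    obtain ⟨n, hn⟩ := hN x
    refine ⟨n, fun a ha => ?_⟩
    rw [hsmul]
    apply hn
    rw [← hmap, ← Ideal.map_pow]
    exact Ideal.mem_map_of_mem g ha
  have hsocR : Module.Finite R ↥(LocCoh.torsionBy (maximalIdeal R) N) := by
    haveI : Module.Finite R B := Module.Finite.of_surjective (Algebra.linearMap R B) hg
    haveI : Module.Finite R ↥(LocCoh.torsionBy (maximalIdeal B) N) :=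
      Module.Finite.trans B _
    have hm : ∀ x ∈ LocCoh.torsionBy (maximalIdeal B) N,
        x ∈ LocCoh.torsionBy (maximalIdeal R) N := by
      intro x hx
      rw [Submodule.mem_torsionBySet_iff] at hx ⊢
      rintro ⟨a, ha⟩
      change g a • x = 0
      have hga : g a ∈ maximalIdeal B := by
        rw [← hmap]; exact Ideal.mem_map_of_mem g ha
      exact hx ⟨g a, hga⟩
    let ι : ↥(LocCoh.torsionBy (maximalIdeal B) N) →ₗ[R] ↥(LocCoh.torsionBy (maximalIdeal R) N) :=
      { toFun := fun x => ⟨x.1, hm x.1 x.2⟩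
        map_add' := fun x y => rfl
        map_smul' := fun r x => rfl }
    apply Module.Finite.of_surjective ι
    rintro ⟨x, hx⟩
    have hx' : x ∈ LocCoh.torsionBy (maximalIdeal B) N := by
      rw [Submodule.mem_torsionBySet_iff] at hx ⊢
      rintro ⟨b, hb⟩
      obtain ⟨a, rfl⟩ := hg b
      have ha : a ∈ maximalIdeal R := by
        by_contra hna
        have hu : IsUnit a := by
          by_contra hnu
          exact hna ((mem_maximalIdeal a).mpr hnu)
        exact ((mem_maximalIdeal _).mp hb) (hu.map g)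
      exact hx ⟨a, ha⟩
    exact ⟨⟨x, hx'⟩, rfl⟩
  exact hR N φR hNR hsocR hloc

end Groth.Agent.Lib.Helper77.HSL7
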