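import Groth.Agent.Lib.Helper77.HSL7
import Groth.Agent.Lib.Helper77.RegularPowerSeries
import Groth.Agent.Lib.Helper38.CohenStructure

set_option autoImplicit false
universe u

namespace Groth.Agent.Lib.Helper77.HSL8

open IsLocalRing Groth.Agent.Lib.Helper77.HSL7

theorem maximalIdeal_mvPowerSeries (K : Type u) [Field K] (n : ℕ) :
    maximalIdeal (MvPowerSeries (Fin n) K) =
      Ideal.span (Set.range (MvPowerSeries.X : Fin n → MvPowerSeries (Fin n) K)) := by
  ext f
  rw [mem_maximalIdeal, mem_nonunits_iff, MvPowerSeries.isUnit_iff_constantCoeff,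
    isUnit_iff_ne_zero, not_not, ← MvPowerSeries.one_le_order_iff_constCoeff_eq_zero,
    ← pow_one (Ideal.span _), Groth.Agent.Lib.Helper61.MvPSComplete.mem_pow_iff]
  rfl

theorem isRegularLocalRing_of_isRegularRing (R : Type u) [CommRing R] [IsRegularRing R]
    [IsLocalRing R] : IsRegularLocalRing R := by
  have hu : ∀ x ∈ (maximalIdeal R).primeCompl, IsUnit x := by
    intro x hx
    by_contra hnu
    exact hx ((mem_maximalIdeal x).mpr hnu)
  have e : R ≃+* Localization.AtPrime (maximalIdeal R) :=
    (IsLocalization.atUnits R (maximalIdeal R).primeCompl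
      (S := Localization.AtPrime (maximalIdeal R)) hu).toRingEquiv
  exact IsRegularLocalRing.of_ringEquiv e.symm

/-- a complete Noetherian local ring of characteristic `p` has the HSL property -/
theorem hsl_complete (p : ℕ) [Fact p.Prime] (B : Type u) [CommRing B] [IsLocalRing B]
    [IsNoetherianRing B] [CharP B p] [IsAdicComplete (maximalIdeal B) B] : HSL p B := by
  obtain ⟨Λ, _, g, hΛ, hg⟩ := Groth.Agent.Lib.Helper38.CohenStructure.exists_coeffRing B
  haveI hkB : CharP (ResidueField B) p := by
    apply (CharP.charP_iff_prime_eq_zero (Fact.out : p.Prime)).mpr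
    rw [← map_natCast (residue B), CharP.cast_eq_zero B p, map_zero]
  haveI hmaxker : (RingHom.ker ((residue B).comp g)).IsMaximal :=
    RingHom.ker_isMaximal_of_surjective _ hg
  have hker : ∀ a ∈ RingHom.ker ((residue B).comp g), g a = 0 := by
    intro a ha
    rcases hΛ with hF | ⟨hD, hDVR, -, p', hp', hmax⟩
    · by_cases ha0 : a = 0
      · rw [ha0, map_zero]
      · exfalso
        obtain ⟨b, hb⟩ := hF.mul_inv_cancel ha0
        have h1 : ((residue B).comp g) (a * b) = 1 := by rw [hb, map_one]
        rw [map_mul, (RingHom.mem_ker).mp ha, zero_mul] at h1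
        exact zero_ne_one h1
    · have hle : RingHom.ker ((residue B).comp g) ≤ maximalIdeal Λ :=
        le_maximalIdeal hmaxker.ne_top
      have hp'mem : (p' : Λ) ∈ RingHom.ker ((residue B).comp g) := by
        have : RingHom.ker ((residue B).comp g) = maximalIdeal Λ :=
          hmaxker.eq_of_le (maximalIdeal.isMaximal Λ).ne_top hle
        rw [this, hmax]
        exact Ideal.mem_span_singleton_self _
      have h0 : ((p' : ℕ) : ResidueField B) = 0 := by
        have := (RingHom.mem_ker).mp hp'mem
        rwa [map_natCast] at this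
      have hdvd : p ∣ p' := (CharP.cast_eq_zero_iff (ResidueField B) p p').mp h0
      have hB0 : ((p' : ℕ) : B) = 0 := (CharP.cast_eq_zero_iff B p p').mpr hdvd
      have ha' := hle ha
      rw [hmax, Ideal.mem_span_singleton] at ha'
      obtain ⟨b, rfl⟩ := ha'
      rw [map_mul, map_natCast, hB0, zero_mul]
  letI : Field (Λ ⧸ RingHom.ker ((residue B).comp g)) := Ideal.Quotient.field _
  let g' : (Λ ⧸ RingHom.ker ((residue B).comp g)) →+* B := Ideal.Quotient.lift _ g hker
  have hg' : Function.Surjective ((residue B).comp g') := by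
    intro y
    obtain ⟨a, ha⟩ := hg y
    exact ⟨Ideal.Quotient.mk _ a, by rw [← ha]; rfl⟩
  obtain ⟨n, f, hf, -, -⟩ := Groth.Agent.Lib.Helper38.CohenStructure.exists_surjective_of_coeff
    (IsNoetherian.noetherian (maximalIdeal B)) g' hg'
  haveI : CharP (Λ ⧸ RingHom.ker ((residue B).comp g)) p :=
    RingHom.charP g' g'.injective p
  haveI : CharP (MvPowerSeries (Fin n) (Λ ⧸ RingHom.ker ((residue B).comp g))) p :=
    charP_of_injective_algebraMap (algebraMap (Λ ⧸ RingHom.ker ((residue B).comp g))
      (MvPowerSeries (Fin n) (Λ ⧸ RingHom.ker ((residue B).comp g)))).injective p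
  haveI : IsRegularRing (Λ ⧸ RingHom.ker ((residue B).comp g)) := inferInstance
  haveI : IsRegularRing (MvPowerSeries (Fin n) (Λ ⧸ RingHom.ker ((residue B).comp g))) :=
    Groth.Agent.Lib.Helper77.RegularPowerSeries.isRegularRing_mvPowerSeries _ n
  haveI : IsRegularLocalRing (MvPowerSeries (Fin n) (Λ ⧸ RingHom.ker ((residue B).comp g))) :=
    isRegularLocalRing_of_isRegularRing _
  haveI : IsAdicComplete (maximalIdeal (MvPowerSeries (Fin n)
      (Λ ⧸ RingHom.ker ((residue B).comp g))))
      (MvPowerSeries (Fin n) (Λ ⧸ RingHom.ker ((residue B).comp g))) := by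
    rw [maximalIdeal_mvPowerSeries]
    infer_instance
  exact hsl_of_surjective p f hf (hsl_regular p _)

end Groth.Agent.Lib.Helper77.HSL8
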