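import Groth.Agent.Lib.Helper77.HSL8
import Groth.Agent.Lib.Helper92.CanonCpl
import Groth.Agent.S0543

set_option autoImplicit false
universe u

namespace Groth.Agent.Lib.Helper77.HSL9

open IsLocalRing TensorProduct Groth.Agent.Lib.Helper77.HSL7 Groth.Agent.Lib.Helper92.CplHull

variable (p : ℕ) [Fact p.Prime] (A : Type u) [CommRing A] [IsNoetherianRing A] [IsLocalRing A]
  [CharP A p]

instance charP_cpl : CharP (AdicCompletion (maximalIdeal A) A) p := by
  apply (CharP.charP_iff_prime_eq_zero (Fact.out : p.Prime)).mpr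
  rw [← map_natCast (algebraMap A (AdicCompletion (maximalIdeal A) A)), CharP.cast_eq_zero A p,
    map_zero]

/-- a Noetherian local ring of characteristic `p` has the HSL property -/
theorem hsl_local : HSL p A := by
  haveI : IsNoetherianRing (AdicCompletion (maximalIdeal A) A) := Groth.Agent.S0543.result A _
  have hB : HSL p (AdicCompletion (maximalIdeal A) A) :=
    Groth.Agent.Lib.Helper77.HSL8.hsl_complete p _
  intro N _ _ φ hN hsoc hloc
  let e : N ≃ₗ[A] (AdicCompletion (maximalIdeal A) A) ⊗[A] N :=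
    LinearEquiv.ofBijective (TensorProduct.mk A (AdicCompletion (maximalIdeal A) A) N 1)
      (mk_one_bijective_of_torsion N hN)
  -- torsion of images
  have htors : ∀ (x : N) (t : ℕ), (∀ a ∈ maximalIdeal A ^ t, a • x = 0) →
      ∀ a ∈ maximalIdeal A ^ t, a • e x = 0 := by
    intro x t hx a ha
    rw [← map_smul, hx a ha, map_zero]
  let φ' : (AdicCompletion (maximalIdeal A) A) ⊗[A] N →ₛₗ[frobenius
      (AdicCompletion (maximalIdeal A) A) p] (AdicCompletion (maximalIdeal A) A) ⊗[A] N :=
    { toFun := fun z => e (φ (e.symm z))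
      map_add' := fun z w => by simp
      map_smul' := fun y z => by
        obtain ⟨x, rfl⟩ := e.surjective z
        obtain ⟨t, ht⟩ := hN x
        obtain ⟨t', ht'⟩ := hN (φ x)
        have h1 : ∀ a ∈ maximalIdeal A ^ (max t t'), a • e x = 0 :=
          htors x _ (fun a ha => ht a (Ideal.pow_le_pow_right (le_max_left _ _) ha))
        have h2 : ∀ a ∈ maximalIdeal A ^ (max t t'), a • e (φ x) = 0 :=
          htors (φ x) _ (fun a ha => ht' a (Ideal.pow_le_pow_right (le_max_right _ _) ha))
        obtain ⟨r, hr, hre⟩ := exists_smul_eq (max t t') (e x) h1 y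
        rw [hre, ← map_smul, e.symm_apply_apply, e.symm_apply_apply, φ.map_smulₛₗ, map_smul]
        have h3 : (y - algebraMap A (AdicCompletion (maximalIdeal A) A) r) ^ p • e (φ x) = 0 := by
          apply map_smul_eq_zero (maximalIdeal A ^ (max t t')) _ h2
          exact Ideal.pow_mem_of_mem _ hr p (Fact.out : p.Prime).pos
        rw [sub_pow_char, sub_smul, sub_eq_zero, ← map_pow, algebraMap_smul] at h3
        rw [frobenius_def, frobenius_def, h3] }
  have hφ' : ∀ (n : ℕ) (x : N), (⇑φ')^[n] (e x) = e ((⇑φ)^[n] x) := by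
    intro n x
    induction n with
    | zero => rfl
    | succ n ih =>
      rw [Function.iterate_succ_apply', Function.iterate_succ_apply', ih]
      change e (φ (e.symm (e _))) = _
      rw [e.symm_apply_apply]
  have hN' : LocCoh.IsPowerTorsion (maximalIdeal (AdicCompletion (maximalIdeal A) A))
      ((AdicCompletion (maximalIdeal A) A) ⊗[A] N) := by
    intro z
    obtain ⟨x, rfl⟩ := e.surjective z
    obtain ⟨t, ht⟩ := hN x
    refine ⟨t, fun b hb => ?_⟩
    apply map_smul_eq_zero (maximalIdeal A ^ t) _ (htors x t ht)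
    rw [Ideal.map_pow, ← AdicCompletion.maximalIdeal_eq_map]
    exact hb
  have hsoc' : Module.Finite (AdicCompletion (maximalIdeal A) A)
      ↥(LocCoh.torsionBy (maximalIdeal (AdicCompletion (maximalIdeal A) A))
        ((AdicCompletion (maximalIdeal A) A) ⊗[A] N)) := by
    have hm : ∀ x ∈ LocCoh.torsionBy (maximalIdeal A) N,
        e x ∈ LocCoh.torsionBy (maximalIdeal (AdicCompletion (maximalIdeal A) A))
          ((AdicCompletion (maximalIdeal A) A) ⊗[A] N) := by
      intro x hx
      rw [Submodule.mem_torsionBySet_iff]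
      rintro ⟨b, hb⟩
      change b • e x = 0
      apply map_smul_eq_zero (maximalIdeal A) (e x)
      · intro a ha
        rw [← map_smul, (Submodule.mem_torsionBySet_iff _ _).mp hx ⟨a, ha⟩, map_zero]
      · rw [← AdicCompletion.maximalIdeal_eq_map]
        exact hb
    let ι : ↥(LocCoh.torsionBy (maximalIdeal A) N) →ₗ[A]
        ↥(LocCoh.torsionBy (maximalIdeal (AdicCompletion (maximalIdeal A) A))
          ((AdicCompletion (maximalIdeal A) A) ⊗[A] N)) :=
      { toFun := fun x => ⟨e x.1, hm x.1 x.2⟩
        map_add' := fun x y => by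
          apply Subtype.ext
          simp
        map_smul' := fun r x => by
          apply Subtype.ext
          simp }
    apply Module.Finite.of_surjective (LinearMap.liftBaseChange (AdicCompletion (maximalIdeal A) A) ι)
    rintro ⟨z, hz⟩
    obtain ⟨x, rfl⟩ := e.surjective z
    have hx : x ∈ LocCoh.torsionBy (maximalIdeal A) N := by
      rw [Submodule.mem_torsionBySet_iff]
      rintro ⟨a, ha⟩
      apply e.injective
      rw [map_smul, map_zero, ← algebraMap_smul (AdicCompletion (maximalIdeal A) A) a (e x)]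
      apply (Submodule.mem_torsionBySet_iff _ _).mp hz ⟨algebraMap A _ a, ?_⟩
      rw [AdicCompletion.maximalIdeal_eq_map]
      exact Ideal.mem_map_of_mem _ ha
    refine ⟨(1 : AdicCompletion (maximalIdeal A) A) ⊗ₜ[A] ⟨x, hx⟩, ?_⟩
    rw [LinearMap.liftBaseChange_tmul, one_smul]
    rfl
  have hloc' : ∀ z : (AdicCompletion (maximalIdeal A) A) ⊗[A] N, ∃ n : ℕ, (⇑φ')^[n] z = 0 := by
    intro z
    obtain ⟨x, rfl⟩ := e.surjective z
    obtain ⟨n, hn⟩ := hloc x
    exact ⟨n, by rw [hφ', hn, map_zero]⟩
  obtain ⟨n, hn⟩ := hB _ φ' hN' hsoc' hloc'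
  refine ⟨n, fun x => ?_⟩
  apply e.injective
  rw [← hφ', hn, map_zero]

end Groth.Agent.Lib.Helper77.HSL9
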