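import Groth.Agent.Lib.Helper63.MatlisBC
import Groth.Agent.Lib.Helper85.GorSocle
import Groth.Agent.Lib.Helper67.Depth

/-!
# Base change of the injective hull of the residue field along a flat local map with
Artinian Gorenstein closed fibre
-/

set_option autoImplicit false
set_option linter.unusedSectionVars false
universe u
namespace Groth.Agent.Lib.Helper77.InjHullGor

open InjHull IsLocalRing TensorProduct
open Groth.Agent.Lib.Helper85.Matlis
open Groth.Agent.Lib.Helper63.MatlisBC

section Socle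

variable {A : Type u} [CommRing A] {B : Type u} [CommRing B] [Algebra A B]
  {E : Type u} [AddCommGroup E] [Module A E]
variable [IsLocalRing A] [IsNoetherianRing A] [Module.Flat A B]

/-- variant of helper63's `socle_tensor`: only needs `x` killed by the image of `m_A`. -/
theorem socle_tensor' (f : ResidueField A →ₗ[A] E) (hf : IsEssentialInj f) (x : B ⊗[A] E)
    (hx : ∀ a ∈ maximalIdeal A, algebraMap A B a • x = 0) :
    ∃ b : B, x = b • ((1 : B) ⊗ₜ[A] f 1) := by
  obtain ⟨r, a, ha⟩ := Submodule.fg_iff_exists_fin_generating_family.mp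
    ((isNoetherianRing_iff_ideal_fg A).mp inferInstance (maximalIdeal A))
  let u : E →ₗ[A] (Fin r → E) := LinearMap.pi fun i => LinearMap.lsmul A E (a i)
  have hker : LinearMap.ker u = LinearMap.range f := by
    rw [← socle_eq_range hf]
    ext e
    rw [LinearMap.mem_ker, Submodule.mem_torsionBySet_iff]
    constructor
    · intro h
      rintro ⟨c, hc⟩
      change c • e = 0
      have hc' : c ∈ Submodule.span A (Set.range a) := by rw [ha]; exact hc
      clear hc
      induction hc' using Submodule.span_induction with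
      | mem c hc1 =>
        obtain ⟨i, rfl⟩ := hc1
        exact congrFun h i
      | zero => rw [zero_smul]
      | add c d _ _ hc1 hd1 => rw [add_smul, hc1, hd1, add_zero]
      | smul s c _ hc1 => rw [smul_eq_mul, mul_smul, hc1, smul_zero]
    · intro h
      funext i
      have hai : a i ∈ maximalIdeal A := by
        rw [← ha]; exact Submodule.subset_span ⟨i, rfl⟩
      exact h ⟨a i, hai⟩
  have hxk : x ∈ LinearMap.ker (TensorProduct.AlgebraTensorModule.lTensor B B u) := by
    rw [LinearMap.mem_ker]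
    apply (TensorProduct.piRight A B B (fun _ : Fin r => E)).injective
    rw [map_zero]
    funext i
    rw [piRight_lTensor_apply a x i, Pi.zero_apply]
    apply hx
    rw [← ha]; exact Submodule.subset_span ⟨i, rfl⟩
  rw [Module.Flat.ker_lTensor_eq] at hxk
  obtain ⟨y, rfl⟩ := hxk
  clear hx
  induction y using TensorProduct.induction_on with
  | zero => exact ⟨0, by rw [map_zero, zero_smul]⟩
  | tmul b e =>
    obtain ⟨e, he⟩ := e
    rw [hker] at he
    obtain ⟨c, rfl⟩ := he
    obtain ⟨a', rfl⟩ := residue_eq_smul_one c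
    refine ⟨a' • b, ?_⟩
    rw [TensorProduct.AlgebraTensorModule.lTensor_tmul]
    change b ⊗ₜ[A] f (a' • 1) = _
    rw [map_smul, ← TensorProduct.smul_tmul, TensorProduct.smul_tmul', smul_eq_mul, mul_one]
  | add y z hy hz =>
    obtain ⟨b, hb⟩ := hy
    obtain ⟨c, hc⟩ := hz
    exact ⟨b + c, by rw [map_add, hb, hc, add_smul]⟩

/-- `b • (1 ⊗ f 1) = 0` forces `b ∈ m_A B` -/
theorem mem_map_of_smul_eq_zero (f : ResidueField A →ₗ[A] E) (hf : Function.Injective f) (b : B)
    (hb : b • ((1 : B) ⊗ₜ[A] f 1) = 0) : b ∈ (maximalIdeal A).map (algebraMap A B) := by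
  have hinj : Function.Injective (f.lTensor B) :=
    Module.Flat.lTensor_preserves_injective_linearMap f hf
  have h1 : f.lTensor B (b ⊗ₜ[A] (1 : ResidueField A)) = 0 := by
    rw [LinearMap.lTensor_tmul, ← hb, TensorProduct.smul_tmul', smul_eq_mul, mul_one]
  have h2 : b ⊗ₜ[A] (1 : ResidueField A) = 0 := hinj (h1.trans (map_zero _).symm)
  have h3 : (Algebra.TensorProduct.quotIdealMapEquivTensorQuot B (maximalIdeal A))
      (Ideal.Quotient.mk _ b) = 0 := by
    rw [Algebra.TensorProduct.quotIdealMapEquivTensorQuot_mk]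
    exact h2
  rw [← Ideal.Quotient.eq_zero_iff_mem]
  exact (Algebra.TensorProduct.quotIdealMapEquivTensorQuot B (maximalIdeal A)).injective
    (h3.trans (map_zero _).symm)

end Socle

section Fibre

variable (A : Type u) [CommRing A] [IsLocalRing A]
  (B : Type u) [CommRing B] [IsLocalRing B] [Algebra A B]

/-- the ideal `m_A B` -/
abbrev fibIdeal : Ideal B := (maximalIdeal A).map (algebraMap A B)

variable {A B}

theorem fibIdeal_le [Nontrivial (B ⧸ fibIdeal A B)] : fibIdeal A B ≤ maximalIdeal B := by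
  apply IsLocalRing.le_maximalIdeal
  intro h
  have : Subsingleton (B ⧸ fibIdeal A B) := Ideal.Quotient.subsingleton_iff.mpr h
  exact not_subsingleton _ this

theorem isLocalHom_of_nontrivial [Nontrivial (B ⧸ fibIdeal A B)] :
    IsLocalHom (algebraMap A B) := by
  constructor
  intro a ha
  by_contra hna
  have h1 : a ∈ maximalIdeal A := hna
  have h2 : algebraMap A B a ∈ maximalIdeal B := fibIdeal_le (Ideal.mem_map_of_mem _ h1)
  exact h2 ha

theorem mk_mem_maximalIdeal [IsLocalRing (B ⧸ fibIdeal A B)] (b : B) (hb : b ∈ maximalIdeal B) :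
    Ideal.Quotient.mk (fibIdeal A B) b ∈ maximalIdeal (B ⧸ fibIdeal A B) := by
  rw [mem_maximalIdeal, mem_nonunits_iff]
  intro hu
  obtain ⟨c', hc'⟩ := hu.exists_right_inv
  obtain ⟨c, rfl⟩ := Ideal.Quotient.mk_surjective c'
  rw [← map_mul, ← map_one (Ideal.Quotient.mk (fibIdeal A B)), Ideal.Quotient.eq] at hc'
  have h1 : b * c - 1 ∈ maximalIdeal B := fibIdeal_le hc'
  have h2 : b * c ∈ maximalIdeal B := Ideal.mul_mem_right _ _ hb
  have h3 : (1 : B) ∈ maximalIdeal B := by
    have := Ideal.sub_mem _ h2 h1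
    rwa [sub_sub_cancel] at this
  exact (maximalIdeal.isMaximal B).ne_top ((Ideal.eq_top_iff_one _).mpr h3)

theorem exists_pow_le [IsLocalRing (B ⧸ fibIdeal A B)] [IsArtinianRing (B ⧸ fibIdeal A B)] :
    ∃ N : ℕ, maximalIdeal B ^ N ≤ fibIdeal A B := by
  have hnil : IsNilpotent (maximalIdeal (B ⧸ fibIdeal A B)) := by
    rw [← IsLocalRing.jacobson_eq_maximalIdeal (⊥ : Ideal (B ⧸ fibIdeal A B)) bot_ne_top]
    exact IsArtinianRing.isNilpotent_jacobson_bot
  obtain ⟨N, hN⟩ := hnil
  refine ⟨N, ?_⟩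
  have hle : (maximalIdeal B).map (Ideal.Quotient.mk (fibIdeal A B)) ≤
      maximalIdeal (B ⧸ fibIdeal A B) := by
    rw [Ideal.map_le_iff_le_comap]
    intro b hb
    exact mk_mem_maximalIdeal b hb
  intro b hb
  have h1 : Ideal.Quotient.mk (fibIdeal A B) b ∈
      ((maximalIdeal B) ^ N).map (Ideal.Quotient.mk (fibIdeal A B)) := Ideal.mem_map_of_mem _ hb
  rw [Ideal.map_pow] at h1
  have h2 := Ideal.pow_right_mono hle N h1
  rw [hN, Ideal.zero_eq_bot, Ideal.mem_bot, Ideal.Quotient.eq_zero_iff_mem] at h2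
  exact h2

theorem depth_zero [IsLocalRing (B ⧸ fibIdeal A B)] [IsNoetherianRing (B ⧸ fibIdeal A B)]
    [IsArtinianRing (B ⧸ fibIdeal A B)] :
    LocCoh.depth (B ⧸ fibIdeal A B) (B ⧸ fibIdeal A B) = 0 := by
  rw [Groth.Agent.Lib.Helper67.depth_eq_zero_iff]
  obtain ⟨p, hp⟩ := associatedPrimes.nonempty (B ⧸ fibIdeal A B) (B ⧸ fibIdeal A B)
  have hpp : p.IsPrime := IsAssociatedPrime.isPrime hp
  have hpm : p.IsMaximal := IsArtinianRing.isMaximal_of_isPrime p
  rw [← IsLocalRing.eq_maximalIdeal hpm]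
  exact hp

theorem exists_socle_lift [hG : LocCoh.IsGorensteinLocalRing (B ⧸ fibIdeal A B)]
    [IsArtinianRing (B ⧸ fibIdeal A B)] :
    ∃ σ : B, σ ∉ fibIdeal A B ∧ (∀ c ∈ maximalIdeal B, c * σ ∈ fibIdeal A B) ∧
      ∀ b : B, (∀ c ∈ maximalIdeal B, c * b ∈ fibIdeal A B) →
        ∃ a : B, b - a * σ ∈ fibIdeal A B := by
  haveI : IsNoetherianRing (B ⧸ fibIdeal A B) := hG.toIsNoetherian
  haveI : IsLocalRing (B ⧸ fibIdeal A B) := hG.toIsLocalRing
  have hd := depth_zero (A := A) (B := B)
  obtain ⟨s, hs0, hs⟩ := Groth.Agent.Lib.Helper85.GorFlat.exists_socle_ne_zero _ hd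
  have hss := Groth.Agent.Lib.Helper85.GorFlat.socleSimple_of_gorenstein _ hd
  obtain ⟨σ, rfl⟩ := Ideal.Quotient.mk_surjective s
  have hmem : ∀ c : B, Ideal.Quotient.mk (fibIdeal A B) c ∈ maximalIdeal (B ⧸ fibIdeal A B) →
      c ∈ maximalIdeal B := by
    intro c hc
    by_contra hcu
    have hu : IsUnit c := by
      by_contra h
      exact hcu h
    exact hc (hu.map (Ideal.Quotient.mk (fibIdeal A B)))
  refine ⟨σ, ?_, ?_, ?_⟩
  · intro h
    exact hs0 (Ideal.Quotient.eq_zero_iff_mem.mpr h)
  · intro c hc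
    rw [← Ideal.Quotient.eq_zero_iff_mem, map_mul]
    exact (hs _).mpr (mk_mem_maximalIdeal c hc)
  · intro b hb
    have h2 : ∀ a ∈ maximalIdeal (B ⧸ fibIdeal A B),
        a * Ideal.Quotient.mk (fibIdeal A B) b = 0 := by
      intro a ha
      obtain ⟨c, rfl⟩ := Ideal.Quotient.mk_surjective a
      rw [← map_mul, Ideal.Quotient.eq_zero_iff_mem]
      exact hb c (hmem c ha)
    have h1 : ∀ a ∈ maximalIdeal (B ⧸ fibIdeal A B),
        a * Ideal.Quotient.mk (fibIdeal A B) σ = 0 := fun a ha => (hs a).mpr ha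
    obtain ⟨a', ha'⟩ := hss _ _ h1 h2 hs0
    obtain ⟨a, rfl⟩ := Ideal.Quotient.mk_surjective a'
    refine ⟨a, ?_⟩
    rw [← Ideal.Quotient.eq, map_mul]
    exact ha'

end Fibre

section Main

variable {A : Type u} [CommRing A] [IsLocalRing A] [IsNoetherianRing A]
  {B : Type u} [CommRing B] [IsLocalRing B] [IsNoetherianRing B] [Algebra A B] [Module.Flat A B]
  {E : Type u} [AddCommGroup E] [Module A E]

theorem isPowerTorsion_tensor' [IsLocalRing (B ⧸ fibIdeal A B)]
    [IsArtinianRing (B ⧸ fibIdeal A B)]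
    (hE : LocCoh.IsPowerTorsion (maximalIdeal A) E) :
    LocCoh.IsPowerTorsion (maximalIdeal B) (B ⊗[A] E) := by
  obtain ⟨N, hN⟩ := exists_pow_le (A := A) (B := B)
  intro x
  induction x using TensorProduct.induction_on with
  | zero => exact ⟨0, fun a _ => smul_zero a⟩
  | tmul b e =>
    obtain ⟨n, hn⟩ := hE e
    refine ⟨N * n, fun c hc => ?_⟩
    have hc' : c ∈ (maximalIdeal A ^ n).map (algebraMap A B) := by
      rw [Ideal.map_pow]
      rw [pow_mul] at hc
      exact Ideal.pow_right_mono hN n hc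
    exact map_smul_tmul_eq_zero _ e hn b c hc'
  | add x y hx hy =>
    obtain ⟨n, hn⟩ := hx
    obtain ⟨m, hm'⟩ := hy
    refine ⟨max n m, fun c hc => ?_⟩
    rw [smul_add, hn c (Ideal.pow_le_pow_right (le_max_left n m) hc),
      hm' c (Ideal.pow_le_pow_right (le_max_right n m) hc), add_zero]

theorem exists_essential [hG : LocCoh.IsGorensteinLocalRing (B ⧸ fibIdeal A B)]
    [IsArtinianRing (B ⧸ fibIdeal A B)]
    (f : ResidueField A →ₗ[A] E) (hf : IsEssentialInj f) :
    ∃ g : ResidueField B →ₗ[B] B ⊗[A] E, IsEssentialInj g := by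
  haveI : IsLocalRing (B ⧸ fibIdeal A B) := hG.toIsLocalRing
  obtain ⟨σ, hσ0, hσm, hσs⟩ := exists_socle_lift (A := A) (B := B)
  let s : B ⊗[A] E := (1 : B) ⊗ₜ[A] f 1
  have hJs : ∀ c ∈ fibIdeal A B, c • s = 0 := by
    intro c hc
    refine map_smul_tmul_eq_zero (maximalIdeal A) (f 1) ?_ 1 c hc
    intro a ha
    rw [← map_smul, mem_maximalIdeal_smul_residue a ha, map_zero]
  let t : B ⊗[A] E := σ • s
  have hkill : ∀ c ∈ maximalIdeal B, c • t = 0 := by
    intro c hc
    change c • σ • s = 0
    rw [smul_smul]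
    exact hJs _ (hσm c hc)
  have hle : maximalIdeal B ≤ LinearMap.ker (LinearMap.toSpanSingleton B (B ⊗[A] E) t) := by
    intro c hc
    rw [LinearMap.mem_ker, LinearMap.toSpanSingleton_apply]
    exact hkill c hc
  let g : ResidueField B →ₗ[B] B ⊗[A] E :=
    Submodule.liftQ (maximalIdeal B) (LinearMap.toSpanSingleton B (B ⊗[A] E) t) hle
  have hg1 : ∀ b : B, g (b • (1 : ResidueField B)) = b • t := by
    intro b
    rw [map_smul]
    congr 1
    change Submodule.liftQ (maximalIdeal B) (LinearMap.toSpanSingleton B (B ⊗[A] E) t) hle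
      (Submodule.Quotient.mk 1) = _
    rw [Submodule.liftQ_apply, LinearMap.toSpanSingleton_apply, one_smul]
  have ht0 : t ≠ 0 := fun h => hσ0 (mem_map_of_smul_eq_zero f hf.injective σ h)
  have hT : LocCoh.IsPowerTorsion (maximalIdeal B) (B ⊗[A] E) :=
    isPowerTorsion_tensor' (isPowerTorsion hf)
  refine ⟨g, ?_, ?_⟩
  · rcases LinearMap.injective_or_eq_zero g with h | h
    · exact h
    · exfalso
      apply ht0
      have := hg1 1
      rw [one_smul, one_smul, h, LinearMap.zero_apply] at this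
      exact this.symm
  · intro N hN
    obtain ⟨x, hxN, hx0⟩ := (Submodule.ne_bot_iff N).mp hN
    obtain ⟨a, hax, haS⟩ := exists_smul_mem_socle hT x hx0
    have hk : ∀ c ∈ maximalIdeal B, c • (a • x) = 0 := fun c hc =>
      (Submodule.mem_torsionBySet_iff _ _).mp haS ⟨c, hc⟩
    obtain ⟨b, hb⟩ := socle_tensor' f hf (a • x)
      (fun a' ha' => hk _ (fibIdeal_le (Ideal.mem_map_of_mem _ ha')))
    have hbs : ∀ c ∈ maximalIdeal B, c * b ∈ fibIdeal A B := by
      intro c hc
      apply mem_map_of_smul_eq_zero f hf.injective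
      rw [mul_smul, ← hb]
      exact hk c hc
    obtain ⟨a2, ha2⟩ := hσs b hbs
    have hax2 : a • x = a2 • t := by
      rw [hb]
      have hbb : b = a2 * σ + (b - a2 * σ) := by ring
      change b • s = a2 • σ • s
      rw [hbb, add_smul, hJs _ ha2, add_zero, mul_smul]
    intro hbot
    apply hax
    have hmem : a • x ∈ N ⊓ LinearMap.range g := by
      refine ⟨N.smul_mem a hxN, ?_⟩
      rw [hax2, ← hg1 a2]
      exact LinearMap.mem_range_self g _
    rw [hbot, Submodule.mem_bot] at hmem
    exact hmem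

theorem length_fibre_ne_top [hG : LocCoh.IsGorensteinLocalRing (B ⧸ fibIdeal A B)]
    [IsArtinianRing (B ⧸ fibIdeal A B)] : Module.length B (B ⧸ fibIdeal A B) ≠ ⊤ := by
  haveI : IsNoetherianRing (B ⧸ fibIdeal A B) := hG.toIsNoetherian
  rw [Module.length_eq_of_surjective (R := B ⧸ fibIdeal A B) (S := B)
    Ideal.Quotient.mk_surjective, Module.length_ne_top_iff,
    isFiniteLength_iff_isNoetherian_isArtinian]
  exact ⟨inferInstance, inferInstance⟩

theorem length_quot_map_pow [IsLocalHom (algebraMap A B)] (n : ℕ) :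
    Module.length B (B ⧸ (maximalIdeal A ^ n).map (algebraMap A B)) =
      Module.length A (A ⧸ maximalIdeal A ^ n) * Module.length B (B ⧸ fibIdeal A B) := by
  have e := (Algebra.TensorProduct.quotIdealMapEquivTensorQuot B (maximalIdeal A ^ n)).toLinearEquiv
  rw [e.length_eq, IsLocalRing.length_baseChange]

theorem main [hG : LocCoh.IsGorensteinLocalRing (B ⧸ fibIdeal A B)]
    [hArt : IsArtinianRing (B ⧸ fibIdeal A B)]
    (f : ResidueField A →ₗ[A] E) (hf : IsInjectiveHull f) :
    ∃ g : ResidueField B →ₗ[B] B ⊗[A] E, IsInjectiveHull g := by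
  haveI : IsLocalRing (B ⧸ fibIdeal A B) := hG.toIsLocalRing
  haveI : IsLocalHom (algebraMap A B) := isLocalHom_of_nontrivial (A := A) (B := B)
  obtain ⟨g, hg⟩ := exists_essential (A := A) (B := B) f hf.toIsEssentialInj
  obtain ⟨EB, _, _, h, hh⟩ := Groth.Agent.Lib.Helper85.Hull.exists_injectiveHull (R := B)
    (ResidueField B)
  have hEBinj := hh.isInjective
  obtain ⟨φ, hφ⟩ := Module.Injective.extension_property B EB _ _ g hg.injective h
  have hφinj : Function.Injective φ := by
    rw [← LinearMap.ker_eq_bot]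
    by_contra hne
    apply hg.essential _ hne
    rw [eq_bot_iff]
    rintro x ⟨hxk, c, rfl⟩
    rw [Submodule.mem_bot]
    have h1 : h c = 0 := by
      rw [← hφ]; exact hxk
    rw [hh.injective (h1.trans (map_zero h).symm), map_zero]
  have hφsurj : Function.Surjective φ := by
    intro y
    obtain ⟨n, hn⟩ := isPowerTorsion hh.toIsEssentialInj y
    let En := Submodule.torsionBySet A E ((maximalIdeal A ^ n : Ideal A) : Set A)
    let Jn : Ideal B := (maximalIdeal A ^ n).map (algebraMap A B)
    let Fn := Submodule.torsionBySet B EB (Jn : Set B)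
    have hJn : Jn ≤ maximalIdeal B ^ n := by
      change (maximalIdeal A ^ n).map (algebraMap A B) ≤ _
      rw [Ideal.map_pow]
      exact Ideal.pow_right_mono fibIdeal_le n
    have hyF : y ∈ Fn := by
      rw [Submodule.mem_torsionBySet_iff]
      rintro ⟨c, hc⟩
      exact hn c (hJn hc)
    let ι : B ⊗[A] En →ₗ[B] B ⊗[A] E := LinearMap.baseChange B En.subtype
    have hι : Function.Injective ι := by
      have := Module.Flat.lTensor_preserves_injective_linearMap (M := B) En.subtype
        (Submodule.subtype_injective _)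
      rwa [← LinearMap.baseChange_eq_ltensor (A := B)] at this
    have hmem : ∀ z, φ (ι z) ∈ Fn := by
      intro z
      induction z using TensorProduct.induction_on with
      | zero => rw [map_zero, map_zero]; exact zero_mem _
      | tmul b e =>
        rw [Submodule.mem_torsionBySet_iff]
        rintro ⟨c, hc⟩
        change c • φ (ι (b ⊗ₜ[A] e)) = 0
        rw [← map_smul, LinearMap.baseChange_tmul]
        rw [map_smul_tmul_eq_zero (maximalIdeal A ^ n) (En.subtype e) ?_ b c hc, map_zero]
        intro a ha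
        exact (Submodule.mem_torsionBySet_iff _ _).mp e.2 ⟨a, ha⟩
      | add z w hz hw => rw [map_add, map_add]; exact add_mem hz hw
    let ψ : B ⊗[A] En →ₗ[B] Fn := LinearMap.codRestrict Fn (φ ∘ₗ ι) hmem
    have hψ : Function.Injective ψ := by
      intro z w hzw
      apply hι
      apply hφinj
      exact congrArg Subtype.val hzw
    have hfin : Module.length A (A ⧸ maximalIdeal A ^ n) *
        Module.length B (B ⧸ fibIdeal A B) ≠ ⊤ :=
      WithTop.mul_ne_top (Module.length_ne_top_iff.mpr (isFiniteLength_quot_pow n))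
        (length_fibre_ne_top (A := A) (B := B))
    have hfinJ : IsFiniteLength B (B ⧸ Jn) := by
      rw [← Module.length_ne_top_iff]
      change Module.length B (B ⧸ (maximalIdeal A ^ n).map (algebraMap A B)) ≠ ⊤
      rw [length_quot_map_pow]
      exact hfin
    have hlenF : Module.length B Fn = Module.length A (A ⧸ maximalIdeal A ^ n) *
        Module.length B (B ⧸ fibIdeal A B) := by
      rw [length_tors, length_hom hh _ hfinJ]
      exact length_quot_map_pow n
    have hlenT : Module.length B (B ⊗[A] En) = Module.length A (A ⧸ maximalIdeal A ^ n) *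
        Module.length B (B ⧸ fibIdeal A B) := by
      rw [IsLocalRing.length_baseChange, length_tors_hull f hf]
    have hFfin : IsFiniteLength B Fn := by
      rw [← Module.length_ne_top_iff, hlenF]; exact hfin
    obtain ⟨_, _⟩ := isFiniteLength_iff_isNoetherian_isArtinian.mp hFfin
    have hrange : LinearMap.range ψ = ⊤ := by
      by_contra hne
      have h1 := Submodule.length_lt hne
      rw [← (LinearEquiv.ofInjective ψ hψ).length_eq, hlenT, hlenF] at h1
      exact lt_irrefl _ h1
    obtain ⟨z, hz⟩ := LinearMap.range_eq_top.mp hrange ⟨y, hyF⟩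
    exact ⟨ι z, congrArg Subtype.val hz⟩
  let e : (B ⊗[A] E) ≃ₗ[B] EB := LinearEquiv.ofBijective φ ⟨hφinj, hφsurj⟩
  have hinj : Module.Injective B (B ⊗[A] E) :=
    Groth.Agent.Lib.Helper85.Hull.injective_of_linearEquiv e.symm
  exact ⟨g, ⟨hg, hinj⟩⟩

end Main

end Groth.Agent.Lib.Helper77.InjHullGor
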