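import Mathlib
import Groth.Agent.Lib.Helper67.Depth2
import Groth.Agent.Lib.Helper67.DepthAlg
import Groth.Agent.Lib.Helper67.IterLoc2

/-!
# Depth of a finite algebra over a direct summand subring
-/

set_option autoImplicit false
universe u
open CategoryTheory CategoryTheory.Abelian LocCoh Groth.Agent.Lib.Helper67

namespace Groth.Agent.Lib.Helper77.InvDepth

theorem ext_subsingleton_of_retract {B : Type u} [CommRing B] {Z X Y : ModuleCat.{u} B}
    (i : X ⟶ Y) (r : Y ⟶ X) (hir : i ≫ r = 𝟙 X) (n : ℕ) (h : Subsingleton (Ext Z Y n)) :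
    Subsingleton (Ext Z X n) := by
  refine ⟨fun a b => ?_⟩
  suffices h0 : ∀ x : Ext Z X n, x = 0 by rw [h0 a, h0 b]
  intro x
  have h1 : x = (x.comp (Ext.mk₀ i) (add_zero n)).comp (Ext.mk₀ r) (add_zero n) := by
    rw [Ext.comp_assoc_of_third_deg_zero, Ext.mk₀_comp_mk₀, hir, Ext.comp_mk₀_id]
  rw [h1, Subsingleton.elim (x.comp (Ext.mk₀ i) (add_zero n)) 0, Ext.zero_comp]

theorem idealDepth_le_of_retract {B : Type u} [CommRing B] [IsNoetherianRing B] (I : Ideal B)
    (X Y : Type u) [AddCommGroup X] [Module B X] [Module.Finite B X]
    [AddCommGroup Y] [Module B Y] [Module.Finite B Y]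
    (i : X →ₗ[B] Y) (r : Y →ₗ[B] X) (hir : r ∘ₗ i = LinearMap.id) :
    idealDepth I Y ≤ idealDepth I X := by
  rw [← ENat.forall_natCast_le_iff_le]
  intro n hn
  rw [Groth.Agent.Lib.Helper67.le_idealDepth_iff_ext'] at hn ⊢
  intro j hj
  refine ext_subsingleton_of_retract (ModuleCat.ofHom i) (ModuleCat.ofHom r) ?_ j (hn j hj)
  rw [← ModuleCat.ofHom_comp, hir]
  rfl


set_option maxHeartbeats 800000 in
theorem le_depth_of_forall_le_depth {A R : Type u} [CommRing A] [CommRing R] [Algebra A R]
    [IsNoetherianRing A] [Module.Finite A R] (p : Ideal A) [p.IsPrime] (n : ℕ)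
    (h : ∀ (q : Ideal R) [q.IsPrime], q.comap (algebraMap A R) = p →
      (n : ℕ∞) ≤ depth (Localization.AtPrime q) (LocalizedModule q.primeCompl R)) :
    (n : ℕ∞) ≤ depth (Localization.AtPrime p) (LocalizedModule p.primeCompl R) := by
  haveI : IsNoetherianRing R := IsNoetherianRing.of_finite A R
  letI : Module (Localization.AtPrime p)
      (LocalizedModule (Algebra.algebraMapSubmonoid R p.primeCompl) R) :=
    Module.compHom _ (algebraMap (Localization.AtPrime p)
      (Localization (Algebra.algebraMapSubmonoid R p.primeCompl)))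
  haveI : IsScalarTower (Localization.AtPrime p)
      (Localization (Algebra.algebraMapSubmonoid R p.primeCompl))
      (LocalizedModule (Algebra.algebraMapSubmonoid R p.primeCompl) R) :=
    IsScalarTower.of_algebraMap_smul (fun _ _ => rfl)
  haveI : IsScalarTower A (Localization.AtPrime p)
      (LocalizedModule (Algebra.algebraMapSubmonoid R p.primeCompl) R) :=
    IsScalarTower.of_algebraMap_smul (fun a x => by
      show algebraMap (Localization.AtPrime p)
        (Localization (Algebra.algebraMapSubmonoid R p.primeCompl))
          (algebraMap A (Localization.AtPrime p) a) • x = a • x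
      rw [← IsScalarTower.algebraMap_apply A (Localization.AtPrime p)
        (Localization (Algebra.algebraMapSubmonoid R p.primeCompl)),
        IsScalarTower.algebraMap_apply A R
          (Localization (Algebra.algebraMapSubmonoid R p.primeCompl)), algebraMap_smul,
        algebraMap_smul])
  haveI : IsLocalizedModule p.primeCompl
      ((LocalizedModule.mkLinearMap (Algebra.algebraMapSubmonoid R p.primeCompl) R).restrictScalars
        A) :=
    IsLocalizedModule.restrictScalars p.primeCompl
      (LocalizedModule.mkLinearMap (Algebra.algebraMapSubmonoid R p.primeCompl) R)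
  have ha := (depth_supportDim_eq_of_isLocalizedModule p (Localization.AtPrime p)
    (Localization.AtPrime p) (LocalizedModule.mkLinearMap p.primeCompl R)
    ((LocalizedModule.mkLinearMap (Algebra.algebraMapSubmonoid R p.primeCompl) R).restrictScalars
        A)).1
  rw [ha]
  haveI : Module.Finite (Localization.AtPrime p)
      (Localization (Algebra.algebraMapSubmonoid R p.primeCompl)) :=
    Module.Finite.of_isLocalization A R p.primeCompl
  show (n : ℕ∞) ≤ idealDepth (IsLocalRing.maximalIdeal (Localization.AtPrime p))
    (LocalizedModule (Algebra.algebraMapSubmonoid R p.primeCompl) R)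
  rw [idealDepth_eq_idealDepth_map_of_finite
      (B := Localization (Algebra.algebraMapSubmonoid R p.primeCompl)),
    idealDepth_eq_iInf_depth_localization]
  refine le_iInf₂ fun Q hQ => ?_
  rw [(depth_supportDim_localization_localization (Algebra.algebraMapSubmonoid R p.primeCompl)
    Q.asIdeal R).1]
  refine h _ ?_
  ext a
  simp only [Ideal.mem_comap]
  constructor
  · intro ha'
    by_contra hap
    have hu : IsUnit (algebraMap R (Localization (Algebra.algebraMapSubmonoid R p.primeCompl))
        (algebraMap A R a)) :=
      IsLocalization.map_units _ (⟨algebraMap A R a, ⟨a, hap, rfl⟩⟩ :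
        Algebra.algebraMapSubmonoid R p.primeCompl)
    exact Q.2.ne_top (Ideal.eq_top_of_isUnit_mem _ ha' hu)
  · intro hap
    apply hQ
    rw [← IsScalarTower.algebraMap_apply A R
        (Localization (Algebra.algebraMapSubmonoid R p.primeCompl)),
      IsScalarTower.algebraMap_apply A (Localization.AtPrime p)
        (Localization (Algebra.algebraMapSubmonoid R p.primeCompl))]
    refine Ideal.mem_map_of_mem _ ?_
    rw [← Localization.AtPrime.under_maximalIdeal (I := p)] at hap
    exact hap


end Groth.Agent.Lib.Helper77.InvDepth
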