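import Mathlib
import Groth.Agent.Lib.Helper77.InvDepth1
import Groth.Agent.Lib.Helper59.HullFinite
import Groth.Agent.Lib.Helper56.DepthAss
import Groth.Agent.Lib.Helper56.Serre1
set_option autoImplicit false
universe u
open LocCoh Groth.Agent.Lib.Helper67
namespace Groth.Agent.Lib.Helper77.InvDepth

section
variable {A R : Type u} [CommRing A] [CommRing R] [Algebra A R]

/-- depth of the localized summand is at least the depth of the localized algebra -/
theorem depth_loc_le_of_retract [IsNoetherianRing A] [Module.Finite A R]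
    (E : R →ₗ[A] A) (hE : ∀ a, E (algebraMap A R a) = a) (p : Ideal A) [p.IsPrime] :
    depth (Localization.AtPrime p) (LocalizedModule p.primeCompl R) ≤
      depth (Localization.AtPrime p) (LocalizedModule p.primeCompl A) := by
  refine InvDepth.idealDepth_le_of_retract _ _ _
    (LocalizedModule.map p.primeCompl (Algebra.linearMap A R))
    (LocalizedModule.map p.primeCompl E) ?_
  refine LinearMap.ext fun x => ?_
  induction x using LocalizedModule.induction_on with
  | h m s =>
    simp only [LinearMap.coe_comp, Function.comp_apply, LocalizedModule.map_mk,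
      Algebra.linearMap_apply, hE, LinearMap.id_coe, id_eq]

/-- lifting chains: there is a prime over `p` of height at least `n ≤ ht p` -/
theorem exists_prime_over_height_ge [Algebra.IsIntegral A R]
    (hinj : Function.Injective (algebraMap A R)) (n : ℕ) :
    ∀ (p : Ideal A) [p.IsPrime], (n : ℕ∞) ≤ p.height →
      ∃ q : Ideal R, q.IsPrime ∧ q.comap (algebraMap A R) = p ∧ (n : ℕ∞) ≤ q.height := by
  induction n with
  | zero =>
    intro p _ _
    obtain ⟨q, -, hq, hqp⟩ := Ideal.exists_ideal_over_prime_of_isIntegral p (⊥ : Ideal R)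
      (by rw [Ideal.comap_bot_of_injective _ hinj]; exact bot_le)
    exact ⟨q, hq, hqp, by simp⟩
  | succ n ih =>
    intro p _ hp
    have h1 : ¬ p.height ≤ n := by
      intro h
      have h2 := le_trans hp h
      have h3 : n + 1 ≤ n := by exact_mod_cast h2
      omega
    rw [Ideal.height_le_iff] at h1
    push Not at h1
    obtain ⟨p', hp'p, hlt, hp'⟩ := h1
    obtain ⟨q', hq', hq'p, hq'h⟩ := ih p' hp'
    haveI : q'.LiesOver p' := ⟨hq'p.symm⟩
    obtain ⟨q, hlt', hq, hqp⟩ := Ideal.exists_ideal_gt_liesOver_of_lt q' hlt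
    refine ⟨q, hq, hqp.over.symm, ?_⟩
    have h5 := Ideal.height_add_one_le_of_lt_of_isPrime hlt'
    push_cast
    exact le_trans (by gcongr) h5

theorem height_comap_le [Algebra.IsIntegral A R] [IsNoetherianRing A]
    (hinj : Function.Injective (algebraMap A R))
    (hfib : ∀ (q q' : Ideal R) [q.IsPrime] [q'.IsPrime],
      q.comap (algebraMap A R) = q'.comap (algebraMap A R) → q.height = q'.height)
    (q : Ideal R) [q.IsPrime] : (q.comap (algebraMap A R)).height ≤ q.height := by
  rw [← ENat.forall_natCast_le_iff_le]
  intro n hn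
  obtain ⟨q', hq', hq'p, hq'h⟩ := exists_prime_over_height_ge hinj n _ hn
  rw [hfib q q' hq'p.symm]
  exact hq'h


theorem min_le_depth_loc [IsNoetherianRing A] [Module.Finite A R]
    (hinj : Function.Injective (algebraMap A R))
    (hfib : ∀ (q q' : Ideal R) [q.IsPrime] [q'.IsPrime],
      q.comap (algebraMap A R) = q'.comap (algebraMap A R) → q.height = q'.height)
    (r : ℕ) (hR : HasSk r R R) (p : Ideal A) [p.IsPrime] :
    min (r : ℕ∞) p.height ≤ depth (Localization.AtPrime p) (LocalizedModule p.primeCompl R) := by
  haveI : Algebra.IsIntegral A R := Algebra.IsIntegral.of_finite A R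
  rw [← ENat.forall_natCast_le_iff_le]
  intro n hn
  apply le_depth_of_forall_le_depth p n
  intro q _ hqp
  have h1 := (Groth.Agent.Lib.Helper56.hasSk_self_iff r).mp hR q
  rw [IsLocalization.AtPrime.ringKrullDim_eq_height q (Localization.AtPrime q)] at h1
  rw [Groth.Agent.Lib.Helper56.depth_localizedModule_self]
  have h2 : p.height ≤ q.height := by
    rw [← hqp]; exact height_comap_le hinj hfib q
  have h3 : ((n : ℕ∞) : WithBot ℕ∞) ≤ min (r : WithBot ℕ∞) ((q.height : ℕ∞) : WithBot ℕ∞) := by
    rw [le_min_iff] at hn ⊢
    refine ⟨?_, WithBot.coe_le_coe.mpr (hn.2.trans h2)⟩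
    have : ((n : ℕ∞) : WithBot ℕ∞) ≤ ((r : ℕ∞) : WithBot ℕ∞) := WithBot.coe_le_coe.mpr hn.1
    exact this
  exact WithBot.coe_le_coe.mp (h3.trans h1)

theorem supportDim_loc_le (M : Type u) [AddCommGroup M] [Module A M] (p : Ideal A) [p.IsPrime] :
    Module.supportDim (Localization.AtPrime p) (LocalizedModule p.primeCompl M) ≤
      ((p.height : ℕ∞) : WithBot ℕ∞) := by
  refine (Module.supportDim_le_ringKrullDim _ _).trans ?_
  rw [IsLocalization.AtPrime.ringKrullDim_eq_height p (Localization.AtPrime p)]

theorem hasSk_of_retract [IsNoetherianRing A] [Module.Finite A R]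
    (E : R →ₗ[A] A) (hE : ∀ a, E (algebraMap A R a) = a)
    (hfib : ∀ (q q' : Ideal R) [q.IsPrime] [q'.IsPrime],
      q.comap (algebraMap A R) = q'.comap (algebraMap A R) → q.height = q'.height)
    (r : ℕ) (hR : HasSk r R R) : HasSk r A R ∧ HasSk r A A := by
  have hinj : Function.Injective (algebraMap A R) := by
    intro a b hab
    rw [← hE a, ← hE b, hab]
  have key : ∀ (p : Ideal A) [p.IsPrime] (M : Type u) [AddCommGroup M] [Module A M],
      min (r : ℕ∞) p.height ≤ depth (Localization.AtPrime p) (LocalizedModule p.primeCompl M) →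
      min (r : WithBot ℕ∞)
        (Module.supportDim (Localization.AtPrime p) (LocalizedModule p.primeCompl M)) ≤
      ((depth (Localization.AtPrime p) (LocalizedModule p.primeCompl M) : ℕ∞) : WithBot ℕ∞) := by
    intro p _ M _ _ h
    refine (min_le_min le_rfl (supportDim_loc_le M p)).trans ?_
    have h2 : min (r : WithBot ℕ∞) ((p.height : ℕ∞) : WithBot ℕ∞) =
        ((min (r : ℕ∞) p.height : ℕ∞) : WithBot ℕ∞) := by
      rw [WithBot.coe_min]; rfl
    rw [h2]
    exact WithBot.coe_le_coe.mpr h
  constructor
  · intro p _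
    exact key p R (min_le_depth_loc hinj hfib r hR p)
  · intro p _
    exact key p A ((min_le_depth_loc hinj hfib r hR p).trans (depth_loc_le_of_retract E hE p))


theorem height_le_depth_loc_of_cm [IsNoetherianRing A] [Module.Finite A R]
    (hinj : Function.Injective (algebraMap A R))
    (hfib : ∀ (q q' : Ideal R) [q.IsPrime] [q'.IsPrime],
      q.comap (algebraMap A R) = q'.comap (algebraMap A R) → q.height = q'.height)
    (hR : IsCohenMacaulayRing R) (p : Ideal A) [p.IsPrime] :
    p.height ≤ depth (Localization.AtPrime p) (LocalizedModule p.primeCompl R) := by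
  haveI : Algebra.IsIntegral A R := Algebra.IsIntegral.of_finite A R
  rw [← ENat.forall_natCast_le_iff_le]
  intro n hn
  apply le_depth_of_forall_le_depth p n
  intro q _ hqp
  have h1 := (hR.isCohenMacaulayLocalRing_localization q).supportDim_eq_depth
  rw [Module.supportDim_self_eq_ringKrullDim,
    IsLocalization.AtPrime.ringKrullDim_eq_height q (Localization.AtPrime q)] at h1
  rw [Groth.Agent.Lib.Helper56.depth_localizedModule_self]
  have h2 : p.height ≤ q.height := by
    rw [← hqp]; exact height_comap_le hinj hfib q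
  have h3 : q.height = depth (Localization.AtPrime q) (Localization.AtPrime q) :=
    WithBot.coe_injective h1
  rw [← h3]
  exact hn.trans h2

theorem cm_of_retract [IsNoetherianRing A] [Module.Finite A R]
    (E : R →ₗ[A] A) (hE : ∀ a, E (algebraMap A R a) = a)
    (hfib : ∀ (q q' : Ideal R) [q.IsPrime] [q'.IsPrime],
      q.comap (algebraMap A R) = q'.comap (algebraMap A R) → q.height = q'.height)
    (hR : IsCohenMacaulayRing R) :
    IsCohenMacaulayRing A ∧ ∀ (p : Ideal A) [p.IsPrime],
      IsCohenMacaulayModule (Localization.AtPrime p) (LocalizedModule p.primeCompl R) ∧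
        Module.supportDim (Localization.AtPrime p) (LocalizedModule p.primeCompl R) =
          ringKrullDim (Localization.AtPrime p) := by
  have hinj : Function.Injective (algebraMap A R) := by
    intro a b hab
    rw [← hE a, ← hE b, hab]
  have hnt : ∀ (p : Ideal A) [p.IsPrime], Nontrivial (LocalizedModule p.primeCompl R) := by
    intro p _
    haveI : Nontrivial (LocalizedModule p.primeCompl A) :=
      (Groth.Agent.Lib.Helper56.locSelfEquiv p.primeCompl).toEquiv.nontrivial
    exact (LocalizedModule.map_injective p.primeCompl (Algebra.linearMap A R) hinj).nontrivial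
  have hmod : ∀ (p : Ideal A) [p.IsPrime],
      Module.supportDim (Localization.AtPrime p) (LocalizedModule p.primeCompl R) =
        ((depth (Localization.AtPrime p) (LocalizedModule p.primeCompl R) : ℕ∞) : WithBot ℕ∞) ∧
      Module.supportDim (Localization.AtPrime p) (LocalizedModule p.primeCompl R) =
        ((p.height : ℕ∞) : WithBot ℕ∞) := by
    intro p _
    haveI := hnt p
    have h1 := height_le_depth_loc_of_cm hinj hfib hR p
    have h2 := depth_le_supportDim (R := Localization.AtPrime p) (LocalizedModule p.primeCompl R)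
    have h3 := supportDim_loc_le R p
    have h4 : ((p.height : ℕ∞) : WithBot ℕ∞) ≤
        ((depth (Localization.AtPrime p) (LocalizedModule p.primeCompl R) : ℕ∞) : WithBot ℕ∞) :=
      WithBot.coe_le_coe.mpr h1
    exact ⟨le_antisymm (h3.trans h4) h2, le_antisymm h3 (h4.trans h2)⟩
  refine ⟨⟨fun p _ => ⟨?_⟩⟩, fun p _ => ⟨(hmod p).1, ?_⟩⟩
  · have h1 := height_le_depth_loc_of_cm hinj hfib hR p
    have h2 := depth_loc_le_of_retract E hE p
    rw [Groth.Agent.Lib.Helper56.depth_localizedModule_self] at h2
    have h3 := depth_le_supportDim (R := Localization.AtPrime p) (Localization.AtPrime p)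
    have h4 : Module.supportDim (Localization.AtPrime p) (Localization.AtPrime p) =
        ((p.height : ℕ∞) : WithBot ℕ∞) := by
      rw [Module.supportDim_self_eq_ringKrullDim,
        IsLocalization.AtPrime.ringKrullDim_eq_height p (Localization.AtPrime p)]
    refine le_antisymm ?_ h3
    rw [h4]
    exact WithBot.coe_le_coe.mpr (h1.trans h2)
  · rw [(hmod p).2, IsLocalization.AtPrime.ringKrullDim_eq_height p (Localization.AtPrime p)]


end
end Groth.Agent.Lib.Helper77.InvDepth
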