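import Mathlib

/-!
# Antipode of a commutative Hopf algebra: involutivity and anti-comultiplicativity
(derived from the convolution group structure on algebra homs)
-/

set_option autoImplicit false
universe u
open TensorProduct

namespace Groth.Agent.Lib.Helper77.InvHopf

variable (k : Type u) [CommRing k] (H : Type u) [CommRing H] [HopfAlgebra k H]

open WithConv in
theorem antipodeAlgHom_comp_self :
    (HopfAlgebra.antipodeAlgHom k H).comp (HopfAlgebra.antipodeAlgHom k H) = AlgHom.id k H := by
  have h := inv_inv (toConv (AlgHom.id k H))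
  have h1 : (toConv (AlgHom.id k H))⁻¹ = toConv (HopfAlgebra.antipodeAlgHom k H) := by
    show toConv ((AlgHom.id k H).comp (HopfAlgebra.antipodeAlgHom k H)) = _
    rw [AlgHom.id_comp]
  rw [h1] at h
  have h2 : (toConv (HopfAlgebra.antipodeAlgHom k H))⁻¹ =
      toConv ((HopfAlgebra.antipodeAlgHom k H).comp (HopfAlgebra.antipodeAlgHom k H)) := rfl
  rw [h2] at h
  exact WithConv.toConv_injective h

theorem antipode_antipode (h : H) :
    HopfAlgebra.antipode k (HopfAlgebra.antipode k h) = h := by
  have := DFunLike.congr_fun (antipodeAlgHom_comp_self k H) h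
  exact this


open WithConv in
theorem comulAlgHom_comp_antipode :
    (Bialgebra.comulAlgHom k H).comp (HopfAlgebra.antipodeAlgHom k H) =
      ((Algebra.TensorProduct.map (HopfAlgebra.antipodeAlgHom k H)
        (HopfAlgebra.antipodeAlgHom k H)).comp
        (Algebra.TensorProduct.comm k H H).toAlgHom).comp (Bialgebra.comulAlgHom k H) := by
  have h12 : toConv (Algebra.TensorProduct.includeLeft : H →ₐ[k] H ⊗[k] H) *
      toConv (Algebra.TensorProduct.includeRight : H →ₐ[k] H ⊗[k] H) =
      toConv (Bialgebra.comulAlgHom k H) := by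
    apply WithConv.ofConv_injective
    ext c
    rw [AlgHom.convMul_apply]
    simp
  have h := mul_inv_rev (toConv (Algebra.TensorProduct.includeLeft : H →ₐ[k] H ⊗[k] H))
    (toConv (Algebra.TensorProduct.includeRight : H →ₐ[k] H ⊗[k] H))
  rw [h12] at h
  have h1 : (toConv (Bialgebra.comulAlgHom k H))⁻¹ =
      toConv ((Bialgebra.comulAlgHom k H).comp (HopfAlgebra.antipodeAlgHom k H)) := rfl
  have h2 : (toConv (Algebra.TensorProduct.includeLeft : H →ₐ[k] H ⊗[k] H))⁻¹ =
      toConv ((Algebra.TensorProduct.includeLeft : H →ₐ[k] H ⊗[k] H).comp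
        (HopfAlgebra.antipodeAlgHom k H)) := rfl
  have h3 : (toConv (Algebra.TensorProduct.includeRight : H →ₐ[k] H ⊗[k] H))⁻¹ =
      toConv ((Algebra.TensorProduct.includeRight : H →ₐ[k] H ⊗[k] H).comp
        (HopfAlgebra.antipodeAlgHom k H)) := rfl
  rw [h1, h2, h3] at h
  have h4 := congrArg WithConv.ofConv h
  rw [WithConv.ofConv_toConv] at h4
  rw [h4]
  ext c
  rw [AlgHom.convMul_apply]
  simp only [AlgHom.coe_comp, Function.comp_apply,
    Bialgebra.comulAlgHom_apply]
  generalize Coalgebra.comul (R := k) c = t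
  induction t with
  | zero => simp
  | tmul a b =>
    simp [Algebra.TensorProduct.tmul_mul_tmul]
  | add x y hx hy => simp only [map_add, hx, hy]

theorem comul_antipode (h : H) :
    Coalgebra.comul (R := k) (HopfAlgebra.antipode k h) =
      Algebra.TensorProduct.map (HopfAlgebra.antipodeAlgHom k H) (HopfAlgebra.antipodeAlgHom k H)
        (Algebra.TensorProduct.comm k H H (Coalgebra.comul (R := k) h)) := by
  have := DFunLike.congr_fun (comulAlgHom_comp_antipode k H) h
  exact this

end Groth.Agent.Lib.Helper77.InvHopf
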