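import Mathlib
import Groth.Agent.Lib.Helper77.InvHopf1
import Groth.Prelude.Def_HopfRep

/-!
# Integrals on a finite linearly reductive commutative Hopf algebra
-/

set_option autoImplicit false
universe u
open TensorProduct

namespace Groth.Agent.Lib.Helper77.InvHopf

section
variable (k : Type u) [CommRing k] (H : Type u) [CommRing H] [HopfAlgebra k H]

theorem right_integral_of_left (lam : H →ₗ[k] k)
    (hl : ∀ h : H, (TensorProduct.lid k H) ((lam.rTensor H) (Coalgebra.comul (R := k) h)) =
      lam h • (1 : H)) (h : H) :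
    (TensorProduct.rid k H) (((lam ∘ₗ HopfAlgebra.antipode k).lTensor H)
      (Coalgebra.comul (R := k) h)) = lam (HopfAlgebra.antipode k h) • (1 : H) := by
  have key : ∀ t : H ⊗[k] H, (TensorProduct.lid k H) ((lam.rTensor H)
      (Algebra.TensorProduct.map (HopfAlgebra.antipodeAlgHom k H) (HopfAlgebra.antipodeAlgHom k H)
        (Algebra.TensorProduct.comm k H H t))) =
      HopfAlgebra.antipode k ((TensorProduct.rid k H)
        (((lam ∘ₗ HopfAlgebra.antipode k).lTensor H) t)) := by
    intro t
    induction t with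
    | zero => simp
    | tmul a b => simp
    | add x y hx hy => simp only [map_add, hx, hy]
  have h1 := hl (HopfAlgebra.antipode k h)
  rw [comul_antipode, key] at h1
  have h2 := congrArg (HopfAlgebra.antipode k) h1
  rw [antipode_antipode, map_smul, HopfAlgebra.antipode_one] at h2
  exact h2

end

theorem exists_left_integral (k : Type u) [Field k] (H : Type u) [CommRing H] [HopfAlgebra k H]
    [Module.Finite k H] (hG : HopfRep.IsLinearlyReductive k H) :
    ∃ lam : H →ₗ[k] k, lam 1 = 1 ∧ ∀ h : H,
      (TensorProduct.lid k H) ((lam.rTensor H) (Coalgebra.comul (R := k) h)) = lam h • (1 : H) := by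
  have hss := hG H inferInstance
  have hW : HopfRep.IsSubcomod (k := k) (A := H) (Submodule.span k {(1 : H)}) := by
    intro w hw
    obtain ⟨c, rfl⟩ := Submodule.mem_span_singleton.mp hw
    refine ⟨(c • (⟨1, Submodule.mem_span_singleton_self 1⟩ : Submodule.span k {(1 : H)})) ⊗ₜ[k] 1, ?_⟩
    show _ = Coalgebra.comul (R := k) (c • (1 : H))
    rw [map_smul, Bialgebra.comul_one]
    simp [Algebra.TensorProduct.one_def, TensorProduct.smul_tmul']
  obtain ⟨W', hW', hc⟩ := hss _ hW
  obtain ⟨P, hP⟩ : ∃ P : H →ₗ[k] (Submodule.span k {(1 : H)}),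
      P = Submodule.projectionOnto _ W' hc := ⟨_, rfl⟩
  have hP1 : P 1 = ⟨1, Submodule.mem_span_singleton_self 1⟩ := by
    rw [hP]
    exact Submodule.projectionOnto_apply_left hc ⟨1, Submodule.mem_span_singleton_self 1⟩
  have hP0 : ∀ w ∈ W', P w = 0 := by
    intro w hw
    rw [hP]
    exact Submodule.projectionOnto_apply_right hc ⟨w, hw⟩
  have hPW : ∀ h : H, h - (P h : H) ∈ W' := by
    intro h
    have := Submodule.ker_projectionOnto hc
    have h2 : P (h - (P h : H)) = 0 := by
      rw [map_sub, hP, Submodule.projectionOnto_apply_left hc, sub_self]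
    rw [hP] at h2
    have h3 : h - (P h : H) ∈ LinearMap.ker (Submodule.projectionOnto _ W' hc) := by
      rw [hP]; exact h2
    rwa [this] at h3
  refine ⟨(Coalgebra.counit (R := k) (A := H)) ∘ₗ (Submodule.span k {(1 : H)}).subtype ∘ₗ P, ?_, ?_⟩
  · simp [hP1]
  · intro h
    obtain ⟨lam, hlam⟩ : ∃ lam : H →ₗ[k] k, lam =
      (Coalgebra.counit (R := k) (A := H)) ∘ₗ (Submodule.span k {(1 : H)}).subtype ∘ₗ P := ⟨_, rfl⟩
    rw [← hlam]
    have hl1 : lam 1 = 1 := by rw [hlam]; simp [hP1]
    have hl0 : ∀ w ∈ W', lam w = 0 := by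
      intro w hw; rw [hlam]; simp [hP0 w hw]
    obtain ⟨c, hc'⟩ := Submodule.mem_span_singleton.mp (P h).2
    have hc2 : lam h = c := by
      rw [hlam]
      simp only [LinearMap.coe_comp, Function.comp_apply, Submodule.subtype_apply]
      rw [← hc']; simp
    have hdec : h = c • (1 : H) + (h - (P h : H)) := by rw [hc']; abel
    have hW'h := hW' _ (hPW h)
    obtain ⟨t, ht⟩ := hW'h
    have hz : (lam.rTensor H) (Coalgebra.comul (R := k) (h - (P h : H))) = 0 := by
      have : Coalgebra.comul (R := k) (h - (P h : H)) = (W'.subtype.rTensor H) t := ht.symm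
      rw [this, ← LinearMap.comp_apply, ← LinearMap.rTensor_comp]
      have h0 : lam ∘ₗ W'.subtype = 0 := by
        ext w; exact hl0 w.1 w.2
      rw [h0, LinearMap.rTensor_zero, LinearMap.zero_apply]
    conv_lhs => rw [hdec]
    rw [map_add, map_add, hz, add_zero, map_smul, Bialgebra.comul_one, map_smul, map_smul,
      Algebra.TensorProduct.one_def, LinearMap.rTensor_tmul, hl1, TensorProduct.lid_tmul, one_smul,
      hc2]

theorem exists_right_integral (k : Type u) [Field k] (H : Type u) [CommRing H] [HopfAlgebra k H]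
    [Module.Finite k H] (hG : HopfRep.IsLinearlyReductive k H) :
    ∃ lam : H →ₗ[k] k, lam 1 = 1 ∧ ∀ h : H,
      (TensorProduct.rid k H) ((lam.lTensor H) (Coalgebra.comul (R := k) h)) = lam h • (1 : H) := by
  obtain ⟨lam, h1, h2⟩ := exists_left_integral k H hG
  refine ⟨lam ∘ₗ HopfAlgebra.antipode k, ?_, ?_⟩
  · simp [h1]
  · intro h
    exact right_integral_of_left k H lam h2 h

end Groth.Agent.Lib.Helper77.InvHopf
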