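import Mathlib
import Groth.Agent.Lib.Helper77.InvHopf2

/-!
# The Reynolds operator of a comodule algebra over a Hopf algebra with a normalized right integral
-/

set_option autoImplicit false
universe u
open TensorProduct

namespace Groth.Agent.Lib.Helper77.InvHopf

variable (k : Type u) [CommRing k] (H : Type u) [CommRing H] [HopfAlgebra k H]
  (R : Type u) [CommRing R] [Algebra k R] [HopfRep.Comod k H R]

/-- the coaction as an algebra hom -/
noncomputable def rho
    (hmul : ∀ x y : R, HopfRep.Comod.coact (k := k) (A := H) (x * y) =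
        HopfRep.Comod.coact (k := k) (A := H) x * HopfRep.Comod.coact (k := k) (A := H) y)
    (hone : HopfRep.Comod.coact (k := k) (A := H) (1 : R) = 1) : R →ₐ[k] R ⊗[k] H :=
  AlgHom.ofLinearMap (HopfRep.Comod.coact (k := k) (A := H)) hone hmul

/-- the Reynolds operator attached to a functional on `H` -/
noncomputable def rey (lam : H →ₗ[k] k) : R →ₗ[k] R :=
  (TensorProduct.rid k R).toLinearMap ∘ₗ (lam.lTensor R) ∘ₗ HopfRep.Comod.coact (k := k) (A := H)

variable {k H R}

theorem coact_rid_lTensor (lam : H →ₗ[k] k) (w : R ⊗[k] H) :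
    HopfRep.Comod.coact (k := k) (A := H) ((TensorProduct.rid k R) ((lam.lTensor R) w)) =
      (TensorProduct.rid k (R ⊗[k] H)) ((lam.lTensor (R ⊗[k] H))
        (((HopfRep.Comod.coact (k := k) (A := H) (V := R)).rTensor H) w)) := by
  induction w with
  | zero => simp
  | tmul a b => simp
  | add x y hx hy => simp only [map_add, hx, hy]

theorem coact_rTensor_coact (x : R) :
    ((HopfRep.Comod.coact (k := k) (A := H) (V := R)).rTensor H)
      (HopfRep.Comod.coact (k := k) (A := H) x) =
    (TensorProduct.assoc k R H H).symm (((Coalgebra.comul (R := k) (A := H)).lTensor R)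
      (HopfRep.Comod.coact (k := k) (A := H) x)) := by
  have h := LinearMap.congr_fun (HopfRep.Comod.coassoc (k := k) (A := H) (V := R)) x
  simp only [LinearMap.coe_comp, Function.comp_apply, LinearEquiv.coe_coe] at h
  rw [← h, LinearEquiv.symm_apply_apply]

theorem rid_lTensor_assoc_symm (lam : H →ₗ[k] k) (a : R) (t : H ⊗[k] H) :
    (TensorProduct.rid k (R ⊗[k] H)) ((lam.lTensor (R ⊗[k] H))
      ((TensorProduct.assoc k R H H).symm (a ⊗ₜ[k] t))) =
    a ⊗ₜ[k] (TensorProduct.rid k H) ((lam.lTensor H) t) := by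
  induction t with
  | zero => simp
  | tmul b c => simp [TensorProduct.tmul_smul, TensorProduct.smul_tmul']
  | add x y hx hy => simp only [map_add, TensorProduct.tmul_add, hx, hy]

theorem rid_lTensor_comul (lam : H →ₗ[k] k)
    (hlam : ∀ h : H, (TensorProduct.rid k H) ((lam.lTensor H) (Coalgebra.comul (R := k) h)) =
      lam h • (1 : H)) (w : R ⊗[k] H) :
    (TensorProduct.rid k (R ⊗[k] H)) ((lam.lTensor (R ⊗[k] H))
      ((TensorProduct.assoc k R H H).symm (((Coalgebra.comul (R := k) (A := H)).lTensor R) w))) =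
    ((TensorProduct.rid k R) ((lam.lTensor R) w)) ⊗ₜ[k] (1 : H) := by
  induction w with
  | zero => simp
  | tmul a b =>
    rw [LinearMap.lTensor_tmul, rid_lTensor_assoc_symm, hlam, LinearMap.lTensor_tmul,
      TensorProduct.rid_tmul, TensorProduct.tmul_smul, TensorProduct.smul_tmul']
  | add x y hx hy => simp only [map_add, TensorProduct.add_tmul, hx, hy]

theorem coact_rey (lam : H →ₗ[k] k)
    (hlam : ∀ h : H, (TensorProduct.rid k H) ((lam.lTensor H) (Coalgebra.comul (R := k) h)) =
      lam h • (1 : H)) (x : R) :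
    HopfRep.Comod.coact (k := k) (A := H) (rey k H R lam x) = (rey k H R lam x) ⊗ₜ[k] (1 : H) := by
  show HopfRep.Comod.coact (k := k) (A := H) ((TensorProduct.rid k R) ((lam.lTensor R)
    (HopfRep.Comod.coact (k := k) (A := H) x))) = _
  rw [coact_rid_lTensor, coact_rTensor_coact, rid_lTensor_comul lam hlam]
  rfl

theorem rey_of_invariant (lam : H →ₗ[k] k) (h1 : lam 1 = 1) (a : R)
    (ha : HopfRep.Comod.coact (k := k) (A := H) a = a ⊗ₜ[k] (1 : H)) :
    rey k H R lam a = a := by
  show (TensorProduct.rid k R) ((lam.lTensor R) (HopfRep.Comod.coact (k := k) (A := H) a)) = a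
  rw [ha, LinearMap.lTensor_tmul, h1, TensorProduct.rid_tmul, one_smul]

theorem rid_lTensor_mul (lam : H →ₗ[k] k) (a : R) (w : R ⊗[k] H) :
    (TensorProduct.rid k R) ((lam.lTensor R) ((a ⊗ₜ[k] (1 : H)) * w)) =
      a * (TensorProduct.rid k R) ((lam.lTensor R) w) := by
  induction w with
  | zero => simp
  | tmul b c => simp [Algebra.TensorProduct.tmul_mul_tmul]
  | add x y hx hy => simp only [map_add, mul_add, hx, hy]

theorem rey_mul_of_invariant
    (hmul : ∀ x y : R, HopfRep.Comod.coact (k := k) (A := H) (x * y) =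
        HopfRep.Comod.coact (k := k) (A := H) x * HopfRep.Comod.coact (k := k) (A := H) y)
    (lam : H →ₗ[k] k) (a : R)
    (ha : HopfRep.Comod.coact (k := k) (A := H) a = a ⊗ₜ[k] (1 : H)) (x : R) :
    rey k H R lam (a * x) = a * rey k H R lam x := by
  show (TensorProduct.rid k R) ((lam.lTensor R) (HopfRep.Comod.coact (k := k) (A := H) (a * x))) = _
  rw [hmul, ha, rid_lTensor_mul]
  rfl

end Groth.Agent.Lib.Helper77.InvHopf
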