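import Mathlib
import Groth.Agent.Lib.Helper77.InvHopf3

/-!
# The shear automorphism of `R ⊗ H` for a comodule algebra `R`
-/

set_option autoImplicit false
universe u
open TensorProduct

namespace Groth.Agent.Lib.Helper77.InvHopf

variable {k : Type u} [CommRing k] {H : Type u} [CommRing H] [HopfAlgebra k H]
  {R : Type u} [CommRing R] [Algebra k R] [HopfRep.Comod k H R]
  (hmul : ∀ x y : R, HopfRep.Comod.coact (k := k) (A := H) (x * y) =
        HopfRep.Comod.coact (k := k) (A := H) x * HopfRep.Comod.coact (k := k) (A := H) y)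
  (hone : HopfRep.Comod.coact (k := k) (A := H) (1 : R) = 1)

theorem rho_apply (x : R) : rho k H R hmul hone x = HopfRep.Comod.coact (k := k) (A := H) x := rfl

/-- the shear map `r ⊗ h ↦ ρ(r) (1 ⊗ h)` -/
noncomputable def shear : R ⊗[k] H →ₐ[k] R ⊗[k] H :=
  Algebra.TensorProduct.lift (rho k H R hmul hone) Algebra.TensorProduct.includeRight
    (fun _ _ => Commute.all _ _)

/-- the twisted coaction `(id ⊗ S) ∘ ρ` -/
noncomputable def rhoS : R →ₐ[k] R ⊗[k] H :=
  (Algebra.TensorProduct.map (AlgHom.id k R) (HopfAlgebra.antipodeAlgHom k H)).comp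
    (rho k H R hmul hone)

/-- the inverse shear map -/
noncomputable def shearInv : R ⊗[k] H →ₐ[k] R ⊗[k] H :=
  Algebra.TensorProduct.lift (rhoS hmul hone) Algebra.TensorProduct.includeRight
    (fun _ _ => Commute.all _ _)

theorem shear_tmul (a : R) (b : H) :
    shear hmul hone (a ⊗ₜ[k] b) = HopfRep.Comod.coact (k := k) (A := H) a * (1 ⊗ₜ[k] b) := by
  simp [shear, rho_apply]

theorem shearInv_tmul (a : R) (b : H) :
    shearInv hmul hone (a ⊗ₜ[k] b) =
      Algebra.TensorProduct.map (AlgHom.id k R) (HopfAlgebra.antipodeAlgHom k H)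
        (HopfRep.Comod.coact (k := k) (A := H) a) * (1 ⊗ₜ[k] b) := by
  simp [shearInv, rhoS, rho_apply]

/-- `w ↦ w (1 ⊗ S b)` through the associator -/
theorem mul_one_tmul_antipode (w : R ⊗[k] H) (b : H) :
    w * (1 ⊗ₜ[k] HopfAlgebra.antipode k b) =
      (LinearMap.lTensor R (LinearMap.mul' k H ∘ₗ (HopfAlgebra.antipode k).lTensor H))
        ((TensorProduct.assoc k R H H) (w ⊗ₜ[k] b)) := by
  induction w with
  | zero => simp
  | tmul a c => simp [Algebra.TensorProduct.tmul_mul_tmul]
  | add x y hx hy => simp only [add_mul, TensorProduct.add_tmul, map_add, hx, hy]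

theorem shear_map_antipode (w : R ⊗[k] H) :
    shear hmul hone (Algebra.TensorProduct.map (AlgHom.id k R) (HopfAlgebra.antipodeAlgHom k H) w) =
      (LinearMap.lTensor R (LinearMap.mul' k H ∘ₗ (HopfAlgebra.antipode k).lTensor H))
        ((TensorProduct.assoc k R H H)
          (((HopfRep.Comod.coact (k := k) (A := H) (V := R)).rTensor H) w)) := by
  induction w with
  | zero => simp
  | tmul a b =>
    rw [Algebra.TensorProduct.map_tmul, shear_tmul, LinearMap.rTensor_tmul]
    exact mul_one_tmul_antipode _ b
  | add x y hx hy => simp only [map_add, hx, hy]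

theorem coassoc_apply (x : R) :
    (TensorProduct.assoc k R H H)
      (((HopfRep.Comod.coact (k := k) (A := H) (V := R)).rTensor H)
        (HopfRep.Comod.coact (k := k) (A := H) x)) =
    ((Coalgebra.comul (R := k) (A := H)).lTensor R) (HopfRep.Comod.coact (k := k) (A := H) x) := by
  have h := LinearMap.congr_fun (HopfRep.Comod.coassoc (k := k) (A := H) (V := R)) x
  simpa only [LinearMap.coe_comp, Function.comp_apply, LinearEquiv.coe_coe] using h

theorem counit_apply (x : R) :
    ((Coalgebra.counit (R := k) (A := H)).lTensor R) (HopfRep.Comod.coact (k := k) (A := H) x) =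
      x ⊗ₜ[k] (1 : k) := by
  have h := LinearMap.congr_fun (HopfRep.Comod.counit_comp (k := k) (A := H) (V := R)) x
  simpa using h

theorem shear_rhoS (x : R) : shear hmul hone (rhoS hmul hone x) = x ⊗ₜ[k] (1 : H) := by
  show shear hmul hone (Algebra.TensorProduct.map (AlgHom.id k R) (HopfAlgebra.antipodeAlgHom k H)
    (HopfRep.Comod.coact (k := k) (A := H) x)) = _
  rw [shear_map_antipode, coassoc_apply, ← LinearMap.comp_apply, ← LinearMap.lTensor_comp,
    LinearMap.comp_assoc, HopfAlgebra.mul_antipode_lTensor_comul, LinearMap.lTensor_comp,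
    LinearMap.comp_apply, counit_apply]
  simp [Algebra.TensorProduct.one_def]


omit [HopfRep.Comod k H R] in
theorem map_antipode_mul_one_tmul (w : R ⊗[k] H) (b : H) :
    Algebra.TensorProduct.map (AlgHom.id k R) (HopfAlgebra.antipodeAlgHom k H) w * (1 ⊗ₜ[k] b) =
      (LinearMap.lTensor R (LinearMap.mul' k H ∘ₗ (HopfAlgebra.antipode k).rTensor H))
        ((TensorProduct.assoc k R H H) (w ⊗ₜ[k] b)) := by
  induction w with
  | zero => simp
  | tmul a c => simp [Algebra.TensorProduct.tmul_mul_tmul]
  | add x y hx hy => simp only [add_mul, TensorProduct.add_tmul, map_add, hx, hy]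

theorem shearInv_eq (w : R ⊗[k] H) :
    shearInv hmul hone w =
      (LinearMap.lTensor R (LinearMap.mul' k H ∘ₗ (HopfAlgebra.antipode k).rTensor H))
        ((TensorProduct.assoc k R H H)
          (((HopfRep.Comod.coact (k := k) (A := H) (V := R)).rTensor H) w)) := by
  induction w with
  | zero => simp
  | tmul a b =>
    rw [shearInv_tmul, LinearMap.rTensor_tmul]
    exact map_antipode_mul_one_tmul _ b
  | add x y hx hy => simp only [map_add, hx, hy]

theorem shearInv_rho (x : R) : shearInv hmul hone (rho k H R hmul hone x) = x ⊗ₜ[k] (1 : H) := by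
  rw [rho_apply, shearInv_eq, coassoc_apply, ← LinearMap.comp_apply, ← LinearMap.lTensor_comp,
    LinearMap.comp_assoc, HopfAlgebra.mul_antipode_rTensor_comul, LinearMap.lTensor_comp,
    LinearMap.comp_apply, counit_apply]
  simp

theorem shear_comp_shearInv :
    (shear hmul hone).comp (shearInv hmul hone) = AlgHom.id k (R ⊗[k] H) := by
  apply Algebra.TensorProduct.ext
  · ext x
    simp only [AlgHom.coe_comp, Function.comp_apply, Algebra.TensorProduct.includeLeft_apply,
      AlgHom.coe_id, id_eq]
    have : shearInv hmul hone (x ⊗ₜ[k] (1 : H)) = rhoS hmul hone x := by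
      simp [shearInv, ← Algebra.TensorProduct.one_def]
    rw [this, shear_rhoS]
  · ext h
    simp [shear, shearInv]

theorem shearInv_comp_shear :
    (shearInv hmul hone).comp (shear hmul hone) = AlgHom.id k (R ⊗[k] H) := by
  apply Algebra.TensorProduct.ext
  · ext x
    simp only [AlgHom.coe_comp, Function.comp_apply, Algebra.TensorProduct.includeLeft_apply,
      AlgHom.coe_id, id_eq]
    have : shear hmul hone (x ⊗ₜ[k] (1 : H)) = rho k H R hmul hone x := by
      simp [shear, ← Algebra.TensorProduct.one_def]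
    rw [this, shearInv_rho]
  · ext h
    simp [shear, shearInv]

/-- the shear automorphism -/
noncomputable def shearEquiv : (R ⊗[k] H) ≃ₐ[k] (R ⊗[k] H) :=
  AlgEquiv.ofAlgHom (shear hmul hone) (shearInv hmul hone) (shear_comp_shearInv hmul hone)
    (shearInv_comp_shear hmul hone)

theorem shearEquiv_includeLeft (x : R) :
    shearEquiv hmul hone (x ⊗ₜ[k] (1 : H)) = HopfRep.Comod.coact (k := k) (A := H) x := by
  show shear hmul hone (x ⊗ₜ[k] (1 : H)) = _
  simp [shear, rho_apply, ← Algebra.TensorProduct.one_def]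


end Groth.Agent.Lib.Helper77.InvHopf
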