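import Mathlib
import Groth.Agent.Lib.Helper77.InvHopf4

/-!
# Characteristic polynomial of multiplication on `R' ⊗ H`, naturality and translation invariance
-/

set_option autoImplicit false
universe u
open TensorProduct

namespace Groth.Agent.Lib.Helper77.InvHopf

section Transl

variable {k : Type u} [CommRing k] {H : Type u} [CommRing H] [HopfAlgebra k H]
  {R' : Type u} [CommRing R'] [Algebra k R']

/-- translation by an `R'`-point `j` of the group: `r' ⊗ h ↦ (r' ⊗ 1) (j ⊗ id)(Δ h)` -/
noncomputable def transl (j : H →ₐ[k] R') : R' ⊗[k] H →ₐ[R'] R' ⊗[k] H :=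
  Algebra.TensorProduct.lift (Algebra.TensorProduct.includeLeft)
    ((Algebra.TensorProduct.map j (AlgHom.id k H)).comp (Bialgebra.comulAlgHom k H))
    (fun _ _ => Commute.all _ _)

theorem transl_tmul (j : H →ₐ[k] R') (a : R') (b : H) :
    transl j (a ⊗ₜ[k] b) = (a ⊗ₜ[k] (1 : H)) *
      Algebra.TensorProduct.map j (AlgHom.id k H) (Coalgebra.comul (R := k) b) := by
  simp [transl]

theorem tmul_one_mul_map (j₁ j₂ : H →ₐ[k] R') (a : H) (s : H ⊗[k] H) :
    (j₁ a ⊗ₜ[k] (1 : H)) * Algebra.TensorProduct.map j₂ (AlgHom.id k H) s =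
      ((LinearMap.mul' k R' ∘ₗ TensorProduct.map j₁.toLinearMap j₂.toLinearMap).rTensor H)
        ((TensorProduct.assoc k H H H).symm (a ⊗ₜ[k] s)) := by
  induction s with
  | zero => simp
  | tmul c d => simp [Algebra.TensorProduct.tmul_mul_tmul]
  | add x y hx hy => simp only [map_add, mul_add, TensorProduct.tmul_add, hx, hy]

theorem transl_map (j₁ j₂ : H →ₐ[k] R') (t : H ⊗[k] H) :
    transl j₂ (Algebra.TensorProduct.map j₁ (AlgHom.id k H) t) =
      ((LinearMap.mul' k R' ∘ₗ TensorProduct.map j₁.toLinearMap j₂.toLinearMap).rTensor H)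
        ((TensorProduct.assoc k H H H).symm
          (((Coalgebra.comul (R := k) (A := H)).lTensor H) t)) := by
  induction t with
  | zero => simp
  | tmul a b =>
    rw [Algebra.TensorProduct.map_tmul, transl_tmul, LinearMap.lTensor_tmul]
    exact tmul_one_mul_map j₁ j₂ a _
  | add x y hx hy => simp only [map_add, hx, hy]

theorem transl_comp_transl (j₁ j₂ : H →ₐ[k] R')
    (h12 : LinearMap.mul' k R' ∘ₗ TensorProduct.map j₁.toLinearMap j₂.toLinearMap ∘ₗ
      Coalgebra.comul (R := k) (A := H) = Algebra.linearMap k R' ∘ₗ Coalgebra.counit) :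
    (transl j₂).comp (transl j₁) = AlgHom.id R' (R' ⊗[k] H) := by
  apply Algebra.TensorProduct.ext
  · ext x
  · ext h
    simp only [AlgHom.coe_comp, AlgHom.coe_restrictScalars', Function.comp_apply,
      Algebra.TensorProduct.includeRight_apply, AlgHom.coe_id, id_eq]
    have e1 : transl j₁ ((1 : R') ⊗ₜ[k] h) =
        Algebra.TensorProduct.map j₁ (AlgHom.id k H) (Coalgebra.comul (R := k) h) := by
      rw [transl_tmul, ← Algebra.TensorProduct.one_def, one_mul]
    rw [e1, transl_map, Coalgebra.coassoc_symm_apply, ← LinearMap.comp_apply,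
      ← LinearMap.rTensor_comp, LinearMap.comp_assoc, h12, LinearMap.rTensor_comp,
      LinearMap.comp_apply, Coalgebra.rTensor_counit_comul]
    simp


theorem conv_antipode_left (j : H →ₐ[k] R') :
    LinearMap.mul' k R' ∘ₗ TensorProduct.map (j.comp (HopfAlgebra.antipodeAlgHom k H)).toLinearMap
      j.toLinearMap ∘ₗ Coalgebra.comul (R := k) (A := H) =
      Algebra.linearMap k R' ∘ₗ Coalgebra.counit := by
  have h1 : LinearMap.mul' k R' ∘ₗ
      TensorProduct.map (j.comp (HopfAlgebra.antipodeAlgHom k H)).toLinearMap j.toLinearMap =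
      j.toLinearMap ∘ₗ LinearMap.mul' k H ∘ₗ (HopfAlgebra.antipode k).rTensor H := by
    apply TensorProduct.ext'
    intro a b
    simp
  rw [← LinearMap.comp_assoc, h1, LinearMap.comp_assoc, LinearMap.comp_assoc,
    HopfAlgebra.mul_antipode_rTensor_comul]
  ext x
  simp

theorem conv_antipode_right (j : H →ₐ[k] R') :
    LinearMap.mul' k R' ∘ₗ TensorProduct.map j.toLinearMap
      (j.comp (HopfAlgebra.antipodeAlgHom k H)).toLinearMap ∘ₗ Coalgebra.comul (R := k) (A := H) =
      Algebra.linearMap k R' ∘ₗ Coalgebra.counit := by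
  have h1 : LinearMap.mul' k R' ∘ₗ
      TensorProduct.map j.toLinearMap (j.comp (HopfAlgebra.antipodeAlgHom k H)).toLinearMap =
      j.toLinearMap ∘ₗ LinearMap.mul' k H ∘ₗ (HopfAlgebra.antipode k).lTensor H := by
    apply TensorProduct.ext'
    intro a b
    simp
  rw [← LinearMap.comp_assoc, h1, LinearMap.comp_assoc, LinearMap.comp_assoc,
    HopfAlgebra.mul_antipode_lTensor_comul]
  ext x
  simp

/-- translation is an automorphism -/
noncomputable def translEquiv (j : H →ₐ[k] R') : (R' ⊗[k] H) ≃ₐ[R'] (R' ⊗[k] H) :=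
  AlgEquiv.ofAlgHom (transl j) (transl (j.comp (HopfAlgebra.antipodeAlgHom k H)))
    (transl_comp_transl _ _ (conv_antipode_left j))
    (transl_comp_transl _ _ (conv_antipode_right j))

theorem translEquiv_apply (j : H →ₐ[k] R') (w : R' ⊗[k] H) : translEquiv j w = transl j w := rfl

end Transl

end Groth.Agent.Lib.Helper77.InvHopf
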