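import Mathlib
import Groth.Agent.Lib.Helper77.InvHopf5

/-!
# Characteristic polynomial of multiplication on `R' ⊗ H`; integrality over the invariants
-/

set_option autoImplicit false
universe u
open TensorProduct Polynomial

namespace Groth.Agent.Lib.Helper77.InvHopf
section CharPoly
variable (k : Type u) [CommRing k] (H : Type u) [CommRing H] [Algebra k H]
  [Module.Free k H] [Module.Finite k H]

/-- characteristic polynomial of multiplication by `y` on the free `R'`-module `R' ⊗ H` -/
noncomputable def cp (R' : Type u) [CommRing R'] [Algebra k R'] (y : R' ⊗[k] H) : R'[X] :=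
  (Algebra.lmul R' (R' ⊗[k] H) y).charpoly

variable {k H}
variable {R : Type u} [CommRing R] [Algebra k R] {R' : Type u} [CommRing R'] [Algebra k R']

omit [Module.Finite k H] in
theorem repr_map (φ : R →ₐ[k] R') (w : R ⊗[k] H) (i : Module.Free.ChooseBasisIndex k H) :
    (Algebra.TensorProduct.basis R' (Module.Free.chooseBasis k H)).repr
      (Algebra.TensorProduct.map φ (AlgHom.id k H) w) i =
    φ ((Algebra.TensorProduct.basis R (Module.Free.chooseBasis k H)).repr w i) := by
  induction w with
  | zero => simp
  | tmul a c => simp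
  | add x y hx hy => simp only [map_add, Finsupp.add_apply, hx, hy]

theorem cp_map (φ : R →ₐ[k] R') (y : R ⊗[k] H) :
    (cp k H R y).map φ.toRingHom = cp k H R' (Algebra.TensorProduct.map φ (AlgHom.id k H) y) := by
  classical
  unfold cp
  rw [← LinearMap.charpoly_toMatrix _ (Algebra.TensorProduct.basis R (Module.Free.chooseBasis k H)),
    ← LinearMap.charpoly_toMatrix _ (Algebra.TensorProduct.basis R' (Module.Free.chooseBasis k H)),
    ← Algebra.leftMulMatrix_apply, ← Algebra.leftMulMatrix_apply, ← Matrix.charpoly_map]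
  congr 1
  ext i j
  rw [Matrix.map_apply, Algebra.leftMulMatrix_eq_repr_mul, Algebra.leftMulMatrix_eq_repr_mul]
  have h1 : (Algebra.TensorProduct.basis R' (Module.Free.chooseBasis k H)) j =
      Algebra.TensorProduct.map φ (AlgHom.id k H)
        ((Algebra.TensorProduct.basis R (Module.Free.chooseBasis k H)) j) := by
    simp [Algebra.TensorProduct.basis_apply]
  rw [h1, ← map_mul, repr_map]
  rfl

theorem cp_equiv (e : (R' ⊗[k] H) ≃ₐ[R'] (R' ⊗[k] H)) (z : R' ⊗[k] H) :
    cp k H R' (e z) = cp k H R' z := by
  unfold cp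
  have h : Algebra.lmul R' (R' ⊗[k] H) (e z) =
      e.toLinearEquiv.conj (Algebra.lmul R' (R' ⊗[k] H) z) := by
    ext w
    simp [LinearEquiv.conj_apply]
  rw [h, LinearEquiv.charpoly_conj]

theorem aeval_cp (y : R' ⊗[k] H) : Polynomial.aeval y (cp k H R' y) = 0 := by
  unfold cp
  have h := LinearMap.aeval_self_charpoly (Algebra.lmul R' (R' ⊗[k] H) y)
  rw [Polynomial.aeval_algHom_apply] at h
  have h2 := LinearMap.congr_fun h 1
  simpa using h2

theorem cp_monic (y : R' ⊗[k] H) : (cp k H R' y).Monic := LinearMap.charpoly_monic _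

end CharPoly
section Integral
variable {k : Type u} [Field k] {H : Type u} [CommRing H] [HopfAlgebra k H] [Module.Finite k H]
  {R : Type u} [CommRing R] [Algebra k R] [HopfRep.Comod k H R]
  (hmul : ∀ x y : R, HopfRep.Comod.coact (k := k) (A := H) (x * y) =
        HopfRep.Comod.coact (k := k) (A := H) x * HopfRep.Comod.coact (k := k) (A := H) y)
  (hone : HopfRep.Comod.coact (k := k) (A := H) (1 : R) = 1)

omit [Module.Finite k H] [HopfRep.Comod k H R] in
theorem tmul_one_one_mul_map (a : R) (s : H ⊗[k] H) :
    ((a ⊗ₜ[k] (1 : H)) ⊗ₜ[k] (1 : H)) *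
      Algebra.TensorProduct.map (Algebra.TensorProduct.includeRight : H →ₐ[k] R ⊗[k] H)
        (AlgHom.id k H) s =
    (TensorProduct.assoc k R H H).symm (a ⊗ₜ[k] s) := by
  induction s with
  | zero => simp
  | tmul c d => simp [Algebra.TensorProduct.tmul_mul_tmul]
  | add x y hx hy => simp only [map_add, mul_add, TensorProduct.tmul_add, hx, hy]

omit [Module.Finite k H] [HopfRep.Comod k H R] in
theorem transl_includeRight_map (w : R ⊗[k] H) :
    transl (Algebra.TensorProduct.includeRight : H →ₐ[k] R ⊗[k] H)
      (Algebra.TensorProduct.map (Algebra.TensorProduct.includeLeft : R →ₐ[k] R ⊗[k] H)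
        (AlgHom.id k H) w) =
    (TensorProduct.assoc k R H H).symm (((Coalgebra.comul (R := k) (A := H)).lTensor R) w) := by
  induction w with
  | zero => simp
  | tmul a b =>
    rw [Algebra.TensorProduct.map_tmul, transl_tmul, LinearMap.lTensor_tmul]
    exact tmul_one_one_mul_map a _
  | add x y hx hy => simp only [map_add, hx, hy]

omit [Module.Finite k H] in
theorem map_rho_eq (w : R ⊗[k] H) :
    Algebra.TensorProduct.map (rho k H R hmul hone) (AlgHom.id k H) w =
      ((HopfRep.Comod.coact (k := k) (A := H) (V := R)).rTensor H) w := by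
  induction w with
  | zero => simp
  | tmul a b => simp [rho_apply]
  | add x y hx hy => simp only [map_add, hx, hy]

theorem cp_map_rho_eq (x : R) :
    (cp k H R (HopfRep.Comod.coact (k := k) (A := H) x)).map (rho k H R hmul hone).toRingHom =
    (cp k H R (HopfRep.Comod.coact (k := k) (A := H) x)).map
      (Algebra.TensorProduct.includeLeft : R →ₐ[k] R ⊗[k] H).toRingHom := by
  rw [cp_map, cp_map, map_rho_eq, coact_rTensor_coact, ← transl_includeRight_map,
    ← translEquiv_apply, cp_equiv]

/-- the counit as an `R`-algebra map `R ⊗ H → R` -/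
noncomputable def counitR : R ⊗[k] H →ₐ[R] R :=
  Algebra.TensorProduct.lift (AlgHom.id R R)
    ((Algebra.ofId k R).comp (Bialgebra.counitAlgHom k H)) (fun _ _ => Commute.all _ _)

omit [Module.Finite k H] [HopfRep.Comod k H R] in
theorem counitR_eq (w : R ⊗[k] H) :
    counitR (k := k) (H := H) (R := R) w =
      (TensorProduct.rid k R) (((Coalgebra.counit (R := k) (A := H)).lTensor R) w) := by
  induction w with
  | zero => simp
  | tmul a b => simp [counitR, Algebra.smul_def, mul_comm]
  | add x y hx hy => simp only [map_add, hx, hy]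

omit [Module.Finite k H] in
theorem counitR_coact (x : R) :
    counitR (k := k) (H := H) (R := R) (HopfRep.Comod.coact (k := k) (A := H) x) = x := by
  rw [counitR_eq, counit_apply]
  simp

theorem aeval_self_cp (x : R) :
    Polynomial.aeval x (cp k H R (HopfRep.Comod.coact (k := k) (A := H) x)) = 0 := by
  have h := aeval_cp (k := k) (H := H) (R' := R) (HopfRep.Comod.coact (k := k) (A := H) x)
  have h2 := congrArg (counitR (k := k) (H := H) (R := R)) h
  rw [← Polynomial.aeval_algHom_apply, counitR_coact, map_zero] at h2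
  exact h2

include hmul hone in
theorem isIntegral_of_invariants (A : Subalgebra k R)
    (hA : ∀ a : R, a ∈ A ↔ HopfRep.Comod.coact (k := k) (A := H) a = a ⊗ₜ[k] (1 : H)) (x : R) :
    IsIntegral A x := by
  rcases subsingleton_or_nontrivial R with hs | hn
  · rw [Subsingleton.elim x 0]; exact isIntegral_zero
  obtain ⟨χ, hχ⟩ : ∃ χ : R[X], χ = cp k H R (HopfRep.Comod.coact (k := k) (A := H) x) := ⟨_, rfl⟩
  have hmon : χ.Monic := by rw [hχ]; exact cp_monic _
  have hroot : Polynomial.aeval x χ = 0 := by rw [hχ]; exact aeval_self_cp x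
  have hcoef : ∀ n, χ.coeff n ∈ A := by
    intro n
    rw [hA]
    have h1 := cp_map_rho_eq hmul hone x
    rw [← hχ] at h1
    have h2 := congrArg (fun p => Polynomial.coeff p n) h1
    simp only [Polynomial.coeff_map] at h2
    exact h2
  have hl : χ ∈ Polynomial.lifts (algebraMap A R) := by
    rw [Polynomial.lifts_iff_coeff_lifts]
    intro n
    exact ⟨⟨χ.coeff n, hcoef n⟩, rfl⟩
  obtain ⟨q, hq1, _, hq3⟩ := Polynomial.lifts_and_degree_eq_and_monic hl hmon
  refine ⟨q, hq3, ?_⟩
  rw [Polynomial.eval₂_eq_eval_map, hq1]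
  rw [Polynomial.aeval_def, Polynomial.eval₂_eq_eval_map] at hroot
  simpa using hroot

end Integral

end Groth.Agent.Lib.Helper77.InvHopf
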