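import Mathlib
import Groth.Agent.Lib.Helper77.InvHopf6

/-!
# Heights of primes in the fibres of `Spec R → Spec R^G`
-/

set_option autoImplicit false
universe u
open TensorProduct

namespace Groth.Agent.Lib.Helper77.InvHopf

theorem height_eq_of_flat_integral {R S : Type u} [CommRing R] [CommRing S] [Algebra R S]
    [Module.Flat R S] [Algebra.IsIntegral R S] [IsNoetherianRing R] [IsNoetherianRing S]
    (P : Ideal S) [P.IsPrime] :
    P.height = (P.under R).height := by
  have hmin := Ideal.IsIntegral.mem_minimalPrimes_map_under (R := R) P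
  obtain ⟨p, hp⟩ : ∃ p : Ideal R, p = P.under R := ⟨_, rfl⟩
  rw [← hp] at hmin ⊢
  haveI : p.IsPrime := by rw [hp]; infer_instance
  haveI : P.LiesOver p := ⟨hp⟩
  rw [Ideal.height_eq_height_add_of_liesOver_of_hasGoingDown p P]
  rw [Ideal.minimalPrimes_eq_comap] at hmin
  obtain ⟨P', hP', hPP'⟩ := hmin
  have h1 : P.map (Ideal.Quotient.mk (p.map (algebraMap R S))) = P' := by
    rw [← hPP', Ideal.map_comap_of_surjective _ Ideal.Quotient.mk_surjective]
  rw [h1]
  haveI : P'.IsPrime := hP'.isPrime
  rw [Ideal.height_eq_zero_iff.mpr hP', add_zero]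

/-- lying over for an integral ring hom -/
theorem exists_prime_comap_eq_of_isIntegral {R S : Type u} [CommRing R] [CommRing S]
    (f : R →+* S) (hf : f.IsIntegral) (Q : Ideal R) [Q.IsPrime] (hQ : RingHom.ker f ≤ Q) :
    ∃ z : Ideal S, z.IsPrime ∧ z.comap f = Q := by
  letI : Algebra R S := f.toAlgebra
  haveI : Algebra.IsIntegral R S := ⟨hf⟩
  obtain ⟨z, -, hz, hz2⟩ := Ideal.exists_ideal_over_prime_of_isIntegral Q (⊥ : Ideal S) hQ
  exact ⟨z, hz, hz2⟩

section

variable {k : Type u} [Field k] {H : Type u} [CommRing H] [HopfAlgebra k H] [Module.Finite k H]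
  {R : Type u} [CommRing R] [Algebra k R] [HopfRep.Comod k H R]
  (hmul : ∀ x y : R, HopfRep.Comod.coact (k := k) (A := H) (x * y) =
        HopfRep.Comod.coact (k := k) (A := H) x * HopfRep.Comod.coact (k := k) (A := H) y)
  (hone : HopfRep.Comod.coact (k := k) (A := H) (1 : R) = 1)

theorem height_comap_includeLeft [IsNoetherianRing R] (z : Ideal (R ⊗[k] H)) [z.IsPrime] :
    (z.comap (algebraMap R (R ⊗[k] H))).height = z.height := by
  haveI : IsNoetherianRing (R ⊗[k] H) := IsNoetherianRing.of_finite R _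
  exact (height_eq_of_flat_integral (R := R) z).symm

theorem rho_eq_shear_comp (x : R) :
    rho k H R hmul hone x = shearEquiv hmul hone (algebraMap R (R ⊗[k] H) x) := by
  rw [rho_apply, Algebra.TensorProduct.algebraMap_apply, Algebra.algebraMap_self, RingHom.id_apply,
    shearEquiv_includeLeft]

theorem height_comap_rho [IsNoetherianRing R] (z : Ideal (R ⊗[k] H)) [z.IsPrime] :
    (z.comap (rho k H R hmul hone)).height = z.height := by
  have h1 : z.comap (rho k H R hmul hone) =
      (z.comap (shearEquiv hmul hone).toRingEquiv).comap (algebraMap R (R ⊗[k] H)) := by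
    ext x
    simp only [Ideal.mem_comap]
    rw [rho_eq_shear_comp]
    rfl
  rw [h1]
  haveI : (z.comap (shearEquiv hmul hone).toRingEquiv).IsPrime := Ideal.comap_isPrime _ _
  rw [height_comap_includeLeft, RingEquiv.height_comap]

theorem rho_isIntegral : (rho k H R hmul hone).toRingHom.IsIntegral := by
  have h1 : (rho k H R hmul hone).toRingHom =
      ((shearEquiv hmul hone).toRingEquiv.toRingHom).comp (algebraMap R (R ⊗[k] H)) := by
    ext x
    exact rho_eq_shear_comp hmul hone x
  rw [h1]
  refine RingHom.IsIntegral.trans _ _ ?_ ?_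
  · exact algebraMap_isIntegral_iff.mpr inferInstance
  · exact RingHom.isIntegral_of_surjective _ (shearEquiv hmul hone).surjective


/-- the coaction followed by reduction mod `q` -/
noncomputable def psi (q : Ideal R) : R →ₐ[k] (R ⧸ q) ⊗[k] H :=
  (Algebra.TensorProduct.map (Ideal.Quotient.mkₐ k q) (AlgHom.id k H)).comp (rho k H R hmul hone)

omit [Module.Finite k H] in
theorem psi_apply (q : Ideal R) (x : R) :
    psi hmul hone q x = Algebra.TensorProduct.map (Ideal.Quotient.mkₐ k q) (AlgHom.id k H)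
      (HopfRep.Comod.coact (k := k) (A := H) x) := rfl

omit [Module.Finite k H] [HopfRep.Comod k H R] in
theorem mk_rid_lTensor (q : Ideal R) (lam : H →ₗ[k] k) (w : R ⊗[k] H) :
    Ideal.Quotient.mk q ((TensorProduct.rid k R) ((lam.lTensor R) w)) =
      (TensorProduct.rid k (R ⧸ q)) ((lam.lTensor (R ⧸ q))
        (Algebra.TensorProduct.map (Ideal.Quotient.mkₐ k q) (AlgHom.id k H) w)) := by
  induction w with
  | zero => simp
  | tmul a b => simp [Algebra.smul_def]
  | add x y hx hy => simp only [map_add, hx, hy]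

/-- the kernel of `psi q` is contained in `q` -/
theorem ker_psi_le (q : Ideal R) : RingHom.ker (psi hmul hone q) ≤ q := by
  intro x hx
  rw [RingHom.mem_ker, psi_apply] at hx
  have h1 := mk_rid_lTensor q (Coalgebra.counit (R := k) (A := H))
    (HopfRep.Comod.coact (k := k) (A := H) x)
  rw [hx, counit_apply] at h1
  simp only [map_zero, TensorProduct.rid_tmul, one_smul] at h1
  exact Ideal.Quotient.eq_zero_iff_mem.mp h1

/-- the Reynolds operator preserves the kernel of `psi q` -/
theorem rey_mem_ker_psi (q : Ideal R) (lam : H →ₗ[k] k)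
    (hlam : ∀ h : H, (TensorProduct.rid k H) ((lam.lTensor H) (Coalgebra.comul (R := k) h)) =
      lam h • (1 : H)) (x : R) (hx : x ∈ RingHom.ker (psi hmul hone q)) :
    rey k H R lam x ∈ RingHom.ker (psi hmul hone q) := by
  rw [RingHom.mem_ker, psi_apply] at hx ⊢
  rw [coact_rey lam hlam, Algebra.TensorProduct.map_tmul]
  have h1 := mk_rid_lTensor q lam (HopfRep.Comod.coact (k := k) (A := H) x)
  rw [hx] at h1
  simp only [map_zero] at h1
  have h2 : (Ideal.Quotient.mkₐ k q) (rey k H R lam x) = 0 := h1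
  rw [h2, TensorProduct.zero_tmul]

theorem invariant_mem_ker_psi (q : Ideal R) (a : R)
    (ha : HopfRep.Comod.coact (k := k) (A := H) a = a ⊗ₜ[k] (1 : H)) (haq : a ∈ q) :
    a ∈ RingHom.ker (psi hmul hone q) := by
  rw [RingHom.mem_ker, psi_apply, ha, Algebra.TensorProduct.map_tmul]
  have : (Ideal.Quotient.mkₐ k q) a = 0 := Ideal.Quotient.eq_zero_iff_mem.mpr haq
  rw [this, TensorProduct.zero_tmul]

theorem psi_isIntegral (q : Ideal R) : (psi hmul hone q).toRingHom.IsIntegral := by
  have h1 : (psi hmul hone q).toRingHom =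
      (Algebra.TensorProduct.map (Ideal.Quotient.mkₐ k q) (AlgHom.id k H)).toRingHom.comp
        (rho k H R hmul hone).toRingHom := rfl
  rw [h1]
  refine RingHom.IsIntegral.trans _ _ (rho_isIntegral hmul hone) ?_
  refine RingHom.isIntegral_of_surjective _ ?_
  exact Algebra.TensorProduct.map_surjective _ _ (Ideal.Quotient.mkₐ_surjective k q)
    Function.surjective_id


theorem height_eq_of_ker_psi_le [IsNoetherianRing R] (A : Subalgebra k R)
    (hA : ∀ a : R, a ∈ A ↔ HopfRep.Comod.coact (k := k) (A := H) a = a ⊗ₜ[k] (1 : H))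
    (q Q : Ideal R) [q.IsPrime] [Q.IsPrime]
    (hqQ : RingHom.ker (psi hmul hone q) ≤ Q)
    (h : Q.comap (algebraMap A R) = q.comap (algebraMap A R)) : Q.height = q.height := by
  haveI : Algebra.IsIntegral A R := ⟨isIntegral_of_invariants hmul hone A hA⟩
  obtain ⟨z', hz', hz'Q⟩ := exists_prime_comap_eq_of_isIntegral (psi hmul hone q).toRingHom
    (psi_isIntegral hmul hone q) Q hqQ
  obtain ⟨z, hz⟩ : ∃ z : Ideal (R ⊗[k] H), z = z'.comap
    (Algebra.TensorProduct.map (Ideal.Quotient.mkₐ k q) (AlgHom.id k H)) := ⟨_, rfl⟩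
  haveI : z.IsPrime := by rw [hz]; exact Ideal.comap_isPrime _ _
  have hzQ : z.comap (rho k H R hmul hone) = Q := by
    rw [hz, ← hz'Q]
    rfl
  have hzq : z.comap (algebraMap R (R ⊗[k] H)) = q := by
    have hle : q ≤ z.comap (algebraMap R (R ⊗[k] H)) := by
      intro x hx
      rw [Ideal.mem_comap, hz, Ideal.mem_comap, Algebra.TensorProduct.algebraMap_apply,
        Algebra.algebraMap_self, RingHom.id_apply, Algebra.TensorProduct.map_tmul]
      have : (Ideal.Quotient.mkₐ k q) x = 0 := Ideal.Quotient.eq_zero_iff_mem.mpr hx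
      rw [this, TensorProduct.zero_tmul]
      exact Ideal.zero_mem _
    have hcomap : (z.comap (algebraMap R (R ⊗[k] H))).comap (algebraMap A R) =
        q.comap (algebraMap A R) := by
      rw [← h, ← hzQ]
      ext a
      simp only [Ideal.mem_comap]
      rw [Algebra.TensorProduct.algebraMap_apply, Algebra.algebraMap_self, RingHom.id_apply,
        rho_apply]
      have ha := (hA _).mp a.2
      show ((a : R) ⊗ₜ[k] (1 : H)) ∈ z ↔ HopfRep.Comod.coact (k := k) (A := H) (a : R) ∈ z
      rw [ha]
    by_contra hne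
    have hlt : q < z.comap (algebraMap R (R ⊗[k] H)) := lt_of_le_of_ne hle (Ne.symm hne)
    have := Ideal.IsIntegral.comap_lt_comap (R := A) hlt
    rw [hcomap] at this
    exact lt_irrefl _ this
  rw [← hzQ, height_comap_rho, ← hzq, height_comap_includeLeft]

include hmul hone in
theorem height_eq_of_comap_eq [IsNoetherianRing R] (A : Subalgebra k R)
    (hA : ∀ a : R, a ∈ A ↔ HopfRep.Comod.coact (k := k) (A := H) a = a ⊗ₜ[k] (1 : H))
    (lam : H →ₗ[k] k) (h1 : lam 1 = 1)
    (hlam : ∀ h : H, (TensorProduct.rid k H) ((lam.lTensor H) (Coalgebra.comul (R := k) h)) =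
      lam h • (1 : H))
    (q q' : Ideal R) [q.IsPrime] [q'.IsPrime]
    (h : q.comap (algebraMap A R) = q'.comap (algebraMap A R)) : q.height = q'.height := by
  haveI : Algebra.IsIntegral A R := ⟨isIntegral_of_invariants hmul hone A hA⟩
  have hJ : (RingHom.ker (psi hmul hone q) ⊔ RingHom.ker (psi hmul hone q')).comap
      (algebraMap A R) ≤ q.comap (algebraMap A R) := by
    intro a ha
    rw [Ideal.mem_comap] at ha
    obtain ⟨j, hj, j', hj', hjj⟩ := Submodule.mem_sup.mp ha
    have hEa : rey k H R lam (a : R) = a := rey_of_invariant lam h1 _ ((hA _).mp a.2)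
    have e1 : (algebraMap A R a) = rey k H R lam j + rey k H R lam j' := by
      rw [← map_add, hjj]
      exact hEa.symm
    have hEj : rey k H R lam j ∈ q := ker_psi_le hmul hone q (rey_mem_ker_psi hmul hone q lam hlam j hj)
    have hEj' : rey k H R lam j' ∈ q' :=
      ker_psi_le hmul hone q' (rey_mem_ker_psi hmul hone q' lam hlam j' hj')
    have hEjA : rey k H R lam j ∈ A := (hA _).mpr (coact_rey lam hlam j)
    have hEj'A : rey k H R lam j' ∈ A := (hA _).mpr (coact_rey lam hlam j')
    have m1 : (⟨_, hEjA⟩ : A) ∈ q.comap (algebraMap A R) := hEj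
    have m2 : (⟨_, hEj'A⟩ : A) ∈ q.comap (algebraMap A R) := by rw [h]; exact hEj'
    have e2 : a = ⟨_, hEjA⟩ + ⟨_, hEj'A⟩ := Subtype.ext e1
    rw [e2]
    exact Ideal.add_mem _ m1 m2
  obtain ⟨Q, hQJ, hQprime, hQp⟩ := Ideal.exists_ideal_over_prime_of_isIntegral
    (q.comap (algebraMap A R)) _ hJ
  rw [← height_eq_of_ker_psi_le hmul hone A hA q Q (le_sup_left.trans hQJ) hQp,
    ← height_eq_of_ker_psi_le hmul hone A hA q' Q (le_sup_right.trans hQJ) (hQp.trans h)]

end

end Groth.Agent.Lib.Helper77.InvHopf
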