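import Mathlib
import Groth.Agent.Lib.Helper77.InvHopf7
import Groth.Agent.Lib.Helper77.InvDepth2

/-!
# Invariants of a linearly reductive finite group scheme: `(S_r)` and Cohen–Macaulayness
-/

set_option autoImplicit false
universe u
open TensorProduct LocCoh

namespace Groth.Agent.Lib.Helper77.InvMain

open Groth.Agent.Lib.Helper77.InvHopf Groth.Agent.Lib.Helper77.InvDepth

section
variable (k : Type u) [Field k]
    (H : Type u) [CommRing H] [HopfAlgebra k H] [Module.Finite k H]
    (hG : HopfRep.IsLinearlyReductive k H)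
    (R : Type u) [CommRing R] [Algebra k R] [Algebra.FiniteType k R] [HopfRep.Comod k H R]
    (hmul : ∀ x y : R, HopfRep.Comod.coact (k := k) (A := H) (x * y) =
        HopfRep.Comod.coact (k := k) (A := H) x * HopfRep.Comod.coact (k := k) (A := H) y)
    (hone : HopfRep.Comod.coact (k := k) (A := H) (1 : R) = 1)
    (A : Subalgebra k R)
    (hA : ∀ a : R, a ∈ A ↔ HopfRep.Comod.coact (k := k) (A := H) a = a ⊗ₜ[k] (1 : H))

include hG hmul hone hA in
/-- the structural facts about `A = R^G ⊆ R` -/
theorem structure_facts :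
    IsNoetherianRing A ∧ Module.Finite A R ∧
    (∃ E : R →ₗ[A] A, ∀ a, E (algebraMap A R a) = a) ∧
    (∀ (q q' : Ideal R) [q.IsPrime] [q'.IsPrime],
      q.comap (algebraMap A R) = q'.comap (algebraMap A R) → q.height = q'.height) := by
  obtain ⟨lam, h1, hlam⟩ := exists_right_integral k H hG
  haveI : IsNoetherianRing R := Algebra.FiniteType.isNoetherianRing k R
  haveI : Algebra.IsIntegral A R := ⟨isIntegral_of_invariants hmul hone A hA⟩
  haveI : Algebra.FiniteType A R := Algebra.FiniteType.of_restrictScalars_finiteType k A R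
  haveI hfin : Module.Finite A R := Algebra.IsIntegral.finite
  have hAfg : (⊤ : Subalgebra k A).FG :=
    fg_of_fg_of_fg k A R (Algebra.FiniteType.out) hfin.1 Subtype.val_injective
  haveI : Algebra.FiniteType k A := ⟨hAfg⟩
  refine ⟨Algebra.FiniteType.isNoetherianRing k A, hfin, ?_, ?_⟩
  · refine ⟨{ toFun := fun x => ⟨rey k H R lam x, (hA _).mpr (coact_rey lam hlam x)⟩
              map_add' := fun x y => Subtype.ext (map_add (rey k H R lam) x y)
              map_smul' := fun a x => Subtype.ext ?_ }, ?_⟩
    · show rey k H R lam ((a : R) * x) = (a : R) * rey k H R lam x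
      exact rey_mul_of_invariant hmul lam _ ((hA _).mp a.2) x
    · intro a
      exact Subtype.ext (rey_of_invariant lam h1 _ ((hA _).mp a.2))
  · intro q q' _ _ h
    exact height_eq_of_comap_eq hmul hone A hA lam h1 hlam q q' h

include hG hmul hone hA in
theorem main_Sk (r : ℕ) (hR : LocCoh.HasSk r R R) :
    LocCoh.HasSk r A R ∧ LocCoh.HasSk r A A := by
  obtain ⟨hN, hfin, ⟨E, hE⟩, hfib⟩ := structure_facts k H hG R hmul hone A hA
  exact hasSk_of_retract E hE hfib r hR

include hG hmul hone hA in
theorem main_CM (hR : LocCoh.IsCohenMacaulayRing R) :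
    LocCoh.IsCohenMacaulayRing A ∧ ∀ (p : Ideal A) [p.IsPrime],
      LocCoh.IsCohenMacaulayModule (Localization.AtPrime p) (LocalizedModule p.primeCompl R) ∧
        Module.supportDim (Localization.AtPrime p) (LocalizedModule p.primeCompl R) =
          ringKrullDim (Localization.AtPrime p) := by
  obtain ⟨hN, hfin, ⟨E, hE⟩, hfib⟩ := structure_facts k H hG R hmul hone A hA
  exact cm_of_retract E hE hfib hR

end

end Groth.Agent.Lib.Helper77.InvMain
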