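import Mathlib

universe u
set_option autoImplicit false
open IsLocalRing Polynomial

namespace Groth.Agent.Lib.Helper77.Kummer

section
variable {A : Type u} [CommRing A] (s : A) (e : ℕ)

/-- the Kummer polynomial -/
noncomputable abbrev kf : A[X] := X ^ e - C s

theorem kf_monic (he : 0 < e) : (kf s e).Monic :=
  monic_X_pow_sub_C s (Nat.pos_iff_ne_zero.mp he)

theorem root_pow : (AdjoinRoot.root (kf s e)) ^ e = AdjoinRoot.of (kf s e) s := by
  have h := AdjoinRoot.mk_self (f := kf s e)
  rw [kf, map_sub, map_pow, AdjoinRoot.mk_X, AdjoinRoot.mk_C, sub_eq_zero] at h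
  exact h

/-- `B → A/(s)`, `t ↦ 0` -/
noncomputable def toQuot (he : 0 < e) : AdjoinRoot (kf s e) →+* A ⧸ Ideal.span {s} :=
  AdjoinRoot.lift (Ideal.Quotient.mk (Ideal.span {s})) 0 (by
    rw [kf, eval₂_sub, eval₂_pow, eval₂_X, eval₂_C, zero_pow (Nat.pos_iff_ne_zero.mp he),
      zero_sub, neg_eq_zero, Ideal.Quotient.eq_zero_iff_mem]
    exact Ideal.mem_span_singleton_self s)

theorem toQuot_surjective (he : 0 < e) : Function.Surjective (toQuot s e he) := by
  intro y
  obtain ⟨a, rfl⟩ := Ideal.Quotient.mk_surjective y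
  exact ⟨AdjoinRoot.of _ a, by rw [toQuot, AdjoinRoot.lift_of]⟩

theorem ker_toQuot (he : 0 < e) :
    RingHom.ker (toQuot s e he) = Ideal.span {AdjoinRoot.root (kf s e)} := by
  apply le_antisymm
  · intro b hb
    obtain ⟨g, rfl⟩ := AdjoinRoot.mk_surjective b
    rw [RingHom.mem_ker, toQuot, AdjoinRoot.lift_mk, eval₂_at_zero,
      Ideal.Quotient.eq_zero_iff_mem, Ideal.mem_span_singleton'] at hb
    obtain ⟨a, ha⟩ := hb
    have h1 : g = divX g * X + C (a * s) := by rw [ha, divX_mul_X_add]
    rw [h1, map_add, map_mul, AdjoinRoot.mk_X, AdjoinRoot.mk_C, map_mul, ← root_pow]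
    obtain ⟨n, rfl⟩ : ∃ n, e = n + 1 := ⟨e - 1, by omega⟩
    refine Ideal.add_mem _ (Ideal.mul_mem_left _ _ (Ideal.mem_span_singleton_self _)) ?_
    rw [pow_succ, ← mul_assoc]
    exact Ideal.mul_mem_left _ _ (Ideal.mem_span_singleton_self _)
  · rw [Ideal.span_singleton_le_iff_mem, RingHom.mem_ker, toQuot, AdjoinRoot.lift_root]

/-- `B/(t) ≃ A/(s)` -/
noncomputable def quotEquiv (he : 0 < e) :
    (AdjoinRoot (kf s e) ⧸ Ideal.span {AdjoinRoot.root (kf s e)}) ≃+* (A ⧸ Ideal.span {s}) :=
  (Ideal.quotEquivOfEq (ker_toQuot s e he).symm).trans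
    (RingHom.quotientKerEquivOfSurjective (toQuot_surjective s e he))

theorem formallyUnramified (he : 0 < e) (hs : IsUnit s) (heu : IsUnit (e : A)) :
    Algebra.FormallyUnramified A (AdjoinRoot (kf s e)) := by
  rw [Algebra.formallyUnramified_iff]
  set B := AdjoinRoot (kf s e)
  set t : B := AdjoinRoot.root (kf s e) with ht
  have htunit : IsUnit t := by
    have h1 : t ^ e = algebraMap A B s := root_pow s e
    have h2 : IsUnit (t ^ e) := by rw [h1]; exact hs.map _
    exact (isUnit_pow_iff (Nat.pos_iff_ne_zero.mp he)).mp h2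
  have hD : KaehlerDifferential.D A B t = 0 := by
    have h1 : KaehlerDifferential.D A B (aeval t (kf s e)) =
        aeval t (derivative (kf s e)) • KaehlerDifferential.D A B t := Derivation.map_aeval _ _ _
    rw [AdjoinRoot.aeval_eq, AdjoinRoot.mk_self, map_zero] at h1
    have h2 : IsUnit (aeval t (derivative (kf s e))) := by
      have hk : derivative (kf s e) = C (e : A) * X ^ (e - 1) := by
        rw [kf, derivative_sub, derivative_C, sub_zero, derivative_X_pow]
      rw [hk, map_mul, map_pow, aeval_X, aeval_C]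
      exact (heu.map _).mul (htunit.pow _)
    exact (h2.smul_eq_zero).mp h1.symm
  have hall : ∀ b : B, KaehlerDifferential.D A B b = 0 := by
    intro b
    obtain ⟨g, rfl⟩ := AdjoinRoot.mk_surjective b
    rw [← AdjoinRoot.aeval_eq, Derivation.map_aeval, hD, smul_zero]
  have htop := KaehlerDifferential.span_range_derivation A B
  have hbot : Submodule.span B (Set.range (KaehlerDifferential.D A B)) = ⊥ := by
    rw [Submodule.span_eq_bot]
    rintro x ⟨b, rfl⟩
    exact hall b
  rw [hbot] at htop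
  exact (Submodule.subsingleton_iff B).mp (subsingleton_of_bot_eq_top htop)

end

end Groth.Agent.Lib.Helper77.Kummer
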