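import Groth.Agent.Lib.Helper77.EtIC2
import Groth.Agent.Lib.Helper77.Kummer2

set_option autoImplicit false
universe u v w

namespace Groth.Agent.Lib.Helper77.KumEt

open Polynomial TensorProduct Groth.Agent.Lib.Helper77.Kummer Groth.Agent.Lib.Helper77.EtIC

section Local

variable {R : Type u} {K : Type v} {L : Type w} [CommRing R] [IsDomain R] [IsIntegrallyClosed R]
  [Field K] [Algebra R K] [IsFractionRing R K] [Field L] [Algebra R L] [Algebra K L]
  [IsScalarTower R K L]

theorem etale_adjoinRoot (n : ℕ) (hn : IsUnit (n : R)) (hn0 : 0 < n) (u : R) (hu : IsUnit u) :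
    Algebra.Etale R (AdjoinRoot (kf u n)) := by
  haveI := formallyUnramified u n hn0 hu hn
  haveI : Module.Free R (AdjoinRoot (kf u n)) := (kf_monic u n hn0).free_adjoinRoot
  exact Algebra.Etale.of_formallyUnramified_of_flat

/-- Local Kummer: if `β^n = u` is a unit of `R`, `n` invertible in `R`, and `L = K(β)`, then the
integral closure of `R` in `L` is étale over `R`. -/
theorem etale_integralClosure_of_unit (n : ℕ) (hn : IsUnit (n : R)) (hn0 : 0 < n) (u : R)
    (hu : IsUnit u) (β : L) (hβ : β ^ n = algebraMap R L u)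
    (hgen : IntermediateField.adjoin K {β} = ⊤) :
    Algebra.Etale R ↥(integralClosure R L) := by
  haveI := etale_adjoinRoot n hn hn0 u hu
  haveI : Module.Finite R (AdjoinRoot (kf u n)) := (kf_monic u n hn0).finite_adjoinRoot
  let φ : AdjoinRoot (kf u n) →ₐ[R] L := AdjoinRoot.liftAlgHom (kf u n) (Algebra.ofId R L) β (by
    rw [kf, eval₂_sub, eval₂_pow, eval₂_X, eval₂_C, hβ, sub_eq_zero]; rfl)
  have hφroot : φ (AdjoinRoot.root (kf u n)) = β := by
    simp [φ]
  apply etale_integralClosure (R := R) (K := K) (S := AdjoinRoot (kf u n)) (L := L) (φ := φ)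
  -- surjectivity
  have hβalg : IsAlgebraic K β := by
    refine ⟨X ^ n - C (algebraMap R K u), ?_, ?_⟩
    · exact (monic_X_pow_sub_C _ (Nat.pos_iff_ne_zero.mp hn0)).ne_zero
    · rw [map_sub, map_pow, aeval_X, aeval_C, hβ, ← IsScalarTower.algebraMap_apply, sub_self]
  have h1 : (IntermediateField.adjoin K {β}).toSubalgebra = Algebra.adjoin K {β} :=
    IntermediateField.adjoin_simple_toSubalgebra_of_isAlgebraic hβalg
  rw [hgen, IntermediateField.top_toSubalgebra] at h1
  have h2 : Algebra.adjoin K {β} ≤ (psi R K (AdjoinRoot (kf u n)) L φ).range := by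
    rw [Algebra.adjoin_le_iff, Set.singleton_subset_iff]
    exact (AlgHom.mem_range _).mpr ⟨1 ⊗ₜ AdjoinRoot.root (kf u n), by rw [psi_tmul, hφroot]; simp⟩
  rw [← h1] at h2
  intro x
  exact (AlgHom.mem_range _).mp (h2 Algebra.mem_top)

end Local

end Groth.Agent.Lib.Helper77.KumEt
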