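import Groth.Agent.Lib.Helper77.KumEt1

set_option autoImplicit false
universe u v w

namespace Groth.Agent.Lib.Helper77.KumEt

open Polynomial TensorProduct nonZeroDivisors

section Fin

variable {K : Type v} {L : Type w} [Field K] [Field L] [Algebra K L]

theorem finite_sep_of_kummer (n : ℕ) (hnK : (n : K) ≠ 0) (f : K) (hf : f ≠ 0) (α : L)
    (hα : α ^ n = algebraMap K L f) (hgen : IntermediateField.adjoin K {α} = ⊤) :
    FiniteDimensional K L ∧ Algebra.IsSeparable K L := by
  have hn0 : n ≠ 0 := by rintro rfl; simp at hnK
  have hroot : aeval α (X ^ n - C f : K[X]) = 0 := by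
    rw [map_sub, map_pow, aeval_X, aeval_C, hα, sub_self]
  have hint : IsIntegral K α := ⟨X ^ n - C f, monic_X_pow_sub_C f hn0, hroot⟩
  constructor
  · haveI : FiniteDimensional K (IntermediateField.adjoin K {α}) :=
      IntermediateField.adjoin.finiteDimensional hint
    have : FiniteDimensional K (⊤ : IntermediateField K L) := hgen ▸ this
    exact Module.Finite.equiv (IntermediateField.topEquiv (F := K) (E := L)).toLinearEquiv
  · rw [← IntermediateField.isSeparable_top, ← hgen,
      IntermediateField.isSeparable_adjoin_iff_isSeparable]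
    intro x hx
    rw [Set.mem_singleton_iff] at hx
    subst hx
    exact (separable_X_pow_sub_C f hnK hf).of_dvd (minpoly.dvd K x hroot)

end Fin

section LocalData

variable {A : Type u} {K : Type v} [CommRing A] [IsDedekindDomain A]
    [Field K] [Algebra A K] [IsFractionRing A K]

/-- Locally at a maximal ideal, an element whose divisor is divisible by `n` is a unit times
an `n`-th power. -/
theorem exists_unit_mul_pow (p : Ideal A) [p.IsMaximal]
    [Algebra (Localization.AtPrime p) K] [IsScalarTower A (Localization.AtPrime p) K]
    [IsFractionRing (Localization.AtPrime p) K]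
    (n : ℕ) (hn0 : n ≠ 0) (f : K) (hf : f ≠ 0)
    (I : FractionalIdeal A⁰ K) (hI : FractionalIdeal.spanSingleton A⁰ f = I ^ n) :
    ∃ (u : (Localization.AtPrime p)ˣ) (g : K), g ≠ 0 ∧
      f = algebraMap (Localization.AtPrime p) K u * g ^ n := by
  haveI : IsPrincipalIdealRing (Localization.AtPrime p) := by
    apply IsPrincipalIdealRing.of_finite_maximals
    have : {I : Ideal (Localization.AtPrime p) | I.IsMaximal} =
        {IsLocalRing.maximalIdeal (Localization.AtPrime p)} := by
      ext J
      simp only [Set.mem_setOf_eq, Set.mem_singleton_iff]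
      exact ⟨fun h => IsLocalRing.eq_maximalIdeal h, fun h => h ▸ inferInstance⟩
    rw [this]
    exact Set.finite_singleton _
  have hmap : ∀ x : K, IsFractionRing.map (K := K) (L := K)
      (FaithfulSMul.algebraMap_injective A (Localization.AtPrime p)) x = x := by
    intro x
    have : IsFractionRing.map (K := K) (L := K)
      (FaithfulSMul.algebraMap_injective A (Localization.AtPrime p)) = RingHom.id K := by
      apply IsLocalization.ringHom_ext A⁰
      ext a
      simp only [RingHom.coe_comp, Function.comp_apply, RingHom.id_apply]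
      rw [IsFractionRing.map, IsLocalization.map_eq, ← IsScalarTower.algebraMap_apply]
    rw [this, RingHom.id_apply]
  have h1 := congrArg (FractionalIdeal.extendedHom K (Localization.AtPrime p)) hI
  rw [FractionalIdeal.extendedHom_spanSingleton, hmap, map_pow] at h1
  obtain ⟨g, hg⟩ : ∃ g : K, FractionalIdeal.extendedHom K (Localization.AtPrime p) I =
      FractionalIdeal.spanSingleton (Localization.AtPrime p)⁰ g :=
    ⟨_, FractionalIdeal.eq_spanSingleton_of_principal _⟩
  rw [hg, FractionalIdeal.spanSingleton_pow, FractionalIdeal.spanSingleton_eq_spanSingleton] at h1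
  obtain ⟨z, hz⟩ := h1
  have hg0 : g ≠ 0 := by
    rintro rfl
    rw [zero_pow hn0] at hz
    exact hf ((smul_eq_zero_iff_eq z).mp hz)
  refine ⟨z⁻¹, g, hg0, ?_⟩
  rw [← hz, Units.smul_def, Algebra.smul_def, ← mul_assoc, ← map_mul]
  simp

end LocalData

end Groth.Agent.Lib.Helper77.KumEt
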