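import Groth.Agent.Lib.Helper77.KumEt2

set_option autoImplicit false
universe u v w

namespace Groth.Agent.Lib.Helper77.KumEt

open Polynomial TensorProduct nonZeroDivisors

section Glob

variable {A : Type u} {K : Type v} {L : Type w} [CommRing A] [IsDedekindDomain A]
    [Field K] [Algebra A K] [IsFractionRing A K]
    [Field L] [Algebra K L] [Algebra A L] [IsScalarTower A K L]

/-- The local statement at a maximal ideal `p`: every Kähler differential of `B/A` is killed by
an element outside `p`. -/
theorem exists_smul_eq_zero (p : Ideal A) [p.IsMaximal]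
    (n : ℕ) (hn : IsUnit (n : A)) (hn0 : n ≠ 0) (f : K) (hf : f ≠ 0)
    (I : FractionalIdeal A⁰ K) (hI : FractionalIdeal.spanSingleton A⁰ f = I ^ n)
    (α : L) (hα : α ^ n = algebraMap K L f) (hgen : IntermediateField.adjoin K {α} = ⊤)
    (x : Ω[↥(integralClosure A L)⁄A]) : ∃ a : A, a ∉ p ∧ a • x = 0 := by
  -- algebra structures
  letI : Algebra (Localization.AtPrime p) K :=
    (IsLocalization.lift (M := p.primeCompl) (g := algebraMap A K) (fun y =>
      IsUnit.mk0 _ (by
        have : (y : A) ≠ 0 := fun h => y.2 (h ▸ p.zero_mem)
        simpa using this))).toAlgebra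
  haveI : IsScalarTower A (Localization.AtPrime p) K :=
    IsScalarTower.of_algebraMap_eq fun a => (IsLocalization.lift_eq _ a).symm
  haveI : IsFractionRing (Localization.AtPrime p) K :=
    IsFractionRing.isFractionRing_of_isDomain_of_isLocalization p.primeCompl _ _
  letI : Algebra (Localization.AtPrime p) L :=
    ((algebraMap K L).comp (algebraMap (Localization.AtPrime p) K)).toAlgebra
  haveI : IsScalarTower (Localization.AtPrime p) K L := IsScalarTower.of_algebraMap_eq fun _ => rfl
  haveI : IsScalarTower A (Localization.AtPrime p) L := IsScalarTower.of_algebraMap_eq fun a => by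
    rw [IsScalarTower.algebraMap_apply (Localization.AtPrime p) K L,
      ← IsScalarTower.algebraMap_apply A (Localization.AtPrime p) K,
      ← IsScalarTower.algebraMap_apply A K L]
  -- local data
  obtain ⟨u, g, hg0, hfug⟩ := exists_unit_mul_pow p n hn0 f hf I hI
  have hgL : algebraMap K L g ≠ 0 := by simpa using hg0
  obtain ⟨β, hβdef⟩ : ∃ β : L, β = α / algebraMap K L g := ⟨_, rfl⟩
  have hβ : β ^ n = algebraMap (Localization.AtPrime p) L (u : Localization.AtPrime p) := by
    rw [hβdef, div_pow, hα, hfug, map_mul, map_pow, mul_div_assoc, div_self (pow_ne_zero _ hgL),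
      mul_one, ← IsScalarTower.algebraMap_apply]
  have hgenβ : IntermediateField.adjoin K {β} = ⊤ := by
    rw [eq_top_iff, ← hgen, IntermediateField.adjoin_simple_le_iff]
    have : α = β * algebraMap K L g := by rw [hβdef, div_mul_cancel₀ _ hgL]
    rw [this]
    exact mul_mem (IntermediateField.mem_adjoin_simple_self K β)
      (IntermediateField.algebraMap_mem _ g)
  have hnp : IsUnit ((n : ℕ) : Localization.AtPrime p) := by
    have := hn.map (algebraMap A (Localization.AtPrime p))
    simpa using this
  haveI : Algebra.Etale (Localization.AtPrime p) ↥(integralClosure (Localization.AtPrime p) L) :=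
    etale_integralClosure_of_unit (K := K) n hnp (Nat.pos_of_ne_zero hn0) u u.isUnit β hβ hgenβ
  -- the localization structure
  let ι : ↥(integralClosure A L) →+* ↥(integralClosure (Localization.AtPrime p) L) :=
    ((integralClosure A L).val.toRingHom).codRestrict
      (integralClosure (Localization.AtPrime p) L).toSubring (fun b => b.2.tower_top)
  letI : Algebra ↥(integralClosure A L) ↥(integralClosure (Localization.AtPrime p) L) :=
    ι.toAlgebra
  haveI : IsScalarTower ↥(integralClosure A L) ↥(integralClosure (Localization.AtPrime p) L) L :=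
    IsScalarTower.of_algebraMap_eq fun _ => rfl
  haveI : IsScalarTower A ↥(integralClosure A L) ↥(integralClosure (Localization.AtPrime p) L) :=
    IsScalarTower.of_algebraMap_eq fun a => by
      apply Subtype.ext
      rfl
  haveI : IsLocalization (Algebra.algebraMapSubmonoid L p.primeCompl) L := by
    apply IsLocalization.at_units
    rintro _ ⟨y, hy, rfl⟩
    have : (y : A) ≠ 0 := fun h => hy (h ▸ p.zero_mem)
    refine IsUnit.mk0 _ ?_
    rw [IsScalarTower.algebraMap_apply A K L]
    simpa using this
  haveI : IsLocalization (Algebra.algebraMapSubmonoid ↥(integralClosure A L) p.primeCompl)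
      ↥(integralClosure (Localization.AtPrime p) L) :=
    IsLocalization.integralClosure (R := A) (S := L) (Rf := Localization.AtPrime p) (Sf := L)
      p.primeCompl
  -- unramifiedness
  haveI : Algebra.FormallyUnramified A (Localization.AtPrime p) :=
    Algebra.FormallyUnramified.of_isLocalization p.primeCompl
  haveI : Algebra.FormallyUnramified A ↥(integralClosure (Localization.AtPrime p) L) :=
    Algebra.FormallyUnramified.comp A (Localization.AtPrime p) _
  haveI : Subsingleton (Ω[↥(integralClosure (Localization.AtPrime p) L)⁄A]) :=
    (Algebra.formallyUnramified_iff _ _).mp inferInstance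
  have h0 : KaehlerDifferential.map A A ↥(integralClosure A L)
      ↥(integralClosure (Localization.AtPrime p) L) x =
      KaehlerDifferential.map A A ↥(integralClosure A L)
      ↥(integralClosure (Localization.AtPrime p) L) 0 := Subsingleton.elim _ _
  obtain ⟨⟨_, a, ha, rfl⟩, hs⟩ := IsLocalizedModule.exists_of_eq
    (S := Algebra.algebraMapSubmonoid ↥(integralClosure A L) p.primeCompl) h0
  refine ⟨a, ha, ?_⟩
  rw [smul_zero] at hs
  rw [← hs, Submonoid.smul_def, algebraMap_smul]

end Glob

end Groth.Agent.Lib.Helper77.KumEt
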