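import Groth.Agent.Lib.Helper77.KumEt3

set_option autoImplicit false
universe u v w

namespace Groth.Agent.Lib.Helper77.KumEt

open Polynomial TensorProduct nonZeroDivisors

theorem main {A : Type u} {K : Type v} {L : Type w} [CommRing A] [IsDedekindDomain A]
    [Field K] [Algebra A K] [IsFractionRing A K]
    [Field L] [Algebra K L] [Algebra A L] [IsScalarTower A K L]
    (n : ℕ) (hn : IsUnit (n : A)) (f : K) (hf : f ≠ 0)
    (I : FractionalIdeal A⁰ K) (hI : FractionalIdeal.spanSingleton A⁰ f = I ^ n)
    (α : L) (hα : α ^ n = algebraMap K L f) (hgen : IntermediateField.adjoin K {α} = ⊤) :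
    Algebra.Etale A (integralClosure A L) ∧ Module.Finite A (integralClosure A L) := by
  have hn0 : n ≠ 0 := by
    rintro rfl
    simp at hn
  have hnK : (n : K) ≠ 0 := by
    have := (hn.map (algebraMap A K)).ne_zero
    simpa using this
  obtain ⟨hfd, hsep⟩ := finite_sep_of_kummer n hnK f hf α hα hgen
  haveI : Module.Finite A ↥(integralClosure A L) :=
    IsIntegralClosure.finite A K L ↥(integralClosure A L)
  refine ⟨?_, inferInstance⟩
  haveI : Algebra.FinitePresentation A ↥(integralClosure A L) :=
    Algebra.FinitePresentation.of_finiteType.mp inferInstance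
  haveI : FaithfulSMul A L := by
    rw [faithfulSMul_iff_algebraMap_injective, IsScalarTower.algebraMap_eq A K L]
    exact (algebraMap K L).injective.comp (IsFractionRing.injective A K)
  haveI : Module.IsTorsionFree A L := inferInstance
  haveI : Module.IsTorsionFree A ↥(integralClosure A L) := IsIntegralClosure.isTorsionFree A L
  haveI : Module.Flat A ↥(integralClosure A L) := inferInstance
  haveI : Algebra.FormallyUnramified A ↥(integralClosure A L) := by
    rw [Algebra.formallyUnramified_iff]
    refine ⟨fun x y => ?_⟩
    suffices h : ∀ z : Ω[↥(integralClosure A L)⁄A], z = 0 by rw [h x, h y]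
    intro z
    by_contra hz
    have hne : (LinearMap.ker (LinearMap.toSpanSingleton A _ z)) ≠ ⊤ := by
      intro h
      have : (1 : A) ∈ LinearMap.ker (LinearMap.toSpanSingleton A _ z) := h ▸ Submodule.mem_top
      rw [LinearMap.mem_ker, LinearMap.toSpanSingleton_apply, one_smul] at this
      exact hz this
    obtain ⟨p, hp, hle⟩ := Ideal.exists_le_maximal _ hne
    obtain ⟨a, hap, haz⟩ := exists_smul_eq_zero p n hn hn0 f hf I hI α hα hgen z
    exact hap (hle (by rw [LinearMap.mem_ker, LinearMap.toSpanSingleton_apply, haz]))
  exact Algebra.Etale.of_formallyUnramified_of_flat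

end Groth.Agent.Lib.Helper77.KumEt
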