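import Groth.Agent.Lib.Helper77.Kummer3
import Groth.Agent.Lib.Helper30.SmoothRegular

/-!
# Global Kummer regularity: `R` regular ring, `s` a nonzerodivisor with `R/(s)` regular, `e`
invertible: `R[T]/(T^e - s)` is a regular ring.
-/

universe u
set_option autoImplicit false
open IsLocalRing Polynomial

namespace Groth.Agent.Lib.Helper77.Kummer

theorem smul_kaehler_eq_zero (R : Type u) [CommRing R] (s : R) (e : ℕ)
    (ω : Ω[AdjoinRoot (kf s e)⁄R]) :
    (algebraMap R (AdjoinRoot (kf s e)) (e : R) * AdjoinRoot.root (kf s e) ^ (e - 1)) • ω = 0 := by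
  obtain ⟨t, ht⟩ : ∃ t, t = AdjoinRoot.root (kf s e) := ⟨_, rfl⟩
  rw [← ht]
  have hDt : (algebraMap R (AdjoinRoot (kf s e)) (e : R) * t ^ (e - 1)) •
      KaehlerDifferential.D R (AdjoinRoot (kf s e)) t = 0 := by
    have h1 : KaehlerDifferential.D R (AdjoinRoot (kf s e)) (aeval t (kf s e)) =
        aeval t (derivative (kf s e)) • KaehlerDifferential.D R (AdjoinRoot (kf s e)) t :=
      Derivation.map_aeval _ _ _
    rw [ht, AdjoinRoot.aeval_eq, AdjoinRoot.mk_self, map_zero] at h1
    have hk : derivative (kf s e) = C (e : R) * X ^ (e - 1) := by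
      rw [kf, derivative_sub, derivative_C, sub_zero, derivative_X_pow]
    rw [hk, map_mul, map_pow, aeval_X, aeval_C] at h1
    rw [ht]
    exact h1.symm
  have hω : ω ∈ Submodule.span (AdjoinRoot (kf s e))
      (Set.range (KaehlerDifferential.D R (AdjoinRoot (kf s e)))) := by
    rw [KaehlerDifferential.span_range_derivation]; trivial
  induction hω using Submodule.span_induction with
  | mem x hx =>
    obtain ⟨b, rfl⟩ := hx
    obtain ⟨g, rfl⟩ := AdjoinRoot.mk_surjective b
    rw [← AdjoinRoot.aeval_eq, Derivation.map_aeval, smul_comm, ← ht, hDt, smul_zero]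
  | zero => simp
  | add x y _ _ hx hy => rw [smul_add, hx, hy, add_zero]
  | smul a x _ hx => rw [smul_comm, hx, smul_zero]

theorem etale_away_root (R : Type u) [CommRing R] (s : R) (e : ℕ) (he : 0 < e)
    (heu : IsUnit (e : R)) :
    Algebra.Etale R (Localization.Away (AdjoinRoot.root (kf s e))) := by
  haveI : Module.Free R (AdjoinRoot (kf s e)) := (kf_monic s e he).free_adjoinRoot
  haveI : Module.Finite R (AdjoinRoot (kf s e)) := (kf_monic s e he).finite_adjoinRoot
  haveI : Algebra.FinitePresentation R (AdjoinRoot (kf s e)) :=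
    inferInstance
  haveI : Algebra.FinitePresentation R (Localization.Away (AdjoinRoot.root (kf s e))) :=
    Algebra.FinitePresentation.trans R (AdjoinRoot (kf s e)) _
  haveI : Module.Flat R (Localization.Away (AdjoinRoot.root (kf s e))) :=
    Module.Flat.trans R (AdjoinRoot (kf s e)) _
  haveI : Algebra.FormallyUnramified R (Localization.Away (AdjoinRoot.root (kf s e))) := by
    rw [← Algebra.basicOpen_subset_unramifiedLocus_iff]
    intro Q hQ
    have htQ : AdjoinRoot.root (kf s e) ∉ Q.asIdeal := hQ
    rw [Algebra.unramifiedLocus_eq_compl_support, Set.mem_compl_iff, Module.notMem_support_iff']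
    intro ω
    refine ⟨_, ?_, smul_kaehler_eq_zero R s e ω⟩
    intro hmem
    rcases Q.2.mem_or_mem hmem with h | h
    · exact Q.2.ne_top (Ideal.eq_top_of_isUnit_mem _ h (heu.map _))
    · exact htQ (Q.2.mem_of_pow_mem _ h)
  exact Algebra.Etale.of_formallyUnramified_of_flat

set_option backward.isDefEq.respectTransparency false in
theorem main_global (R : Type u) [CommRing R] [IsRegularRing R] (s : R)
    (hs : s ∈ nonZeroDivisors R) (hreg : IsRegularRing (R ⧸ Ideal.span {s}))
    (e : ℕ) (he : 0 < e) (heu : IsUnit (e : R)) :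
    IsRegularRing (AdjoinRoot (kf s e)) := by
  have hmonic := kf_monic s e he
  haveI hfree : Module.Free R (AdjoinRoot (kf s e)) := hmonic.free_adjoinRoot
  haveI hfin : Module.Finite R (AdjoinRoot (kf s e)) := hmonic.finite_adjoinRoot
  haveI hNoeth : IsNoetherianRing (AdjoinRoot (kf s e)) := IsNoetherianRing.of_finite R _
  rw [isRegularRing_iff]
  intro Q hQ
  have hN : IsNoetherianRing (Localization.AtPrime Q) :=
    IsLocalization.isNoetherianRing Q.primeCompl _ inferInstance
  by_cases htQ : AdjoinRoot.root (kf s e) ∈ Q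
  · -- t is a nonzerodivisor
    have htreg : AdjoinRoot.root (kf s e) ∈ nonZeroDivisors (AdjoinRoot (kf s e)) := by
      rw [mem_nonZeroDivisors_iff_right]
      intro b hb
      have h1 : b * AdjoinRoot.root (kf s e) ^ e = 0 := by
        obtain ⟨n, rfl⟩ : ∃ n, e = n + 1 := ⟨e - 1, by omega⟩
        rw [pow_succ, ← mul_assoc, mul_comm b, mul_assoc, hb, mul_zero]
      rw [root_pow, mul_comm] at h1
      have h2 : s • b = 0 := by rw [Algebra.smul_def]; exact h1
      exact (Module.Flat.isSMulRegular_of_nonZeroDivisors hs).right_eq_zero_of_smul h2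
    have htreg' : IsSMulRegular (Localization.AtPrime Q)
        (algebraMap (AdjoinRoot (kf s e)) (Localization.AtPrime Q) (AdjoinRoot.root (kf s e))) := by
      have h1 := IsLocalization.map_nonZeroDivisors_le Q.primeCompl (Localization.AtPrime Q)
        (Submonoid.mem_map_of_mem _ htreg)
      exact Module.Flat.isSMulRegular_of_nonZeroDivisors h1
    have hle : Ideal.span {AdjoinRoot.root (kf s e)} ≤ Q :=
      (Ideal.span_singleton_le_iff_mem _).mpr htQ
    have hprime : (Q.map (Ideal.Quotient.mk (Ideal.span {AdjoinRoot.root (kf s e)}))).IsPrime :=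
      Ideal.map_isPrime_of_surjective Ideal.Quotient.mk_surjective (by rwa [Ideal.mk_ker])
    obtain ⟨e1⟩ := Helper56.nonempty_quotLocEquiv (Ideal.span {AdjoinRoot.root (kf s e)}) Q hle
    have hBt : IsRegularRing (AdjoinRoot (kf s e) ⧸ Ideal.span {AdjoinRoot.root (kf s e)}) :=
      IsRegularRing.of_ringEquiv (quotEquiv s e he).symm
    have hregQ : IsRegularLocalRing (Localization.AtPrime Q ⧸
        (Ideal.span {AdjoinRoot.root (kf s e)}).map
          (algebraMap (AdjoinRoot (kf s e)) (Localization.AtPrime Q))) :=
      IsRegularLocalRing.of_ringEquiv e1.symm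
    refine regular_of_quot_regular (Localization.AtPrime Q)
      (algebraMap (AdjoinRoot (kf s e)) (Localization.AtPrime Q) (AdjoinRoot.root (kf s e)))
      ?_ htreg' ((Ideal.span {AdjoinRoot.root (kf s e)}).map
          (algebraMap (AdjoinRoot (kf s e)) (Localization.AtPrime Q))) ?_ (hQ := hregQ)
    · rw [IsLocalization.AtPrime.to_map_mem_maximal_iff (Localization.AtPrime Q) Q]
      exact htQ
    · rw [Ideal.map_span, Set.image_singleton]
  · haveI := etale_away_root R s e he heu
    let S' := Localization.Away (AdjoinRoot.root (kf s e))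
    let q' := Q.map (algebraMap (AdjoinRoot (kf s e)) S')
    have disj : Disjoint (Submonoid.powers (AdjoinRoot.root (kf s e)) : Set (AdjoinRoot (kf s e)))
        (Q : Set (AdjoinRoot (kf s e))) :=
      (Ideal.disjoint_powers_iff_notMem_of_isPrime _).mpr htQ
    have : q'.IsPrime := IsLocalization.isPrime_of_isPrime_disjoint
      (.powers (AdjoinRoot.root (kf s e))) _ _ ‹_› disj
    have hcomap : q'.comap (algebraMap (AdjoinRoot (kf s e)) S') = Q :=
      IsLocalization.under_map_of_isPrime_disjoint (.powers (AdjoinRoot.root (kf s e))) _ ‹_› disj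
    have : IsLocalization.AtPrime (Localization.AtPrime q') Q := by
      convert IsLocalization.isLocalization_isLocalization_atPrime_isLocalization
        (.powers (AdjoinRoot.root (kf s e))) (Localization.AtPrime q') q'
      exact hcomap.symm
    have h2 : IsRegularLocalRing (Localization.AtPrime q') :=
      Helper30.SmoothRegular.regular_of_smooth R S' q' inferInstance
    exact IsRegularLocalRing.of_ringEquiv (R := Localization.AtPrime q')
      (IsLocalization.algEquiv Q.primeCompl (Localization.AtPrime q')
        (Localization.AtPrime Q)).toRingEquiv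

end Groth.Agent.Lib.Helper77.Kummer
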