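import Groth.Agent.Lib.Helper77.KumGl9

/-!
# The abstract cyclic cover theorem: assembly
-/

universe u
set_option autoImplicit false
open IsLocalRing Polynomial TensorProduct
open Groth.Agent.Lib.Helper77.Kummer

namespace Groth.Agent.Lib.Helper77.KumGl

section final
variable {B : Type u} [CommRing B] [IsDomain B] [IsRegularRing B] (u : Bˣ) (α : ℕ) (f₁ : B) (N : ℕ)
  {K : Type u} [CommRing K] [Algebra B K] (tU fU : Kˣ)
  (hfU : (fU : K) = algebraMap B K f₁)
  (htU : tU ^ N = Units.map (algebraMap B K : B →* K) u * fU ^ α)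
  (N' d α' a : ℕ) (b : ℤ) (hd : 0 < d) (hN' : 0 < N')
  (hNd : N = N' * d) (hαd : α = α' * d)
  (hab : (a : ℤ) * α' - b * N' = 1) (haN : a < N')
  (hcase : (N' = 1 ∧ a = 0 ∧ b = -1) ∨ (2 ≤ N' ∧ b = ((a * α' / N' : ℕ) : ℤ)))
  (hlift : ∀ (L : Type u) [CommRing L] [Algebra B L] (tL gL : L),
      tL ^ N = algebraMap B L (u * f₁ ^ α) → algebraMap B L f₁ * gL = 1 →
        ∃ θ : K →ₐ[B] L, θ (tU : K) = tL)
  (hdu : IsUnit (d : B)) (hN'u : IsUnit (N' : B)) (hf₁ : f₁ ≠ 0)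
  (hreg : IsRegularRing (B ⧸ Ideal.span {f₁}))
  (hgen : ∀ x : K, ∃ (p : B[X]) (n : ℕ), x = aeval (tU : K) p * ((fU⁻¹ : Kˣ) : K) ^ n)

include hfU htU hd hN' hNd hαd hab haN hcase hlift hdu hN'u hf₁ hreg hgen in
theorem abstract_main_aux :
    Module.Finite B (AA (B := B) α N tU fU) ∧
      (∀ x : K, IsIntegral B x ↔ x ∈ AA (B := B) α N tU fU) ∧
      IsRegularRing (AA (B := B) α N tU fU) := by
  have hinj := Phi_injective u α f₁ N tU fU hfU htU N' d α' a b hd hN' hNd hαd hab hlift hdu hN'u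
    hf₁ hreg
  have hrange := range_Phi u α f₁ N tU fU hfU htU N' d α' a b hd hN' hNd hαd hab haN hcase
  let e : CC B (u : B) d a f₁ N' ≃ₐ[B] AA (B := B) α N tU fU :=
    (AlgEquiv.ofInjective _ hinj).trans (Subalgebra.equivOfEq _ _ hrange)
  haveI : Module.Finite B (B1 B (u : B) d) := (kf_monic (u : B) d hd).finite_adjoinRoot
  haveI : Module.Finite (B1 B (u : B) d) (CC B (u : B) d a f₁ N') :=
    (kf_monic _ N' hN').finite_adjoinRoot
  haveI : Module.Finite B (CC B (u : B) d a f₁ N') :=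
    Module.Finite.trans (B1 B (u : B) d) (CC B (u : B) d a f₁ N')
  haveI : IsRegularRing (CC B (u : B) d a f₁ N') :=
    CC_regular B (u : B) d a f₁ N' hd u.isUnit hdu hN' hN'u hf₁ hreg
  have hfin : Module.Finite B (AA (B := B) α N tU fU) := Module.Finite.equiv e.toLinearEquiv
  refine ⟨hfin, ?_, IsRegularRing.of_ringEquiv e.toRingEquiv⟩
  intro x
  constructor
  · intro hx
    rw [← hrange]
    exact mem_range_of_isIntegral u α f₁ N tU fU hfU htU N' d α' a b hd hN' hNd hαd hab hlift hdu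
      hN'u hf₁ hreg hgen x hx
  · intro hx
    have h1 : IsIntegral B (⟨x, hx⟩ : AA (B := B) α N tU fU) :=
      Algebra.IsIntegral.isIntegral _
    exact h1.map (AA (B := B) α N tU fU).val

end final

/-- The abstract cyclic cover theorem. -/
theorem abstract_main {B : Type u} [CommRing B] [IsDomain B] [IsRegularRing B] (u : Bˣ) (α : ℕ)
    (f₁ : B) (N : ℕ) (hN : 0 < N) (hNu : IsUnit (N : B))
    {K : Type u} [CommRing K] [Algebra B K] (tU fU : Kˣ)
    (hfU : (fU : K) = algebraMap B K f₁)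
    (htU : tU ^ N = Units.map (algebraMap B K : B →* K) u * fU ^ α)
    (hlift : ∀ (L : Type u) [CommRing L] [Algebra B L] (tL gL : L),
      tL ^ N = algebraMap B L (u * f₁ ^ α) → algebraMap B L f₁ * gL = 1 →
        ∃ θ : K →ₐ[B] L, θ (tU : K) = tL)
    (hf₁ : f₁ ≠ 0) (hreg : IsRegularRing (B ⧸ Ideal.span {f₁}))
    (hgen : ∀ x : K, ∃ (p : B[X]) (n : ℕ), x = aeval (tU : K) p * ((fU⁻¹ : Kˣ) : K) ^ n) :
    Module.Finite B (AA (B := B) α N tU fU) ∧
      (∀ x : K, IsIntegral B x ↔ x ∈ AA (B := B) α N tU fU) ∧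
      IsRegularRing (AA (B := B) α N tU fU) := by
  obtain ⟨d, N', α', a, b, hd, hN', hNd, hαd, haN, hab, hcase⟩ := exists_arith α N hN
  have hcast : ((N : ℕ) : B) = (N' : B) * (d : B) := by rw [hNd]; push_cast; ring
  rw [hcast] at hNu
  exact abstract_main_aux u α f₁ N tU fU hfU htU N' d α' a b hd hN' hNd hαd hab haN hcase hlift
    (isUnit_of_mul_isUnit_right hNu) (isUnit_of_mul_isUnit_left hNu) hf₁ hreg hgen

end Groth.Agent.Lib.Helper77.KumGl
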