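import Groth.Agent.Lib.Helper77.KumGl10

/-!
# The concrete cyclic cover theorem
-/

universe u
set_option autoImplicit false
open IsLocalRing Polynomial TensorProduct
open Groth.Agent.Lib.Helper77.Kummer

namespace Groth.Agent.Lib.Helper77.KumGl

section concrete
variable (B : Type u) [CommRing B] (u : Bˣ) (α : ℕ) (f₁ : B) (N : ℕ)

/-- `A' = B[t]/(t^N - u f₁^α)` -/
abbrev Ap : Type u := AdjoinRoot (X ^ N - C ((u : B) * f₁ ^ α) : B[X])

/-- `K = A'[1/f₁]` -/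
abbrev KK : Type u := Localization.Away (algebraMap B (Ap B u α f₁ N) f₁)

theorem root_pow' : (AdjoinRoot.root (X ^ N - C ((u : B) * f₁ ^ α) : B[X])) ^ N =
    algebraMap B (Ap B u α f₁ N) ((u : B) * f₁ ^ α) := by
  have h := AdjoinRoot.mk_self (f := (X ^ N - C ((u : B) * f₁ ^ α) : B[X]))
  rw [map_sub, map_pow, AdjoinRoot.mk_X, AdjoinRoot.mk_C, sub_eq_zero] at h
  exact h

/-- `f₁` as a unit of `K` -/
noncomputable def fUc : (KK B u α f₁ N)ˣ :=
  ⟨algebraMap (Ap B u α f₁ N) (KK B u α f₁ N) (algebraMap B (Ap B u α f₁ N) f₁),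
    IsLocalization.Away.invSelf (algebraMap B (Ap B u α f₁ N) f₁),
    IsLocalization.Away.mul_invSelf _,
    by rw [mul_comm]; exact IsLocalization.Away.mul_invSelf _⟩

theorem fUc_val : ((fUc B u α f₁ N : (KK B u α f₁ N)ˣ) : KK B u α f₁ N) =
    algebraMap B (KK B u α f₁ N) f₁ := by
  rw [IsScalarTower.algebraMap_apply B (Ap B u α f₁ N) (KK B u α f₁ N)]
  rfl

theorem fUc_inv : (((fUc B u α f₁ N)⁻¹ : (KK B u α f₁ N)ˣ) : KK B u α f₁ N) =
    IsLocalization.Away.invSelf (algebraMap B (Ap B u α f₁ N) f₁) := rfl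

theorem t_pow : (algebraMap (Ap B u α f₁ N) (KK B u α f₁ N)
    (AdjoinRoot.root (X ^ N - C ((u : B) * f₁ ^ α) : B[X]))) ^ N =
    algebraMap B (KK B u α f₁ N) u * (fUc B u α f₁ N : KK B u α f₁ N) ^ α := by
  rw [← map_pow, root_pow', ← IsScalarTower.algebraMap_apply, map_mul, map_pow, fUc_val]

theorem isUnit_t (hN : 0 < N) : IsUnit (algebraMap (Ap B u α f₁ N) (KK B u α f₁ N)
    (AdjoinRoot.root (X ^ N - C ((u : B) * f₁ ^ α) : B[X]))) := by
  apply (isUnit_pow_iff hN.ne').mp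
  rw [t_pow]
  exact (u.isUnit.map _).mul ((fUc B u α f₁ N).isUnit.pow α)

theorem hgen_c (x : KK B u α f₁ N) : ∃ (p : B[X]) (n : ℕ),
    x = aeval (algebraMap (Ap B u α f₁ N) (KK B u α f₁ N)
      (AdjoinRoot.root (X ^ N - C ((u : B) * f₁ ^ α) : B[X]))) p *
      (((fUc B u α f₁ N)⁻¹ : (KK B u α f₁ N)ˣ) : KK B u α f₁ N) ^ n := by
  obtain ⟨n, y, hy⟩ := IsLocalization.Away.surj (algebraMap B (Ap B u α f₁ N) f₁) x
  obtain ⟨p, rfl⟩ := AdjoinRoot.mk_surjective y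
  refine ⟨p, n, ?_⟩
  rw [aeval_algebraMap_apply, AdjoinRoot.aeval_eq, ← hy, mul_assoc, ← mul_pow]
  have : algebraMap (Ap B u α f₁ N) (KK B u α f₁ N) (algebraMap B (Ap B u α f₁ N) f₁) *
      (((fUc B u α f₁ N)⁻¹ : (KK B u α f₁ N)ˣ) : KK B u α f₁ N) = 1 :=
    (fUc B u α f₁ N).mul_inv
  rw [this, one_pow, mul_one]

theorem hlift_c (L : Type u) [CommRing L] [Algebra B L] (tL gL : L)
    (h1 : tL ^ N = algebraMap B L ((u : B) * f₁ ^ α)) (h2 : algebraMap B L f₁ * gL = 1) :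
    ∃ θ : KK B u α f₁ N →ₐ[B] L, θ (algebraMap (Ap B u α f₁ N) (KK B u α f₁ N)
      (AdjoinRoot.root (X ^ N - C ((u : B) * f₁ ^ α) : B[X]))) = tL := by
  let ψ : Ap B u α f₁ N →ₐ[B] L :=
    AdjoinRoot.liftAlgHom _ (Algebra.ofId B L) tL (by
      rw [eval₂_sub, eval₂_pow, eval₂_X, eval₂_C, h1, sub_eq_zero]; rfl)
  have hψ : ∀ y : Submonoid.powers (algebraMap B (Ap B u α f₁ N) f₁), IsUnit (ψ y) := by
    rintro ⟨_, m, rfl⟩
    rw [map_pow, AlgHom.commutes]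
    exact (IsUnit.of_mul_eq_one _ h2).pow m
  refine ⟨IsLocalization.liftAlgHom (M := Submonoid.powers (algebraMap B (Ap B u α f₁ N) f₁))
    (f := ψ) hψ, ?_⟩
  rw [IsLocalization.liftAlgHom_apply, IsLocalization.lift_eq]
  exact AdjoinRoot.liftAlgHom_root _ _ _ _

end concrete

end Groth.Agent.Lib.Helper77.KumGl
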