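import Groth.Agent.Lib.Helper77.KumGl11

/-!
# The cyclic cover theorem (S16900)
-/

universe u
set_option autoImplicit false
open IsLocalRing Polynomial TensorProduct
open Groth.Agent.Lib.Helper77.Kummer

namespace Groth.Agent.Lib.Helper77.KumGl

theorem main (k : Type u) [Field k] [IsAlgClosed k]
    (B : Type u) [CommRing B] [IsDomain B] [Algebra k B] [Algebra.FiniteType k B]
    (hreg : ∀ (P : Ideal B) [P.IsPrime], IsRegularLocalRing (Localization.AtPrime P))
    (N : ℕ) (hN : 0 < N) (hNk : IsUnit ((N : ℕ) : k)) (u : Bˣ) (α : ℕ) (f₁ : B) (hf₁ : f₁ ≠ 0)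
    (hD : ∀ (P : Ideal (B ⧸ Ideal.span ({f₁} : Set B))) [P.IsPrime],
      IsRegularLocalRing (Localization.AtPrime P))
    (A : Subalgebra B (KK B u α f₁ N))
    (hA : A = Algebra.adjoin B (Set.range fun i : Fin N =>
      algebraMap (Ap B u α f₁ N) (KK B u α f₁ N)
        (AdjoinRoot.root (X ^ N - C ((u : B) * f₁ ^ α) : B[X]) ^ (i : ℕ)) *
      IsLocalization.Away.invSelf (S := KK B u α f₁ N)
        (algebraMap B (Ap B u α f₁ N) f₁) ^ ((i : ℕ) * α / N))) :
    Module.Finite B A ∧ IsIntegralClosure A (Ap B u α f₁ N) (KK B u α f₁ N) ∧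
      ∀ (Q : Ideal A) [Q.IsPrime], IsRegularLocalRing (Localization.AtPrime Q) := by
  haveI : IsNoetherianRing B := Algebra.FiniteType.isNoetherianRing k B
  haveI : IsRegularRing B := isRegularRing_iff.mpr (fun P _ => hreg P)
  have hregq : IsRegularRing (B ⧸ Ideal.span ({f₁} : Set B)) :=
    isRegularRing_iff.mpr (fun P _ => hD P)
  have hNu : IsUnit ((N : ℕ) : B) := by
    have := hNk.map (algebraMap k B)
    rwa [map_natCast] at this
  obtain ⟨tU, htU⟩ : ∃ tU : (KK B u α f₁ N)ˣ, (tU : KK B u α f₁ N) =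
      algebraMap (Ap B u α f₁ N) (KK B u α f₁ N)
        (AdjoinRoot.root (X ^ N - C ((u : B) * f₁ ^ α) : B[X])) :=
    ⟨(isUnit_t B u α f₁ N hN).unit, IsUnit.unit_spec _⟩
  have htUN : tU ^ N = Units.map (algebraMap B (KK B u α f₁ N) : B →* KK B u α f₁ N) u *
      fUc B u α f₁ N ^ α := by
    apply Units.ext
    rw [Units.val_pow_eq_pow_val, htU, t_pow, Units.val_mul, Units.val_pow_eq_pow_val]
    rfl
  have hAA : A = AA (B := B) α N tU (fUc B u α f₁ N) := by
    rw [hA, AA]
    congr 2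
    funext i
    rw [gen, htU, map_pow, fUc_inv]
  subst hAA
  obtain ⟨h1, h2, h3⟩ := abstract_main u α f₁ N hN hNu tU (fUc B u α f₁ N) (fUc_val B u α f₁ N)
    htUN (fun L _ _ tL gL e1 e2 => by rw [htU]; exact hlift_c B u α f₁ N L tL gL e1 e2) hf₁ hregq
    (fun x => by rw [htU]; exact hgen_c B u α f₁ N x)
  refine ⟨h1, ?_, fun Q _ => IsRegularRing.isRegularLocalRing_localization Q⟩
  haveI : Module.Finite B (Ap B u α f₁ N) :=
    (monic_X_pow_sub_C _ hN.ne').finite_adjoinRoot
  haveI : Algebra.IsIntegral B (Ap B u α f₁ N) := Algebra.IsIntegral.of_finite B _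
  constructor
  · exact Subtype.val_injective
  · intro x
    constructor
    · intro hx
      have hxB : IsIntegral B x := isIntegral_trans x hx
      exact ⟨⟨x, (h2 x).mp hxB⟩, rfl⟩
    · rintro ⟨y, rfl⟩
      exact ((h2 _).mpr y.2).tower_top

end Groth.Agent.Lib.Helper77.KumGl
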