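import Groth.Agent.Lib.Helper77.KumGl1
import Groth.Agent.Lib.Helper77.KumEt1

/-!
# Étale algebras over regular rings; commutative-group bookkeeping for cyclic covers
-/

universe u
set_option autoImplicit false
open IsLocalRing Polynomial TensorProduct

namespace Groth.Agent.Lib.Helper77.KumGl

theorem isRegularRing_of_etale (R S : Type u) [CommRing R] [CommRing S] [Algebra R S]
    [Algebra.Etale R S] [IsRegularRing R] : IsRegularRing S := by
  haveI : IsNoetherianRing S := Algebra.FiniteType.isNoetherianRing R S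
  rw [isRegularRing_iff]
  intro q hq
  exact Helper30.SmoothRegular.regular_of_smooth R S q inferInstance

theorem isRegularRing_quotient_of_etale (R S : Type u) [CommRing R] [CommRing S] [Algebra R S]
    [Algebra.Etale R S] (I : Ideal R) [IsRegularRing (R ⧸ I)] :
    IsRegularRing (S ⧸ I.map (algebraMap R S)) := by
  haveI : IsRegularRing ((R ⧸ I) ⊗[R] S) := isRegularRing_of_etale (R ⧸ I) _
  exact IsRegularRing.of_ringEquiv
    (Algebra.TensorProduct.quotIdealMapEquivQuotTensor S I).symm.toRingEquiv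

section grp
variable {G : Type*} [CommGroup G]

theorem zz_pow (x y : G) (m n k : ℤ) : (x ^ m * y ^ n) ^ k = x ^ (m * k) * y ^ (n * k) := by
  rw [mul_zpow, ← zpow_mul, ← zpow_mul]

theorem zz_mul (x y : G) (m n m' n' : ℤ) :
    (x ^ m * y ^ n) * (x ^ m' * y ^ n') = x ^ (m + m') * y ^ (n + n') := by
  rw [zpow_add, zpow_add]; exact mul_mul_mul_comm _ _ _ _

theorem zz_congr (x y : G) {m n m' n' : ℤ} (h1 : m = m') (h2 : n = n') :
    x ^ m * y ^ n = x ^ m' * y ^ n' := by rw [h1, h2]

variable (N' d α' a b : ℤ) (hab : a * α' - b * N' = 1)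

/-- K-side: `s = t^N' f^(-α')`, `τ = t^a f^(-b)`. -/
theorem K1 (t f : G) : (t ^ N' * f ^ (-α')) ^ d = t ^ (N' * d) * f ^ (-(α' * d)) := by
  rw [zz_pow]; exact zz_congr _ _ rfl (by ring)

include hab in
theorem K2 (t f : G) :
    (t ^ a * f ^ (-b)) ^ N' = (t ^ N' * f ^ (-α')) ^ a * f := by
  rw [zz_pow, zz_pow, mul_assoc, ← zpow_add_one]
  exact zz_congr _ _ (by ring) (by linear_combination hab)

include hab in
theorem K3 (t f : G) :
    t = (t ^ a * f ^ (-b)) ^ α' * (t ^ N' * f ^ (-α')) ^ (-b) := by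
  rw [zz_pow, zz_pow, zz_mul]
  have h1 : a * α' + N' * -b = 1 := by linear_combination hab
  have h2 : -b * α' + -α' * -b = 0 := by ring
  rw [h1, h2, zpow_one, zpow_zero, mul_one]

include hab in
theorem K5 (t f : G) (i e : ℤ) :
    t ^ i * f ^ (-e) =
      (t ^ a * f ^ (-b)) ^ (i * α' - N' * e) * (t ^ N' * f ^ (-α')) ^ (a * e - b * i) := by
  rw [zz_pow, zz_pow, zz_mul]
  exact zz_congr _ _ (by linear_combination (-i) * hab) (by linear_combination (e) * hab)

/-- L-side: `T^N' = S^a f`, `t₀ = T^α' S^(-b)`. -/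
theorem L_f (T S f : G) (hT : T ^ N' = S ^ a * f) : f = T ^ N' * S ^ (-a) := by
  rw [hT, mul_comm, ← mul_assoc, ← zpow_add]; simp

include hab in
theorem L1 (T S f : G) (hT : T ^ N' = S ^ a * f) :
    (T ^ α' * S ^ (-b)) ^ (N' * d) = S ^ d * f ^ (α' * d) := by
  rw [L_f N' a T S f hT, zz_pow, zz_pow]
  conv_rhs => rw [mul_comm (S ^ d), mul_assoc, ← zpow_add]
  exact zz_congr _ _ (by ring) (by linear_combination d * hab)

include hab in
theorem L2 (T S f : G) (hT : T ^ N' = S ^ a * f) :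
    (T ^ α' * S ^ (-b)) ^ N' * f ^ (-α') = S := by
  rw [L_f N' a T S f hT, zz_pow, zz_pow, zz_mul]
  have h1 : α' * N' + N' * -α' = 0 := by ring
  have h2 : -b * N' + -a * -α' = 1 := by linear_combination hab
  rw [h1, h2, zpow_zero, zpow_one, one_mul]

include hab in
theorem L3 (T S f : G) (hT : T ^ N' = S ^ a * f) :
    (T ^ α' * S ^ (-b)) ^ a * f ^ (-b) = T := by
  rw [L_f N' a T S f hT, zz_pow, zz_pow, zz_mul]
  have h1 : α' * a + N' * -b = 1 := by linear_combination hab
  have h2 : -b * a + -a * -b = 0 := by ring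
  rw [h1, h2, zpow_zero, zpow_one, mul_one]

end grp

end Groth.Agent.Lib.Helper77.KumGl
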