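import Groth.Agent.Lib.Helper77.KumGl2

/-!
# Arithmetic set-up for cyclic covers
-/

universe u
set_option autoImplicit false

namespace Groth.Agent.Lib.Helper77.KumGl

theorem exists_arith (α N : ℕ) (hN : 0 < N) :
    ∃ (d N' α' a : ℕ) (b : ℤ), 0 < d ∧ 0 < N' ∧ N = N' * d ∧ α = α' * d ∧ a < N' ∧
      (a : ℤ) * α' - b * N' = 1 ∧
      ((N' = 1 ∧ a = 0 ∧ b = -1) ∨ (2 ≤ N' ∧ b = ((a * α' / N' : ℕ) : ℤ))) := by
  have hd : 0 < Nat.gcd α N := Nat.gcd_pos_of_pos_right _ hN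
  have h1 : α / Nat.gcd α N * Nat.gcd α N = α := Nat.div_mul_cancel (Nat.gcd_dvd_left α N)
  have h2 : N / Nat.gcd α N * Nat.gcd α N = N := Nat.div_mul_cancel (Nat.gcd_dvd_right α N)
  have hcop : Nat.Coprime (α / Nat.gcd α N) (N / Nat.gcd α N) :=
    Nat.coprime_div_gcd_div_gcd hd
  obtain ⟨d, hdd⟩ : ∃ d, d = Nat.gcd α N := ⟨_, rfl⟩
  obtain ⟨α', hα'⟩ : ∃ α', α' = α / Nat.gcd α N := ⟨_, rfl⟩
  obtain ⟨N', hN'⟩ : ∃ N', N' = N / Nat.gcd α N := ⟨_, rfl⟩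
  rw [← hα', ← hdd] at h1
  rw [← hN', ← hdd] at h2
  rw [← hα', ← hN'] at hcop
  rw [← hdd] at hd
  have hN'pos : 0 < N' := by
    rcases Nat.eq_zero_or_pos N' with h | h
    · rw [h, zero_mul] at h2; omega
    · exact h
  rcases (show N' = 1 ∨ 2 ≤ N' by omega) with h | h
  · refine ⟨d, N', α', 0, -1, hd, hN'pos, h2.symm, h1.symm, by omega, ?_, Or.inl ⟨h, rfl, rfl⟩⟩
    rw [h]; simp
  · obtain ⟨a, ha, ha1⟩ := Nat.exists_mul_mod_eq_one_of_coprime hcop (by omega : 1 < N')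
    refine ⟨d, N', α', a, ((a * α' / N' : ℕ) : ℤ), hd, hN'pos, h2.symm, h1.symm, ha, ?_,
      Or.inr ⟨h, rfl⟩⟩
    have h3 := Nat.div_add_mod (a * α') N'
    rw [mul_comm a α', ha1] at h3
    have h4 : ((N' * (α' * a / N') + 1 : ℕ) : ℤ) = ((α' * a : ℕ) : ℤ) := by rw [h3]
    push_cast at h4
    rw [mul_comm a α']
    push_cast
    linear_combination -h4

theorem floor_eq (α N d N' α' : ℕ) (hd : 0 < d) (hN : N = N' * d) (hα : α = α' * d) (i : ℕ) :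
    i * α / N = i * α' / N' := by
  rw [hN, hα, ← mul_assoc, Nat.mul_div_mul_right _ _ hd]

end Groth.Agent.Lib.Helper77.KumGl
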