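import Groth.Agent.Lib.Helper77.KumGl3

/-!
# The double Kummer ring `C = B[S]/(S^d-u)[T]/(T^N' - S^a f₁)` is regular
-/

universe u
set_option autoImplicit false
open IsLocalRing Polynomial TensorProduct
open Groth.Agent.Lib.Helper77.Kummer

namespace Groth.Agent.Lib.Helper77.KumGl

section
variable (B : Type u) [CommRing B] (u : B) (d : ℕ)

/-- first layer -/
abbrev B1 : Type u := AdjoinRoot (kf u d)

/-- the root `S` of `S^d = u` -/
noncomputable abbrev rS : B1 B u d := AdjoinRoot.root (kf u d)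

variable (a : ℕ) (f₁ : B) (N' : ℕ)

/-- the second-layer constant `S^a f₁` -/
noncomputable abbrev cst : B1 B u d := rS B u d ^ a * algebraMap B (B1 B u d) f₁

/-- second layer -/
abbrev CC : Type u := AdjoinRoot (kf (cst B u d a f₁) N')

/-- the root `T` -/
noncomputable abbrev rT : CC B u d a f₁ N' := AdjoinRoot.root (kf (cst B u d a f₁) N')

theorem rS_pow : rS B u d ^ d = algebraMap B (B1 B u d) u := root_pow u d

theorem rT_pow : rT B u d a f₁ N' ^ N' =
    algebraMap (B1 B u d) (CC B u d a f₁ N') (cst B u d a f₁) := root_pow _ N'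

theorem isUnit_rS (hd : 0 < d) (hu : IsUnit u) : IsUnit (rS B u d) := by
  have h2 : IsUnit (rS B u d ^ d) := by rw [rS_pow]; exact hu.map _
  exact (isUnit_pow_iff (Nat.pos_iff_ne_zero.mp hd)).mp h2

theorem etale_adjoinRoot' (R : Type u) [CommRing R] (n : ℕ) (hn : IsUnit (n : R)) (hn0 : 0 < n)
    (v : R) (hv : IsUnit v) : Algebra.Etale R (AdjoinRoot (kf v n)) := by
  haveI := formallyUnramified v n hn0 hv hn
  haveI : Module.Free R (AdjoinRoot (kf v n)) := (kf_monic v n hn0).free_adjoinRoot
  exact Algebra.Etale.of_formallyUnramified_of_flat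

theorem CC_regular [IsDomain B] [IsRegularRing B] (hd : 0 < d) (hu : IsUnit u)
    (hdu : IsUnit (d : B)) (hN' : 0 < N') (hN'u : IsUnit (N' : B)) (hf₁ : f₁ ≠ 0)
    (hreg : IsRegularRing (B ⧸ Ideal.span {f₁})) :
    IsRegularRing (CC B u d a f₁ N') := by
  haveI : Algebra.Etale B (B1 B u d) := etale_adjoinRoot' B d hdu hd u hu
  haveI : IsRegularRing (B1 B u d) := isRegularRing_of_etale B _
  haveI : Module.Free B (B1 B u d) := (kf_monic u d hd).free_adjoinRoot
  have hf1 : algebraMap B (B1 B u d) f₁ ∈ nonZeroDivisors (B1 B u d) := by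
    rw [mem_nonZeroDivisors_iff_right]
    intro x hx
    have h2 : f₁ • x = 0 := by rw [Algebra.smul_def, mul_comm]; exact hx
    exact (Module.Flat.isSMulRegular_of_nonZeroDivisors
      (mem_nonZeroDivisors_of_ne_zero hf₁)).right_eq_zero_of_smul h2
  have hs : cst B u d a f₁ ∈ nonZeroDivisors (B1 B u d) :=
    mul_mem ((isUnit_rS B u d hd hu).pow a).mem_nonZeroDivisors hf1
  have hspan : Ideal.span {cst B u d a f₁} =
      (Ideal.span {f₁}).map (algebraMap B (B1 B u d)) := by
    rw [Ideal.map_span, Set.image_singleton]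
    exact Ideal.span_singleton_mul_left_unit ((isUnit_rS B u d hd hu).pow a) _
  haveI : IsRegularRing (B1 B u d ⧸ (Ideal.span {f₁}).map (algebraMap B (B1 B u d))) :=
    isRegularRing_quotient_of_etale B _ _
  have hreg' : IsRegularRing (B1 B u d ⧸ Ideal.span {cst B u d a f₁}) :=
    IsRegularRing.of_ringEquiv (Ideal.quotEquivOfEq hspan.symm)
  have hN'u' : IsUnit ((N' : ℕ) : B1 B u d) := by
    have := hN'u.map (algebraMap B (B1 B u d))
    rwa [map_natCast] at this
  exact Kummer.main_global (B1 B u d) (cst B u d a f₁) hs hreg' N' hN' hN'u'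

end

end Groth.Agent.Lib.Helper77.KumGl
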