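import Groth.Agent.Lib.Helper77.KumGl4

/-!
# The maps `B₁ → K`, `C → K`
-/

universe u
set_option autoImplicit false
open IsLocalRing Polynomial TensorProduct
open Groth.Agent.Lib.Helper77.Kummer

namespace Groth.Agent.Lib.Helper77.KumGl

section maps
variable {B : Type u} [CommRing B] (u : B) (d a : ℕ) (f₁ : B) (N' : ℕ)
  {K : Type u} [CommRing K] [Algebra B K]
  (s τ : K) (hs : s ^ d = algebraMap B K u) (hτ : τ ^ N' = s ^ a * algebraMap B K f₁)

/-- `B₁ → K`, `S ↦ s` -/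
noncomputable def phi1 : B1 B u d →ₐ[B] K :=
  AdjoinRoot.liftAlgHom (kf u d) (Algebra.ofId B K) s (by
    show eval₂ _ s (X ^ d - C u) = 0
    rw [eval₂_sub, eval₂_pow, eval₂_X, eval₂_C, hs, sub_eq_zero]; rfl)

theorem phi1_root : phi1 u d s hs (rS B u d) = s := AdjoinRoot.liftAlgHom_root _ _ _ _

theorem phi1_mk (p : B[X]) : phi1 u d s hs (AdjoinRoot.mk (kf u d) p) = aeval s p := by
  rw [phi1, AdjoinRoot.coe_liftAlgHom, AdjoinRoot.lift_mk]; rfl

/-- `C → K`, `T ↦ τ` -/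
noncomputable def phi : CC B u d a f₁ N' →ₐ[B] K :=
  AdjoinRoot.liftAlgHom (kf (cst B u d a f₁) N') (phi1 u d s hs) τ (by
    show eval₂ _ τ (X ^ N' - C (cst B u d a f₁)) = 0
    rw [eval₂_sub, eval₂_pow, eval₂_X, eval₂_C, hτ, sub_eq_zero]
    change _ = phi1 u d s hs (cst B u d a f₁)
    rw [cst, map_mul, map_pow, phi1_root, AlgHom.commutes])

theorem phi_root : phi u d a f₁ N' s τ hs hτ (rT B u d a f₁ N') = τ :=
  AdjoinRoot.liftAlgHom_root _ _ _ _

theorem phi_of (r : B1 B u d) :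
    phi u d a f₁ N' s τ hs hτ (algebraMap (B1 B u d) (CC B u d a f₁ N') r) = phi1 u d s hs r :=
  AdjoinRoot.liftAlgHom_of _ _ _ _ _

theorem phi_mk (p : (B1 B u d)[X]) :
    phi u d a f₁ N' s τ hs hτ (AdjoinRoot.mk _ p) = p.eval₂ (phi1 u d s hs : B1 B u d →+* K) τ := by
  rw [phi, AdjoinRoot.coe_liftAlgHom, AdjoinRoot.lift_mk]; rfl

theorem phi1_mem (A : Subalgebra B K) (hsA : s ∈ A) (r : B1 B u d) : phi1 u d s hs r ∈ A := by
  obtain ⟨p, rfl⟩ := AdjoinRoot.mk_surjective r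
  rw [phi1_mk]
  exact Algebra.adjoin_le (Set.singleton_subset_iff.mpr hsA) (aeval_mem_adjoin_singleton B s)

theorem phi_mem (A : Subalgebra B K) (hsA : s ∈ A) (hτA : τ ∈ A) (x : CC B u d a f₁ N') :
    phi u d a f₁ N' s τ hs hτ x ∈ A := by
  obtain ⟨p, rfl⟩ := AdjoinRoot.mk_surjective x
  rw [phi_mk, eval₂_eq_sum_range]
  exact Subalgebra.sum_mem _ fun i _ =>
    Subalgebra.mul_mem _ (phi1_mem u d s hs A hsA _) (Subalgebra.pow_mem _ hτA _)

end maps

end Groth.Agent.Lib.Helper77.KumGl
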