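import Groth.Agent.Lib.Helper77.KumGl5

/-!
# K-side unit relations
-/

universe u
set_option autoImplicit false
open IsLocalRing Polynomial TensorProduct
open Groth.Agent.Lib.Helper77.Kummer

namespace Groth.Agent.Lib.Helper77.KumGl

section Kside
variable {B : Type u} [CommRing B] (u : Bˣ) (α : ℕ) (f₁ : B) (N : ℕ)
  {K : Type u} [CommRing K] [Algebra B K] (tU fU : Kˣ)
  (hfU : (fU : K) = algebraMap B K f₁)
  (htU : tU ^ N = Units.map (algebraMap B K : B →* K) u * fU ^ α)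
  (N' d α' a : ℕ) (b : ℤ)
  (hNd : N = N' * d) (hαd : α = α' * d)
  (hab : (a : ℤ) * α' - b * N' = 1)

/-- `s = t^N' f₁^(-α')` -/
def sU : Kˣ := tU ^ (N' : ℤ) * fU ^ (-(α' : ℤ))
/-- `τ = t^a f₁^(-b)` -/
def τU : Kˣ := tU ^ (a : ℤ) * fU ^ (-b)

include htU hNd hαd in
theorem sU_pow : sU tU fU N' α' ^ d = Units.map (algebraMap B K : B →* K) u := by
  have h1 : sU tU fU N' α' ^ (d : ℤ) = tU ^ ((N' : ℤ) * d) * fU ^ (-((α' : ℤ) * d)) :=
    K1 _ _ _ _ _
  have h2 : tU ^ ((N' : ℤ) * d) =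
      Units.map (algebraMap B K : B →* K) u * fU ^ ((α' : ℤ) * d) := by
    rw [← Nat.cast_mul, zpow_natCast, ← hNd, htU, ← Nat.cast_mul, zpow_natCast, ← hαd]
  rw [h2, zpow_neg, mul_inv_cancel_right, zpow_natCast] at h1
  exact h1

include hab in
theorem τU_pow : τU tU fU a b ^ N' = sU tU fU N' α' ^ a * fU := by
  have h := K2 (N' : ℤ) (α' : ℤ) (a : ℤ) b hab tU fU
  change τU tU fU a b ^ (N' : ℤ) = sU tU fU N' α' ^ (a : ℤ) * fU at h
  rwa [zpow_natCast, zpow_natCast] at h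

include hab in
theorem tU_eq : tU = τU tU fU a b ^ α' * sU tU fU N' α' ^ (-b) := by
  have h := K3 (N' : ℤ) (α' : ℤ) (a : ℤ) b hab tU fU
  change tU = τU tU fU a b ^ (α' : ℤ) * sU tU fU N' α' ^ (-b) at h
  rwa [zpow_natCast] at h

include hab in
theorem gen_eq (i e : ℕ) (he : N' * e ≤ i * α') :
    tU ^ i * (fU⁻¹) ^ e =
      τU tU fU a b ^ (i * α' - N' * e) * sU tU fU N' α' ^ ((a : ℤ) * e - b * i) := by
  have h := K5 (N' : ℤ) (α' : ℤ) (a : ℤ) b hab tU fU (i : ℤ) (e : ℤ)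
  change _ = τU tU fU a b ^ ((i : ℤ) * α' - N' * e) *
    sU tU fU N' α' ^ ((a : ℤ) * e - b * i) at h
  have h3 : ((i : ℤ) * α' - N' * e) = ((i * α' - N' * e : ℕ) : ℤ) := by
    rw [Nat.cast_sub he]; push_cast; ring
  rw [h3, zpow_natCast, zpow_natCast, zpow_neg, ← inv_zpow, zpow_natCast] at h
  exact h

include htU hNd hαd in
theorem s_pow : ((sU tU fU N' α' : Kˣ) : K) ^ d = algebraMap B K u := by
  have := congrArg Units.val (sU_pow u α N tU fU htU N' d α' hNd hαd)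
  simpa [Units.val_pow_eq_pow_val] using this

include hab hfU in
theorem τ_pow : ((τU tU fU a b : Kˣ) : K) ^ N' =
    ((sU tU fU N' α' : Kˣ) : K) ^ a * algebraMap B K f₁ := by
  have := congrArg Units.val (τU_pow tU fU N' α' a b hab)
  rw [← hfU]
  simpa [Units.val_pow_eq_pow_val] using this

end Kside

end Groth.Agent.Lib.Helper77.KumGl
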