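import Groth.Agent.Lib.Helper77.KumGl6

/-!
# The algebra `A` and the image of `C`
-/

universe u
set_option autoImplicit false
open IsLocalRing Polynomial TensorProduct
open Groth.Agent.Lib.Helper77.Kummer

namespace Groth.Agent.Lib.Helper77.KumGl

theorem coe_zz {K : Type*} [CommRing K] (x y : Kˣ) (m n : ℕ) :
    ((x ^ (m : ℤ) * y ^ (-(n : ℤ)) : Kˣ) : K) = (x : K) ^ m * ((y⁻¹ : Kˣ) : K) ^ n := by
  rw [zpow_natCast, zpow_neg, zpow_natCast, ← inv_pow, Units.val_mul, Units.val_pow_eq_pow_val,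
    Units.val_pow_eq_pow_val]

section mem
variable {B : Type u} [CommRing B] (u : Bˣ) (α : ℕ) (f₁ : B) (N : ℕ)
  {K : Type u} [CommRing K] [Algebra B K] (tU fU : Kˣ)
  (hfU : (fU : K) = algebraMap B K f₁)
  (htU : tU ^ N = Units.map (algebraMap B K : B →* K) u * fU ^ α)
  (N' d α' a : ℕ) (b : ℤ) (hd : 0 < d) (hN' : 0 < N')
  (hNd : N = N' * d) (hαd : α = α' * d)
  (hab : (a : ℤ) * α' - b * N' = 1) (haN : a < N')
  (hcase : (N' = 1 ∧ a = 0 ∧ b = -1) ∨ (2 ≤ N' ∧ b = ((a * α' / N' : ℕ) : ℤ)))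

/-- the generators -/
def gen (i : ℕ) : K := (tU : K) ^ i * ((fU⁻¹ : Kˣ) : K) ^ (i * α / N)

/-- the algebra `A` -/
def AA : Subalgebra B K := Algebra.adjoin B (Set.range fun i : Fin N => gen α N tU fU (i : ℕ))

theorem gen_mem (i : ℕ) (hi : i < N) : gen α N tU fU i ∈ AA (B := B) α N tU fU :=
  Algebra.subset_adjoin ⟨⟨i, hi⟩, rfl⟩

include htU hd hN' hNd hαd in
theorem s_mem : ((sU tU fU N' α' : Kˣ) : K) ∈ AA (B := B) α N tU fU := by
  rcases (show d = 1 ∨ 2 ≤ d by omega) with h1 | h2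
  · have := s_pow u α N tU fU htU N' d α' hNd hαd
    rw [h1, pow_one] at this
    rw [this]; exact Subalgebra.algebraMap_mem _ _
  · have hlt : N' < N := by rw [hNd]; nlinarith
    have := gen_mem (B := B) α N tU fU N' hlt
    have he : N' * α / N = α' := by
      rw [floor_eq α N d N' α' hd hNd hαd, Nat.mul_div_cancel_left _ hN']
    rw [gen, he] at this
    rw [sU, coe_zz]
    exact this

include hfU hd hN' hNd hαd haN hcase in
theorem τ_mem : ((τU tU fU a b : Kˣ) : K) ∈ AA (B := B) α N tU fU := by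
  rcases hcase with ⟨h1, h2, h3⟩ | ⟨h1, h2⟩
  · rw [τU, h2, h3]
    simp only [Nat.cast_zero, zpow_zero, neg_neg, zpow_one, one_mul]
    rw [hfU]; exact Subalgebra.algebraMap_mem _ _
  · have hlt : a < N := by rw [hNd]; nlinarith
    have := gen_mem (B := B) α N tU fU a hlt
    rw [gen, floor_eq α N d N' α' hd hNd hαd] at this
    rw [τU, h2, coe_zz]
    exact this

/-- the map `C → K` -/
noncomputable def Phi : CC B (u : B) d a f₁ N' →ₐ[B] K :=
  phi (u : B) d a f₁ N' _ _ (s_pow u α N tU fU htU N' d α' hNd hαd)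
    (τ_pow f₁ tU fU hfU N' α' a b hab)

theorem Phi_root : Phi u α f₁ N tU fU hfU htU N' d α' a b hNd hαd hab (rT B (u : B) d a f₁ N') =
    ((τU tU fU a b : Kˣ) : K) := phi_root _ _ _ _ _ _ _ _ _

theorem Phi_of (r : B1 B (u : B) d) :
    Phi u α f₁ N tU fU hfU htU N' d α' a b hNd hαd hab (algebraMap _ _ r) =
      phi1 (u : B) d _ (s_pow u α N tU fU htU N' d α' hNd hαd) r := phi_of _ _ _ _ _ _ _ _ _ _

include hd hN' haN hcase in
theorem Phi_mem (x : CC B (u : B) d a f₁ N') :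
    Phi u α f₁ N tU fU hfU htU N' d α' a b hNd hαd hab x ∈ AA (B := B) α N tU fU :=
  phi_mem _ _ _ _ _ _ _ _ _ _ (s_mem u α N tU fU htU N' d α' hd hN' hNd hαd)
    (τ_mem α f₁ N tU fU hfU N' d α' a b hd hN' hNd hαd haN hcase) x

include hd in
theorem sU_zpow_mem_range (k : ℤ) : ((sU tU fU N' α' ^ k : Kˣ) : K) ∈
    (Phi u α f₁ N tU fU hfU htU N' d α' a b hNd hαd hab).range := by
  obtain ⟨SU, hSU⟩ : ∃ SU : (B1 B (u : B) d)ˣ, (SU : B1 B (u : B) d) = rS B (u : B) d :=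
    ⟨(isUnit_rS B (u : B) d hd u.isUnit).unit, IsUnit.unit_spec _⟩
  have hmap : Units.map (phi1 (u : B) d _ (s_pow u α N tU fU htU N' d α' hNd hαd) :
      B1 B (u : B) d →* K) SU = sU tU fU N' α' := by
    apply Units.ext
    rw [Units.coe_map, hSU]
    exact phi1_root (u : B) d _ (s_pow u α N tU fU htU N' d α' hNd hαd)
  refine (AlgHom.mem_range _).mpr
    ⟨algebraMap _ _ ((SU ^ k : (B1 B (u : B) d)ˣ) : B1 B (u : B) d), ?_⟩
  rw [Phi_of]
  have h := congrArg (fun x : Kˣ => ((x ^ k : Kˣ) : K)) hmap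
  simp only [← map_zpow, Units.coe_map, MonoidHom.coe_coe] at h
  exact h

include hd hab in
theorem gen_mem_range (i : ℕ) : gen α N tU fU i ∈
    (Phi u α f₁ N tU fU hfU htU N' d α' a b hNd hαd hab).range := by
  have he : N' * (i * α / N) ≤ i * α' := by
    rw [floor_eq α N d N' α' hd hNd hαd]; exact Nat.mul_div_le _ _
  have h1 := gen_eq tU fU N' α' a b hab i (i * α / N) he
  have h2 : gen α N tU fU i = ((tU ^ i * (fU⁻¹) ^ (i * α / N) : Kˣ) : K) := by
    rw [gen, Units.val_mul, Units.val_pow_eq_pow_val, Units.val_pow_eq_pow_val]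
  rw [h2, h1, Units.val_mul, Units.val_pow_eq_pow_val]
  refine Subalgebra.mul_mem _ (Subalgebra.pow_mem _
    ((AlgHom.mem_range _).mpr ⟨rT B (u : B) d a f₁ N', Phi_root ..⟩) _)
    (sU_zpow_mem_range u α f₁ N tU fU hfU htU N' d α' a b hd hNd hαd hab _)

include hd hab in
theorem t_mem_range : (tU : K) ∈ (Phi u α f₁ N tU fU hfU htU N' d α' a b hNd hαd hab).range := by
  have h1 := tU_eq tU fU N' α' a b hab
  have h2 : (tU : K) = ((τU tU fU a b ^ α' * sU tU fU N' α' ^ (-b) : Kˣ) : K) := by rw [← h1]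
  rw [h2, Units.val_mul, Units.val_pow_eq_pow_val]
  refine Subalgebra.mul_mem _ (Subalgebra.pow_mem _
    ((AlgHom.mem_range _).mpr ⟨rT B (u : B) d a f₁ N', Phi_root ..⟩) _)
    (sU_zpow_mem_range u α f₁ N tU fU hfU htU N' d α' a b hd hNd hαd hab _)

include hd hN' haN hcase in
theorem range_Phi : (Phi u α f₁ N tU fU hfU htU N' d α' a b hNd hαd hab).range =
    AA (B := B) α N tU fU := by
  apply le_antisymm
  · rintro _ ⟨x, rfl⟩
    exact Phi_mem u α f₁ N tU fU hfU htU N' d α' a b hd hN' hNd hαd hab haN hcase x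
  · apply Algebra.adjoin_le
    rintro _ ⟨i, rfl⟩
    exact gen_mem_range u α f₁ N tU fU hfU htU N' d α' a b hd hNd hαd hab _

end mem

end Groth.Agent.Lib.Helper77.KumGl
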