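import Groth.Agent.Lib.Helper77.KumGl7

/-!
# Maps from `K` to fields over `C`
-/

universe u
set_option autoImplicit false
open IsLocalRing Polynomial TensorProduct
open Groth.Agent.Lib.Helper77.Kummer

namespace Groth.Agent.Lib.Helper77.KumGl

section theta
variable {B : Type u} [CommRing B] (u : Bˣ) (α : ℕ) (f₁ : B) (N : ℕ)
  {K : Type u} [CommRing K] [Algebra B K] (tU fU : Kˣ)
  (hfU : (fU : K) = algebraMap B K f₁)
  (htU : tU ^ N = Units.map (algebraMap B K : B →* K) u * fU ^ α)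
  (N' d α' a : ℕ) (b : ℤ) (hd : 0 < d) (hN' : 0 < N')
  (hNd : N = N' * d) (hαd : α = α' * d)
  (hab : (a : ℤ) * α' - b * N' = 1)
  (hlift : ∀ (L : Type u) [CommRing L] [Algebra B L] (tL gL : L),
      tL ^ N = algebraMap B L (u * f₁ ^ α) → algebraMap B L f₁ * gL = 1 →
        ∃ θ : K →ₐ[B] L, θ (tU : K) = tL)

include hd hN' hlift in
theorem exists_theta (L : Type u) [Field L] [Algebra B L] [Algebra (CC B (u : B) d a f₁ N') L]
    [IsScalarTower B (CC B (u : B) d a f₁ N') L] (hfL : algebraMap B L f₁ ≠ 0) :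
    ∃ θ : K →ₐ[B] L, ∀ c : CC B (u : B) d a f₁ N',
      θ (Phi u α f₁ N tU fU hfU htU N' d α' a b hNd hαd hab c) =
        algebraMap (CC B (u : B) d a f₁ N') L c := by
  obtain ⟨TL, hTL⟩ : ∃ x, x = algebraMap (CC B (u : B) d a f₁ N') L (rT B (u : B) d a f₁ N') :=
    ⟨_, rfl⟩
  obtain ⟨SL, hSL⟩ : ∃ x, x = algebraMap (CC B (u : B) d a f₁ N') L
    (algebraMap (B1 B (u : B) d) (CC B (u : B) d a f₁ N') (rS B (u : B) d)) := ⟨_, rfl⟩
  have hBL : ∀ x : B, algebraMap (CC B (u : B) d a f₁ N') L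
      (algebraMap (B1 B (u : B) d) (CC B (u : B) d a f₁ N') (algebraMap B (B1 B (u : B) d) x)) =
      algebraMap B L x := by
    intro x
    rw [← IsScalarTower.algebraMap_apply B (B1 B (u : B) d) (CC B (u : B) d a f₁ N'),
      ← IsScalarTower.algebraMap_apply B (CC B (u : B) d a f₁ N') L]
  have hSd : SL ^ d = algebraMap B L u := by
    rw [hSL, ← map_pow, ← map_pow, rS_pow, hBL]
  have hTN : TL ^ N' = SL ^ a * algebraMap B L f₁ := by
    rw [hTL, ← map_pow, rT_pow]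
    show algebraMap (CC B (u : B) d a f₁ N') L (algebraMap (B1 B (u : B) d) _
      (rS B (u : B) d ^ a * algebraMap B (B1 B (u : B) d) f₁)) = _
    rw [map_mul, map_mul, map_pow, map_pow, ← hSL, hBL]
  have hS0 : SL ≠ 0 := by
    intro h
    rw [h, zero_pow hd.ne'] at hSd
    exact (u.isUnit.map (algebraMap B L)).ne_zero hSd.symm
  have hT0 : TL ≠ 0 := by
    intro h
    rw [h, zero_pow hN'.ne'] at hTN
    exact mul_ne_zero (pow_ne_zero _ hS0) hfL hTN.symm
  obtain ⟨TLU, hTLU⟩ : ∃ x : Lˣ, (x : L) = TL := ⟨Units.mk0 TL hT0, rfl⟩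
  obtain ⟨SLU, hSLU⟩ : ∃ x : Lˣ, (x : L) = SL := ⟨Units.mk0 SL hS0, rfl⟩
  obtain ⟨fLU, hfLU⟩ : ∃ x : Lˣ, (x : L) = algebraMap B L f₁ := ⟨Units.mk0 _ hfL, rfl⟩
  have hT : TLU ^ (N' : ℤ) = SLU ^ (a : ℤ) * fLU := by
    apply Units.ext
    rw [zpow_natCast, zpow_natCast, Units.val_mul, Units.val_pow_eq_pow_val,
      Units.val_pow_eq_pow_val, hTLU, hSLU, hfLU, hTN]
  have h1 := L1 (N' : ℤ) (d : ℤ) (α' : ℤ) (a : ℤ) b hab TLU SLU fLU hT
  obtain ⟨t₀, ht₀def⟩ : ∃ t₀ : Lˣ, t₀ = TLU ^ (α' : ℤ) * SLU ^ (-b) := ⟨_, rfl⟩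
  rw [← ht₀def] at h1
  have ht₀ : (t₀ : L) ^ N = algebraMap B L (u * f₁ ^ α) := by
    rw [← Nat.cast_mul, ← Nat.cast_mul, zpow_natCast, zpow_natCast, zpow_natCast, ← hNd, ← hαd]
      at h1
    have := congrArg Units.val h1
    rw [Units.val_pow_eq_pow_val, Units.val_mul, Units.val_pow_eq_pow_val,
      Units.val_pow_eq_pow_val, hSLU, hfLU, hSd] at this
    rw [this, map_mul, map_pow]
  obtain ⟨θ, hθ⟩ := hlift L (t₀ : L) ((fLU⁻¹ : Lˣ) : L) ht₀ (by rw [← hfLU]; simp)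
  refine ⟨θ, ?_⟩
  have hmt : Units.map (θ : K →* L) tU = t₀ := Units.ext hθ
  have hmf : Units.map (θ : K →* L) fU = fLU := by
    apply Units.ext
    rw [Units.coe_map, hfU, hfLU]
    exact θ.commutes f₁
  have hs : θ ((sU tU fU N' α' : Kˣ) : K) = SL := by
    have h2 := L2 (N' : ℤ) (α' : ℤ) (a : ℤ) b hab TLU SLU fLU hT
    rw [← ht₀def] at h2
    have h3 : Units.map (θ : K →* L) (sU tU fU N' α') = SLU := by
      rw [sU, map_mul, map_zpow, map_zpow, hmt, hmf]; exact h2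
    have := congrArg Units.val h3
    rw [Units.coe_map, hSLU] at this
    exact this
  have hτ : θ ((τU tU fU a b : Kˣ) : K) = TL := by
    have h2 := L3 (N' : ℤ) (α' : ℤ) (a : ℤ) b hab TLU SLU fLU hT
    rw [← ht₀def] at h2
    have h3 : Units.map (θ : K →* L) (τU tU fU a b) = TLU := by
      rw [τU, map_mul, map_zpow, map_zpow, hmt, hmf]; exact h2
    have := congrArg Units.val h3
    rw [Units.coe_map, hTLU] at this
    exact this
  have key : (θ : K →+* L).comp
      (Phi u α f₁ N tU fU hfU htU N' d α' a b hNd hαd hab : CC B (u : B) d a f₁ N' →+* K) =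
      algebraMap (CC B (u : B) d a f₁ N') L := by
    apply AdjoinRoot.ringHom_ext
    · apply AdjoinRoot.ringHom_ext
      · ext x
        simp only [RingHom.comp_apply, RingHom.coe_coe]
        rw [← AdjoinRoot.algebraMap_eq, ← AdjoinRoot.algebraMap_eq, hBL,
          ← IsScalarTower.algebraMap_apply B (B1 B (u : B) d) (CC B (u : B) d a f₁ N'),
          AlgHom.commutes, AlgHom.commutes]
      · simp only [RingHom.comp_apply, RingHom.coe_coe]
        rw [← AdjoinRoot.algebraMap_eq, Phi_of, ← hSL]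
        have := phi1_root (u : B) d _ (s_pow u α N tU fU htU N' d α' hNd hαd)
        rw [rS] at this
        rw [this, hs]
    · simp only [RingHom.comp_apply, RingHom.coe_coe]
      have := Phi_root u α f₁ N tU fU hfU htU N' d α' a b hNd hαd hab
      rw [rT] at this
      rw [this, hτ, hTL]
  intro c
  exact RingHom.congr_fun key c

end theta

end Groth.Agent.Lib.Helper77.KumGl
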