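import Groth.Agent.Lib.Helper77.KumGl8
import Groth.Agent.S9829

/-!
# The abstract cyclic cover theorem
-/

universe u
set_option autoImplicit false
open IsLocalRing Polynomial TensorProduct
open Groth.Agent.Lib.Helper77.Kummer

namespace Groth.Agent.Lib.Helper77.KumGl

section final
variable {B : Type u} [CommRing B] [IsDomain B] [IsRegularRing B] (u : Bˣ) (α : ℕ) (f₁ : B) (N : ℕ)
  {K : Type u} [CommRing K] [Algebra B K] (tU fU : Kˣ)
  (hfU : (fU : K) = algebraMap B K f₁)
  (htU : tU ^ N = Units.map (algebraMap B K : B →* K) u * fU ^ α)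
  (N' d α' a : ℕ) (b : ℤ) (hd : 0 < d) (hN' : 0 < N')
  (hNd : N = N' * d) (hαd : α = α' * d)
  (hab : (a : ℤ) * α' - b * N' = 1) (haN : a < N')
  (hcase : (N' = 1 ∧ a = 0 ∧ b = -1) ∨ (2 ≤ N' ∧ b = ((a * α' / N' : ℕ) : ℤ)))
  (hlift : ∀ (L : Type u) [CommRing L] [Algebra B L] (tL gL : L),
      tL ^ N = algebraMap B L (u * f₁ ^ α) → algebraMap B L f₁ * gL = 1 →
        ∃ θ : K →ₐ[B] L, θ (tU : K) = tL)
  (hdu : IsUnit (d : B)) (hN'u : IsUnit (N' : B)) (hf₁ : f₁ ≠ 0)
  (hreg : IsRegularRing (B ⧸ Ideal.span {f₁}))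
  (hgen : ∀ x : K, ∃ (p : B[X]) (n : ℕ), x = aeval (tU : K) p * ((fU⁻¹ : Kˣ) : K) ^ n)

include hd hN' hf₁ in
theorem f1_ne_zero_Q (Q : Ideal (CC B (u : B) d a f₁ N')) [Q.IsPrime]
    [IsDomain (Localization.AtPrime Q)] :
    algebraMap B (FractionRing (Localization.AtPrime Q)) f₁ ≠ 0 := by
  haveI : Module.Free B (B1 B (u : B) d) := (kf_monic (u : B) d hd).free_adjoinRoot
  haveI : Module.Free (B1 B (u : B) d) (CC B (u : B) d a f₁ N') :=
    (kf_monic _ N' hN').free_adjoinRoot
  haveI : Module.Flat B (CC B (u : B) d a f₁ N') :=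
    Module.Flat.trans B (B1 B (u : B) d) (CC B (u : B) d a f₁ N')
  have h1 : algebraMap B (CC B (u : B) d a f₁ N') f₁ ∈ nonZeroDivisors (CC B (u : B) d a f₁ N') := by
    rw [mem_nonZeroDivisors_iff_right]
    intro x hx
    have h2 : f₁ • x = 0 := by rw [Algebra.smul_def, mul_comm]; exact hx
    exact (Module.Flat.isSMulRegular_of_nonZeroDivisors
      (mem_nonZeroDivisors_of_ne_zero hf₁)).right_eq_zero_of_smul h2
  have h2 := IsLocalization.map_nonZeroDivisors_le Q.primeCompl (Localization.AtPrime Q)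
    (Submonoid.mem_map_of_mem _ h1)
  have h3 : algebraMap (CC B (u : B) d a f₁ N') (Localization.AtPrime Q)
      (algebraMap B (CC B (u : B) d a f₁ N') f₁) ≠ 0 := nonZeroDivisors.ne_zero h2
  rw [IsScalarTower.algebraMap_apply B (CC B (u : B) d a f₁ N')
    (FractionRing (Localization.AtPrime Q)),
    IsScalarTower.algebraMap_apply (CC B (u : B) d a f₁ N') (Localization.AtPrime Q)
    (FractionRing (Localization.AtPrime Q))]
  intro h
  exact h3 ((IsFractionRing.injective (Localization.AtPrime Q)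
    (FractionRing (Localization.AtPrime Q))) (h.trans (map_zero _).symm))

include hd hN' hf₁ hlift hdu hN'u hreg in
theorem Phi_injective :
    Function.Injective (Phi u α f₁ N tU fU hfU htU N' d α' a b hNd hαd hab) := by
  haveI : IsRegularRing (CC B (u : B) d a f₁ N') :=
    CC_regular B (u : B) d a f₁ N' hd u.isUnit hdu hN' hN'u hf₁ hreg
  rw [injective_iff_map_eq_zero]
  intro c hc
  apply eq_zero_of_localization
  intro Q hQ
  haveI : IsRegularLocalRing (Localization.AtPrime Q) :=
    IsRegularRing.isRegularLocalRing_localization Q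
  haveI : IsDomain (Localization.AtPrime Q) := Helper76.isDomain_of_isRegularLocalRing _
  obtain ⟨θ, hθ⟩ := exists_theta u α f₁ N tU fU hfU htU N' d α' a b hd hN' hNd hαd hab hlift
    (FractionRing (Localization.AtPrime Q)) (f1_ne_zero_Q u f₁ N' d a hd hN' hf₁ Q)
  have h1 := hθ c
  rw [hc, map_zero, IsScalarTower.algebraMap_apply (CC B (u : B) d a f₁ N')
    (Localization.AtPrime Q) (FractionRing (Localization.AtPrime Q))] at h1
  exact (IsFractionRing.injective (Localization.AtPrime Q)
    (FractionRing (Localization.AtPrime Q))) (h1.symm.trans (map_zero _).symm)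

include hd hN' hf₁ hlift hdu hN'u hreg hgen in
theorem mem_range_of_isIntegral (x : K) (hx : IsIntegral B x) :
    x ∈ (Phi u α f₁ N tU fU hfU htU N' d α' a b hNd hαd hab).range := by
  haveI : IsRegularRing (CC B (u : B) d a f₁ N') :=
    CC_regular B (u : B) d a f₁ N' hd u.isUnit hdu hN' hN'u hf₁ hreg
  obtain ⟨Φ, hΦ⟩ : ∃ Φ, Φ = Phi u α f₁ N tU fU hfU htU N' d α' a b hNd hαd hab := ⟨_, rfl⟩
  rw [← hΦ]
  obtain ⟨p, n, hpn⟩ := hgen x
  have ht : (tU : K) ∈ Φ.range := by
    rw [hΦ]; exact t_mem_range u α f₁ N tU fU hfU htU N' d α' a b hd hNd hαd hab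
  have hp : aeval (tU : K) p ∈ Φ.range :=
    Algebra.adjoin_le (Set.singleton_subset_iff.mpr ht) (aeval_mem_adjoin_singleton B _)
  obtain ⟨y, hy⟩ := hp
  have hfx : algebraMap B K f₁ ^ n * x = Φ y := by
    rw [hpn, ← hfU, mul_comm, mul_assoc, ← mul_pow, Units.inv_mul, one_pow, mul_one]
    exact hy.symm
  let I : Ideal (CC B (u : B) d a f₁ N') :=
    { carrier := {c | Φ c * x ∈ Φ.range}
      add_mem' := fun {c1 c2} h1 h2 => by
        show Φ (c1 + c2) * x ∈ Φ.range
        rw [map_add, add_mul]; exact Subalgebra.add_mem _ h1 h2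
      zero_mem' := by
        show Φ 0 * x ∈ Φ.range
        rw [map_zero, zero_mul]; exact Subalgebra.zero_mem _
      smul_mem' := fun r {c} h => by
        show Φ (r • c) * x ∈ Φ.range
        rw [smul_eq_mul, map_mul, mul_assoc]
        exact Subalgebra.mul_mem _ ((AlgHom.mem_range _).mpr ⟨r, rfl⟩) h }
  suffices h : I = ⊤ by
    have h1 : (1 : CC B (u : B) d a f₁ N') ∈ I := by rw [h]; trivial
    have h2 : Φ 1 * x ∈ Φ.range := h1
    rwa [map_one, one_mul] at h2
  by_contra hI
  obtain ⟨Q, hQ, hIQ⟩ := Ideal.exists_le_maximal I hI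
  haveI : IsRegularLocalRing (Localization.AtPrime Q) :=
    IsRegularRing.isRegularLocalRing_localization Q
  haveI : IsDomain (Localization.AtPrime Q) := Helper76.isDomain_of_isRegularLocalRing _
  haveI : IsIntegrallyClosed (Localization.AtPrime Q) := Groth.Agent.S9829.result _
  obtain ⟨θ, hθ⟩ := exists_theta u α f₁ N tU fU hfU htU N' d α' a b hd hN' hNd hαd hab hlift
    (FractionRing (Localization.AtPrime Q)) (f1_ne_zero_Q u f₁ N' d a hd hN' hf₁ Q)
  rw [← hΦ] at hθ
  have hint : IsIntegral (Localization.AtPrime Q) (θ x) := (hx.map θ).tower_top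
  obtain ⟨r, hr⟩ := IsIntegrallyClosed.isIntegral_iff.mp hint
  obtain ⟨c', c'', hr'⟩ := IsLocalization.exists_mk'_eq Q.primeCompl r
  have e1 : algebraMap B (FractionRing (Localization.AtPrime Q)) f₁ ^ n * θ x =
      algebraMap (CC B (u : B) d a f₁ N') (FractionRing (Localization.AtPrime Q)) y := by
    rw [← hθ y, ← hfx, map_mul, map_pow, AlgHom.commutes]
  have e2 : algebraMap (CC B (u : B) d a f₁ N') (Localization.AtPrime Q)
      (algebraMap B (CC B (u : B) d a f₁ N') f₁ ^ n * c') =
      algebraMap (CC B (u : B) d a f₁ N') (Localization.AtPrime Q) (y * c'') := by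
    apply IsFractionRing.injective (Localization.AtPrime Q)
      (FractionRing (Localization.AtPrime Q))
    have h1 : algebraMap (CC B (u : B) d a f₁ N') (Localization.AtPrime Q) c' =
        r * algebraMap (CC B (u : B) d a f₁ N') (Localization.AtPrime Q) c'' := by
      rw [← hr', IsLocalization.mk'_spec]
    have h1' : algebraMap (CC B (u : B) d a f₁ N') (FractionRing (Localization.AtPrime Q)) c' =
        θ x * algebraMap (CC B (u : B) d a f₁ N') (FractionRing (Localization.AtPrime Q)) c'' := by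
      rw [IsScalarTower.algebraMap_apply (CC B (u : B) d a f₁ N') (Localization.AtPrime Q)
        (FractionRing (Localization.AtPrime Q)), h1, map_mul, hr,
        ← IsScalarTower.algebraMap_apply (CC B (u : B) d a f₁ N') (Localization.AtPrime Q)
        (FractionRing (Localization.AtPrime Q))]
    rw [← IsScalarTower.algebraMap_apply (CC B (u : B) d a f₁ N') (Localization.AtPrime Q)
        (FractionRing (Localization.AtPrime Q)),
      ← IsScalarTower.algebraMap_apply (CC B (u : B) d a f₁ N') (Localization.AtPrime Q)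
        (FractionRing (Localization.AtPrime Q)), map_mul, map_mul, h1', map_pow,
      ← IsScalarTower.algebraMap_apply B (CC B (u : B) d a f₁ N')
        (FractionRing (Localization.AtPrime Q)), ← mul_assoc, e1]
  obtain ⟨c''', hc'''⟩ := (IsLocalization.eq_iff_exists Q.primeCompl _).mp e2
  have hmem : (c''' : CC B (u : B) d a f₁ N') * c'' ∈ I := by
    show Φ (c''' * c'') * x ∈ Φ.range
    refine (AlgHom.mem_range _).mpr ⟨c''' * c', ?_⟩
    have hunit : IsUnit (algebraMap B K f₁ ^ n) := by
      rw [← hfU]; exact fU.isUnit.pow n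
    have hcalc : algebraMap B K f₁ ^ n * (Φ (c''' * c'') * x) =
        algebraMap B K f₁ ^ n * Φ (c''' * c') := by
      calc algebraMap B K f₁ ^ n * (Φ (c''' * c'') * x)
          = Φ (c''' * c'') * (algebraMap B K f₁ ^ n * x) := by ring
        _ = Φ (c''' * c'') * Φ y := by rw [hfx]
        _ = Φ (c''' * (y * c'')) := by rw [← map_mul]; congr 1; ring
        _ = Φ (c''' * (algebraMap B (CC B (u : B) d a f₁ N') f₁ ^ n * c')) := by rw [hc''']
        _ = algebraMap B K f₁ ^ n * Φ (c''' * c') := by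
          rw [map_mul, map_mul, map_pow, AlgHom.commutes, map_mul]; ring
    exact (hunit.mul_left_cancel hcalc).symm
  have hQmem := hIQ hmem
  rcases hQ.isPrime.mem_or_mem hQmem with h | h
  · exact c'''.2 h
  · exact c''.2 h

end final

end Groth.Agent.Lib.Helper77.KumGl
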