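import Groth.Agent.Lib.Helper77.Serre
import Mathlib.RingTheory.KrullDimension.Regular

universe u
set_option autoImplicit false
open IsLocalRing

namespace Groth.Agent.Lib.Helper77.Kummer

/-- `R` local Noetherian, `t ∈ m` a nonzerodivisor with `R/(t)` regular: then `R` is regular. -/
theorem regular_of_quot_regular (R : Type u) [CommRing R] [IsLocalRing R] [IsNoetherianRing R]
    (t : R) (ht : t ∈ maximalIdeal R) (hreg : IsSMulRegular R t) (J : Ideal R)
    (hJ : J = Ideal.span {t}) [hQ : IsRegularLocalRing (R ⧸ J)] : IsRegularLocalRing R := by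
  classical
  subst hJ
  apply IsRegularLocalRing.of_spanFinrank_maximalIdeal_le
  have hdim := ringKrullDim_quotient_span_singleton_succ_eq_ringKrullDim hreg ht
  have h2 : ((maximalIdeal (R ⧸ Ideal.span {t})).spanFinrank : WithBot ℕ∞) =
      ringKrullDim (R ⧸ Ideal.span {t}) := IsRegularLocalRing.spanFinrank_maximalIdeal
  obtain ⟨s, hscard, hsspan⟩ := Submodule.FG.exists_span_finset_card_eq_spanFinrank
    (IsNoetherian.noetherian (maximalIdeal (R ⧸ Ideal.span {t})))
  -- lift the generators
  have hlift : ∀ y : R ⧸ Ideal.span {t}, ∃ x : R, Ideal.Quotient.mk _ x = y :=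
    Ideal.Quotient.mk_surjective
  choose g hg using hlift
  set T : Finset R := insert t (s.image g) with hT
  have hspan : maximalIdeal R ≤ Ideal.span (T : Set R) := by
    intro x hx
    have hx' : Ideal.Quotient.mk (Ideal.span {t}) x ∈ maximalIdeal (R ⧸ Ideal.span {t}) := by
      rw [mem_maximalIdeal, mem_nonunits_iff] at hx ⊢
      intro hu
      apply hx
      have hloc : IsLocalHom (Ideal.Quotient.mk (Ideal.span {t})) :=
        IsLocalHom.of_surjective _ Ideal.Quotient.mk_surjective
      exact isUnit_of_map_unit (Ideal.Quotient.mk (Ideal.span {t})) x hu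
    rw [← hsspan] at hx'
    have hx'' : Ideal.Quotient.mk (Ideal.span {t}) x ∈
        (Ideal.span (T : Set R)).map (Ideal.Quotient.mk (Ideal.span {t})) := by
      rw [Ideal.map_span]
      refine Submodule.span_mono ?_ hx'
      intro y hy
      refine ⟨g y, ?_, hg y⟩
      rw [hT]
      simp only [Finset.coe_insert, Finset.coe_image]
      exact Set.mem_insert_of_mem _ ⟨y, hy, rfl⟩
    rw [Ideal.mem_map_iff_of_surjective _ Ideal.Quotient.mk_surjective] at hx''
    obtain ⟨x', hx'T, hxx'⟩ := hx''
    have h3 : x - x' ∈ Ideal.span {t} := by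
      rw [← Ideal.Quotient.eq_zero_iff_mem, map_sub, hxx', sub_self]
    have h4 : Ideal.span {t} ≤ Ideal.span (T : Set R) := by
      rw [Ideal.span_singleton_le_iff_mem]
      apply Ideal.subset_span
      rw [hT]
      simp
    have : x = (x - x') + x' := by ring
    rw [this]
    exact Ideal.add_mem _ (h4 h3) hx'T
  have hspan' : Ideal.span (T : Set R) = maximalIdeal R := by
    apply le_antisymm _ hspan
    rw [Ideal.span_le]
    intro x hx
    rw [hT] at hx
    simp only [Finset.coe_insert, Finset.coe_image, Set.mem_insert_iff, Set.mem_image] at hx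
    rcases hx with rfl | ⟨y, hy, rfl⟩
    · exact ht
    · have hy' : y ∈ maximalIdeal (R ⧸ Ideal.span {t}) := by
        rw [← hsspan]; exact Submodule.subset_span hy
      rw [mem_maximalIdeal, mem_nonunits_iff] at hy'
      rw [SetLike.mem_coe, mem_maximalIdeal, mem_nonunits_iff]
      intro hu
      apply hy'
      rw [← hg y]
      exact hu.map _
  have hcard : (maximalIdeal R).spanFinrank ≤ s.card + 1 := by
    rw [← hspan']
    refine (Submodule.spanFinrank_span_le_ncard_of_finite (Finset.finite_toSet T)).trans ?_
    rw [Set.ncard_coe_finset, hT]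
    refine (Finset.card_insert_le _ _).trans ?_
    exact Nat.add_le_add_right Finset.card_image_le 1
  rw [hscard] at hcard
  calc ((maximalIdeal R).spanFinrank : WithBot ℕ∞)
      ≤ (((maximalIdeal (R ⧸ Ideal.span {t})).spanFinrank + 1 : ℕ) : WithBot ℕ∞) := by
        exact_mod_cast hcard
    _ = ringKrullDim (R ⧸ Ideal.span {t}) + 1 := by
        rw [← h2]; push_cast; rfl
    _ = ringKrullDim R := hdim

end Groth.Agent.Lib.Helper77.Kummer
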