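import Groth.Agent.Lib.Helper77.FlatDepth

universe u
set_option autoImplicit false
open IsLocalRing TensorProduct
open scoped Pointwise

namespace Groth.Agent.Lib.Helper77.SV
open Groth.Agent.Lib.Helper77.FlatDepth


section Decomp
variable {A : Type u} [CommRing A] [IsLocalRing A] [IsNoetherianRing A]

theorem exists_decomp (J : Ideal A) (hJ : J ≠ ⊥) :
    ∃ (J0 : Ideal A) (ε : A), J0 < J ∧ J = J0 ⊔ Ideal.span {ε} ∧ ε ∉ J0 ∧
      ∀ a ∈ maximalIdeal A, a * ε ∈ J0 := by
  have hwf : WellFounded ((· > ·) : Ideal A → Ideal A → Prop) := wellFounded_gt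
  obtain ⟨J0, hJ0, hmax⟩ := hwf.has_min {J' : Ideal A | J' < J} ⟨⊥, bot_lt_iff_ne_bot.mpr hJ⟩
  have hJ0' : J0 < J := hJ0
  obtain ⟨ε, hεJ, hεJ0⟩ := SetLike.exists_of_lt hJ0'
  have hspan : Ideal.span {ε} ≤ J := (Ideal.span_singleton_le_iff_mem J).mpr hεJ
  have hmax' : ∀ K : Ideal A, J0 ≤ K → K ≤ J → K = J0 ∨ K = J := by
    intro K h1 h2
    by_cases hK : K = J
    · exact Or.inr hK
    · left
      have h3 : K < J := lt_of_le_of_ne h2 hK
      by_contra hne
      exact hmax K h3 (lt_of_le_of_ne h1 (Ne.symm hne))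
  refine ⟨J0, ε, hJ0', ?_, hεJ0, ?_⟩
  · rcases hmax' (J0 ⊔ Ideal.span {ε}) le_sup_left (sup_le hJ0'.le hspan) with h | h
    · exfalso
      apply hεJ0
      rw [← h]
      exact Ideal.mem_sup_right (Ideal.mem_span_singleton_self ε)
    · exact h.symm
  · have hle : maximalIdeal A * Ideal.span {ε} ≤ J :=
      (Ideal.mul_le_right).trans hspan
    rcases hmax' (J0 ⊔ maximalIdeal A * Ideal.span {ε}) le_sup_left (sup_le hJ0'.le hle) with h | h
    · intro a ha
      have : a * ε ∈ J0 ⊔ maximalIdeal A * Ideal.span {ε} :=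
        Ideal.mem_sup_right (Ideal.mul_mem_mul ha (Ideal.mem_span_singleton_self ε))
      rwa [h] at this
    · exfalso
      have h1 : ε ∈ J0 ⊔ maximalIdeal A * Ideal.span {ε} := by rw [h]; exact hεJ
      rw [Submodule.mem_sup] at h1
      obtain ⟨j0, hj0, w, hw, hsum⟩ := h1
      rw [Ideal.mem_mul_span_singleton] at hw
      obtain ⟨a, ha, rfl⟩ := hw
      have h2 : (1 - a) * ε = j0 := by linear_combination -hsum
      have hu : IsUnit (1 - a) := by
        have := (IsLocalRing.mem_maximalIdeal a).mp ha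
        exact (IsLocalRing.isUnit_or_isUnit_one_sub_self a).resolve_left this
      apply hεJ0
      have h3 : ε = hu.unit⁻¹ * j0 := by
        rw [← h2, ← mul_assoc, IsUnit.val_inv_mul, one_mul]
      rw [h3]
      exact J0.mul_mem_left _ hj0

end Decomp

section Colon
variable {A : Type u} [CommRing A] (N : Type u) [AddCommGroup N] [Module A N] [Module.Flat A N]

theorem mem_smul_top_of_colon (I J : Ideal A) (ε : A) (h : ∀ a, a * ε ∈ J ↔ a ∈ I) (n : N)
    (hn : ε • n ∈ J • (⊤ : Submodule A N)) : n ∈ I • (⊤ : Submodule A N) := by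
  have hle : I ≤ LinearMap.ker (LinearMap.toSpanSingleton A (A ⧸ J) (Ideal.Quotient.mk J ε)) := by
    intro a ha
    rw [LinearMap.mem_ker, LinearMap.toSpanSingleton_apply]
    show a • (Ideal.Quotient.mk J ε) = 0
    rw [← Ideal.Quotient.mk_eq_mk, ← Submodule.Quotient.mk_smul, smul_eq_mul]
    exact (Submodule.Quotient.mk_eq_zero _).mpr ((h a).mpr ha)
  set ι : (A ⧸ I) →ₗ[A] (A ⧸ J) := Submodule.liftQ I _ hle with hι
  have hinj : Function.Injective ι := by
    rw [← LinearMap.ker_eq_bot, hι, Submodule.ker_liftQ_eq_bot]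
    intro a ha
    rw [LinearMap.mem_ker, LinearMap.toSpanSingleton_apply] at ha
    have h1 : a • (Ideal.Quotient.mk J ε) = 0 := ha
    rw [← Ideal.Quotient.mk_eq_mk, ← Submodule.Quotient.mk_smul, smul_eq_mul,
      Submodule.Quotient.mk_eq_zero] at h1
    exact (h a).mp h1
  refine mem_smul_top_of_smul_mem N I J ι hinj ε ?_ n hn
  show Submodule.liftQ I _ hle (Submodule.Quotient.mk 1) = _
  rw [Submodule.liftQ_apply, LinearMap.toSpanSingleton_apply, one_smul]

end Colon

section FlatInduct
variable {A : Type u} [CommRing A] [IsLocalRing A] [IsArtinianRing A]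
variable (M : Type u) [AddCommGroup M] [Module A M]

theorem flat_of_colon (h : ∀ (J0 : Ideal A) (ε : A), ε ∉ J0 → (∀ a ∈ maximalIdeal A, a * ε ∈ J0) →
    ∀ b : M, ε • b ∈ J0 • (⊤ : Submodule A M) → b ∈ maximalIdeal A • (⊤ : Submodule A M)) :
    Module.Flat A M := by
  rw [Module.Flat.iff_rTensor_injective']
  intro I
  induction I using WellFoundedLT.induction with
  | ind I ih =>
  by_cases hI : I = ⊥
  · subst hI
    have : Subsingleton ((⊥ : Ideal A) ⊗[A] M) := by
      refine ⟨fun x y => ?_⟩
      have h0 : ∀ z : (⊥ : Ideal A) ⊗[A] M, z = 0 := by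
        intro z
        induction z using TensorProduct.induction_on with
        | zero => rfl
        | tmul i b =>
          have : i = 0 := Subsingleton.elim _ _
          rw [this, zero_tmul]
        | add x y hx hy => rw [hx, hy, add_zero]
      rw [h0 x, h0 y]
    exact Function.injective_of_subsingleton _
  · obtain ⟨I0, ε, hlt, hsup, hε, hm⟩ := exists_decomp I hI
    have ih0 := ih I0 hlt
    have hεI : ε ∈ I := by
      rw [hsup]; exact Ideal.mem_sup_right (Ideal.mem_span_singleton_self ε)
    set incl : I0 →ₗ[A] I := Submodule.inclusion hlt.le with hincl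
    set ε' : I := ⟨ε, hεI⟩ with hε'
    have claim1 : ∀ t : I ⊗[A] M, ∃ (t0 : I0 ⊗[A] M) (b : M),
        t = LinearMap.rTensor M incl t0 + ε' ⊗ₜ[A] b := by
      intro t
      induction t using TensorProduct.induction_on with
      | zero => exact ⟨0, 0, by rw [map_zero, tmul_zero, add_zero]⟩
      | tmul i b =>
        have hi : (i : A) ∈ I0 ⊔ Ideal.span {ε} := by rw [← hsup]; exact i.2
        rw [Submodule.mem_sup] at hi
        obtain ⟨i0, hi0, w, hw, hsum⟩ := hi
        rw [Ideal.mem_span_singleton'] at hw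
        obtain ⟨a, rfl⟩ := hw
        refine ⟨(⟨i0, hi0⟩ : I0) ⊗ₜ[A] b, a • b, ?_⟩
        have h1 : i = incl ⟨i0, hi0⟩ + a • ε' := by
          apply Subtype.ext
          simp only [hincl, hε', Submodule.coe_add, Submodule.coe_inclusion, Submodule.coe_smul,
            smul_eq_mul]
          exact hsum.symm
        rw [h1, add_tmul, LinearMap.rTensor_tmul, smul_tmul]
      | add x y hx hy =>
        obtain ⟨t0, b, rfl⟩ := hx
        obtain ⟨t0', b', rfl⟩ := hy
        refine ⟨t0 + t0', b + b', ?_⟩
        rw [map_add, tmul_add]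
        abel
    have claim2 : ∀ t0 : I0 ⊗[A] M,
        TensorProduct.lid A M (LinearMap.rTensor M I0.subtype t0) ∈ I0 • (⊤ : Submodule A M) := by
      intro t0
      induction t0 using TensorProduct.induction_on with
      | zero => simp
      | tmul i b =>
        rw [LinearMap.rTensor_tmul, TensorProduct.lid_tmul]
        exact Submodule.smul_mem_smul i.2 Submodule.mem_top
      | add x y hx hy =>
        rw [map_add, map_add]
        exact Submodule.add_mem _ hx hy
    have claim3 : ∀ b ∈ maximalIdeal A • (⊤ : Submodule A M),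
        ε' ⊗ₜ[A] b ∈ LinearMap.range (LinearMap.rTensor M incl) := by
      intro b hb
      refine Submodule.smul_induction_on hb ?_ ?_
      · intro a ha b' _
        refine ⟨(⟨a * ε, hm a ha⟩ : I0) ⊗ₜ[A] b', ?_⟩
        rw [LinearMap.rTensor_tmul, ← smul_tmul]
        congr 1
      · intro x y hx hy
        rw [tmul_add]
        exact Submodule.add_mem _ hx hy
    have hcomp : I.subtype.comp incl = I0.subtype := Submodule.subtype_comp_inclusion _ _ _
    rw [injective_iff_map_eq_zero]
    intro t ht
    obtain ⟨t0, b, rfl⟩ := claim1 t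
    have h1 : TensorProduct.lid A M (LinearMap.rTensor M I0.subtype t0) + ε • b = 0 := by
      have := congrArg (TensorProduct.lid A M) ht
      rw [map_add, ← LinearMap.rTensor_comp_apply, hcomp, LinearMap.rTensor_tmul, map_add, map_zero,
        TensorProduct.lid_tmul] at this
      exact this
    have h2 : ε • b ∈ I0 • (⊤ : Submodule A M) := by
      have : ε • b = - TensorProduct.lid A M (LinearMap.rTensor M I0.subtype t0) :=
        eq_neg_of_add_eq_zero_right h1
      rw [this]
      exact Submodule.neg_mem _ (claim2 t0)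
    obtain ⟨t1, ht1⟩ := claim3 b (h I0 ε hε hm b h2)
    rw [← ht1, ← map_add] at ht ⊢
    rw [← LinearMap.rTensor_comp_apply, hcomp] at ht
    rw [(injective_iff_map_eq_zero _).mp ih0 _ ht, map_zero]

end FlatInduct

end Groth.Agent.Lib.Helper77.SV
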