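import Groth.Agent.Lib.Helper77.FlatDepth
import Groth.Agent.Lib.Helper77.SV2

universe u
set_option autoImplicit false
open IsLocalRing TensorProduct
open scoped Pointwise

namespace Groth.Agent.Lib.Helper77.SV
open Groth.Agent.Lib.Helper77.FlatDepth

section Conv
variable {A L : Type u} [CommRing A] [CommRing L] [Algebra A L]

theorem mem_map_iff_mem_smul_top (I : Ideal A) (n : L) :
    n ∈ I.map (algebraMap A L) ↔ n ∈ I • (⊤ : Submodule A L) := by
  rw [← mem_map_smul_top_iff' (B := L) L I n, smul_eq_mul, Ideal.mul_top]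

end Conv

section LocalStep
variable {A L : Type u} [CommRing A] [IsLocalRing A] [CommRing L] [IsLocalRing L]
  [IsNoetherianRing L] [Algebra A L] [IsLocalHom (algebraMap A L)] [Module.Flat A L]

theorem colon_eq_maximalIdeal (J0 : Ideal A) (ε : A) (hε : ε ∉ J0)
    (hm : ∀ a ∈ maximalIdeal A, a * ε ∈ J0) (a : A) : a * ε ∈ J0 ↔ a ∈ maximalIdeal A := by
  constructor
  · intro h
    by_contra hna
    rw [mem_maximalIdeal, mem_nonunits_iff, not_not] at hna
    apply hε
    have : ε = hna.unit⁻¹ * (a * ε) := by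
      rw [← mul_assoc, IsUnit.val_inv_mul, one_mul]
    rw [this]
    exact J0.mul_mem_left _ h
  · exact hm a

theorem local_step (ξ : L)
    (hξ : ∀ η : L, ξ * η ∈ (maximalIdeal A).map (algebraMap A L) →
      η ∈ (maximalIdeal A).map (algebraMap A L))
    (J0 : Ideal A) (ε : A) (hε : ε ∉ J0) (hm : ∀ a ∈ maximalIdeal A, a * ε ∈ J0)
    (hξ0 : ∀ η : L, ξ * η ∈ J0.map (algebraMap A L) → η ∈ J0.map (algebraMap A L))
    (β γ : L) (h : ξ * β - algebraMap A L ε * γ ∈ J0.map (algebraMap A L)) :
    β ∈ (J0 ⊔ Ideal.span {ε}).map (algebraMap A L) := by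
  set mL := (maximalIdeal A).map (algebraMap A L) with hmL
  have hreg : IsSMulRegular (L ⧸ mL • (⊤ : Submodule L L)) ξ := by
    intro u v huv
    obtain ⟨u, rfl⟩ := Submodule.Quotient.mk_surjective _ u
    obtain ⟨v, rfl⟩ := Submodule.Quotient.mk_surjective _ v
    have h1 : (Submodule.Quotient.mk (ξ • u) : L ⧸ mL • (⊤ : Submodule L L)) =
        Submodule.Quotient.mk (ξ • v) := huv
    rw [Submodule.Quotient.eq, smul_eq_mul, Ideal.mul_top, smul_eq_mul, smul_eq_mul,
      ← mul_sub] at h1
    rw [Submodule.Quotient.eq, smul_eq_mul, Ideal.mul_top]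
    exact hξ _ h1
  obtain ⟨-, hflat⟩ := regular_of_regular_fib (A := A) (B := L) L ξ hreg
  -- the key membership in the quotient
  have hj : ε • (Submodule.Quotient.mk γ : QuotSMulTop ξ L) ∈
      J0 • (⊤ : Submodule A (QuotSMulTop ξ L)) := by
    have h1 : ξ * β - algebraMap A L ε * γ ∈ J0 • (⊤ : Submodule A L) :=
      (mem_map_iff_mem_smul_top J0 _).mp h
    have h2 : ((ξ • (⊤ : Submodule L L)).mkQ.restrictScalars A) (ξ * β - algebraMap A L ε * γ) ∈
        (J0 • (⊤ : Submodule A L)).map ((ξ • (⊤ : Submodule L L)).mkQ.restrictScalars A) :=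
      Submodule.mem_map_of_mem h1
    rw [Submodule.map_smul''] at h2
    have h3 : ((ξ • (⊤ : Submodule L L)).mkQ.restrictScalars A) (ξ * β - algebraMap A L ε * γ) =
        - (ε • (Submodule.Quotient.mk γ : QuotSMulTop ξ L)) := by
      show Submodule.Quotient.mk (ξ * β - algebraMap A L ε * γ) = _
      rw [Submodule.Quotient.mk_sub]
      have h4 : (Submodule.Quotient.mk (ξ * β) : QuotSMulTop ξ L) = 0 := by
        rw [Submodule.Quotient.mk_eq_zero]
        exact Submodule.smul_mem_pointwise_smul _ _ _ Submodule.mem_top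
      rw [h4, zero_sub, ← Algebra.smul_def, Submodule.Quotient.mk_smul]
    rw [h3] at h2
    have h5 := Submodule.neg_mem _ h2
    rw [neg_neg] at h5
    exact Submodule.smul_mono le_rfl le_top h5
  have hcolon := colon_eq_maximalIdeal J0 ε hε hm
  have hγ := mem_smul_top_of_colon (QuotSMulTop ξ L) (maximalIdeal A) J0 ε hcolon _ hj
  rw [← mem_map_smul_top_iff' (B := L), smul_top_quot_eq_map, Submodule.mem_map] at hγ
  obtain ⟨μ, hμ, hμγ⟩ := hγ
  rw [smul_eq_mul, Ideal.mul_top] at hμ
  have h6 : μ - γ ∈ ξ • (⊤ : Submodule L L) := (Submodule.Quotient.eq _).mp hμγ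
  rw [Submodule.mem_smul_pointwise_iff_exists] at h6
  obtain ⟨γ', -, hγ'⟩ := h6
  rw [smul_eq_mul] at hγ'
  -- ε μ ∈ J0 L
  have h7 : algebraMap A L ε * μ ∈ J0.map (algebraMap A L) := by
    have h8 : Ideal.span {ε} * maximalIdeal A ≤ J0 := by
      rw [Ideal.span_singleton_mul_le_iff]
      intro z hz
      rw [mul_comm]
      exact hm z hz
    have h9 := Ideal.mul_mem_mul (Ideal.mem_map_of_mem (algebraMap A L)
      (Ideal.mem_span_singleton_self ε)) hμ
    rw [← Ideal.map_mul] at h9
    exact Ideal.map_mono h8 h9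
  -- ξ (β + ε γ') ∈ J0 L
  have h10 : ξ * (β + algebraMap A L ε * γ') ∈ J0.map (algebraMap A L) := by
    have : ξ * (β + algebraMap A L ε * γ') =
        (ξ * β - algebraMap A L ε * γ) + algebraMap A L ε * μ := by
      have : γ = μ - ξ * γ' := by rw [hγ']; ring
      rw [this]; ring
    rw [this]
    exact Ideal.add_mem _ h h7
  have h11 := hξ0 _ h10
  have h12 : β = (β + algebraMap A L ε * γ') - algebraMap A L ε * γ' := by ring
  rw [h12]
  refine Ideal.sub_mem _ (Ideal.map_mono le_sup_left h11) (Ideal.mul_mem_right _ _ ?_)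
  exact Ideal.mem_map_of_mem _ (Ideal.mem_sup_right (Ideal.mem_span_singleton_self ε))

end LocalStep

section Loc
variable {B : Type u} [CommRing B] (q : Ideal B) [q.IsPrime]

theorem loc_mem_iff (I : Ideal B) (b : B) :
    algebraMap B (Localization.AtPrime q) b ∈ I.map (algebraMap B (Localization.AtPrime q)) ↔
      ∃ s, s ∉ q ∧ s * b ∈ I := by
  rw [IsLocalization.algebraMap_mem_map_algebraMap_iff q.primeCompl]
  rfl

theorem loc_regular (I : Ideal B) (x : B) (hx : ∀ w, x * w ∈ I → w ∈ I)
    (η : Localization.AtPrime q)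
    (h : algebraMap B (Localization.AtPrime q) x * η ∈
      I.map (algebraMap B (Localization.AtPrime q))) :
    η ∈ I.map (algebraMap B (Localization.AtPrime q)) := by
  obtain ⟨b', s, rfl⟩ := IsLocalization.exists_mk'_eq q.primeCompl η
  rw [IsLocalization.mul_mk'_eq_mk'_of_mul,
    IsLocalization.mk'_mem_map_algebraMap_iff q.primeCompl] at h
  rw [IsLocalization.mk'_mem_map_algebraMap_iff q.primeCompl]
  obtain ⟨t, ht, htx⟩ := h
  refine ⟨t, ht, hx _ ?_⟩
  have : x * (t * b') = t * (x * b') := by ring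
  rw [this]
  exact htx

end Loc

section Transfer
variable {A : Type u} [CommRing A] [IsLocalRing A] (B : Type u) [CommRing B] [Algebra A B]
  (q : Ideal B) [q.IsPrime]

omit [IsLocalRing A] in
theorem map_map_loc (K : Ideal A) :
    (K.map (algebraMap A B)).map (algebraMap B (Localization.AtPrime q)) =
      K.map (algebraMap A (Localization.AtPrime q)) := by
  rw [Ideal.map_map, ← IsScalarTower.algebraMap_eq]

theorem isLocalHom_of_comap (hq : q.comap (algebraMap A B) = maximalIdeal A) :
    IsLocalHom (algebraMap A (Localization.AtPrime q)) := by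
  constructor
  intro a ha
  rw [IsScalarTower.algebraMap_apply A B (Localization.AtPrime q),
    IsLocalization.AtPrime.isUnit_to_map_iff (Localization.AtPrime q) q] at ha
  by_contra hna
  have h1 : a ∈ maximalIdeal A := hna
  rw [← hq] at h1
  exact ha h1

/-- (D1) -/
theorem exists_smul_mem_of_mem_nilradical
    (hred : IsReduced (Localization.AtPrime q ⧸
      (maximalIdeal A).map (algebraMap A (Localization.AtPrime q))))
    (b : B) (hb : b ∈ nilradical B) :
    ∃ s, s ∉ q ∧ s * b ∈ (maximalIdeal A).map (algebraMap A B) := by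
  rw [← loc_mem_iff, map_map_loc]
  have h1 : IsNilpotent (Ideal.Quotient.mk ((maximalIdeal A).map
      (algebraMap A (Localization.AtPrime q))) (algebraMap B (Localization.AtPrime q) b)) :=
    ((mem_nilradical.mp hb).map _).map _
  exact Ideal.Quotient.eq_zero_iff_mem.mp (hred.eq_zero _ h1)

/-- (D2) -/
theorem exists_smul_mem_of_flat [Module.Flat A (Localization.AtPrime q)]
    (J0 : Ideal A) (ε : A) (hε : ε ∉ J0) (hm : ∀ a ∈ maximalIdeal A, a * ε ∈ J0)
    (b : B) (hb : algebraMap A B ε * b ∈ J0.map (algebraMap A B)) :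
    ∃ s, s ∉ q ∧ s * b ∈ (maximalIdeal A).map (algebraMap A B) := by
  rw [← loc_mem_iff, map_map_loc, mem_map_iff_mem_smul_top]
  refine mem_smul_top_of_colon _ _ J0 ε (colon_eq_maximalIdeal J0 ε hε hm) _ ?_
  rw [← mem_map_iff_mem_smul_top, ← map_map_loc (A := A) B q, Algebra.smul_def,
    IsScalarTower.algebraMap_apply A B (Localization.AtPrime q), ← map_mul]
  exact Ideal.mem_map_of_mem _ hb

variable [IsNoetherianRing B]

/-- (D3) -/
theorem exists_smul_mem_of_height_one (hq : q.comap (algebraMap A B) = maximalIdeal A)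
    [Module.Flat A (Localization.AtPrime q)]
    (hred : ∀ b ∈ nilradical B, ∃ s, s ∉ q ∧ s * b ∈ (maximalIdeal A).map (algebraMap A B))
    (hmN : (maximalIdeal A).map (algebraMap A B) ≤ nilradical B)
    (x : B) (hxN : ∀ w, x * w ∈ nilradical B → w ∈ nilradical B)
    (J0 : Ideal A) (ε : A) (hε : ε ∉ J0) (hm : ∀ a ∈ maximalIdeal A, a * ε ∈ J0)
    (hx0 : ∀ w, x * w ∈ J0.map (algebraMap A B) → w ∈ J0.map (algebraMap A B))
    (b c : B) (h : x * b - algebraMap A B ε * c ∈ J0.map (algebraMap A B)) :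
    ∃ s, s ∉ q ∧ s * b ∈ (J0 ⊔ Ideal.span {ε}).map (algebraMap A B) := by
  have hloc := isLocalHom_of_comap B q hq
  have hN : IsNoetherianRing (Localization.AtPrime q) :=
    IsLocalization.isNoetherianRing q.primeCompl _ inferInstance
  rw [← loc_mem_iff, map_map_loc]
  have hNm : (nilradical B).map (algebraMap B (Localization.AtPrime q)) =
      (maximalIdeal A).map (algebraMap A (Localization.AtPrime q)) := by
    rw [← map_map_loc (A := A) B q]
    refine le_antisymm ?_ (Ideal.map_mono hmN)
    rw [Ideal.map_le_iff_le_comap]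
    intro b hb
    rw [Ideal.mem_comap, loc_mem_iff]
    exact hred b hb
  refine local_step (A := A) (L := Localization.AtPrime q)
    (algebraMap B (Localization.AtPrime q) x) ?_ J0 ε hε hm ?_
    (algebraMap B _ b) (algebraMap B _ c) ?_
  · intro η hη
    rw [← hNm] at hη ⊢
    exact loc_regular q _ x hxN η hη
  · intro η hη
    rw [← map_map_loc (A := A) B q] at hη ⊢
    exact loc_regular q _ x hx0 η hη
  · rw [← map_map_loc (A := A) B q, IsScalarTower.algebraMap_apply A B (Localization.AtPrime q),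
      ← map_mul, ← map_mul, ← map_sub]
    exact Ideal.mem_map_of_mem _ h

end Transfer

end Groth.Agent.Lib.Helper77.SV
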