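import Groth.Agent.Lib.Helper77.Kummer1
import Groth.Agent.Lib.Helper77.Kummer2
import Groth.Agent.Lib.Helper77.SV3
import Groth.Agent.Lib.Helper77.RegularCompletion
import Groth.Agent.Lib.Helper77.RegularLocalization
import Groth.Agent.Lib.Helper76.RegularLocal
import Groth.Agent.Lib.Helper56.Normal1

universe u
set_option autoImplicit false
open IsLocalRing Polynomial

namespace Groth.Agent.Lib.Helper77.Kummer

theorem main (A : Type u) [CommRing A] [IsLocalRing A]
    [IsRegularRing A] (s : A) (hs : s ≠ 0) (hreg : IsRegularRing (A ⧸ Ideal.span {s}))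
    (e : ℕ) (he : 0 < e) (heu : IsUnit (e : A)) :
    IsRegularRing (AdjoinRoot (Polynomial.X ^ e - Polynomial.C s)) := by
  have hAreg : IsRegularLocalRing A := IsRegularLocalRing.of_isRegularRing_of_isLocalRing A
  have hdom : IsDomain A := Helper76.isDomain_of_isRegularLocalRing A
  have hmonic := kf_monic s e he
  have hfree : Module.Free A (AdjoinRoot (kf s e)) := hmonic.free_adjoinRoot
  have hfin : Module.Finite A (AdjoinRoot (kf s e)) := hmonic.finite_adjoinRoot
  show IsRegularRing (AdjoinRoot (kf s e))
  apply RegularLocalization.isRegularRing_of_maximal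
  intro Q hQ
  have hcomap : Q.comap (algebraMap A (AdjoinRoot (kf s e))) = maximalIdeal A :=
    IsLocalRing.eq_maximalIdeal (Ideal.isMaximal_comap_of_isIntegral_of_isMaximal Q)
  have hloc : IsLocalHom (algebraMap A (Localization.AtPrime Q)) :=
    SV.isLocalHom_of_comap _ Q hcomap
  have hN : IsNoetherianRing (Localization.AtPrime Q) :=
    IsLocalization.isNoetherianRing Q.primeCompl _ inferInstance
  by_cases hsu : IsUnit s
  · have hunr := formallyUnramified s e he hsu heu
    have h1 : Algebra.FormallyUnramified (AdjoinRoot (kf s e)) (Localization.AtPrime Q) :=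
      Algebra.FormallyUnramified.of_isLocalization Q.primeCompl
    have h2 : Algebra.FormallyUnramified A (Localization.AtPrime Q) :=
      Algebra.FormallyUnramified.comp A (AdjoinRoot (kf s e)) (Localization.AtPrime Q)
    have h3 : Algebra.EssFiniteType (AdjoinRoot (kf s e)) (Localization.AtPrime Q) :=
      Algebra.EssFiniteType.of_isLocalization _ Q.primeCompl
    have h4 : Algebra.EssFiniteType A (Localization.AtPrime Q) :=
      Algebra.EssFiniteType.comp A (AdjoinRoot (kf s e)) (Localization.AtPrime Q)
    have h5 : Module.Flat A (Localization.AtPrime Q) :=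
      Module.Flat.trans A (AdjoinRoot (kf s e)) (Localization.AtPrime Q)
    exact RegularCompletion.regular_of_flat_of_map_maximalIdeal A (Localization.AtPrime Q)
      Algebra.FormallyUnramified.map_maximalIdeal
  · have hsm : s ∈ maximalIdeal A := hsu
    have hsQ : algebraMap A (AdjoinRoot (kf s e)) s ∈ Q := by
      rw [← hcomap] at hsm; exact hsm
    have htQ : AdjoinRoot.root (kf s e) ∈ Q := by
      have h1 : AdjoinRoot.root (kf s e) ^ e ∈ Q := by rw [root_pow]; exact hsQ
      exact hQ.isPrime.mem_of_pow_mem _ h1
    -- t is a nonzerodivisor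
    have htreg : AdjoinRoot.root (kf s e) ∈ nonZeroDivisors (AdjoinRoot (kf s e)) := by
      rw [mem_nonZeroDivisors_iff_right]
      intro b hb
      have h1 : b * AdjoinRoot.root (kf s e) ^ e = 0 := by
        obtain ⟨n, rfl⟩ : ∃ n, e = n + 1 := ⟨e - 1, by omega⟩
        rw [pow_succ, ← mul_assoc, mul_comm b, mul_assoc, hb, mul_zero]
      rw [root_pow, mul_comm] at h1
      have h2 : s • b = 0 := by rw [Algebra.smul_def]; exact h1
      exact (smul_eq_zero.mp h2).resolve_left hs
    have htreg' : IsSMulRegular (Localization.AtPrime Q)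
        (algebraMap (AdjoinRoot (kf s e)) (Localization.AtPrime Q) (AdjoinRoot.root (kf s e))) := by
      have h1 := IsLocalization.map_nonZeroDivisors_le Q.primeCompl (Localization.AtPrime Q)
        (Submonoid.mem_map_of_mem _ htreg)
      exact Module.Flat.isSMulRegular_of_nonZeroDivisors h1
    have hle : Ideal.span {AdjoinRoot.root (kf s e)} ≤ Q :=
      (Ideal.span_singleton_le_iff_mem _).mpr htQ
    have hprime : (Q.map (Ideal.Quotient.mk (Ideal.span {AdjoinRoot.root (kf s e)}))).IsPrime :=
      Ideal.map_isPrime_of_surjective Ideal.Quotient.mk_surjective (by rwa [Ideal.mk_ker])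
    obtain ⟨e1⟩ := Helper56.nonempty_quotLocEquiv (Ideal.span {AdjoinRoot.root (kf s e)}) Q hle
    have hBt : IsRegularRing (AdjoinRoot (kf s e) ⧸ Ideal.span {AdjoinRoot.root (kf s e)}) :=
      IsRegularRing.of_ringEquiv (quotEquiv s e he).symm
    have hregQ : IsRegularLocalRing (Localization.AtPrime Q ⧸
        (Ideal.span {AdjoinRoot.root (kf s e)}).map
          (algebraMap (AdjoinRoot (kf s e)) (Localization.AtPrime Q))) :=
      IsRegularLocalRing.of_ringEquiv e1.symm
    refine regular_of_quot_regular (Localization.AtPrime Q)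
      (algebraMap (AdjoinRoot (kf s e)) (Localization.AtPrime Q) (AdjoinRoot.root (kf s e)))
      ?_ htreg' ((Ideal.span {AdjoinRoot.root (kf s e)}).map
          (algebraMap (AdjoinRoot (kf s e)) (Localization.AtPrime Q))) ?_ (hQ := hregQ)
    · rw [IsLocalization.AtPrime.to_map_mem_maximal_iff (Localization.AtPrime Q) Q]
      exact htQ
    · rw [Ideal.map_span, Set.image_singleton]

end Groth.Agent.Lib.Helper77.Kummer
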