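import Mathlib

/-!
# `Ext²(R/I, R)` from a presentation `0 → K → R^b → I → 0`
-/

set_option autoImplicit false
universe u

namespace Groth.Agent.Lib.Helper77.Len2

open CategoryTheory Abelian

variable {R : Type u} [CommRing R] (I : Ideal R) {b : ℕ} (π : (Fin b → R) →ₗ[R] I)

/-- restriction `Hom(R^b, X) → Hom(K, X)`, `K = ker π` -/
noncomputable def res (X : Type u) [AddCommGroup X] [Module R X] :
    ((Fin b → R) →ₗ[R] X) →ₗ[R] (LinearMap.ker π →ₗ[R] X) :=
  LinearMap.lcomp R X (LinearMap.ker π).subtype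

theorem res_apply (X : Type u) [AddCommGroup X] [Module R X] (v : (Fin b → R) →ₗ[R] X)
    (x : LinearMap.ker π) : res I π X v x = v x := rfl

/-- `0 → K → R^b → I → 0` -/
noncomputable abbrev S1 : ShortComplex (ModuleCat.{u} R) :=
  ModuleCat.shortComplexOfCompEqZero (LinearMap.ker π).subtype π
    (LinearMap.exact_subtype_ker_map π).linearMap_comp_eq_zero

theorem S1_shortExact (hπ : Function.Surjective π) : (S1 I π).ShortExact :=
  ModuleCat.shortComplex_shortExact _ (LinearMap.exact_subtype_ker_map π)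
    (Submodule.injective_subtype _) hπ

/-- `0 → I → R → R/I → 0` -/
noncomputable abbrev S2 : ShortComplex (ModuleCat.{u} R) :=
  ModuleCat.shortComplexOfCompEqZero I.subtype I.mkQ
    (LinearMap.exact_subtype_mkQ I).linearMap_comp_eq_zero

theorem S2_shortExact : (S2 I).ShortExact :=
  ModuleCat.shortComplex_shortExact _ (LinearMap.exact_subtype_mkQ I)
    (Submodule.injective_subtype I) (Submodule.mkQ_surjective I)

variable (hπ : Function.Surjective π)

/-- first connecting map -/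
noncomputable def Θ₁ : (LinearMap.ker π →ₗ[R] R) →ₗ[R]
    Ext.{u} (ModuleCat.of R I) (ModuleCat.of R R) 1 where
  toFun u := (S1_shortExact I π hπ).extClass.comp
    (Ext.mk₀ (ModuleCat.ofHom u : (S1 I π).X₁ ⟶ ModuleCat.of R R)) (add_zero 1)
  map_add' u v := by
    rw [ModuleCat.ofHom_add, Ext.mk₀_add, Ext.comp_add]
  map_smul' r u := by
    have h1 : (ModuleCat.ofHom (r • u) : ModuleCat.of R (LinearMap.ker π) ⟶ ModuleCat.of R R) =
        r • ModuleCat.ofHom u := rfl
    rw [RingHom.id_apply, h1, Ext.mk₀_smul, Ext.comp_smul]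

/-- second connecting map -/
noncomputable def Θ₂ : Ext.{u} (ModuleCat.of R I) (ModuleCat.of R R) 1 →ₗ[R]
    Ext.{u} (ModuleCat.of R (R ⧸ I)) (ModuleCat.of R R) 2 where
  toFun x := (S2_shortExact I).extClass.comp (x : Ext.{u} (S2 I).X₁ (ModuleCat.of R R) 1)
    (by norm_num : 1 + 1 = 2)
  map_add' u v := by
    rw [Ext.comp_add]
  map_smul' r u := by
    rw [RingHom.id_apply, Ext.comp_smul]

instance projFree : Projective (ModuleCat.of R (Fin b → R)) := by
  rw [← IsProjective.iff_projective]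
  infer_instance

instance projSelf : Projective (ModuleCat.of R R) := by
  rw [← IsProjective.iff_projective]
  infer_instance

theorem Θ₁_surjective : Function.Surjective (Θ₁ I π hπ) := by
  intro x₃
  have hP : Projective (S1 I π).X₂ := projFree
  have h0 : (Ext.mk₀ (S1 I π).g).comp (x₃ : Ext.{u} (S1 I π).X₃ (ModuleCat.of R R) 1)
      (zero_add 1) = 0 := Ext.eq_zero_of_projective _
  obtain ⟨x₁, hx₁⟩ := Ext.contravariant_sequence_exact₃ (S1_shortExact I π hπ) _ x₃ h0
    (add_zero 1 : 1 + 0 = 1)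
  obtain ⟨f, rfl⟩ := (Ext.mk₀_bijective _ _).2 x₁
  refine ⟨f.hom, ?_⟩
  exact hx₁

theorem Θ₁_ker : LinearMap.ker (Θ₁ I π hπ) = LinearMap.range (res I π R) := by
  ext u
  rw [LinearMap.mem_ker, LinearMap.mem_range]
  constructor
  · intro hu
    obtain ⟨x₂, hx₂⟩ := Ext.contravariant_sequence_exact₁ (S1_shortExact I π hπ) _
      (Ext.mk₀ (ModuleCat.ofHom u : (S1 I π).X₁ ⟶ ModuleCat.of R R)) (add_zero 1) hu
    obtain ⟨v, rfl⟩ := (Ext.mk₀_bijective _ _).2 x₂
    rw [Ext.mk₀_comp_mk₀] at hx₂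
    have h1 := (Ext.mk₀_bijective _ _).1 hx₂
    refine ⟨v.hom, ?_⟩
    apply LinearMap.ext
    intro x
    have h2 := congrArg (fun g => g.hom x) h1
    exact h2
  · rintro ⟨v, rfl⟩
    have h1 : (ModuleCat.ofHom (res I π R v) : (S1 I π).X₁ ⟶ ModuleCat.of R R) =
        (S1 I π).f ≫ ModuleCat.ofHom v := rfl
    change (S1_shortExact I π hπ).extClass.comp (Ext.mk₀ _) (add_zero 1) = 0
    rw [h1, ← Ext.mk₀_comp_mk₀]
    exact (S1_shortExact I π hπ).extClass_comp_assoc _

theorem Θ₂_bijective : Function.Bijective (Θ₂ I) := by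
  have hP : Projective (S2 I).X₂ := projSelf
  constructor
  · rw [← LinearMap.ker_eq_bot, eq_bot_iff]
    intro x hx
    rw [LinearMap.mem_ker] at hx
    obtain ⟨x₂, hx₂⟩ := Ext.contravariant_sequence_exact₁ (S2_shortExact I) _
      (x : Ext.{u} (S2 I).X₁ (ModuleCat.of R R) 1) (by norm_num : 1 + 1 = 2) hx
    rw [Submodule.mem_bot, ← hx₂, Ext.eq_zero_of_projective x₂, Ext.comp_zero]
  · intro x₃
    have h0 : (Ext.mk₀ (S2 I).g).comp (x₃ : Ext.{u} (S2 I).X₃ (ModuleCat.of R R) 2)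
        (zero_add 2) = 0 := Ext.eq_zero_of_projective _
    obtain ⟨x₁, hx₁⟩ := Ext.contravariant_sequence_exact₃ (S2_shortExact I) _ x₃ h0
      (by norm_num : 1 + 1 = 2)
    exact ⟨x₁, hx₁⟩

/-- `Ext²(R/I, R) ≃ Hom(K, R) / im Hom(R^b, R)` -/
theorem ext2_equiv (hπ : Function.Surjective π) : Nonempty (((LinearMap.ker π →ₗ[R] R) ⧸ LinearMap.range (res I π R)) ≃ₗ[R]
    Ext.{u} (ModuleCat.of R (R ⧸ I)) (ModuleCat.of R R) 2) := by
  have hsurj : Function.Surjective ((Θ₂ I).comp (Θ₁ I π hπ)) :=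
    (Θ₂_bijective I).2.comp (Θ₁_surjective I π hπ)
  have hker : LinearMap.ker ((Θ₂ I).comp (Θ₁ I π hπ)) = LinearMap.range (res I π R) := by
    rw [LinearMap.ker_comp, LinearMap.ker_eq_bot.mpr (Θ₂_bijective I).1, Submodule.comap_bot,
      Θ₁_ker]
  exact ⟨(Submodule.quotEquivOfEq _ _ hker.symm).trans
    (LinearMap.quotKerEquivOfSurjective _ hsurj)⟩

end Groth.Agent.Lib.Helper77.Len2
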