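import Mathlib
import Groth.Agent.Lib.Helper77.Len2Ext
import Groth.Agent.Lib.Helper85.LDQuot
import Groth.Agent.Lib.Helper85.RegGor
import Groth.Agent.Lib.Helper92.LocCohH0

/-!
# The Matlis dual of `Ext²(R/I, R)` over a two-dimensional regular local ring is `R/I`
-/

set_option autoImplicit false
set_option linter.style.haveILetI false
universe u

namespace Groth.Agent.Lib.Helper77.Len2

open CategoryTheory Abelian IsLocalRing InjHull

variable (R : Type u) [CommRing R] [IsRegularLocalRing R] (I : Ideal R)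

theorem exists_pow_le (hI : Module.length R (R ⧸ I) < ⊤) : ∃ n, maximalIdeal R ^ n ≤ I := by
  have h1 : IsFiniteLength R (R ⧸ I) := Module.length_ne_top_iff.mp hI.ne
  have h2 : IsArtinian R (R ⧸ I) := (isFiniteLength_iff_isNoetherian_isArtinian.mp h1).2
  haveI : IsArtinianRing (R ⧸ I) := isArtinian_of_tower R h2
  exact exists_maximalIdeal_pow_le_of_isArtinianRing_quotient I

theorem torsionSub_eq_top (hI : Module.length R (R ⧸ I) < ⊤) :
    DRing.torsionSub (maximalIdeal R) (R ⧸ I) = ⊤ := by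
  obtain ⟨n, hn⟩ := exists_pow_le R I hI
  rw [eq_top_iff]
  rintro x -
  refine ⟨n, fun a ha => ?_⟩
  obtain ⟨x, rfl⟩ := Ideal.Quotient.mk_surjective x
  change Ideal.Quotient.mk I (a * x) = 0
  rw [Ideal.Quotient.eq_zero_iff_mem]
  exact Ideal.mul_mem_right _ _ (hn ha)

theorem dual_equiv (hdim : ringKrullDim R = 2) (hI : Module.length R (R ⧸ I) < ⊤)
    {b : ℕ} (π : (Fin b → R) →ₗ[R] I) (hπ : Function.Surjective π)
    {E : Type u} [AddCommGroup E] [Module R E] {f : ResidueField R →ₗ[R] E}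
    (hf : IsInjectiveHull f) :
    Nonempty ((((LinearMap.ker π →ₗ[R] R) ⧸ LinearMap.range (res I π R)) →ₗ[R] E) ≃ₗ[R]
      (R ⧸ I)) := by
  haveI : LocCoh.IsGorensteinLocalRing R :=
    Groth.Agent.Lib.Helper85.FLCrit.isGorensteinLocalRing_of_regular R
  have hdim' : ringKrullDim R = ((2 : ℕ) : WithBot ℕ∞) := by
    rw [hdim]
    rfl
  obtain ⟨D⟩ := Groth.Agent.Lib.Helper85.CanonQuot.gor_duality R 2 hdim' hf 2 0 rfl (R ⧸ I)
  obtain ⟨e⟩ := ext2_equiv I π hπ
  let γ := Groth.Agent.Lib.Helper92.LC.γEquiv (maximalIdeal R) (ModuleCat.of R (R ⧸ I))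
  exact ⟨((LinearEquiv.congrLeft E R e).trans D.symm).trans
    (γ.trans (LinearEquiv.ofTop _ (torsionSub_eq_top R I hI)))⟩

end Groth.Agent.Lib.Helper77.Len2
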