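import Mathlib
import Groth.Agent.Lib.Helper77.Len2Ext
import Groth.Agent.Lib.Helper77.Serre
import Groth.Agent.Lib.Helper76.RegularLocalGlDim
import Groth.Agent.Lib.Helper76.RegularLocal

/-!
# A nonzero ideal of a two-dimensional regular local ring has a free resolution of length one
-/

set_option autoImplicit false
set_option linter.style.haveILetI false
universe u

namespace Groth.Agent.Lib.Helper77.Len2

open CategoryTheory Abelian IsLocalRing

variable (R : Type u) [CommRing R] [IsRegularLocalRing R] (I : Ideal R)

theorem finrank_ideal (hI0 : I ≠ ⊥) : Module.finrank R I = 1 := by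
  haveI : IsDomain R := Groth.Agent.Lib.Helper76.isDomain_of_isRegularLocalRing R
  apply le_antisymm
  · have := Submodule.finrank_le (R := R) (M := R) I
    rwa [Module.finrank_self] at this
  · obtain ⟨x, hx, hx0⟩ := Submodule.exists_mem_ne_zero_of_ne_bot hI0
    have hinj : Function.Injective (LinearMap.toSpanSingleton R I ⟨x, hx⟩) := by
      intro r s hrs
      have h1 := congrArg Subtype.val hrs
      simp only [LinearMap.toSpanSingleton_apply, Submodule.coe_smul, smul_eq_mul] at h1
      exact mul_right_cancel₀ hx0 h1
    have := LinearMap.finrank_le_finrank_of_injective hinj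
    rwa [Module.finrank_self] at this

theorem exists_resolution (hdim : ringKrullDim R = 2) (hI0 : I ≠ ⊥) :
    ∃ (b : ℕ) (π : (Fin b → R) →ₗ[R] I), Function.Surjective π ∧
      Module.Free R (LinearMap.ker π) ∧ Module.finrank R (LinearMap.ker π) + 1 = b := by
  haveI : IsDomain R := Groth.Agent.Lib.Helper76.isDomain_of_isRegularLocalRing R
  obtain ⟨b, π, hπ⟩ := Module.Finite.exists_fin' R I
  refine ⟨b, π, hπ, ?_, ?_⟩
  · have hdim' : ringKrullDim R = ((2 : ℕ) : WithBot ℕ∞) := by
      rw [hdim]
      rfl
    have h3 : HasProjectiveDimensionLT (ModuleCat.of R (R ⧸ I)) (1 + 2) :=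
      Groth.Agent.Lib.Helper76.hasProjectiveDimensionLT_of_isRegularLocalRing R 2 hdim' (R ⧸ I)
    have h2 : HasProjectiveDimensionLT (ModuleCat.of R I) (0 + 2) :=
      (Groth.Agent.Lib.Helper77.Serre.pd_ideal_iff R I 1).mp h3
    have h1 : HasProjectiveDimensionLT (S1 I π).X₁ (0 + 1) :=
      ((S1_shortExact I π hπ).hasProjectiveDimensionLT_X₃_iff 0 projFree).mp h2
    have hproj : Projective (ModuleCat.of R (LinearMap.ker π)) :=
      projective_iff_hasProjectiveDimensionLT_one.mpr h1
    haveI : Module.Projective R (LinearMap.ker π) := (IsProjective.iff_projective _).mpr hproj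
    exact Module.free_of_flat_of_isLocalRing
  · have h1 := Submodule.finrank_quotient_add_finrank (LinearMap.ker π)
    rw [Module.finrank_fin_fun, (LinearMap.quotKerEquivOfSurjective π hπ).finrank_eq,
      finrank_ideal R I hI0] at h1
    omega

end Groth.Agent.Lib.Helper77.Len2
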