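import Mathlib
import Groth.Agent.Lib.Helper77.Len2Dual
import Groth.Agent.Lib.Helper77.Len2Res
import Groth.Agent.Lib.Helper85.Matlis
import Groth.Agent.Lib.Helper85.HullExist

/-!
# `ℓ(Hom(I, R/J)) + ℓ(R/(I:J)) = ℓ(R/J) + ℓ(R/I)` over a two-dimensional regular local ring
-/

set_option autoImplicit false
set_option linter.style.haveILetI false
universe u

namespace Groth.Agent.Lib.Helper77.Len2

open TensorProduct IsLocalRing InjHull

section General

variable {R : Type u} [CommRing R]

theorem length_ker_add {X Y : Type u} [AddCommGroup X] [Module R X] [AddCommGroup Y] [Module R Y]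
    (f : X →ₗ[R] Y) :
    Module.length R (LinearMap.ker f) + Module.length R Y =
      Module.length R X + Module.length R (Y ⧸ LinearMap.range f) := by
  have hex : Function.Exact (LinearMap.ker f).subtype f.rangeRestrict := by
    intro y
    constructor
    · intro hy
      have h1 : f y = 0 := congrArg Subtype.val hy
      exact ⟨⟨y, h1⟩, rfl⟩
    · rintro ⟨z, rfl⟩
      apply Subtype.ext
      exact z.2
  have h1 := Module.length_eq_add_of_exact (LinearMap.ker f).subtype f.rangeRestrict
    (Submodule.injective_subtype _) f.surjective_rangeRestrict hex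
  have h2 := Module.length_eq_add_of_exact (LinearMap.range f).subtype (LinearMap.range f).mkQ
    (Submodule.injective_subtype _) (Submodule.mkQ_surjective _)
    (LinearMap.exact_subtype_mkQ _)
  rw [h1, h2, add_assoc]

variable (I : Ideal R) {b : ℕ} (π : (Fin b → R) →ₗ[R] I)

/-- `Hom(I, N) ≃ ker (Hom(R^b, N) → Hom(K, N))` -/
theorem length_ker_res (hπ : Function.Surjective π) (N : Type u) [AddCommGroup N] [Module R N] :
    Module.length R (LinearMap.ker (res I π N)) = Module.length R (I →ₗ[R] N) := by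
  have hinj : Function.Injective (LinearMap.lcomp R N π) := by
    intro g g' h
    apply LinearMap.ext
    intro y
    obtain ⟨x, rfl⟩ := hπ y
    exact LinearMap.congr_fun h x
  have hrange : LinearMap.range (LinearMap.lcomp R N π) = LinearMap.ker (res I π N) := by
    ext v
    rw [LinearMap.mem_range, LinearMap.mem_ker]
    constructor
    · rintro ⟨g, rfl⟩
      apply LinearMap.ext
      intro x
      change g (π x) = 0
      rw [LinearMap.mem_ker.mp x.2, map_zero]
    · intro hv
      have hle : LinearMap.ker π ≤ LinearMap.ker v := by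
        intro x hx
        exact LinearMap.congr_fun hv ⟨x, hx⟩
      refine ⟨((LinearMap.ker π).liftQ v hle).comp
        (LinearMap.quotKerEquivOfSurjective π hπ).symm.toLinearMap, ?_⟩
      apply LinearMap.ext
      intro x
      change ((LinearMap.ker π).liftQ v hle)
        ((LinearMap.quotKerEquivOfSurjective π hπ).symm (π x)) = v x
      have h1 : (LinearMap.quotKerEquivOfSurjective π hπ).symm (π x) =
          Submodule.Quotient.mk x := by
        rw [LinearEquiv.symm_apply_eq]
        rfl
      rw [h1]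
      rfl
  rw [← hrange]
  exact (LinearEquiv.ofInjective _ hinj).symm.length_eq

omit I π in
theorem length_coker_tensor {D₁ D₂ H₁ H₂ N : Type u} [AddCommGroup D₁] [Module R D₁]
    [AddCommGroup D₂] [Module R D₂] [AddCommGroup H₁] [Module R H₁] [AddCommGroup H₂] [Module R H₂]
    [AddCommGroup N] [Module R N] (f : D₁ →ₗ[R] D₂) (r : H₁ →ₗ[R] H₂)
    (E₁ : D₁ ⊗[R] N ≃ₗ[R] H₁) (E₂ : D₂ ⊗[R] N ≃ₗ[R] H₂)
    (hcomm : r.comp E₁.toLinearMap = E₂.toLinearMap.comp (LinearMap.rTensor N f)) :
    Module.length R (H₂ ⧸ LinearMap.range r) =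
      Module.length R ((D₂ ⧸ LinearMap.range f) ⊗[R] N) := by
  have hmap : Submodule.map E₂.toLinearMap (LinearMap.range (LinearMap.rTensor N f)) =
      LinearMap.range r := by
    rw [← LinearMap.range_comp, ← hcomm, LinearMap.range_comp_of_range_eq_top]
    exact LinearEquiv.range _
  have e1 : ((D₂ ⊗[R] N) ⧸ LinearMap.range (LinearMap.rTensor N f)) ≃ₗ[R]
      (H₂ ⧸ LinearMap.range r) := Submodule.Quotient.equiv _ _ E₂ hmap
  have e2 := rTensor.equiv N (LinearMap.exact_map_mkQ_range f) (Submodule.mkQ_surjective _)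
  rw [← e1.length_eq, e2.length_eq]

/-- `Hom(K, N)/im ≃ (Hom(K, R)/im) ⊗ N` -/
theorem length_coker_res [Module.Finite R (LinearMap.ker π)] [Module.Projective R (LinearMap.ker π)]
    (N : Type u) [AddCommGroup N] [Module R N] :
    Module.length R ((LinearMap.ker π →ₗ[R] N) ⧸ LinearMap.range (res I π N)) =
      Module.length R
        (((LinearMap.ker π →ₗ[R] R) ⧸ LinearMap.range (res I π R)) ⊗[R] N) := by
  refine length_coker_tensor (res I π R) (res I π N) (dualTensorHomEquiv R (Fin b → R) N)
    (dualTensorHomEquiv R (LinearMap.ker π) N) ?_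
  apply TensorProduct.ext'
  intro φ n
  apply LinearMap.ext
  intro x
  rfl

end General

section Quot

variable {R : Type u} [CommRing R] (I J : Ideal R)

theorem le_colon : I ≤ I.colon (J : Set R) := by
  intro x hx
  rw [Submodule.mem_colon]
  intro s _
  exact Ideal.mul_mem_right _ _ hx

/-- `R/I → R/(I:J)` -/
noncomputable def qmap : (R ⧸ I) →ₗ[R] (R ⧸ I.colon (J : Set R)) :=
  Submodule.mapQ I (I.colon (J : Set R)) LinearMap.id (le_colon I J)

theorem qmap_surjective : Function.Surjective (qmap I J) := by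
  intro y
  obtain ⟨y, rfl⟩ := Submodule.Quotient.mk_surjective _ y
  exact ⟨Submodule.Quotient.mk y, rfl⟩

theorem mem_ker_qmap (x : R) :
    (Submodule.Quotient.mk x : R ⧸ I) ∈ LinearMap.ker (qmap I J) ↔ ∀ s ∈ J, x * s ∈ I := by
  rw [LinearMap.mem_ker]
  change (Submodule.Quotient.mk x : R ⧸ I.colon (J : Set R)) = 0 ↔ _
  rw [Submodule.Quotient.mk_eq_zero, Submodule.mem_colon]
  rfl

/-- `Hom(R/J, R/I) ≃ ker (R/I → R/(I:J))` -/
theorem length_hom_quot :
    Module.length R ((R ⧸ J) →ₗ[R] (R ⧸ I)) = Module.length R (LinearMap.ker (qmap I J)) := by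
  let ev : ((R ⧸ J) →ₗ[R] (R ⧸ I)) →ₗ[R] (R ⧸ I) :=
    LinearMap.applyₗ (Submodule.Quotient.mk (1 : R) : R ⧸ J)
  have hev : ∀ g, ev g ∈ LinearMap.ker (qmap I J) := by
    intro g
    obtain ⟨x, hx⟩ := Submodule.Quotient.mk_surjective _ (ev g)
    rw [← hx, mem_ker_qmap]
    intro s hs
    have h1 : (Submodule.Quotient.mk (x * s) : R ⧸ I) = s • ev g := by
      rw [← hx, mul_comm]
      rfl
    have h2 : s • ev g = g (s • (Submodule.Quotient.mk (1 : R) : R ⧸ J)) := (map_smul g s _).symm
    have h3 : s • (Submodule.Quotient.mk (1 : R) : R ⧸ J) = 0 := by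
      change (Submodule.Quotient.mk (s • (1 : R)) : R ⧸ J) = 0
      rw [Submodule.Quotient.mk_eq_zero, smul_eq_mul, mul_one]
      exact hs
    rw [← Submodule.Quotient.mk_eq_zero I, h1, h2, h3, map_zero]
  let ev' : ((R ⧸ J) →ₗ[R] (R ⧸ I)) →ₗ[R] LinearMap.ker (qmap I J) := ev.codRestrict _ hev
  have hinj : Function.Injective ev' := by
    intro g g' h
    have h1 : g (Submodule.Quotient.mk (1 : R)) = g' (Submodule.Quotient.mk (1 : R)) :=
      congrArg Subtype.val h
    apply LinearMap.ext
    intro y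
    obtain ⟨y, rfl⟩ := Submodule.Quotient.mk_surjective _ y
    have h2 : (Submodule.Quotient.mk y : R ⧸ J) = y • (Submodule.Quotient.mk (1 : R) : R ⧸ J) := by
      change _ = (Submodule.Quotient.mk (y • (1 : R)) : R ⧸ J)
      rw [smul_eq_mul, mul_one]
    rw [h2, map_smul, map_smul, h1]
  have hsurj : Function.Surjective ev' := by
    rintro ⟨z, hz⟩
    obtain ⟨x, rfl⟩ := Submodule.Quotient.mk_surjective _ z
    have hx := (mem_ker_qmap I J x).mp hz
    have hle : J ≤ LinearMap.ker (LinearMap.toSpanSingleton R (R ⧸ I)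
        (Submodule.Quotient.mk x)) := by
      intro s hs
      rw [LinearMap.mem_ker, LinearMap.toSpanSingleton_apply]
      change (Submodule.Quotient.mk (s • x) : R ⧸ I) = 0
      rw [Submodule.Quotient.mk_eq_zero, smul_eq_mul, mul_comm]
      exact hx s hs
    refine ⟨Submodule.liftQ J _ hle, ?_⟩
    apply Subtype.ext
    change Submodule.liftQ J _ hle (Submodule.Quotient.mk (1 : R)) = _
    rw [Submodule.liftQ_apply, LinearMap.toSpanSingleton_apply, one_smul]
  exact (LinearEquiv.ofBijective ev' ⟨hinj, hsurj⟩).length_eq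

theorem length_quot_eq :
    Module.length R (R ⧸ I) =
      Module.length R (LinearMap.ker (qmap I J)) + Module.length R (R ⧸ I.colon (J : Set R)) :=
  Module.length_eq_add_of_exact (LinearMap.ker (qmap I J)).subtype (qmap I J)
    (Submodule.injective_subtype _) (qmap_surjective I J) (LinearMap.exact_subtype_ker_map _)

end Quot

section Main

variable (R : Type u) [CommRing R] [IsRegularLocalRing R]

theorem ne_bot_of_length (hdim : ringKrullDim R = 2) (I : Ideal R)
    (hI : Module.length R (R ⧸ I) < ⊤) : I ≠ ⊥ := by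
  rintro rfl
  have e : (R ⧸ (⊥ : Ideal R)) ≃ₗ[R] R := Submodule.quotEquivOfEqBot ⊥ rfl
  rw [e.length_eq] at hI
  have h1 : IsFiniteLength R R := Module.length_ne_top_iff.mp hI.ne
  have h2 : IsArtinianRing R := (isFiniteLength_iff_isNoetherian_isArtinian.mp h1).2
  have h3 := (isArtinianRing_iff_isNoetherianRing_krullDimLE_zero.mp h2).2
  rw [Ring.krullDimLE_iff, hdim] at h3
  have h4 : ((2 : ℕ) : WithBot ℕ∞) ≤ ((0 : ℕ) : WithBot ℕ∞) := h3
  have h5 : (2 : ℕ) ≤ 0 := by exact_mod_cast h4
  omega

theorem main (hdim : ringKrullDim R = 2) (I J : Ideal R)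
    (hI : Module.length R (R ⧸ I) < ⊤) (hJ : Module.length R (R ⧸ J) < ⊤) :
    Module.length R (↥I →ₗ[R] (R ⧸ J)) + Module.length R (R ⧸ I.colon (J : Set R)) =
      Module.length R (R ⧸ J) + Module.length R (R ⧸ I) := by
  classical
  have hI0 := ne_bot_of_length R hdim I hI
  obtain ⟨b, π, hπ, hfree, hrank⟩ := exists_resolution R I hdim hI0
  haveI : Module.Free R (LinearMap.ker π) := hfree
  -- lengths of the Hom modules
  have hb : Module.length R ((Fin b → R) →ₗ[R] (R ⧸ J)) = (b : ℕ∞) * Module.length R (R ⧸ J) := by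
    rw [(LinearEquiv.piRing R (R ⧸ J) (Fin b) R).length_eq, Module.length_pi, ENat.card_eq_coe_fintype_card,
      Fintype.card_fin]
  have ha : Module.length R (LinearMap.ker π →ₗ[R] (R ⧸ J)) =
      ((Module.finrank R (LinearMap.ker π) : ℕ) : ℕ∞) * Module.length R (R ⧸ J) := by
    have e := (Module.finBasis R (LinearMap.ker π)).equivFun
    rw [(LinearEquiv.congrLeft (R ⧸ J) R e).length_eq,
      (LinearEquiv.piRing R (R ⧸ J) (Fin (Module.finrank R (LinearMap.ker π))) R).length_eq,
      Module.length_pi, ENat.card_eq_coe_fintype_card, Fintype.card_fin]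
  have h1 := length_ker_add (res I π (R ⧸ J))
  rw [length_ker_res I π hπ, ha, hb, length_coker_res I π (R ⧸ J)] at h1
  -- the cokernel has finite length
  have hnfin : Module.length R (R ⧸ J) ≠ ⊤ := hJ.ne
  have hafin : ((Module.finrank R (LinearMap.ker π) : ℕ) : ℕ∞) * Module.length R (R ⧸ J) ≠ ⊤ :=
    WithTop.mul_ne_top (ENat.coe_ne_top _) hnfin
  have hcfin : Module.length R
      (((LinearMap.ker π →ₗ[R] R) ⧸ LinearMap.range (res I π R)) ⊗[R] (R ⧸ J)) ≠ ⊤ := by
    rw [← length_coker_res I π (R ⧸ J)]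
    refine ne_top_of_le_ne_top ?_ (Module.length_le_of_surjective _ (Submodule.mkQ_surjective _))
    rw [ha]
    exact hafin
  -- Matlis duality
  obtain ⟨E, _, _, f, hf⟩ := Groth.Agent.Lib.Helper85.Hull.exists_injectiveHull (R := R)
    (ResidueField R)
  obtain ⟨Λ⟩ := dual_equiv R I hdim hI π hπ hf
  have h2 := Groth.Agent.Lib.Helper85.Matlis.length_hom hf _ (Module.length_ne_top_iff.mp hcfin)
  have e3 : ((((LinearMap.ker π →ₗ[R] R) ⧸ LinearMap.range (res I π R)) ⊗[R] (R ⧸ J)) →ₗ[R] E)
      ≃ₗ[R] ((R ⧸ J) →ₗ[R] (R ⧸ I)) :=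
    ((LinearEquiv.congrLeft E R (TensorProduct.comm R _ _)).trans
      (TensorProduct.lift.equiv (RingHom.id R) (R ⧸ J) _ E).symm).trans
      (LinearEquiv.congrRight Λ)
  rw [e3.length_eq, length_hom_quot I J] at h2
  rw [← h2] at h1
  have h3 := length_quot_eq I J
  -- arithmetic
  have hb' : (b : ℕ∞) = ((Module.finrank R (LinearMap.ker π) : ℕ) : ℕ∞) + 1 := by
    have := congrArg (fun m : ℕ => (m : ℕ∞)) hrank
    simp only [Nat.cast_add, Nat.cast_one] at this
    exact this.symm
  rw [hb', add_mul, one_mul] at h1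
  rw [h3]
  have h4 : ((Module.finrank R (LinearMap.ker π) : ℕ) : ℕ∞) * Module.length R (R ⧸ J) +
      Module.length R (↥I →ₗ[R] (R ⧸ J)) =
      ((Module.finrank R (LinearMap.ker π) : ℕ) : ℕ∞) * Module.length R (R ⧸ J) +
        (Module.length R (R ⧸ J) + Module.length R (LinearMap.ker (qmap I J))) := by
    rw [add_comm, h1, add_assoc]
  have h5 := (ENat.add_right_injective_of_ne_top hafin) h4
  rw [h5, add_assoc]

end Main

end Groth.Agent.Lib.Helper77.Len2
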