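import Mathlib
import Groth.Agent.S0543
import Groth.Agent.Lib.Helper85.GorRing
import Groth.Agent.Lib.Helper85.GorFlat
import Groth.Agent.Lib.Helper56.FibreRegular
import Groth.Agent.Lib.Helper77.Frob2

/-!
# A Gorenstein multicross singularity is a node (helper77)
-/
set_option autoImplicit false
universe u
open PowerSeries IsLocalRing

namespace Groth.Agent.Lib.Helper77.MultiCross

variable (k : Type u) [Field k] (n : ℕ)

/-- the multicross ring: tuples of power series with a common constant term -/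
def Rn : Subring (Fin n → PowerSeries k) where
  carrier := {f | ∀ i j, constantCoeff (f i) = constantCoeff (f j)}
  mul_mem' := by
    intro a b ha hb i j
    simp only [Pi.mul_apply, map_mul, ha i j, hb i j]
  one_mem' := by intro i j; simp
  add_mem' := by
    intro a b ha hb i j
    simp only [Pi.add_apply, map_add, ha i j, hb i j]
  zero_mem' := by intro i j; simp
  neg_mem' := by
    intro a ha i j
    simp only [Pi.neg_apply, map_neg, ha i j]

variable {k n}

theorem mem_Rn {f : Fin n → PowerSeries k} :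
    f ∈ Rn k n ↔ ∀ i j, constantCoeff (f i) = constantCoeff (f j) := Iff.rfl

/-- the diagonal element `(X, …, X)` -/
noncomputable def T : Rn k n := ⟨fun _ => X, fun _ _ => rfl⟩

/-- the element `X g e_i` -/
noncomputable def xe (i₀ : Fin n) (g : PowerSeries k) : Rn k n :=
  ⟨Pi.single i₀ (X * g), by
    intro i j
    have : ∀ l : Fin n, constantCoeff ((Pi.single i₀ (X * g) : Fin n → PowerSeries k) l) = 0 := by
      intro l
      by_cases h : l = i₀
      · subst h; simp
      · rw [Pi.single_eq_of_ne h]; simp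
    rw [this i, this j]⟩

theorem T_mul_xe (i₀ : Fin n) (g : PowerSeries k) : T * xe i₀ g = xe i₀ (X * g) := by
  apply Subtype.ext
  funext l
  change (X : PowerSeries k) * (Pi.single i₀ (X * g) : Fin n → PowerSeries k) l =
    (Pi.single i₀ (X * (X * g)) : Fin n → PowerSeries k) l
  by_cases h : l = i₀
  · subst h; simp
  · rw [Pi.single_eq_of_ne h, Pi.single_eq_of_ne h, mul_zero]

theorem not_isUnit_X' : ¬ IsUnit (X : PowerSeries k) := by
  intro h
  have := h.map (constantCoeff (R := k))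
  rw [constantCoeff_X] at this
  exact not_isUnit_zero this

theorem isUnit_of_constantCoeff_ne_zero (a : Rn k n) (i₀ : Fin n)
    (h : constantCoeff (a.1 i₀) ≠ 0) : IsUnit a := by
  have hall : ∀ i, constantCoeff (a.1 i) ≠ 0 := fun i => by rw [a.2 i i₀]; exact h
  let b : Rn k n := ⟨fun i => (a.1 i)⁻¹, by
    intro i j
    simp only [constantCoeff_inv, a.2 i j]⟩
  refine IsUnit.of_mul_eq_one b ?_
  apply Subtype.ext
  funext i
  exact PowerSeries.mul_inv_cancel (a.1 i) (hall i)

theorem mem_span_T {a : Rn k n} : a ∈ Ideal.span {(T : Rn k n)} ↔ ∃ g : Rn k n, a = T * g := by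
  rw [Ideal.mem_span_singleton']
  constructor
  · rintro ⟨g, rfl⟩; exact ⟨g, mul_comm _ _⟩
  · rintro ⟨g, rfl⟩; exact ⟨g, mul_comm _ _⟩

theorem isSMulRegular_T : IsSMulRegular (Rn k n) (T : Rn k n) := by
  intro a b hab
  apply Subtype.ext
  funext i
  have := congrFun (congrArg Subtype.val hab) i
  change (X : PowerSeries k) * a.1 i = X * b.1 i at this
  exact mul_left_cancel₀ PowerSeries.X_ne_zero this

theorem T_not_isUnit [NeZero n] : ¬ IsUnit (T : Rn k n) := by
  intro h
  have h2 : IsUnit ((Rn k n).subtype (T : Rn k n)) := h.map _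
  have h3 : IsUnit ((Pi.evalRingHom (fun _ : Fin n => PowerSeries k) 0)
      ((Rn k n).subtype (T : Rn k n))) := h2.map _
  change IsUnit (X : PowerSeries k) at h3
  exact not_isUnit_X' h3

section Local

variable [IsLocalRing (Rn k n)]

theorem constantCoeff_eq_zero_of_mem {a : Rn k n} (ha : a ∈ maximalIdeal (Rn k n)) (i : Fin n) :
    constantCoeff (a.1 i) = 0 := by
  by_contra h
  exact (mem_maximalIdeal a).mp ha (isUnit_of_constantCoeff_ne_zero a i h)

/-- an element with zero constant terms is `X` times something -/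
theorem exists_eq_X_mul {a : Rn k n} (ha : a ∈ maximalIdeal (Rn k n)) :
    ∃ a' : Fin n → PowerSeries k, ∀ i, a.1 i = X * a' i := by
  have : ∀ i, ∃ c, a.1 i = X * c := fun i =>
    PowerSeries.X_dvd_iff.mpr (constantCoeff_eq_zero_of_mem ha i)
  choose a' ha' using this
  exact ⟨a', ha'⟩

theorem mul_mem_span_T {a b : Rn k n} (ha : a ∈ maximalIdeal (Rn k n))
    (hb : b ∈ maximalIdeal (Rn k n)) : a * b ∈ Ideal.span {(T : Rn k n)} := by
  obtain ⟨a', ha'⟩ := exists_eq_X_mul ha
  rw [mem_span_T]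
  refine ⟨⟨fun i => a' i * b.1 i, ?_⟩, ?_⟩
  · intro i j
    simp only [map_mul, constantCoeff_eq_zero_of_mem hb, mul_zero]
  · apply Subtype.ext
    funext i
    change a.1 i * b.1 i = X * (a' i * b.1 i)
    rw [ha' i, mul_assoc]

theorem mul_xe_mem_span_T {a : Rn k n} (ha : a ∈ maximalIdeal (Rn k n)) (i₀ : Fin n) :
    a * xe i₀ 1 ∈ Ideal.span {(T : Rn k n)} := by
  have hx : xe (k := k) i₀ 1 ∈ maximalIdeal (Rn k n) := by
    rw [mem_maximalIdeal, mem_nonunits_iff]
    intro hu
    have h2 : IsUnit ((Rn k n).subtype (xe (k := k) i₀ 1)) := hu.map _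
    have h3 : IsUnit ((Pi.evalRingHom (fun _ : Fin n => PowerSeries k) i₀)
        ((Rn k n).subtype (xe (k := k) i₀ 1))) := h2.map _
    change IsUnit ((Pi.single i₀ (X * 1) : Fin n → PowerSeries k) i₀) at h3
    rw [Pi.single_eq_same, mul_one] at h3
    exact not_isUnit_X' h3
  exact mul_mem_span_T ha hx

end Local

theorem xe_notMem_span_T (i₀ i₁ : Fin n) (h : i₁ ≠ i₀) :
    xe (k := k) i₀ 1 ∉ Ideal.span {(T : Rn k n)} := by
  rw [mem_span_T]
  rintro ⟨g, hg⟩
  have h0 := congrFun (congrArg Subtype.val hg) i₀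
  have h1 := congrFun (congrArg Subtype.val hg) i₁
  change (Pi.single i₀ (X * 1) : Fin n → PowerSeries k) i₀ = X * g.1 i₀ at h0
  change (Pi.single i₀ (X * 1) : Fin n → PowerSeries k) i₁ = X * g.1 i₁ at h1
  rw [Pi.single_eq_same] at h0
  rw [Pi.single_eq_of_ne h] at h1
  have hg0 : g.1 i₀ = 1 := (mul_left_cancel₀ PowerSeries.X_ne_zero h0).symm
  have hg1 : g.1 i₁ = 0 := by
    rcases mul_eq_zero.mp h1.symm with h | h
    · exact absurd h PowerSeries.X_ne_zero
    · exact h
  have := g.2 i₀ i₁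
  rw [hg0, hg1] at this
  simp at this

/-- key: if `a x_{i₀} - b x_{i₁} ∈ (T)` and there is a third index, then `a x_{i₀} ∈ (T)` -/
theorem mul_xe_mem_of_sub_mem (i₀ i₁ i₂ : Fin n) (h01 : i₀ ≠ i₁) (h02 : i₀ ≠ i₂) (h12 : i₁ ≠ i₂)
    (a b : Rn k n) (h : a * xe i₀ 1 - b * xe i₁ 1 ∈ Ideal.span {(T : Rn k n)}) :
    a * xe i₀ 1 ∈ Ideal.span {(T : Rn k n)} := by
  rw [mem_span_T] at h ⊢
  obtain ⟨g, hg⟩ := h
  have e0 := congrFun (congrArg Subtype.val hg) i₀
  have e2 := congrFun (congrArg Subtype.val hg) i₂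
  change a.1 i₀ * (Pi.single i₀ (X * 1) : Fin n → PowerSeries k) i₀ -
    b.1 i₀ * (Pi.single i₁ (X * 1) : Fin n → PowerSeries k) i₀ = X * g.1 i₀ at e0
  change a.1 i₂ * (Pi.single i₀ (X * 1) : Fin n → PowerSeries k) i₂ -
    b.1 i₂ * (Pi.single i₁ (X * 1) : Fin n → PowerSeries k) i₂ = X * g.1 i₂ at e2
  rw [Pi.single_eq_same, Pi.single_eq_of_ne h01, mul_zero, sub_zero, mul_one] at e0
  rw [Pi.single_eq_of_ne h02.symm, Pi.single_eq_of_ne h12.symm, mul_zero, mul_zero, sub_zero] at e2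
  have hg2 : g.1 i₂ = 0 := by
    rcases mul_eq_zero.mp e2.symm with h | h
    · exact absurd h PowerSeries.X_ne_zero
    · exact h
  have hg0 : a.1 i₀ = g.1 i₀ := by
    rw [mul_comm] at e0
    exact mul_left_cancel₀ PowerSeries.X_ne_zero e0
  have hc : constantCoeff (a.1 i₀) = 0 := by
    rw [hg0, g.2 i₀ i₂, hg2, map_zero]
  obtain ⟨a', ha'⟩ := PowerSeries.X_dvd_iff.mpr hc
  refine ⟨xe i₀ a', ?_⟩
  rw [T_mul_xe]
  apply Subtype.ext
  funext l
  change a.1 l * (Pi.single i₀ (X * 1) : Fin n → PowerSeries k) l =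
    (Pi.single i₀ (X * (X * a')) : Fin n → PowerSeries k) l
  by_cases hl : l = i₀
  · subst hl
    rw [Pi.single_eq_same, Pi.single_eq_same, ha']
    ring
  · rw [Pi.single_eq_of_ne hl, Pi.single_eq_of_ne hl, mul_zero]

/-- the completion of a Gorenstein local ring is Gorenstein -/
theorem gor_completion (A : Type u) [CommRing A] [LocCoh.IsGorensteinLocalRing A] :
    LocCoh.IsGorensteinLocalRing (AdicCompletion (maximalIdeal A) A) := by
  haveI : IsNoetherianRing (AdicCompletion (maximalIdeal A) A) :=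
    Groth.Agent.S0543.result A (maximalIdeal A)
  have hker : RingHom.ker (residue (AdicCompletion (maximalIdeal A) A)) =
      (maximalIdeal A).map (algebraMap A (AdicCompletion (maximalIdeal A) A)) := by
    rw [IsLocalRing.ker_residue, AdicCompletion.maximalIdeal_eq_map]
  exact ((Groth.Agent.Lib.Helper85.GorRing.gor_iff_fibre A (AdicCompletion (maximalIdeal A) A)
    (ResidueField (AdicCompletion (maximalIdeal A) A))
    (residue (AdicCompletion (maximalIdeal A) A)) residue_surjective hker).mpr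
    ⟨inferInstance, Groth.Agent.Lib.Helper85.GorRing.gor_of_isField _
      (Field.toIsField _)⟩)

/-- the multicross ring with at least three branches is not Gorenstein -/
theorem not_gor_Rn (i₀ i₁ i₂ : Fin n) (h01 : i₀ ≠ i₁) (h02 : i₀ ≠ i₂) (h12 : i₁ ≠ i₂)
    [LocCoh.IsGorensteinLocalRing (Rn k n)] : False := by
  haveI : NeZero n := ⟨by rintro rfl; exact i₀.elim0⟩
  have hTm : (T : Rn k n) ∈ maximalIdeal (Rn k n) := by
    rw [mem_maximalIdeal, mem_nonunits_iff]; exact T_not_isUnit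
  obtain ⟨J, hJ⟩ : ∃ J : Ideal (Rn k n), J = Ideal.span {(T : Rn k n)} := ⟨_, rfl⟩
  have hJm : J ≤ maximalIdeal (Rn k n) := by
    rw [hJ, Ideal.span_le, Set.singleton_subset_iff]; exact hTm
  haveI : IsLocalRing (Rn k n ⧸ J) := Groth.Agent.Lib.Helper85.GorFlat.isLocalRing_quot J hJm
  haveI hG : LocCoh.IsGorensteinLocalRing (Rn k n ⧸ J) :=
    (Groth.Agent.Lib.Helper85.GorFlat.gorenstein_quot_iff T hTm isSMulRegular_T J hJ).mpr
      inferInstance
  have hmS : (maximalIdeal (Rn k n)).map (Ideal.Quotient.mk J) = maximalIdeal (Rn k n ⧸ J) :=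
    Groth.Agent.Lib.Helper56.map_quotientMk_maximalIdeal J
  have hsq : maximalIdeal (Rn k n ⧸ J) ^ 2 = ⊥ := by
    rw [← hmS, ← Ideal.map_pow, Ideal.map_eq_bot_iff_le_ker, Ideal.mk_ker, pow_two, Ideal.mul_le]
    intro a ha b hb
    rw [hJ]
    exact mul_mem_span_T ha hb
  haveI : IsArtinianRing (Rn k n ⧸ J) :=
    (isArtinianRing_iff_isNilpotent_maximalIdeal (Rn k n ⧸ J)).mpr ⟨2, hsq⟩
  obtain ⟨s, hs0, hs⟩ := Groth.Agent.Lib.Helper77.Frob1.exists_ess_socle (Rn k n ⧸ J)
    (Groth.Agent.Lib.Helper77.Frob2.baer_of_gorenstein_artinian (Rn k n ⧸ J))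
  have hx : ∀ i j : Fin n, j ≠ i →
      Ideal.span {Ideal.Quotient.mk J (xe (k := k) i 1)} ≠ ⊥ := by
    intro i j hji h
    rw [Ideal.span_singleton_eq_bot, Ideal.Quotient.eq_zero_iff_mem, hJ] at h
    exact xe_notMem_span_T i j hji h
  have hs0' := hs _ (hx i₀ i₁ h01.symm)
  have hs1' := hs _ (hx i₁ i₀ h01)
  rw [Ideal.mem_span_singleton'] at hs0' hs1'
  obtain ⟨a, ha⟩ := hs0'
  obtain ⟨b, hb⟩ := hs1'
  obtain ⟨a, rfl⟩ := Ideal.Quotient.mk_surjective a
  obtain ⟨b, rfl⟩ := Ideal.Quotient.mk_surjective b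
  rw [← map_mul] at ha hb
  have hsub : a * xe i₀ 1 - b * xe i₁ 1 ∈ Ideal.span {(T : Rn k n)} := by
    rw [← hJ, ← Ideal.Quotient.eq, ha, hb]
  have := mul_xe_mem_of_sub_mem i₀ i₁ i₂ h01 h02 h12 a b hsub
  rw [← hJ, ← Ideal.Quotient.eq_zero_iff_mem, ha] at this
  exact hs0 this

theorem main (k : Type u) [Field k]
    (A : Type u) [CommRing A] [LocCoh.IsGorensteinLocalRing A] (n : ℕ) (hn : 2 ≤ n)
    (φ : AdicCompletion (IsLocalRing.maximalIdeal A) A →+* (Fin n → PowerSeries k))
    (hinj : Function.Injective φ)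
    (hrange : Set.range φ = {f : Fin n → PowerSeries k | ∀ i j : Fin n,
      PowerSeries.constantCoeff (f i) = PowerSeries.constantCoeff (f j)}) :
    n = 2 := by
  by_contra hne
  have h3 : 3 ≤ n := by omega
  haveI := gor_completion A
  have hmem : ∀ x, φ x ∈ Rn k n := by
    intro x
    have : φ x ∈ Set.range φ := ⟨x, rfl⟩
    rw [hrange] at this
    exact this
  let ψ : AdicCompletion (maximalIdeal A) A →+* Rn k n := φ.codRestrict (Rn k n) hmem
  have hψ : Function.Bijective ψ := by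
    constructor
    · intro x y hxy
      apply hinj
      exact congrArg Subtype.val hxy
    · intro y
      have : y.1 ∈ Set.range φ := by rw [hrange]; exact y.2
      obtain ⟨x, hx⟩ := this
      exact ⟨x, Subtype.ext hx⟩
  let e : AdicCompletion (maximalIdeal A) A ≃+* Rn k n := RingEquiv.ofBijective ψ hψ
  haveI : LocCoh.IsGorensteinLocalRing (Rn k n) :=
    Groth.Agent.Lib.Helper85.GorRing.gor_of_ringEquiv e
  exact not_gor_Rn (k := k) (n := n) ⟨0, by omega⟩ ⟨1, by omega⟩ ⟨2, by omega⟩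
    (by simp [Fin.ext_iff]) (by simp [Fin.ext_iff]) (by simp [Fin.ext_iff])

end Groth.Agent.Lib.Helper77.MultiCross
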