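import Mathlib
import Groth.Agent.S9392
import Groth.Agent.S9246
import Groth.Agent.S9397
import Groth.Agent.Lib.Helper38.TotalFrac
import Groth.Agent.Lib.Helper30.SmoothReduced

/-!
# Descent of the Nagata property along smooth surjective maps: the fraction-field computation
-/

set_option autoImplicit false
universe u
open CAlg TensorProduct

namespace Groth.Agent.Lib.Helper77.NagDesc

section
variable (R : Type u) [CommRing R] [IsDomain R] (S : Type u) [CommRing S] [Algebra R S]
  (L : Type u) [Field L] [Algebra R L] [Algebra (FractionRing R) L]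
  [IsScalarTower R (FractionRing R) L] [FiniteDimensional (FractionRing R) L]

theorem injective_algebraMap_L : Function.Injective (algebraMap R L) := by
  rw [IsScalarTower.algebraMap_eq R (FractionRing R) L]
  exact (algebraMap (FractionRing R) L).injective.comp (IsFractionRing.injective R (FractionRing R))

theorem essFiniteType_L : Algebra.EssFiniteType R L := by
  haveI : Algebra.EssFiniteType R (FractionRing R) :=
    Algebra.EssFiniteType.of_isLocalization _ (nonZeroDivisors R)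
  exact Algebra.EssFiniteType.comp R (FractionRing R) L

/-- every element of `S ⊗ L` has a nonzero `R`-multiple integral over `S` -/
theorem exists_smul_isIntegral (t : S ⊗[R] L) :
    ∃ r : R, r ≠ 0 ∧ IsIntegral S (r • t) := by
  induction t with
  | zero => exact ⟨1, one_ne_zero, by rw [smul_zero]; exact isIntegral_zero⟩
  | tmul s l =>
    have hl : IsAlgebraic R l := by
      rw [IsFractionRing.isAlgebraic_iff R (FractionRing R) L]
      exact Algebra.IsAlgebraic.isAlgebraic l
    obtain ⟨r, hr0, hr⟩ := hl.exists_integral_multiple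
    refine ⟨r, hr0, ?_⟩
    have h1 : r • (s ⊗ₜ[R] l) = (s ⊗ₜ[R] (1 : L)) * ((1 : S) ⊗ₜ[R] (r • l)) := by
      rw [Algebra.TensorProduct.tmul_mul_tmul, mul_one, one_mul, TensorProduct.tmul_smul]
    rw [h1]
    refine IsIntegral.mul ?_ ?_
    · have : s ⊗ₜ[R] (1 : L) = algebraMap S (S ⊗[R] L) s := rfl
      rw [this]; exact isIntegral_algebraMap
    · have h2 : IsIntegral R ((Algebra.TensorProduct.includeRight : L →ₐ[R] S ⊗[R] L) (r • l)) :=
        hr.map _
      exact h2.tower_top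
  | add x y hx hy =>
    obtain ⟨r1, h1, h1'⟩ := hx
    obtain ⟨r2, h2, h2'⟩ := hy
    refine ⟨r1 * r2, mul_ne_zero h1 h2, ?_⟩
    rw [smul_add]
    refine IsIntegral.add ?_ ?_
    · rw [mul_comm, mul_smul]; exact h1'.smul r2
    · rw [mul_smul]; exact h2'.smul r1

theorem isUnit_algebraMap_tensor (r : R) (hr : r ≠ 0) :
    IsUnit (algebraMap R (S ⊗[R] L) r) := by
  have h1 : algebraMap R (S ⊗[R] L) r = (1 : S) ⊗ₜ[R] (algebraMap R L r) := by
    rw [Algebra.algebraMap_eq_smul_one, Algebra.algebraMap_eq_smul_one,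
      Algebra.TensorProduct.one_def, TensorProduct.tmul_smul]
  have h2 : algebraMap R L r ≠ 0 := fun h =>
    hr (injective_algebraMap_L R L (h.trans (map_zero _).symm))
  rw [h1]
  refine IsUnit.of_mul_eq_one ((1 : S) ⊗ₜ[R] (algebraMap R L r)⁻¹) ?_
  rw [Algebra.TensorProduct.tmul_mul_tmul, mul_one, mul_inv_cancel₀ h2,
    Algebra.TensorProduct.one_def]

set_option maxHeartbeats 800000 in
theorem finite_IC_F [IsNoetherianRing S] (Q : Ideal (S ⊗[R] L)) [Q.IsPrime]
    (hN2 : IsN2 (S ⧸ Q.comap (algebraMap S (S ⊗[R] L)))) :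
    Module.Finite S (integralClosure S (FractionRing ((S ⊗[R] L) ⧸ Q))) := by
  letI : Algebra (FractionRing (S ⧸ Q.comap (algebraMap S (S ⊗[R] L))))
      (FractionRing ((S ⊗[R] L) ⧸ Q)) := FractionRing.liftAlgebra _ _
  haveI : IsScalarTower (S ⧸ Q.comap (algebraMap S (S ⊗[R] L)))
      (FractionRing (S ⧸ Q.comap (algebraMap S (S ⊗[R] L))))
      (FractionRing ((S ⊗[R] L) ⧸ Q)) := FractionRing.isScalarTower_liftAlgebra _ _
  haveI hST : IsScalarTower S (FractionRing (S ⧸ Q.comap (algebraMap S (S ⊗[R] L))))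
      (FractionRing ((S ⊗[R] L) ⧸ Q)) := IsScalarTower.of_algebraMap_eq fun x => by
    rw [IsScalarTower.algebraMap_apply S (S ⧸ Q.comap (algebraMap S (S ⊗[R] L)))
        (FractionRing ((S ⊗[R] L) ⧸ Q)),
      IsScalarTower.algebraMap_apply (S ⧸ Q.comap (algebraMap S (S ⊗[R] L)))
        (FractionRing (S ⧸ Q.comap (algebraMap S (S ⊗[R] L)))) (FractionRing ((S ⊗[R] L) ⧸ Q)),
      ← IsScalarTower.algebraMap_apply S (S ⧸ Q.comap (algebraMap S (S ⊗[R] L)))
        (FractionRing (S ⧸ Q.comap (algebraMap S (S ⊗[R] L))))]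
  -- essentially of finite type
  haveI := essFiniteType_L R L
  haveI h1 : Algebra.EssFiniteType S (FractionRing ((S ⊗[R] L) ⧸ Q)) := inferInstance
  haveI h2 : Algebra.EssFiniteType (FractionRing (S ⧸ Q.comap (algebraMap S (S ⊗[R] L))))
      (FractionRing ((S ⊗[R] L) ⧸ Q)) :=
    Algebra.EssFiniteType.of_comp S _ _
  -- algebraic
  have hmem : ∀ x : (S ⊗[R] L) ⧸ Q, algebraMap _ (FractionRing ((S ⊗[R] L) ⧸ Q)) x ∈
      algebraicClosure (FractionRing (S ⧸ Q.comap (algebraMap S (S ⊗[R] L))))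
        (FractionRing ((S ⊗[R] L) ⧸ Q)) := by
    intro x
    obtain ⟨t, rfl⟩ := Ideal.Quotient.mk_surjective x
    obtain ⟨r, hr0, hr⟩ := exists_smul_isIntegral R S L t
    have e1 : algebraMap ((S ⊗[R] L) ⧸ Q) (FractionRing ((S ⊗[R] L) ⧸ Q))
        (Ideal.Quotient.mk Q t) = algebraMap (S ⊗[R] L) (FractionRing ((S ⊗[R] L) ⧸ Q)) t := by
      rw [IsScalarTower.algebraMap_apply (S ⊗[R] L) ((S ⊗[R] L) ⧸ Q)
        (FractionRing ((S ⊗[R] L) ⧸ Q))]
      rfl
    rw [e1]
    have h3 : IsIntegral S (algebraMap (S ⊗[R] L) (FractionRing ((S ⊗[R] L) ⧸ Q)) (r • t)) :=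
      hr.map (IsScalarTower.toAlgHom S (S ⊗[R] L) (FractionRing ((S ⊗[R] L) ⧸ Q)))
    have h4 : IsIntegral (FractionRing (S ⧸ Q.comap (algebraMap S (S ⊗[R] L))))
        (algebraMap (S ⊗[R] L) (FractionRing ((S ⊗[R] L) ⧸ Q)) (r • t)) := h3.tower_top
    have h5 : algebraMap (S ⊗[R] L) (FractionRing ((S ⊗[R] L) ⧸ Q)) (r • t) =
        algebraMap (FractionRing (S ⧸ Q.comap (algebraMap S (S ⊗[R] L))))
          (FractionRing ((S ⊗[R] L) ⧸ Q))
          (algebraMap S (FractionRing (S ⧸ Q.comap (algebraMap S (S ⊗[R] L))))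
            (algebraMap R S r)) *
        algebraMap (S ⊗[R] L) (FractionRing ((S ⊗[R] L) ⧸ Q)) t := by
      rw [Algebra.smul_def, map_mul,
        ← IsScalarTower.algebraMap_apply S (FractionRing (S ⧸ Q.comap (algebraMap S (S ⊗[R] L))))
          (FractionRing ((S ⊗[R] L) ⧸ Q)),
        IsScalarTower.algebraMap_apply R S (S ⊗[R] L),
        ← IsScalarTower.algebraMap_apply S (S ⊗[R] L) (FractionRing ((S ⊗[R] L) ⧸ Q))]
    have h6 : algebraMap (FractionRing (S ⧸ Q.comap (algebraMap S (S ⊗[R] L))))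
          (FractionRing ((S ⊗[R] L) ⧸ Q))
          (algebraMap S (FractionRing (S ⧸ Q.comap (algebraMap S (S ⊗[R] L))))
            (algebraMap R S r)) ≠ 0 := by
      rw [← IsScalarTower.algebraMap_apply S (FractionRing (S ⧸ Q.comap (algebraMap S (S ⊗[R] L))))
          (FractionRing ((S ⊗[R] L) ⧸ Q)),
        IsScalarTower.algebraMap_apply S (S ⊗[R] L) (FractionRing ((S ⊗[R] L) ⧸ Q)),
        ← IsScalarTower.algebraMap_apply R S (S ⊗[R] L)]
      exact ((isUnit_algebraMap_tensor R S L r hr0).map _).ne_zero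
    rw [h5] at h4
    have h7 := (mem_algebraicClosure_iff'.mpr h4)
    have h8 := (algebraicClosure (FractionRing (S ⧸ Q.comap (algebraMap S (S ⊗[R] L))))
        (FractionRing ((S ⊗[R] L) ⧸ Q))).algebraMap_mem
        (algebraMap S (FractionRing (S ⧸ Q.comap (algebraMap S (S ⊗[R] L))))
            (algebraMap R S r))
    have h9 := mul_mem (inv_mem h8) h7
    rwa [inv_mul_cancel_left₀ h6] at h9
  haveI halg : Algebra.IsAlgebraic (FractionRing (S ⧸ Q.comap (algebraMap S (S ⊗[R] L))))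
      (FractionRing ((S ⊗[R] L) ⧸ Q)) := by
    constructor
    intro z
    obtain ⟨a, b, hb, rfl⟩ := IsFractionRing.div_surjective (A := (S ⊗[R] L) ⧸ Q) z
    exact mem_algebraicClosure_iff.mp (div_mem (hmem a) (hmem b))
  haveI hfd : Module.Finite (FractionRing (S ⧸ Q.comap (algebraMap S (S ⊗[R] L))))
      (FractionRing ((S ⊗[R] L) ⧸ Q)) := Algebra.finite_of_essFiniteType_of_isAlgebraic
  have hD : Module.Finite (S ⧸ Q.comap (algebraMap S (S ⊗[R] L)))
      (integralClosure (S ⧸ Q.comap (algebraMap S (S ⊗[R] L)))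
        (FractionRing ((S ⊗[R] L) ⧸ Q))) := hN2 _ hfd
  haveI hS : Module.Finite S (integralClosure (S ⧸ Q.comap (algebraMap S (S ⊗[R] L)))
        (FractionRing ((S ⊗[R] L) ⧸ Q))) :=
    Module.Finite.trans (S ⧸ Q.comap (algebraMap S (S ⊗[R] L))) _
  let g : integralClosure S (FractionRing ((S ⊗[R] L) ⧸ Q)) →ₗ[S]
      integralClosure (S ⧸ Q.comap (algebraMap S (S ⊗[R] L)))
        (FractionRing ((S ⊗[R] L) ⧸ Q)) :=
    { toFun := fun x => ⟨x.1, x.2.tower_top⟩
      map_add' := fun x y => rfl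
      map_smul' := fun c x => rfl }
  have hg : Function.Injective g := by
    intro x y h
    have h1 : ((g x).1 : FractionRing ((S ⊗[R] L) ⧸ Q)) = (g y).1 := by rw [h]
    exact Subtype.ext h1
  exact Module.Finite.of_injective g hg

end

end Groth.Agent.Lib.Helper77.NagDesc
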