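import Groth.Agent.Lib.Helper77.NagDesc1

/-!
# Descent of N-2 along smooth faithfully flat maps from Nagata rings
-/

set_option autoImplicit false
universe u
open CAlg TensorProduct Groth.Agent.Lib.Helper38.TotalFrac

namespace Groth.Agent.Lib.Helper77.NagDesc

set_option maxHeartbeats 800000 in
theorem core (R : Type u) [CommRing R] [IsDomain R] (S : Type u) [CommRing S] [Algebra R S]
    [Algebra.Smooth R S] [Module.FaithfullyFlat R S] (hS : IsNagata S)
    (L : Type u) [Field L] [Algebra R L] [Algebra (FractionRing R) L]
    [IsScalarTower R (FractionRing R) L] [FiniteDimensional (FractionRing R) L] :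
    Module.Finite R (integralClosure R L) := by
  haveI : IsNoetherianRing S := hS.1
  haveI := essFiniteType_L R L
  haveI hTN : IsNoetherianRing (S ⊗[R] L) := Algebra.EssFiniteType.isNoetherianRing S _
  haveI hTred : IsReduced (S ⊗[R] L) := by
    haveI : IsReduced (L ⊗[R] S) := Helper30.SmoothReduced.isReduced_of_smooth L (L ⊗[R] S)
    exact isReduced_of_injective (Algebra.TensorProduct.comm R S L).toRingEquiv.toRingHom
      (Algebra.TensorProduct.comm R S L).injective
  haveI : Finite (MinP (S ⊗[R] L)) := (minimalPrimes.finite_of_isNoetherianRing _).to_subtype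
  have hfin : ∀ Q : MinP (S ⊗[R] L), Module.Finite S (integralClosure S (Kp Q)) :=
    fun Q => finite_IC_F R S L Q.1 (hS.2 _)
  let g : integralClosure S (S ⊗[R] L) →ₗ[S]
      ∀ Q : MinP (S ⊗[R] L), integralClosure S (Kp Q) :=
    { toFun := fun x Q => ⟨algebraMap (S ⊗[R] L) (Kp Q) x.1,
        x.2.map (IsScalarTower.toAlgHom S (S ⊗[R] L) (Kp Q))⟩
      map_add' := fun x y => by
        funext Q
        apply Subtype.ext
        simp
      map_smul' := fun c x => by
        funext Q
        apply Subtype.ext
        simp [Algebra.smul_def, IsScalarTower.algebraMap_apply S (S ⊗[R] L) (Kp Q)] }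
  have hg : Function.Injective g := by
    intro x y h
    apply Subtype.ext
    have h1 : psiPi (algebraMap (S ⊗[R] L) (FractionRing (S ⊗[R] L)) x.1) =
        psiPi (algebraMap (S ⊗[R] L) (FractionRing (S ⊗[R] L)) y.1) := by
      funext Q
      rw [psiPi_apply, psiPi_apply, AlgHom.commutes, AlgHom.commutes]
      have h2 : ((g x Q).1 : Kp Q) = (g y Q).1 := by rw [h]
      exact h2
    exact IsLocalization.injective (FractionRing (S ⊗[R] L)) (le_refl _) (psiPi_injective h1)
  haveI : ∀ Q : MinP (S ⊗[R] L), Module.Finite S (integralClosure S (Kp Q)) := hfin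
  haveI : Module.Finite S (∀ Q : MinP (S ⊗[R] L), integralClosure S (Kp Q)) := Module.Finite.pi
  haveI : Module.Finite S (integralClosure S (S ⊗[R] L)) := Module.Finite.of_injective g hg
  have hbij := TensorProduct.toIntegralClosure_bijective_of_smooth (R := R) (S := S) (B := L)
  let e := AlgEquiv.ofBijective (TensorProduct.toIntegralClosure R S L) hbij
  haveI : Module.Finite S (S ⊗[R] integralClosure R L) :=
    Module.Finite.equiv e.symm.toLinearEquiv
  exact Module.Finite.of_finite_tensorProduct_of_faithfullyFlat S

end Groth.Agent.Lib.Helper77.NagDesc
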