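import Groth.Agent.Lib.Helper77.NagDesc2

/-!
# The Nagata property descends along smooth surjective ring maps (S9401)
-/

set_option autoImplicit false
universe u
open CAlg TensorProduct

namespace Groth.Agent.Lib.Helper77.NagDesc

theorem isN2_of_ringEquiv {A B : Type u} [CommRing A] [IsDomain A] [CommRing B] [IsDomain B]
    (e : A ≃+* B) (h : IsN2 A) : IsN2 B := by
  letI : Algebra A B := e.toRingHom.toAlgebra
  haveI : IsLocalization (⊥ : Submonoid A) A := IsLocalization.self (by
    intro x hx
    rw [Submonoid.mem_bot] at hx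
    rw [hx]; exact isUnit_one)
  let e' : A ≃ₐ[A] B := { e with commutes' := fun r => rfl }
  haveI : IsLocalization (⊥ : Submonoid A) B := IsLocalization.isLocalization_of_algEquiv ⊥ e'
  exact Groth.Agent.S9392.result A ⊥ B h

theorem isN2_quot_congr' {R : Type u} [CommRing R] (q q' : Ideal R) (h : q = q') [hq : q.IsPrime]
    [hq' : q'.IsPrime] (hN : CAlg.IsN2 (R ⧸ q')) : CAlg.IsN2 (R ⧸ q) := by
  subst h; exact hN

theorem isNagata_of_surjective {A B : Type u} [CommRing A] [CommRing B] (f : A →+* B)
    (hf : Function.Surjective f) (hA : IsNagata A) : IsNagata B := by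
  haveI : IsNoetherianRing A := hA.1
  refine ⟨isNoetherianRing_of_surjective A B f hf, fun P hP => ?_⟩
  have hsurj : Function.Surjective ((Ideal.Quotient.mk P).comp f) :=
    Ideal.Quotient.mk_surjective.comp hf
  have hker : RingHom.ker ((Ideal.Quotient.mk P).comp f) = P.comap f := by
    ext x
    rw [RingHom.mem_ker, RingHom.comp_apply, Ideal.Quotient.eq_zero_iff_mem, Ideal.mem_comap]
  haveI : (P.comap f).IsPrime := Ideal.comap_isPrime f P
  haveI hkp : (RingHom.ker ((Ideal.Quotient.mk P).comp f)).IsPrime := by rw [hker]; infer_instance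
  have h1 : IsN2 (A ⧸ RingHom.ker ((Ideal.Quotient.mk P).comp f)) :=
    isN2_quot_congr' _ _ hker (hA.2 (P.comap f))
  exact isN2_of_ringEquiv (RingHom.quotientKerEquivOfSurjective hsurj) h1

theorem main (R : Type u) [CommRing R] (S : Type u)
    [CommRing S] [Algebra R S] [Algebra.Smooth R S]
    (hs : Function.Surjective (PrimeSpectrum.comap (algebraMap R S))) (hS : CAlg.IsNagata S) :
    CAlg.IsNagata R := by
  haveI : Module.Flat R S := inferInstance
  haveI : Module.FaithfullyFlat R S := Module.FaithfullyFlat.of_comap_surjective hs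
  haveI : IsNoetherianRing S := hS.1
  have hRN : IsNoetherianRing R := Groth.Agent.S9246.isNoetherianRing_of_faithfullyFlat R S
  refine ⟨hRN, fun p _ => ?_⟩
  intro L _ _ _ _ hfd
  have hS' : IsNagata ((R ⧸ p) ⊗[R] S) :=
    isNagata_of_surjective (Algebra.TensorProduct.includeRight : S →ₐ[R] (R ⧸ p) ⊗[R] S).toRingHom
      (Algebra.TensorProduct.includeRight_surjective S Ideal.Quotient.mk_surjective) hS
  exact core (R ⧸ p) ((R ⧸ p) ⊗[R] S) hS' L

end Groth.Agent.Lib.Helper77.NagDesc
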