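import Mathlib
import Groth.Agent.Lib.Helper77.AlgClFin
import Groth.Agent.Lib.Helper38.TotalFrac
import Groth.Prelude.Def_Found

set_option autoImplicit false
universe u
open CAlg

namespace Groth.Agent.Lib.Helper77.NagFT

variable (R : Type u) [CommRing R] (S : Type u) [CommRing S] [Algebra R S] [Algebra.FiniteType R S]

set_option maxHeartbeats 800000 in
theorem finite_IC_Kp [IsNoetherianRing R] (Q : Ideal S) [Q.IsPrime]
    (hN2 : IsN2 (R ⧸ Q.comap (algebraMap R S))) :
    Module.Finite R (integralClosure R (FractionRing (S ⧸ Q))) := by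
  letI : Algebra (FractionRing (R ⧸ Q.comap (algebraMap R S)))
      (FractionRing (S ⧸ Q)) := FractionRing.liftAlgebra _ _
  haveI : IsScalarTower (R ⧸ Q.comap (algebraMap R S))
      (FractionRing (R ⧸ Q.comap (algebraMap R S)))
      (FractionRing (S ⧸ Q)) := FractionRing.isScalarTower_liftAlgebra _ _
  haveI hST : IsScalarTower R (FractionRing (R ⧸ Q.comap (algebraMap R S)))
      (FractionRing (S ⧸ Q)) := IsScalarTower.of_algebraMap_eq fun x => by
    rw [IsScalarTower.algebraMap_apply R (R ⧸ Q.comap (algebraMap R S))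
        (FractionRing (S ⧸ Q)),
      IsScalarTower.algebraMap_apply (R ⧸ Q.comap (algebraMap R S))
        (FractionRing (R ⧸ Q.comap (algebraMap R S))) (FractionRing (S ⧸ Q)),
      ← IsScalarTower.algebraMap_apply R (R ⧸ Q.comap (algebraMap R S))
        (FractionRing (R ⧸ Q.comap (algebraMap R S)))]
  haveI h1 : Algebra.EssFiniteType R (FractionRing (S ⧸ Q)) := inferInstance
  haveI h2 : Algebra.EssFiniteType (FractionRing (R ⧸ Q.comap (algebraMap R S)))
      (FractionRing (S ⧸ Q)) :=
    Algebra.EssFiniteType.of_comp R _ _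
  haveI hfd : Module.Finite (FractionRing (R ⧸ Q.comap (algebraMap R S)))
      (algebraicClosure (FractionRing (R ⧸ Q.comap (algebraMap R S))) (FractionRing (S ⧸ Q))) :=
    AlgClFin.finite_algebraicClosure _ _
  haveI hD : Module.Finite (R ⧸ Q.comap (algebraMap R S))
      (integralClosure (R ⧸ Q.comap (algebraMap R S))
        (algebraicClosure (FractionRing (R ⧸ Q.comap (algebraMap R S))) (FractionRing (S ⧸ Q)))) :=
    hN2 _ hfd
  haveI hT : IsScalarTower (R ⧸ Q.comap (algebraMap R S))
      (algebraicClosure (FractionRing (R ⧸ Q.comap (algebraMap R S))) (FractionRing (S ⧸ Q)))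
      (FractionRing (S ⧸ Q)) := IsScalarTower.of_algebraMap_eq fun x => rfl
  have hmem : ∀ x : integralClosure (R ⧸ Q.comap (algebraMap R S)) (FractionRing (S ⧸ Q)), x.1 ∈
      algebraicClosure (FractionRing (R ⧸ Q.comap (algebraMap R S))) (FractionRing (S ⧸ Q)) := by
    intro x
    have h3 : IsIntegral (FractionRing (R ⧸ Q.comap (algebraMap R S))) x.1 := x.2.tower_top
    exact mem_algebraicClosure_iff'.mpr h3
  have hint : ∀ x : integralClosure (R ⧸ Q.comap (algebraMap R S)) (FractionRing (S ⧸ Q)),
      IsIntegral (R ⧸ Q.comap (algebraMap R S))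
        (⟨x.1, hmem x⟩ : algebraicClosure (FractionRing (R ⧸ Q.comap (algebraMap R S)))
          (FractionRing (S ⧸ Q))) := by
    intro x
    refine (isIntegral_algebraMap_iff (B := FractionRing (S ⧸ Q))
      (algebraMap (algebraicClosure (FractionRing (R ⧸ Q.comap (algebraMap R S)))
          (FractionRing (S ⧸ Q))) (FractionRing (S ⧸ Q))).injective).mp ?_
    exact x.2
  let g : integralClosure (R ⧸ Q.comap (algebraMap R S)) (FractionRing (S ⧸ Q))
      →ₗ[R ⧸ Q.comap (algebraMap R S)]
      integralClosure (R ⧸ Q.comap (algebraMap R S))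
        (algebraicClosure (FractionRing (R ⧸ Q.comap (algebraMap R S))) (FractionRing (S ⧸ Q))) :=
    { toFun := fun x => ⟨⟨x.1, hmem x⟩, hint x⟩
      map_add' := fun x y => rfl
      map_smul' := fun c x => rfl }
  have hg : Function.Injective g := by
    intro x y h
    have h1 : (((g x).1 : algebraicClosure (FractionRing (R ⧸ Q.comap (algebraMap R S)))
        (FractionRing (S ⧸ Q))) : FractionRing (S ⧸ Q)) = (g y).1 := by rw [h]
    exact Subtype.ext h1
  haveI hDF : Module.Finite (R ⧸ Q.comap (algebraMap R S))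
      (integralClosure (R ⧸ Q.comap (algebraMap R S)) (FractionRing (S ⧸ Q))) :=
    Module.Finite.of_injective g hg
  haveI hS : Module.Finite R (integralClosure (R ⧸ Q.comap (algebraMap R S))
      (FractionRing (S ⧸ Q))) :=
    Module.Finite.trans (R ⧸ Q.comap (algebraMap R S)) _
  let g' : integralClosure R (FractionRing (S ⧸ Q)) →ₗ[R]
      integralClosure (R ⧸ Q.comap (algebraMap R S)) (FractionRing (S ⧸ Q)) :=
    { toFun := fun x => ⟨x.1, x.2.tower_top⟩
      map_add' := fun x y => rfl
      map_smul' := fun c x => rfl }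
  have hg' : Function.Injective g' := by
    intro x y h
    have h1 : ((g' x).1 : FractionRing (S ⧸ Q)) = (g' y).1 := by rw [h]
    exact Subtype.ext h1
  exact Module.Finite.of_injective g' hg'

open Groth.Agent.Lib.Helper38.TotalFrac

theorem main (R : Type u) [CommRing R] (hR : CAlg.IsNagata R)
    (S : Type u) [CommRing S] [IsReduced S] [Algebra R S] [Algebra.FiniteType R S] :
    Module.Finite R (integralClosure R S) := by
  haveI : IsNoetherianRing R := hR.1
  haveI : IsNoetherianRing S := Algebra.FiniteType.isNoetherianRing R S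
  haveI : Finite (MinP S) := (minimalPrimes.finite_of_isNoetherianRing S).to_subtype
  haveI hK : ∀ Q : MinP S, Module.Finite R (integralClosure R (Kp Q)) := fun Q =>
    finite_IC_Kp R S Q.1 (hR.2 _)
  let g : integralClosure R S →ₗ[R] (∀ Q : MinP S, integralClosure R (Kp Q)) :=
    { toFun := fun x Q => ⟨algebraMap S (Kp Q) x.1,
        x.2.map (IsScalarTower.toAlgHom R S (Kp Q))⟩
      map_add' := fun x y => by
        funext Q
        exact Subtype.ext (map_add (algebraMap S (Kp Q)) x.1 y.1)
      map_smul' := fun c x => by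
        funext Q
        refine Subtype.ext ?_
        show algebraMap S (Kp Q) (c • x.1) = c • algebraMap S (Kp Q) x.1
        rw [Algebra.smul_def, map_mul, ← IsScalarTower.algebraMap_apply, Algebra.smul_def] }
  have hg : Function.Injective g := by
    intro x y h
    have h0 : ∀ Q : MinP S, algebraMap S (Kp Q) x.1 = algebraMap S (Kp Q) y.1 := by
      intro Q
      have h1 := congrFun h Q
      have h2 : ((g x Q).1 : Kp Q) = (g y Q).1 := by rw [h1]
      exact h2
    have h3 : x.1 - y.1 ∈ nilradical S := by
      rw [nilradical, ← Ideal.sInf_minimalPrimes, Ideal.mem_sInf]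
      intro Q hQ
      have := h0 ⟨Q, hQ⟩
      rw [← sub_eq_zero, ← map_sub, algebraMap_Kp_eq_zero_iff] at this
      exact this
    rw [nilradical_eq_zero, Ideal.zero_eq_bot, Ideal.mem_bot, sub_eq_zero] at h3
    exact Subtype.ext h3
  exact Module.Finite.of_injective g hg

end Groth.Agent.Lib.Helper77.NagFT
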