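import Mathlib
import Groth.Agent.Lib.Helper77.OpenLoc1
import Groth.Agent.Lib.Helper77.AuslanderBuchsbaum
import Groth.Agent.Lib.Helper85.ZClosedSk
import Groth.Agent.Lib.Helper80.TensorLoc

/-!
# Normal flatness along a nilpotent ideal: depth and dimension (EGA IV 6.10.x)
-/

set_option autoImplicit false
set_option linter.unusedSectionVars false
universe u

namespace Groth.Agent.Lib.Helper77.NormFlat1

open scoped Pointwise
open LocCoh Groth.Agent.Lib.Helper67 Groth.Agent.Lib.Helper77.GenDD1
  Groth.Agent.Lib.Helper77.GenDD2 Groth.Agent.Lib.Helper77.OpenLoc1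

variable {A : Type u} [CommRing A] [IsNoetherianRing A]

/-- "zero or of depth `δ`" at `q`. -/
def ZD (q : Ideal A) [q.IsPrime] (δ : ℕ∞) (N : Type u) [AddCommGroup N] [Module A N] : Prop :=
  Subsingleton (LocalizedModule q.primeCompl N) ∨ dp q N = δ

theorem zd_congr {N N' : Type u} [AddCommGroup N] [Module A N] [AddCommGroup N'] [Module A N']
    (e : N ≃ₗ[A] N') (q : Ideal A) [q.IsPrime] (δ : ℕ∞) (h : ZD q δ N) : ZD q δ N' := by
  rcases h with h | h
  · exact Or.inl (subsingleton_congr e q h)
  · exact Or.inr ((dp_congr e q).symm.trans h)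

theorem dp_eq_top_of_subsingleton (q : Ideal A) [q.IsPrime] (N : Type u) [AddCommGroup N]
    [Module A N] (h : Subsingleton (LocalizedModule q.primeCompl N)) : dp q N = ⊤ :=
  Groth.Agent.Lib.Helper56.depth_eq_top_of_subsingleton _

section SES

variable {L' L L'' : Type u} [AddCommGroup L'] [Module A L'] [Module.Finite A L']
  [AddCommGroup L] [Module A L] [Module.Finite A L]
  [AddCommGroup L''] [Module A L''] [Module.Finite A L'']
  (f : L' →ₗ[A] L) (g : L →ₗ[A] L'')
  (hf : Function.Injective f) (hg : Function.Surjective g) (hfg : Function.Exact f g)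
  (q : Ideal A) [q.IsPrime]

include hf hg hfg in
theorem zd_of_exact (δ : ℕ∞) (hδ : δ ≠ ⊤) (h1 : ZD q δ L') (h2 : ZD q δ L'') : ZD q δ L := by
  have hmid := dp_mid_ge f g hf hg hfg q
  have hright := dp_right_ge f g hf hg hfg q
  have hleft := dp_left_ge f g hf hg hfg q
  rcases h1 with h1 | h1 <;> rcases h2 with h2 | h2
  · left
    have hdm := dm_eq_max f g hf hg hfg q
    have e1 : dm q L' = ⊥ := Module.supportDim_eq_bot_of_subsingleton _ _
    have e2 : dm q L'' = ⊥ := Module.supportDim_eq_bot_of_subsingleton _ _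
    rw [e1, e2, max_self] at hdm
    by_contra hcon
    rw [not_subsingleton_iff_nontrivial] at hcon
    exact (Module.supportDim_ne_bot_iff_nontrivial (Localization.AtPrime q) _).mpr hcon hdm
  · right
    rw [dp_eq_top_of_subsingleton q L' h1, h2] at hmid
    rw [dp_eq_top_of_subsingleton q L' h1, h2] at hright
    have e : (⊤ : ℕ∞) - 1 = ⊤ := by simp
    rw [e, min_eq_left le_top] at hright
    rw [min_eq_right le_top] at hmid
    exact le_antisymm hright hmid
  · right
    rw [h1, dp_eq_top_of_subsingleton q L'' h2] at hmid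
    rw [h1, dp_eq_top_of_subsingleton q L'' h2] at hleft
    rw [top_add, min_eq_left le_top] at hleft
    rw [min_eq_left le_top] at hmid
    exact le_antisymm hleft hmid
  · right
    rw [h1, h2, min_self] at hmid
    rw [h1, h2] at hleft
    refine le_antisymm ?_ hmid
    rcases min_le_iff.mp hleft with h | h
    · exact h
    · exact absurd ((ENat.add_one_le_iff hδ).mp h) (lt_irrefl _)

end SES

/-- a finite flat `A/I`-module is zero or of depth `depth (A/I)_q` at each prime. -/
theorem zd_of_flat (I : Ideal A) (G : Type u) [AddCommGroup G] [Module A G] [Module (A ⧸ I) G]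
    [IsScalarTower A (A ⧸ I) G] [Module.Finite A G] [Module.Flat (A ⧸ I) G]
    (Q : Ideal (A ⧸ I)) [Q.IsPrime] :
    ZD (Q.comap (Ideal.Quotient.mk I)) (dp (Q.comap (Ideal.Quotient.mk I)) (A ⧸ I)) G := by
  obtain ⟨t1, t2⟩ := Groth.Agent.Lib.Helper80.Codepth.depth_supportDim_transfer (R := A)
    (A := A ⧸ I) Ideal.Quotient.mk_surjective G Q
  obtain ⟨s1, -⟩ := Groth.Agent.Lib.Helper80.Codepth.depth_supportDim_transfer (R := A)
    (A := A ⧸ I) Ideal.Quotient.mk_surjective (A ⧸ I) Q
  rw [Groth.Agent.Lib.Helper56.depth_localizedModule_self] at s1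
  have hNB : IsNoetherianRing (Localization.AtPrime Q) :=
    IsLocalization.isNoetherianRing Q.primeCompl _ inferInstance
  by_cases hnt : Nontrivial (LocalizedModule Q.primeCompl G)
  · right
    haveI : Module.Finite (A ⧸ I) G := Module.Finite.of_restrictScalars_finite A (A ⧸ I) G
    haveI : Module.Free (Localization.AtPrime Q) (LocalizedModule Q.primeCompl G) :=
      Module.free_of_flat_of_isLocalRing
    have h := Groth.Agent.Lib.Helper77.AuslanderBuchsbaum.depth_of_free
      (Localization.AtPrime Q) (LocalizedModule Q.primeCompl G)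
    exact t1.trans (h.trans s1.symm)
  · left
    rw [not_nontrivial_iff_subsingleton] at hnt
    have e : Module.supportDim (Localization.AtPrime Q) (LocalizedModule Q.primeCompl G) = ⊥ :=
      Module.supportDim_eq_bot_of_subsingleton _ _
    rw [e] at t2
    by_contra hcon
    rw [not_subsingleton_iff_nontrivial] at hcon
    exact (Module.supportDim_ne_bot_iff_nontrivial _ _).mpr hcon t2

section Filtration

variable (I : Ideal A) (M : Type u) [AddCommGroup M] [Module A M] [Module.Finite A M]

/-- the submodule `I^j M`. -/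
abbrev K (j : ℕ) : Submodule A M := I ^ j • (⊤ : Submodule A M)

/-- `I (I^j M)` inside `I^j M`. -/
abbrev L (j : ℕ) : Submodule A ↥(K I M j) := I • (⊤ : Submodule A ↥(K I M j))

theorem map_L (j : ℕ) : Submodule.map (K I M j).subtype (L I M j) = K I M (j + 1) := by
  rw [Submodule.map_smul'', Submodule.map_subtype_top, ← Submodule.mul_smul, ← pow_succ']

noncomputable def eL (j : ℕ) : ↥(L I M j) ≃ₗ[A] ↥(K I M (j + 1)) :=
  (Submodule.equivMapOfInjective (K I M j).subtype (Submodule.injective_subtype _)
    (L I M j)).trans (LinearEquiv.ofEq _ _ (map_L I M j))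

noncomputable def eK0 : ↥(K I M 0) ≃ₗ[A] M :=
  (LinearEquiv.ofEq (K I M 0) ⊤ (by
    show I ^ 0 • (⊤ : Submodule A M) = ⊤
    rw [pow_zero, Ideal.one_eq_top, Submodule.top_smul])).trans
    Submodule.topEquiv

theorem zd_K (hM : EGA4.IsNormallyFlat I M) (Q : Ideal (A ⧸ I)) [Q.IsPrime] (c : ℕ)
    (hc : I ^ c = ⊥)
    (hδ : dp (Q.comap (Ideal.Quotient.mk I)) (A ⧸ I) ≠ ⊤) :
    ∀ k j : ℕ, j + k = c →
      ZD (Q.comap (Ideal.Quotient.mk I)) (dp (Q.comap (Ideal.Quotient.mk I)) (A ⧸ I))
        ↥(K I M j) := by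
  intro k
  induction k with
  | zero =>
    intro j hj
    left
    have hbot : K I M j = ⊥ := by
      rw [add_zero] at hj
      show I ^ j • (⊤ : Submodule A M) = ⊥
      rw [hj, hc, Submodule.bot_smul]
    haveI : Subsingleton ↥(K I M j) := by
      rw [hbot]; infer_instance
    exact subsingleton_loc_of_subsingleton _ _
  | succ k ih =>
    intro j hj
    have h1 := ih (j + 1) (by omega)
    have h2 : ZD (Q.comap (Ideal.Quotient.mk I)) (dp (Q.comap (Ideal.Quotient.mk I)) (A ⧸ I))
        ↥(L I M j) := zd_congr (eL I M j).symm _ _ h1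
    haveI : Module.Flat (A ⧸ I) (↥(K I M j) ⧸ L I M j) := hM j
    have h3 := zd_of_flat I (↥(K I M j) ⧸ L I M j) Q
    exact zd_of_exact (L I M j).subtype (L I M j).mkQ (Submodule.injective_subtype _)
      (Submodule.mkQ_surjective _) (LinearMap.exact_subtype_mkQ _) _ _ hδ h2 h3

end Filtration

end Groth.Agent.Lib.Helper77.NormFlat1
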