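import Mathlib
import Groth.Agent.Lib.Helper77.NormFlat1

/-!
# Normal flatness along a nilpotent ideal: `(S_n)` and codepth (EGA IV 6.10.x), main statement
-/

set_option autoImplicit false
set_option linter.unusedSectionVars false
universe u

namespace Groth.Agent.Lib.Helper77.NormFlat2

open scoped Pointwise
open LocCoh Groth.Agent.Lib.Helper67 Groth.Agent.Lib.Helper77.GenDD1
  Groth.Agent.Lib.Helper77.GenDD2 Groth.Agent.Lib.Helper77.OpenLoc1
  Groth.Agent.Lib.Helper77.NormFlat1 Groth.Agent.Lib.Helper80.TensorLoc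

variable {A : Type u} [CommRing A] [IsNoetherianRing A]
  (I : Ideal A) (M : Type u) [AddCommGroup M] [Module A M] [Module.Finite A M]

theorem le_prime_of_pow_eq_bot (c : ℕ) (hc : I ^ c = ⊥) (q : Ideal A) [hq : q.IsPrime] : I ≤ q := by
  refine Ideal.IsPrime.le_of_pow_le (n := c) ?_
  rw [hc]; exact bot_le

theorem support_quotient_eq_univ (c : ℕ) (hc : I ^ c = ⊥) :
    Module.support A (A ⧸ I) = Set.univ := by
  rw [Module.support_eq_zeroLocus, Ideal.annihilator_quotient, Set.eq_univ_iff_forall]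
  intro q
  rw [PrimeSpectrum.mem_zeroLocus, SetLike.coe_subset_coe]
  exact le_prime_of_pow_eq_bot I c hc q.asIdeal

theorem key (hsupp : Module.support A M = Set.univ) (hM : EGA4.IsNormallyFlat I M)
    (c : ℕ) (hc : I ^ c = ⊥) (q : Ideal A) [hq : q.IsPrime] :
    dp q M = dp q (A ⧸ I) ∧ dm q M = dm q (A ⧸ I) := by
  have hIq : I ≤ q := le_prime_of_pow_eq_bot I c hc q
  refine ⟨?_, ?_⟩
  · have hker : RingHom.ker (Ideal.Quotient.mk I) ≤ q := by
      rw [Ideal.mk_ker]; exact hIq
    haveI hQ : (q.map (Ideal.Quotient.mk I)).IsPrime :=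
      Ideal.map_isPrime_of_surjective Ideal.Quotient.mk_surjective hker
    have hcomap : (q.map (Ideal.Quotient.mk I)).comap (Ideal.Quotient.mk I) = q := by
      rw [Ideal.comap_map_of_surjective _ Ideal.Quotient.mk_surjective, ← RingHom.ker_eq_comap_bot,
        sup_eq_left.mpr hker]
    have hntI : Nontrivial (LocalizedModule q.primeCompl (A ⧸ I)) := by
      have h : (⟨q, hq⟩ : PrimeSpectrum A) ∈ Module.support A (A ⧸ I) := by
        rw [support_quotient_eq_univ I c hc]; trivial
      exact Module.mem_support_iff.mp h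
    have hntM : Nontrivial (LocalizedModule q.primeCompl M) := by
      have h : (⟨q, hq⟩ : PrimeSpectrum A) ∈ Module.support A M := by
        rw [hsupp]; trivial
      exact Module.mem_support_iff.mp h
    have hδ' : dp q (A ⧸ I) ≠ ⊤ := depth_ne_top _
    have hδ : dp ((q.map (Ideal.Quotient.mk I)).comap (Ideal.Quotient.mk I)) (A ⧸ I) ≠ ⊤ := by
      rw [dp_congr_prime _ _ hcomap (A ⧸ I)]; exact hδ'
    have h1 := zd_K I M hM (q.map (Ideal.Quotient.mk I)) c hc hδ c 0 (zero_add c)
    have h2 := zd_congr (eK0 I M) _ _ h1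
    rcases h2 with h2 | h2
    · exfalso
      have h3 : dm ((q.map (Ideal.Quotient.mk I)).comap (Ideal.Quotient.mk I)) M = ⊥ :=
        Module.supportDim_eq_bot_of_subsingleton _ _
      rw [dm_congr_prime _ _ hcomap M] at h3
      exact (Module.supportDim_ne_bot_iff_nontrivial (Localization.AtPrime q) _).mpr hntM h3
    · rw [dp_congr_prime _ _ hcomap M, dp_congr_prime _ _ hcomap (A ⧸ I)] at h2
      exact h2
  · have h1 := Groth.Agent.Lib.Helper85.ZClosed.supportDim_localization_eq_height hsupp q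
    have h2 := Groth.Agent.Lib.Helper85.ZClosed.supportDim_localization_eq_height
      (support_quotient_eq_univ I c hc) q
    exact h1.trans h2.symm

theorem main (n : ℕ) (hI : IsNilpotent I) (hsupp : Module.support A M = Set.univ)
    (hM : EGA4.IsNormallyFlat I M) (p : Ideal A) [p.IsPrime] :
    (EGA4.HasSkAt n A M p ↔ EGA4.HasSkAt n A (A ⧸ I) p) ∧
      (Module.supportDim (Localization.AtPrime p) (LocalizedModule p.primeCompl M) ≤
          ((LocCoh.depth (Localization.AtPrime p) (LocalizedModule p.primeCompl M) : ℕ∞) : WithBot ℕ∞) + n ↔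
        Module.supportDim (Localization.AtPrime p) (LocalizedModule p.primeCompl (A ⧸ I)) ≤
          ((LocCoh.depth (Localization.AtPrime p) (LocalizedModule p.primeCompl (A ⧸ I)) : ℕ∞) : WithBot ℕ∞) + n) := by
  obtain ⟨c, hc⟩ := hI
  rw [Ideal.zero_eq_bot] at hc
  refine ⟨?_, ?_⟩
  · rw [hasSkAt_iff, hasSkAt_iff]
    refine forall_congr' fun q => forall_congr' fun hq => forall_congr' fun _ => ?_
    obtain ⟨e1, e2⟩ := key I M hsupp hM c hc q
    unfold SkIneq
    change min (n : WithBot ℕ∞) (dm q M) ≤ ((dp q M : ℕ∞) : WithBot ℕ∞) ↔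
      min (n : WithBot ℕ∞) (dm q (A ⧸ I)) ≤ ((dp q (A ⧸ I) : ℕ∞) : WithBot ℕ∞)
    rw [e1, e2]
  · obtain ⟨e1, e2⟩ := key I M hsupp hM c hc p
    change dm p M ≤ ((dp p M : ℕ∞) : WithBot ℕ∞) + n ↔
      dm p (A ⧸ I) ≤ ((dp p (A ⧸ I) : ℕ∞) : WithBot ℕ∞) + n
    rw [e1, e2]

end Groth.Agent.Lib.Helper77.NormFlat2
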