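import Groth.Agent.Lib.Helper77.AuslanderBuchsbaum
import Groth.Agent.Lib.Helper4.GorCM
import Groth.Agent.Lib.Helper67.FinDepth

/-!
# Projective dimension over a quotient ring (helper77)

`main`: for a Noetherian local ring `R`, `S = R ⧸ I` with `pd_R S < ∞` and a nonzero finite
`S`-module `E` with `pd_S E < ∞`: `pd_R E = pd_R S + pd_S E`.
-/
universe u
set_option autoImplicit false
open IsLocalRing CategoryTheory CategoryTheory.Abelian LocCoh

namespace Groth.Agent.Lib.Helper77.PdQuot

open Groth.Agent.Lib.Helper67 Groth.Agent.Lib.Helper77.AuslanderBuchsbaum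

section Pi

variable {R : Type u} [CommRing R]

/-- pd of a finite power -/
theorem hasPdLT_pi (M : Type u) [AddCommGroup M] [Module R M] (d : ℕ)
    (h : HasProjectiveDimensionLT (ModuleCat.of R M) d) (s : ℕ) :
    HasProjectiveDimensionLT (ModuleCat.of R (Fin s → M)) d := by
  induction s with
  | zero =>
    have hz : Limits.IsZero (ModuleCat.of R (Fin 0 → M)) :=
      ModuleCat.isZero_of_subsingleton _
    have := hz.hasProjectiveDimensionLT_zero
    exact hasProjectiveDimensionLT_of_ge _ 0 d (Nat.zero_le _)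
  | succ s ih =>
    -- 0 → M → (Fin (s+1) → M) → (Fin s → M) → 0
    let f : M →ₗ[R] (Fin (s + 1) → M) := LinearMap.single R (fun _ => M) 0
    let g : (Fin (s + 1) → M) →ₗ[R] (Fin s → M) :=
      LinearMap.pi (fun i => LinearMap.proj i.succ)
    have hf : Function.Injective f := Pi.single_injective (M := fun _ : Fin (s + 1) => M) 0
    have hg : Function.Surjective g := by
      intro y
      refine ⟨Fin.cons 0 y, ?_⟩
      ext i
      simp [g]
    have hfg : Function.Exact f g := by
      intro y
      constructor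
      · intro hy
        refine ⟨y 0, ?_⟩
        ext i
        refine Fin.cases ?_ (fun j => ?_) i
        · simp [f]
        · have := congrFun hy j
          simp only [g, LinearMap.pi_apply, LinearMap.proj_apply, Pi.zero_apply] at this
          simp [f, this, Pi.single_apply, Fin.succ_ne_zero]
      · rintro ⟨x, rfl⟩
        ext i
        simp [f, g, Pi.single_apply, Fin.succ_ne_zero]
    have hS := shortExact_of_linearMaps M (Fin (s + 1) → M) (Fin s → M) f g hf hg hfg
    exact hS.hasProjectiveDimensionLT_X₂ d h ih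

end Pi

section Transfer

variable {R : Type u} [CommRing R] [IsNoetherianRing R] (I : Ideal R)

theorem hasPdLT_restrict [IsLocalRing (R ⧸ I)] (d : ℕ)
    (hd : HasProjectiveDimensionLT (ModuleCat.of R (R ⧸ I)) d) :
    ∀ (n : ℕ) (E : Type u) [AddCommGroup E] [Module (R ⧸ I) E] [Module R E]
      [IsScalarTower R (R ⧸ I) E] [Module.Finite (R ⧸ I) E],
      HasProjectiveDimensionLT (ModuleCat.of (R ⧸ I) E) (n + 1) →
      HasProjectiveDimensionLT (ModuleCat.of R E) (n + d) := by
  intro n
  induction n with
  | zero =>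
    intro E _ _ _ _ _ h1
    have hp : Module.Projective (R ⧸ I) E := by
      rw [zero_add, ← projective_iff_hasProjectiveDimensionLT_one,
        ← IsProjective.iff_projective] at h1
      exact h1
    have : Module.Free (R ⧸ I) E := Module.free_of_flat_of_isLocalRing
    have e : E ≃ₗ[R ⧸ I] (Fin (Module.finrank (R ⧸ I) E) → (R ⧸ I)) :=
      (Module.finBasis (R ⧸ I) E).equivFun
    have e' : E ≃ₗ[R] (Fin (Module.finrank (R ⧸ I) E) → (R ⧸ I)) := e.restrictScalars R
    have := hasPdLT_pi (R := R) (R ⧸ I) d hd (Module.finrank (R ⧸ I) E)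
    rw [zero_add]
    exact hasProjectiveDimensionLT_of_iso (e'.toModuleIso).symm d
  | succ n ih =>
    intro E _ _ _ _ _ h1
    obtain ⟨s, f, hf⟩ := Module.Finite.exists_fin' (R ⧸ I) E
    have hS : f.shortComplexKer.ShortExact := LinearMap.shortExact_shortComplexKer hf
    have hproj : Projective f.shortComplexKer.X₂ := by
      show Projective (ModuleCat.of (R ⧸ I) (Fin s → (R ⧸ I)))
      rw [← IsProjective.iff_projective]; infer_instance
    have hK1 : HasProjectiveDimensionLT (ModuleCat.of (R ⧸ I) (LinearMap.ker f)) (n + 1) :=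
      (hS.hasProjectiveDimensionLT_X₃_iff n hproj).mp h1
    have ihK := ih (LinearMap.ker f) hK1
    have hF := hasPdLT_pi (R := R) (R ⧸ I) d hd s
    have hF' : HasProjectiveDimensionLT (ModuleCat.of R (Fin s → (R ⧸ I))) (n + d + 1) :=
      hasProjectiveDimensionLT_of_ge _ d (n + d + 1) (by omega)
    have hS' := shortExact_of_linearMaps (R := R) (LinearMap.ker f) (Fin s → (R ⧸ I)) E
      ((LinearMap.ker f).subtype.restrictScalars R) (f.restrictScalars R)
      (Submodule.injective_subtype _) hf (LinearMap.exact_subtype_ker_map f)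
    have := hS'.hasProjectiveDimensionLT_X₃ (n + d) ihK hF'
    have h2 : n + 1 + d = n + d + 1 := by omega
    rw [h2]
    exact this

end Transfer

section Main

theorem exists_nat_of_ne_top {C : Type*} [Category C] [Abelian C] (X : C)
    (h : projectiveDimension X ≠ ⊤) (hX : ¬ Limits.IsZero X) :
    ∃ n : ℕ, projectiveDimension X = n := by
  generalize hd : projectiveDimension X = d at h
  induction d with
  | bot => exact absurd ((projectiveDimension_eq_bot_iff X).mp hd) hX
  | coe d =>
    induction d with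
    | top => exact absurd rfl h
    | coe n => exact ⟨n, rfl⟩

theorem not_isZero_of_nontrivial {R : Type u} [CommRing R] (M : Type u) [AddCommGroup M]
    [Module R M] [Nontrivial M] : ¬ Limits.IsZero (ModuleCat.of R M) := by
  intro hz
  have := ModuleCat.subsingleton_of_isZero hz
  exact absurd ‹Nontrivial M› (not_nontrivial _)

variable (R : Type u) [CommRing R] [IsNoetherianRing R] [IsLocalRing R]

theorem map_maximalIdeal_quot (I : Ideal R) [IsLocalRing (R ⧸ I)] :
    (maximalIdeal R).map (algebraMap R (R ⧸ I)) = maximalIdeal (R ⧸ I) := by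
  have hloc : IsLocalHom (algebraMap R (R ⧸ I)) :=
    Function.Surjective.isLocalHom _ Ideal.Quotient.mk_surjective
  have hne : (maximalIdeal R).map (algebraMap R (R ⧸ I)) ≠ ⊤ :=
    (IsLocalRing.map_maximalIdeal_lt_top (algebraMap R (R ⧸ I))).ne
  rcases Ideal.map_eq_top_or_isMaximal_of_surjective (algebraMap R (R ⧸ I))
    Ideal.Quotient.mk_surjective (inferInstance : (maximalIdeal R).IsMaximal) with h | h
  · exact absurd h hne
  · exact IsLocalRing.eq_maximalIdeal h

theorem main (I : Ideal R) (E : Type u) [AddCommGroup E] [Module (R ⧸ I) E] [Module R E]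
    [IsScalarTower R (R ⧸ I) E] [Module.Finite (R ⧸ I) E] [Nontrivial E]
    (h1 : projectiveDimension (ModuleCat.of R (R ⧸ I)) ≠ ⊤)
    (h2 : projectiveDimension (ModuleCat.of (R ⧸ I) E) ≠ ⊤) :
    projectiveDimension (ModuleCat.of R E) ≠ ⊤ ∧
      projectiveDimension (ModuleCat.of R E) =
        projectiveDimension (ModuleCat.of R (R ⧸ I)) +
          projectiveDimension (ModuleCat.of (R ⧸ I) E) := by
  have hSnt : Nontrivial (R ⧸ I) := Module.nontrivial (R ⧸ I) E
  haveI : IsLocalRing (R ⧸ I) :=
    IsLocalRing.of_surjective' (Ideal.Quotient.mk I) Ideal.Quotient.mk_surjective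
  haveI : Module.Finite R E := Module.Finite.trans (R ⧸ I) E
  obtain ⟨a, ha⟩ := exists_nat_of_ne_top _ h1 (not_isZero_of_nontrivial (R ⧸ I))
  obtain ⟨b, hb⟩ := exists_nat_of_ne_top _ h2 (not_isZero_of_nontrivial E)
  have hE : HasProjectiveDimensionLT (ModuleCat.of R E) (b + (a + 1)) := by
    apply hasPdLT_restrict I (a + 1) _ b E
    · rw [← projectiveDimension_lt_iff, hb]
      exact_mod_cast Nat.lt_succ_self b
    · rw [← projectiveDimension_lt_iff, ha]
      exact_mod_cast Nat.lt_succ_self a
  have h3 : projectiveDimension (ModuleCat.of R E) ≠ ⊤ := by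
    rw [← projectiveDimension_lt_iff] at hE
    exact ne_top_of_lt hE
  obtain ⟨c, hc⟩ := exists_nat_of_ne_top _ h3 (not_isZero_of_nontrivial E)
  have ab1 := auslander_buchsbaum R (R ⧸ I) a ha
  have ab2 := auslander_buchsbaum (R ⧸ I) E b hb
  have ab3 := auslander_buchsbaum R E c hc
  have h4 : depth (R ⧸ I) (R ⧸ I) = depth R (R ⧸ I) :=
    Groth.Agent.Lib.Helper4.GorCM.depth_quotient R I
  have h5 : depth R E = depth (R ⧸ I) E := by
    unfold depth
    rw [idealDepth_eq_idealDepth_map_of_finite_module (A := R) (B := R ⧸ I) (maximalIdeal R) E,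
      map_maximalIdeal_quot]
  have hEt : depth (R ⧸ I) E ≠ ⊤ := depth_ne_top E
  have hSt : depth R (R ⧸ I) ≠ ⊤ := depth_ne_top (R ⧸ I)
  have hRt : depth R R ≠ ⊤ := depth_ne_top R
  refine ⟨h3, ?_⟩
  rw [ha, hb, hc]
  rw [h4] at ab2
  rw [h5] at ab3
  rw [ab2] at ab1
  generalize depth (R ⧸ I) E = dE at *
  generalize depth R R = dR at *
  lift dE to ℕ using hEt
  lift dR to ℕ using hRt
  have : c = a + b := by
    have e1 : (dR : ℕ∞) = ((a + (b + dE) : ℕ) : ℕ∞) := by rw [ab1]; push_cast; rfl
    have e2 : (dR : ℕ∞) = ((c + dE : ℕ) : ℕ∞) := by rw [ab3]; push_cast; rfl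
    have e1' : dR = a + (b + dE) := by exact_mod_cast e1
    have e2' : dR = c + dE := by exact_mod_cast e2
    omega
  rw [this]
  push_cast
  rfl

end Main

end Groth.Agent.Lib.Helper77.PdQuot
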