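import Groth.Agent.Lib.Helper77.GrAB
import Mathlib.RingTheory.KrullDimension.Polynomial

/-!
# Depth of the polynomial ring with respect to an ideal containing the variables (helper77)

* `isWeaklyRegular_X`: the variables form a (weakly) regular sequence on `MvPolynomial (Fin m) k`.
* `le_idealDepth_of_X_mem`: `m ≤ depth_I (k[X_0..X_{m-1}])` if all `X_j ∈ I`.
* `idealDepth_le_card`: `depth_I (k[X_0..X_{m-1}]) ≤ m` for proper `I`, `k` a field.
-/
universe u
set_option autoImplicit false
open LocCoh MvPolynomial RingTheory.Sequence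

namespace Groth.Agent.Lib.Helper77.PolyDepth

open Groth.Agent.Lib.Helper67

section Kill

variable (k : Type u) [CommRing k] (m : ℕ)

/-- the endomorphism killing the first `i` variables -/
noncomputable def kill (i : ℕ) : MvPolynomial (Fin m) k →ₐ[k] MvPolynomial (Fin m) k :=
  MvPolynomial.aeval (fun j : Fin m => if (j : ℕ) < i then 0 else MvPolynomial.X j)

theorem kill_X_lt (i : ℕ) (j : Fin m) (h : (j : ℕ) < i) : kill k m i (X j) = 0 := by
  simp [kill, h]

theorem kill_X_ge (i : ℕ) (j : Fin m) (h : ¬ (j : ℕ) < i) : kill k m i (X j) = X j := by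
  simp [kill, h]

theorem sub_kill_mem (i : ℕ) (K : Ideal (MvPolynomial (Fin m) k))
    (hK : ∀ j : Fin m, (j : ℕ) < i → (X j : MvPolynomial (Fin m) k) ∈ K)
    (f : MvPolynomial (Fin m) k) : f - kill k m i f ∈ K := by
  induction f using MvPolynomial.induction_on with
  | C a => simp [kill]
  | add p q hp hq =>
    rw [map_add]
    have : p + q - (kill k m i p + kill k m i q) = (p - kill k m i p) + (q - kill k m i q) := by
      ring
    rw [this]
    exact K.add_mem hp hq
  | mul_X p j hp =>
    rw [map_mul]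
    by_cases h : (j : ℕ) < i
    · rw [kill_X_lt k m i j h, mul_zero, sub_zero]
      exact K.mul_mem_left _ (hK j h)
    · rw [kill_X_ge k m i j h, ← sub_mul]
      exact K.mul_mem_right _ hp

theorem isWeaklyRegular_X [IsDomain k] :
    IsWeaklyRegular (MvPolynomial (Fin m) k)
      (List.ofFn (fun j : Fin m => (X j : MvPolynomial (Fin m) k))) := by
  rw [isWeaklyRegular_iff]
  intro i hi
  rw [List.length_ofFn] at hi
  rw [isSMulRegular_quotient_iff_mem_of_smul_mem]
  intro a ha
  set K := Ideal.ofList ((List.ofFn (fun j : Fin m => (X j : MvPolynomial (Fin m) k))).take i)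
    with hKdef
  rw [smul_eq_mul, Ideal.mul_top] at ha ⊢
  rw [List.getElem_ofFn, smul_eq_mul] at ha
  -- `K ≤ ker (kill i)`
  have hle : K ≤ RingHom.ker (kill k m i).toRingHom := by
    rw [hKdef, Ideal.ofList, Ideal.span_le]
    intro x hx
    rw [Set.mem_setOf_eq, List.mem_take_iff_getElem] at hx
    obtain ⟨j, hj, rfl⟩ := hx
    rw [List.length_ofFn] at hj
    rw [List.getElem_ofFn, SetLike.mem_coe, RingHom.mem_ker]
    exact kill_X_lt k m i _ (by simp only []; omega)
  have hXK : ∀ j : Fin m, (j : ℕ) < i → (X j : MvPolynomial (Fin m) k) ∈ K := by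
    intro j hj
    rw [hKdef, Ideal.ofList]
    apply Ideal.subset_span
    rw [Set.mem_setOf_eq, List.mem_take_iff_getElem]
    refine ⟨j, ?_, ?_⟩
    · rw [List.length_ofFn]; omega
    · rw [List.getElem_ofFn]
  have h1 : kill k m i (X ⟨i, hi⟩ * a) = 0 := hle ha
  rw [map_mul, kill_X_ge k m i ⟨i, hi⟩ (by simp)] at h1
  have h2 : kill k m i a = 0 := by
    rcases mul_eq_zero.mp h1 with h | h
    · exact absurd h (MvPolynomial.X_ne_zero _)
    · exact h
  have h3 := sub_kill_mem k m i K hXK a
  rwa [h2, sub_zero] at h3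

theorem le_idealDepth_of_X_mem [IsDomain k] (I : Ideal (MvPolynomial (Fin m) k))
    (hX : ∀ j : Fin m, (X j : MvPolynomial (Fin m) k) ∈ I) :
    (m : ℕ∞) ≤ idealDepth I (MvPolynomial (Fin m) k) := by
  rw [le_idealDepth_iff]
  right
  refine ⟨List.ofFn (fun j : Fin m => (X j : MvPolynomial (Fin m) k)), List.length_ofFn,
    isWeaklyRegular_X k m, ?_⟩
  intro r hr
  rw [List.mem_ofFn] at hr
  obtain ⟨j, rfl⟩ := hr
  exact hX j

end Kill

section Upper

variable (k : Type u) [Field k] (m : ℕ)

theorem idealDepth_le_card (I : Ideal (MvPolynomial (Fin m) k)) (hI : I ≠ ⊤) :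
    idealDepth I (MvPolynomial (Fin m) k) ≤ (m : ℕ∞) := by
  obtain ⟨P, hP, hIP⟩ := Ideal.exists_le_maximal I hI
  have hPp : P.IsPrime := hP.isPrime
  have h1 := idealDepth_le_depth_localization I (MvPolynomial (Fin m) k) P hIP
  have e : LocalizedModule P.primeCompl (MvPolynomial (Fin m) k) ≃ₗ[MvPolynomial (Fin m) k]
      Localization.AtPrime P :=
    IsLocalizedModule.iso P.primeCompl (Algebra.linearMap (MvPolynomial (Fin m) k)
      (Localization.AtPrime P))
  have hnt : Nontrivial (LocalizedModule P.primeCompl (MvPolynomial (Fin m) k)) :=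
    e.toEquiv.nontrivial
  have h2 := depth_le_supportDim (R := Localization.AtPrime P)
    (LocalizedModule P.primeCompl (MvPolynomial (Fin m) k))
  have h3 : Module.supportDim (Localization.AtPrime P)
      (LocalizedModule P.primeCompl (MvPolynomial (Fin m) k)) ≤
      ringKrullDim (Localization.AtPrime P) := Module.supportDim_le_ringKrullDim _ _
  have h4 : ringKrullDim (Localization.AtPrime P) = P.height :=
    IsLocalization.AtPrime.ringKrullDim_eq_height P _
  have h5 : (P.height : WithBot ℕ∞) ≤ ringKrullDim (MvPolynomial (Fin m) k) :=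
    Ideal.height_le_ringKrullDim_of_ne_top hP.ne_top
  have h6 : ringKrullDim (MvPolynomial (Fin m) k) = (m : WithBot ℕ∞) := by
    rw [MvPolynomial.ringKrullDim_of_isNoetherianRing, ringKrullDim_eq_zero_of_field]
    simp
  have h7 : ((depth (Localization.AtPrime P)
      (LocalizedModule P.primeCompl (MvPolynomial (Fin m) k)) : ℕ∞) : WithBot ℕ∞) ≤
      ((m : ℕ∞) : WithBot ℕ∞) := by
    calc _ ≤ _ := h2
      _ ≤ _ := h3
      _ = _ := h4
      _ ≤ _ := h5
      _ = _ := h6
  exact le_trans h1 (by exact_mod_cast h7)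

end Upper

end Groth.Agent.Lib.Helper77.PolyDepth
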