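import Groth.Prelude.Def_WeakSerre
import Groth.Prelude.Def_Coh
import Groth.Agent.Lib.Helper21.QCohKernel
import Groth.Agent.Lib.Helper26.AffineVanishing
import Groth.Agent.Lib.Helper53.SchemeTower

/-!
# Quasi-coherent modules on `Spec R` form a weak Serre subcategory
(TASK A of helper53's call for S0997)
-/

set_option autoImplicit false
universe u

open CategoryTheory Limits AlgebraicGeometry Opposite ZeroObject

namespace Groth.Agent.Lib.Helper77.QCohWSerre

open Groth.Agent.Lib.Helper53.SchemeTower Groth.Agent.Lib.Helper53.RlimAbs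
  Groth.Agent.Lib.Helper53.ModLoc

/-- sections over an affine open lift along the epi of a short exact sequence with
quasi-coherent kernel. -/
theorem surjective_sections {X : Scheme.{u}} (U : X.Opens) (hU : IsAffineOpen U)
    (S : ShortComplex (SheafOfModules.{u} X.ringCatSheaf)) (hS : S.ShortExact)
    (h₁ : Coh.IsQCoh (X := X) S.X₁) :
    Function.Surjective (((SheafOfModules.toSheaf X.ringCatSheaf).map S.g).hom.app (op U)) := by
  have hlift : LiftsOn ((DX X).T U) S.g :=
    liftsOn_of_ext_one hS _ (hvan U hU S.X₁ h₁ 0)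
  intro t
  obtain ⟨σ, hσ⟩ := hlift ((sec₀ (Opens.grothendieckTopology X) X.ringCatSheaf U S.X₃).symm t)
  refine ⟨sec₀ (Opens.grothendieckTopology X) X.ringCatSheaf U S.X₂ σ, ?_⟩
  have h := sec₀_right (Opens.grothendieckTopology X) X.ringCatSheaf U S.g σ
  have h2 := congrArg (sec₀ (Opens.grothendieckTopology X) X.ringCatSheaf U S.X₃) hσ
  rw [Equiv.apply_symm_apply] at h2
  exact h.symm.trans h2

/-- global sections lift along the epi of a short exact sequence with quasi-coherent kernel. -/
theorem surjective_Γ_map (R : CommRingCat.{u})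
    (S : ShortComplex (Spec (CommRingCat.of R)).Modules) (hS : S.ShortExact)
    (h₁ : Coh.IsQCoh S.X₁) :
    Function.Surjective ((moduleSpecΓFunctor (R := R)).map S.g).hom :=
  surjective_sections (X := Spec (CommRingCat.of R)) ⊤ (isAffineOpen_top _) S hS h₁

instance (R : CommRingCat.{u}) : (moduleSpecΓFunctor (R := R)).Additive :=
  (tilde.adjunction (R := R)).right_adjoint_additive

instance (R : CommRingCat.{u}) : (tilde.functor R).Additive :=
  (tilde.adjunction (R := R)).left_adjoint_additive

instance (R : CommRingCat.{u}) : PreservesLimitsOfSize.{0, 0} (moduleSpecΓFunctor (R := R)) :=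
  (tilde.adjunction (R := R)).rightAdjoint_preservesLimits

instance (R : CommRingCat.{u}) : PreservesColimitsOfSize.{0, 0} (tilde.functor R) :=
  (tilde.adjunction (R := R)).leftAdjoint_preservesColimits

theorem isQCoh_of_shortExact (R : CommRingCat.{u}) [PreservesFiniteLimits (tilde.functor R)]
    (S : ShortComplex (Spec (CommRingCat.of R)).Modules) (hS : S.ShortExact)
    (h₁ : Coh.IsQCoh S.X₁) (h₃ : Coh.IsQCoh S.X₃) : Coh.IsQCoh S.X₂ := by
  let Γ := moduleSpecΓFunctor (R := R)
  let T := tilde.functor R
  let adj := tilde.adjunction (R := R)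
  haveI := hS.mono_f
  haveI := hS.epi_g
  -- Γ S is short exact
  have hΓ : (S.map Γ).ShortExact := by
    have hex : (S.map Γ).Exact := hS.exact.map_of_mono_of_preservesKernel Γ hS.mono_f inferInstance
    haveI : Mono (S.map Γ).f := by
      dsimp [ShortComplex.map]; infer_instance
    haveI : Epi (S.map Γ).g := by
      dsimp [ShortComplex.map]
      rw [ModuleCat.epi_iff_surjective]
      exact surjective_Γ_map R S hS h₁
    exact ShortComplex.ShortExact.mk' hex inferInstance inferInstance
  have hTΓ : ((S.map Γ).map T).ShortExact := hΓ.map_of_exact T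
  let φ : (S.map Γ).map T ⟶ S :=
    ShortComplex.homMk (adj.counit.app S.X₁) (adj.counit.app S.X₂) (adj.counit.app S.X₃)
      (adj.counit.naturality S.f).symm (adj.counit.naturality S.g).symm
  haveI : IsIso φ.τ₁ := (isQuasicoherent_iff_isIso_fromTildeΓ S.X₁).1 h₁
  haveI : IsIso φ.τ₃ := (isQuasicoherent_iff_isIso_fromTildeΓ S.X₃).1 h₃
  have h2 : IsIso φ.τ₂ := ShortComplex.isIso₂_of_shortExact_of_isIso₁₃ φ hTΓ hS
  exact (isQuasicoherent_iff_isIso_fromTildeΓ S.X₂).2 h2

theorem isWeakSerre_qcoh_spec (R : CommRingCat.{u}) [PreservesFiniteLimits (tilde.functor R)] :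
    WSerre.IsWeakSerre (fun M : (Spec (CommRingCat.of R)).Modules => Coh.IsQCoh M) := by
  have hiso : ∀ {M N : (Spec (CommRingCat.of R)).Modules} (_ : M ≅ N),
      Coh.IsQCoh M → Coh.IsQCoh N :=
    fun e h => (SheafOfModules.isQuasicoherent
      (Spec (CommRingCat.of R)).ringCatSheaf).prop_of_iso e h
  have h0 : ObjectProperty.ContainsZero
      (fun M : (Spec (CommRingCat.of R)).Modules => Coh.IsQCoh M) := by
    refine ⟨⟨(tilde.functor R).obj 0, (tilde.functor R).map_isZero (isZero_zero _), ?_⟩⟩
    have : (tilde.functor R).essImage ((tilde.functor R).obj 0) :=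
      (tilde.functor R).obj_mem_essImage 0
    rw [essImage_tilde] at this
    exact this
  have hk : ObjectProperty.IsClosedUnderKernels
      (fun M : (Spec (CommRingCat.of R)).Modules => Coh.IsQCoh M) := by
    refine ⟨?_⟩
    rintro _ ⟨f, k, hk, hf⟩
    exact hiso (IsLimit.conePointUniqueUpToIso (kernelIsKernel f) hk)
      (@Groth.Agent.Lib.Helper21.QCohKernel.isQuasicoherent_kernel _ _ _ f hf.1 hf.2)
  have hc : ObjectProperty.IsClosedUnderCokernels
      (fun M : (Spec (CommRingCat.of R)).Modules => Coh.IsQCoh M) := by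
    refine ⟨?_⟩
    rintro _ ⟨f, k, hk, hf⟩
    exact hiso (IsColimit.coconePointUniqueUpToIso (cokernelIsCokernel f) hk)
      (@Groth.Agent.Lib.Helper21.QCohKernel.isQuasicoherent_cokernel _ _ _ f hf.1 hf.2)
  have he : ObjectProperty.IsClosedUnderExtensions
      (fun M : (Spec (CommRingCat.of R)).Modules => Coh.IsQCoh M) :=
    ⟨fun {S} hS h₁ h₃ => isQCoh_of_shortExact R S hS h₁ h₃⟩
  exact { toContainsZero := h0, toIsClosedUnderKernels := hk, toIsClosedUnderCokernels := hc,
          toIsClosedUnderExtensions := he }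

end Groth.Agent.Lib.Helper77.QCohWSerre
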