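import Mathlib
import Groth.Agent.S0565
import Groth.Agent.Lib.Helper77.RegularCompletion

/-!
# Regularity under field base change at a rational point (helper77)
-/
set_option autoImplicit false
universe u
open TensorProduct IsLocalRing

namespace Groth.Agent.Lib.Helper77.RatPtReg

attribute [local instance] RingHom.ker_isPrime

variable (k K A : Type u) [Field k] [Field K] [Algebra k K] [CommRing A] [Algebra k A]

/-- the inclusion `A → K ⊗ A` as ring hom -/
noncomputable def incl : A →+* K ⊗[k] A :=
  (Algebra.TensorProduct.includeRight : A →ₐ[k] K ⊗[k] A).toRingHom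

theorem incl_flat : (incl k K A).Flat := by
  have h1 : (algebraMap A (A ⊗[k] K)).Flat := by
    rw [RingHom.flat_algebraMap_iff]; infer_instance
  have h2 : ((Algebra.TensorProduct.comm k A K).toAlgHom.toRingHom).Flat :=
    RingHom.Flat.of_bijective (Algebra.TensorProduct.comm k A K).bijective
  have h3 := h1.comp h2
  convert h3 using 1
  ext a
  simp [incl]

variable {k K A}

/-- the K-algebra map `K ⊗ A → K` induced by `π` -/
noncomputable def Phi (π : A →ₐ[k] k) : K ⊗[k] A →ₐ[K] K :=
  (Algebra.TensorProduct.rid k K K).toAlgHom.comp (Algebra.TensorProduct.map (AlgHom.id K K) π)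

theorem Phi_incl (π : A →ₐ[k] k) (a : A) : Phi (K := K) π (incl k K A a) = algebraMap k K (π a) := by
  simp [Phi, incl, Algebra.algebraMap_eq_smul_one]

theorem pi_surj (π : A →ₐ[k] k) : Function.Surjective π := fun c =>
  ⟨algebraMap k A c, by simp⟩

theorem ker_Phi (π : A →ₐ[k] k) :
    RingHom.ker (Phi (K := K) π) = (RingHom.ker π).map (incl k K A) := by
  have h := Algebra.TensorProduct.lTensor_ker (A := K) π (pi_surj π)
  rw [← show RingHom.ker (Algebra.TensorProduct.map (AlgHom.id K K) π) =
    (RingHom.ker π).map (incl k K A) from h]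
  ext x
  simp only [RingHom.mem_ker, Phi]
  simp

theorem main [IsLocalRing A] [IsNoetherianRing A]
    (π : A →ₐ[k] k) (hπ : RingHom.ker π = IsLocalRing.maximalIdeal A)
    (hN : IsNoetherianRing (Localization.AtPrime (RingHom.ker (Phi (K := K) π)))) :
    IsRegularLocalRing A ↔ IsRegularLocalRing (Localization.AtPrime (RingHom.ker (Phi (K := K) π))) := by
  obtain ⟨P, hP⟩ : ∃ P, P = RingHom.ker (Phi (K := K) π) := ⟨_, rfl⟩
  let ψ : A →+* Localization.AtPrime (RingHom.ker (Phi (K := K) π)) :=
    (algebraMap (K ⊗[k] A) _).comp (incl k K A)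
  have hψ : ψ.Flat := by
    refine (incl_flat k K A).comp ?_
    rw [RingHom.flat_algebraMap_iff]
    exact IsLocalization.flat _ (RingHom.ker (Phi (K := K) π)).primeCompl
  letI : Algebra A (Localization.AtPrime (RingHom.ker (Phi (K := K) π))) := ψ.toAlgebra
  have hflat : Module.Flat A (Localization.AtPrime (RingHom.ker (Phi (K := K) π))) := hψ
  have hloc : IsLocalHom (algebraMap A (Localization.AtPrime (RingHom.ker (Phi (K := K) π)))) := by
    constructor
    intro a ha
    change IsUnit (algebraMap (K ⊗[k] A) _ (incl k K A a)) at ha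
    rw [IsLocalization.AtPrime.isUnit_to_map_iff _ (RingHom.ker (Phi (K := K) π))] at ha
    by_contra hna
    have : a ∈ maximalIdeal A := hna
    rw [← hπ, RingHom.mem_ker] at this
    apply ha
    show incl k K A a ∈ RingHom.ker (Phi (K := K) π)
    rw [RingHom.mem_ker, Phi_incl, this, map_zero]
  have hmap : (maximalIdeal A).map (algebraMap A (Localization.AtPrime (RingHom.ker (Phi (K := K) π))))
      = maximalIdeal _ := by
    rw [← Localization.AtPrime.map_eq_maximalIdeal]
    have h1 : Ideal.map (algebraMap (K ⊗[k] A) (Localization.AtPrime (RingHom.ker (Phi (K := K) π))))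
        (RingHom.ker (Phi (K := K) π)) = Ideal.map (algebraMap (K ⊗[k] A)
          (Localization.AtPrime (RingHom.ker (Phi (K := K) π))))
        ((maximalIdeal A).map (incl k K A)) := by
      congr 1
      rw [ker_Phi, hπ]
    rw [h1, Ideal.map_map]
    rfl
  constructor
  · intro h
    exact Groth.Agent.Lib.Helper77.RegularCompletion.regular_of_flat_of_map_maximalIdeal A _ hmap
  · intro h
    exact Groth.Agent.S0565.result A (Localization.AtPrime (RingHom.ker (Phi (K := K) π)))

end Groth.Agent.Lib.Helper77.RatPtReg
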