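import Groth.Agent.Lib.Helper77.RegularAB
import Groth.Agent.Lib.Helper76.RegularLocal
import Groth.Agent.Lib.Helper67.Depth

universe u
set_option autoImplicit false
open IsLocalRing LocCoh CategoryTheory

namespace Groth.Agent.Lib.Helper77.RegDimTwo
open Groth.Agent.Lib.Helper67

/-- a nonzero free ideal in a domain is principal -/
theorem exists_eq_span_of_free (A : Type u) [CommRing A] [IsDomain A] (I : Ideal A) (hI : I ≠ ⊥)
    [Module.Free A I] : ∃ f ∈ I, f ≠ 0 ∧ I = Ideal.span {f} := by
  classical
  let b := Module.Free.chooseBasis A I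
  have hsub : Subsingleton (Module.Free.ChooseBasisIndex A I) := by
    refine ⟨fun i j => ?_⟩
    by_contra hij
    have h1 : ((b j : I) : A) • b i + (-((b i : I) : A)) • b j = 0 := by
      apply Subtype.ext
      simp only [Submodule.coe_add, Submodule.coe_smul, smul_eq_mul, Submodule.coe_zero]
      ring
    have hli := b.linearIndependent
    rw [linearIndependent_iff'] at hli
    have h2 := hli {i, j} (fun k => if k = i then ((b j : I) : A) else -((b i : I) : A))
      (by
        rw [Finset.sum_pair hij]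
        simp only [if_true, if_neg (Ne.symm hij)]
        exact h1) i (by simp)
    simp only [if_true] at h2
    exact b.ne_zero j (Subtype.ext h2)
  have hne : Nonempty (Module.Free.ChooseBasisIndex A I) := by
    by_contra hemp
    rw [not_nonempty_iff] at hemp
    haveI : Fintype (Module.Free.ChooseBasisIndex A I) := Fintype.ofIsEmpty
    apply hI
    rw [eq_bot_iff]
    intro x hx
    have : (⟨x, hx⟩ : I) = 0 := by
      rw [← b.sum_repr ⟨x, hx⟩]
      exact Finset.sum_of_isEmpty _
    exact congrArg Subtype.val this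
  obtain ⟨i⟩ := hne
  haveI : Unique (Module.Free.ChooseBasisIndex A I) := @Unique.mk' _ ⟨i⟩ hsub
  refine ⟨(b i : I), (b i).2, fun h => b.ne_zero i (Subtype.ext h), ?_⟩
  apply le_antisymm
  · intro x hx
    have h1 := b.sum_repr ⟨x, hx⟩
    have huniv : (Finset.univ : Finset (Module.Free.ChooseBasisIndex A I)) = {i} := by
      ext k; simp only [Finset.mem_univ, Finset.mem_singleton, true_iff]; exact Subsingleton.elim k i
    rw [huniv, Finset.sum_singleton] at h1
    have h2 : x = (b.repr ⟨x, hx⟩ i) * ((b i : I) : A) := by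
      have := congrArg Subtype.val h1
      simpa using this.symm
    rw [h2]
    exact Ideal.mul_mem_left _ _ (Ideal.mem_span_singleton_self _)
  · rw [Ideal.span_singleton_le_iff_mem]
    exact (b i).2

theorem main (A : Type u) [CommRing A] [IsRegularLocalRing A] (hdim : ringKrullDim A = 2)
    (I : Ideal A) (hI : I ≤ IsLocalRing.maximalIdeal A) [IsReduced (A ⧸ I)] :
    I = ⊥ ∨ I = IsLocalRing.maximalIdeal A ∨
      ∃ f ∈ IsLocalRing.maximalIdeal A, f ≠ 0 ∧ I = Ideal.span {f} := by
  by_cases h0 : I = ⊥
  · exact Or.inl h0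
  by_cases h1 : I = maximalIdeal A
  · exact Or.inr (Or.inl h1)
  right; right
  have hdom : IsDomain A := Helper76.isDomain_of_isRegularLocalRing A
  have hItop : I ≠ ⊤ := fun h => (maximalIdeal.isMaximal A).ne_top (top_le_iff.mp (h ▸ hI))
  have hnt : Nontrivial (A ⧸ I) := Ideal.Quotient.nontrivial_iff.mpr hItop
  -- depth ≥ 1
  have hdepth : depth A (A ⧸ I) ≠ 0 := by
    intro hd
    rw [depth_eq_zero_iff] at hd
    obtain ⟨hprime, x, hx⟩ := (isAssociatedPrime_iff).mp hd
    obtain ⟨z, rfl⟩ := Ideal.Quotient.mk_surjective x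
    have hmz : ∀ a ∈ maximalIdeal A, a * z ∈ I := by
      intro a ha
      rw [hx, Submodule.mem_colon_singleton, Submodule.mem_bot] at ha
      have : a • (Ideal.Quotient.mk I z) = Ideal.Quotient.mk I (a * z) := by
        rw [Algebra.smul_def, map_mul]; rfl
      rw [this] at ha
      exact Ideal.Quotient.eq_zero_iff_mem.mp ha
    by_cases hz : z ∈ maximalIdeal A
    · have h2 : z * z ∈ I := hmz z hz
      have h3 : (Ideal.Quotient.mk I z) ^ 2 = 0 := by
        rw [pow_two, ← map_mul]
        exact Ideal.Quotient.eq_zero_iff_mem.mpr h2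
      have h4 : Ideal.Quotient.mk I z = 0 := pow_eq_zero_iff (two_ne_zero) |>.mp h3
      have h5 : (1 : A) ∈ maximalIdeal A := by
        rw [hx, Submodule.mem_colon_singleton, h4, smul_zero]
        exact Submodule.zero_mem _
      exact (maximalIdeal.isMaximal A).ne_top ((Ideal.eq_top_iff_one _).mpr h5)
    · rw [mem_maximalIdeal, mem_nonunits_iff, not_not] at hz
      apply h1
      apply le_antisymm hI
      intro a ha
      have h2 := hmz a ha
      have h3 : a = hz.unit⁻¹ * (a * z) := by
        rw [mul_comm a z, ← mul_assoc, IsUnit.val_inv_mul, one_mul]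
      rw [h3]
      exact I.mul_mem_left _ h2
  -- Auslander–Buchsbaum
  obtain ⟨e, hpd, hdimeq⟩ := RegularAB.exists_pd_add_depth_eq_dim A (A ⧸ I)
  rw [hdim] at hdimeq
  have he : e ≤ 1 := by
    have h2 : ((2 : ℕ) : ℕ∞) = (e : ℕ∞) + depth A (A ⧸ I) := by
      have : ((2 : ℕ∞) : WithBot ℕ∞) = (((e : ℕ∞) + depth A (A ⧸ I) : ℕ∞) : WithBot ℕ∞) := hdimeq
      exact_mod_cast this
    have h3 : (1 : ℕ∞) ≤ depth A (A ⧸ I) := Order.one_le_iff_pos.mpr (pos_iff_ne_zero.mpr hdepth)
    by_contra hcon
    push Not at hcon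
    have h4 : ((2 : ℕ) : ℕ∞) + 1 ≤ (e : ℕ∞) + depth A (A ⧸ I) := by
      gcongr
      exact_mod_cast hcon
    rw [← h2] at h4
    exact absurd h4 (by norm_num)
  have hpdlt : HasProjectiveDimensionLT (ModuleCat.of A (A ⧸ I)) 2 := by
    rw [← projectiveDimension_lt_iff, hpd]
    exact_mod_cast Nat.lt_succ_of_le he
  have hS := shortExact_of_linearMaps I A (A ⧸ I) I.subtype I.mkQ (Submodule.injective_subtype I)
    (Submodule.mkQ_surjective I) (LinearMap.exact_subtype_mkQ I)
  have hAproj : Projective (ModuleCat.of A A) :=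
    (IsProjective.iff_projective (R := A) (P := A)).mp inferInstance
  have h2 := hS.hasProjectiveDimensionLT_X₁ 1
    ((projective_iff_hasProjectiveDimensionLT_one).mp hAproj) hpdlt
  have hIproj : Projective (ModuleCat.of A I) :=
    (projective_iff_hasProjectiveDimensionLT_one).mpr h2
  have hIproj' : Module.Projective A I := (IsProjective.iff_projective (R := A) (P := I)).mpr hIproj
  have hIfree : Module.Free A I := Module.free_of_flat_of_isLocalRing
  obtain ⟨f, hfI, hf0, hIf⟩ := exists_eq_span_of_free A I h0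
  exact ⟨f, hI hfI, hf0, hIf⟩

end Groth.Agent.Lib.Helper77.RegDimTwo
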