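import Groth.Agent.Lib.Helper96.HilbertFin

/-! Relative Hilbert finiteness: linear actions of a Hopf algebra with a total integral on a
polynomial ring `R[x_σ]` over a Noetherian comodule algebra `R` (helper77, generalising
`Helper96.HilbertFin`). -/

set_option autoImplicit false

open TensorProduct MvPolynomial
universe u v w w'
namespace Groth.Agent.Lib.Helper77

open Groth.Agent.Lib.Helper96

namespace RelHilb

variable {k : Type u} [Field k] {H : Type v} [CommRing H] [HopfAlgebra k H]
variable {R : Type w} [CommRing R] [Algebra k R]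
variable {σ : Type w'}

/-- the constants `R → R[x]` as a `k`-linear map -/
noncomputable def Cl (k : Type u) [Field k] (R : Type w) [CommRing R] [Algebra k R] (σ : Type w') :
    R →ₗ[k] MvPolynomial σ R :=
  (IsScalarTower.toAlgHom k R (MvPolynomial σ R)).toLinearMap

@[simp] theorem Cl_apply (r : R) : Cl k R σ r = C r := rfl

/-- the homogeneous component, as a `k`-linear map -/
noncomputable def hc (k : Type u) [Field k] (R : Type w) [CommRing R] [Algebra k R] (σ : Type w')
    (d : ℕ) : MvPolynomial σ R →ₗ[k] MvPolynomial σ R :=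
  (homogeneousComponent d).restrictScalars k

@[simp] theorem hc_apply (d : ℕ) (p : MvPolynomial σ R) :
    hc k R σ d p = homogeneousComponent d p := rfl

/-- `P_e ⊗ H` inside `P ⊗ H` -/
noncomputable def T (k : Type u) [Field k] (H : Type v) [CommRing H] [HopfAlgebra k H]
    (R : Type w) [CommRing R] [Algebra k R] (σ : Type w')
    (e : ℕ) : Submodule k (MvPolynomial σ R ⊗[k] H) :=
  LinearMap.range (((homogeneousSubmodule σ R e).restrictScalars k).subtype.rTensor H)

theorem tmul_mem_T {e : ℕ} {p : MvPolynomial σ R} (hp : p.IsHomogeneous e) (a : H) :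
    p ⊗ₜ[k] a ∈ T k H R σ e :=
  ⟨(⟨p, hp⟩ : (homogeneousSubmodule σ R e).restrictScalars k) ⊗ₜ[k] a, by simp⟩

theorem one_mem_T : (1 : MvPolynomial σ R ⊗[k] H) ∈ T k H R σ 0 := by
  rw [Algebra.TensorProduct.one_def]
  exact tmul_mem_T (isHomogeneous_one σ R) 1

theorem mul_mem_T {a b : ℕ} {x y : MvPolynomial σ R ⊗[k] H} (hx : x ∈ T k H R σ a)
    (hy : y ∈ T k H R σ b) : x * y ∈ T k H R σ (a + b) := by
  obtain ⟨x', rfl⟩ := hx
  obtain ⟨y', rfl⟩ := hy
  induction x' using TensorProduct.induction_on with
  | zero => simp
  | add x1 x2 h1 h2 => rw [map_add, add_mul]; exact Submodule.add_mem _ h1 h2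
  | tmul p s =>
    induction y' using TensorProduct.induction_on with
    | zero => simp
    | add y1 y2 h1 h2 => rw [map_add, mul_add]; exact Submodule.add_mem _ h1 h2
    | tmul q t =>
      rw [LinearMap.rTensor_tmul, LinearMap.rTensor_tmul, Algebra.TensorProduct.tmul_mul_tmul]
      exact tmul_mem_T (IsHomogeneous.mul p.2 q.2) _

theorem pow_mem_T {a : ℕ} {x : MvPolynomial σ R ⊗[k] H} (hx : x ∈ T k H R σ a) (n : ℕ) :
    x ^ n ∈ T k H R σ (n * a) := by
  induction n with
  | zero => rw [pow_zero, Nat.zero_mul]; exact one_mem_T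
  | succ n ih =>
    rw [pow_succ, Nat.succ_mul]
    exact mul_mem_T ih hx

theorem rTensor_Cl_mem_T (z : R ⊗[k] H) : (Cl k R σ).rTensor H z ∈ T k H R σ 0 := by
  induction z using TensorProduct.induction_on with
  | zero => simp
  | add x y hx hy => rw [map_add]; exact Submodule.add_mem _ hx hy
  | tmul r a =>
    rw [LinearMap.rTensor_tmul]
    exact tmul_mem_T (isHomogeneous_C σ r) a

variable (cR : HopfRep.Comod k H R) (c : HopfRep.Comod k H (MvPolynomial σ R))

/-- the hypotheses: multiplicative, unital, linear coaction extending the one of `R` -/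
structure IsLinAct : Prop where
  hmul : ∀ f g : MvPolynomial σ R, c.coact (f * g) = c.coact f * c.coact g
  hone : c.coact (1 : MvPolynomial σ R) = 1
  hlin : ∀ i : σ, c.coact (X i : MvPolynomial σ R) ∈ T k H R σ 1
  hconst : ∀ r : R, c.coact (C r : MvPolynomial σ R) = (Cl k R σ).rTensor H (cR.coact r)

variable {cR c}

theorem coact_pow (h : IsLinAct cR c) (f : MvPolynomial σ R) (n : ℕ) :
    c.coact (f ^ n) = c.coact f ^ n := by
  induction n with
  | zero => rw [pow_zero, pow_zero, h.hone]
  | succ n ih => rw [pow_succ, pow_succ, h.hmul, ih]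

theorem coact_monomial_mem (h : IsLinAct cR c) (s : σ →₀ ℕ) (a : R) :
    c.coact (monomial s a) ∈ T k H R σ s.degree := by
  induction s using Finsupp.induction with
  | zero =>
    have : (monomial (0 : σ →₀ ℕ) a : MvPolynomial σ R) = C a := rfl
    rw [this, h.hconst]
    simpa using rTensor_Cl_mem_T (σ := σ) (cR.coact a)
  | single_add i e s hi he ih =>
    rw [monomial_single_add, h.hmul, coact_pow h, map_add, Finsupp.degree_single]
    have := pow_mem_T (h.hlin i) e
    rw [Nat.mul_one] at this
    exact mul_mem_T this ih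

/-- the homogeneous component maps are comodule endomorphisms -/
theorem homogeneousComponent_coact (h : IsLinAct cR c) (d : ℕ) (p : MvPolynomial σ R) :
    (hc k R σ d).rTensor H (c.coact p) = c.coact (homogeneousComponent d p) := by
  classical
  induction p using MvPolynomial.induction_on' with
  | add p q hp hq => simp only [map_add, hp, hq]
  | monomial s a =>
    obtain ⟨z, hz⟩ := coact_monomial_mem h s a
    rw [← hz, ← LinearMap.comp_apply, ← LinearMap.rTensor_comp]
    have hcomp : hc k R σ d ∘ₗ ((homogeneousSubmodule σ R s.degree).restrictScalars k).subtype =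
        if d = s.degree then ((homogeneousSubmodule σ R s.degree).restrictScalars k).subtype
        else 0 := by
      apply LinearMap.ext
      intro q
      rw [LinearMap.comp_apply, Submodule.subtype_apply, hc_apply,
        homogeneousComponent_of_mem (show (q : MvPolynomial σ R) ∈ homogeneousSubmodule σ R _
          from q.2)]
      split_ifs <;> simp
    rw [hcomp, homogeneousComponent_of_mem (isHomogeneous_monomial a rfl)]
    split_ifs with hd
    · exact hz
    · simp

theorem homogeneousComponent_fixed (h : IsLinAct cR c) (d : ℕ) {f : MvPolynomial σ R}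
    (hf : c.coact f = f ⊗ₜ[k] (1 : H)) :
    c.coact (homogeneousComponent d f) = homogeneousComponent d f ⊗ₜ[k] (1 : H) := by
  rw [← homogeneousComponent_coact h, hf, LinearMap.rTensor_tmul, hc_apply]

/-- constant coefficient as a `k`-linear map -/
noncomputable def c0 (k : Type u) [Field k] (R : Type w) [CommRing R] [Algebra k R] (σ : Type w') :
    MvPolynomial σ R →ₗ[k] R :=
  (MvPolynomial.lcoeff R (0 : σ →₀ ℕ)).restrictScalars k

theorem c0_comp_Cl : c0 k R σ ∘ₗ Cl k R σ = LinearMap.id := by
  apply LinearMap.ext
  intro r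
  simp [c0, Cl]

theorem fixed_of_C_fixed (h : IsLinAct cR c) (r : R)
    (hr : c.coact (C r : MvPolynomial σ R) = (C r) ⊗ₜ[k] (1 : H)) :
    cR.coact r = r ⊗ₜ[k] (1 : H) := by
  rw [h.hconst] at hr
  have := congrArg ((c0 k R σ).rTensor H) hr
  rw [← LinearMap.comp_apply, ← LinearMap.rTensor_comp, c0_comp_Cl, LinearMap.rTensor_id,
    LinearMap.id_apply, LinearMap.rTensor_tmul] at this
  rw [this]
  simp [c0]

/-- the main theorem: finite generation of invariants over the invariants of the base -/
theorem exists_finset_generators [Finite σ] [IsNoetherianRing R] (h : IsLinAct cR c)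
    (α : H →ₗ[k] k)
    (hα : @Hoch.IsComodHom k _ H _ _ _ H _ _ _ k _ _ (HopfRep.Comod.trivial k H k) α)
    (h1 : α 1 = 1) :
    ∃ s : Finset (MvPolynomial σ R),
      (∀ f ∈ s, c.coact f = f ⊗ₜ[k] (1 : H)) ∧
      ∀ f : MvPolynomial σ R, c.coact f = f ⊗ₜ[k] (1 : H) →
        f ∈ Algebra.adjoin k
          ((C '' {r : R | cR.coact r = r ⊗ₜ[k] (1 : H)}) ∪ (s : Set (MvPolynomial σ R))) := by
  classical
  obtain ⟨E, hE⟩ : ∃ E, E = reyn c α := ⟨_, rfl⟩
  -- generators of the ideal of positive-degree homogeneous invariants
  obtain ⟨G, hG⟩ : ∃ G : Set (MvPolynomial σ R), G =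
    {f | c.coact f = f ⊗ₜ[k] (1 : H) ∧ ∃ d : ℕ, 0 < d ∧ f.IsHomogeneous d} := ⟨_, rfl⟩
  have hfg : (Ideal.span G).FG := (isNoetherianRing_iff_ideal_fg _).mp inferInstance _
  obtain ⟨s, hsG, hspan⟩ := (Submodule.fg_span_iff_fg_span_finset_subset G).mp hfg
  have hsG' : ∀ j ∈ s, c.coact j = j ⊗ₜ[k] (1 : H) ∧ ∃ d : ℕ, 0 < d ∧ j.IsHomogeneous d := by
    intro j hj
    have := hsG hj
    rw [hG] at this
    exact this
  refine ⟨s, fun f hf => (hsG' f hf).1, ?_⟩
  -- homogeneous invariants are in the subalgebra, by induction on degree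
  have key : ∀ d : ℕ, ∀ f : MvPolynomial σ R, c.coact f = f ⊗ₜ[k] (1 : H) → f.IsHomogeneous d →
      f ∈ Algebra.adjoin k
          ((C '' {r : R | cR.coact r = r ⊗ₜ[k] (1 : H)}) ∪ (s : Set (MvPolynomial σ R))) := by
    intro d
    induction d using Nat.strong_induction_on with
    | _ d ih =>
      intro f hf hfd
      rcases Nat.eq_zero_or_pos d with hd0 | hdpos
      · subst hd0
        have hfC : f = C (coeff 0 f) := by
          rw [← homogeneousComponent_zero, homogeneousComponent_eq_self hfd]
        apply Algebra.subset_adjoin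
        left
        refine ⟨coeff 0 f, ?_, hfC.symm⟩
        apply fixed_of_C_fixed h
        rw [← hfC]
        exact hf
      · have hfG : f ∈ G := by
          rw [hG]
          exact ⟨hf, d, hdpos, hfd⟩
        have hfI : f ∈ Submodule.span (MvPolynomial σ R) (s : Set (MvPolynomial σ R)) := by
          rw [← hspan]; exact Submodule.subset_span hfG
        obtain ⟨g, -, hg⟩ := Submodule.mem_span_finset.mp hfI
        -- apply the Reynolds operator
        have hEf : E f = f := by rw [hE]; exact reyn_of_fixed c α h1 hf
        have h2 : f = ∑ j ∈ s, E (g j) * j := by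
          rw [← hEf, ← hg, map_sum]
          apply Finset.sum_congr rfl
          intro j hj
          rw [smul_eq_mul, hE]
          exact reyn_mul_fixed c α h.hmul (g j) j (hsG' j hj).1
        -- take the degree d component
        have h3 : f = ∑ j ∈ s, homogeneousComponent d (E (g j) * j) := by
          conv_lhs => rw [← homogeneousComponent_eq_self hfd, h2, map_sum]
        rw [h3]
        apply Subalgebra.sum_mem
        intro j hj
        obtain ⟨hjfix, dj, hdjpos, hjd⟩ := hsG' j hj
        obtain ⟨hh, hhh⟩ : ∃ hh, hh = E (g j) := ⟨_, rfl⟩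
        rw [← hhh]
        have hhfix : c.coact hh = hh ⊗ₜ[k] (1 : H) := by
          rw [hhh, hE]; exact coact_reyn c α hα (g j)
        rw [← sum_homogeneousComponent hh, Finset.sum_mul, map_sum]
        apply Subalgebra.sum_mem
        intro e _
        have hmem : homogeneousComponent e hh * j ∈ homogeneousSubmodule σ R (e + dj) :=
          IsHomogeneous.mul (homogeneousComponent_isHomogeneous e hh) hjd
        rw [homogeneousComponent_of_mem hmem]
        split_ifs with hde
        · apply Subalgebra.mul_mem
          · apply ih e (by omega) _ (homogeneousComponent_fixed h e hhfix)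
              (homogeneousComponent_isHomogeneous e hh)
          · exact Algebra.subset_adjoin (Or.inr hj)
        · exact Subalgebra.zero_mem _
  intro f hf
  rw [← sum_homogeneousComponent f]
  apply Subalgebra.sum_mem
  intro d _
  exact key d _ (homogeneousComponent_fixed h d hf) (homogeneousComponent_isHomogeneous d f)

end RelHilb

end Groth.Agent.Lib.Helper77
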