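import Groth.Agent.Lib.Helper77.RelHilb1
import Groth.Agent.Lib.Helper96.HilbertFin2

/-! Relative Hilbert finiteness: reduction of a finitely generated equivariant algebra over a
Noetherian comodule algebra to the linear (polynomial ring) case (helper77, generalising
`Helper96.HilbertFin2`). -/

set_option autoImplicit false

open TensorProduct MvPolynomial
universe u v w w' w''
namespace Groth.Agent.Lib.Helper77

open Groth.Agent.Lib.Helper96

namespace RelHilb

section Generic

variable {k : Type u} [Field k] {H : Type v} [CommRing H] [HopfAlgebra k H]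
variable {P : Type w} [AddCommGroup P] [Module k P]
variable {M : Type w'} [AddCommGroup M] [Module k M]

theorem assoc_rTensor_rTensor (ℓ : M →ₗ[k] P) (z : (M ⊗[k] H) ⊗[k] H) :
    TensorProduct.assoc k P H H ((ℓ.rTensor H).rTensor H z) =
      ℓ.rTensor (H ⊗[k] H) (TensorProduct.assoc k M H H z) := by
  induction z using TensorProduct.induction_on with
  | zero => simp
  | add x y hx hy => simp only [map_add, hx, hy]
  | tmul y a =>
    induction y using TensorProduct.induction_on with
    | zero => simp
    | add x y hx hy => simp only [TensorProduct.add_tmul, map_add, hx, hy]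
    | tmul v a' => simp

/-- coassociativity of `rho` at points in the image of an intertwiner from a comodule -/
theorem coassoc_at (rho : P →ₗ[k] P ⊗[k] H) (m : HopfRep.Comod k H M) (ℓ : M →ₗ[k] P)
    (hℓ : rho ∘ₗ ℓ = ℓ.rTensor H ∘ₗ m.coact) (x : M) :
    TensorProduct.assoc k P H H (rho.rTensor H (rho (ℓ x))) =
      (Coalgebra.comul (R := k) (A := H)).lTensor P (rho (ℓ x)) := by
  have h1 : rho (ℓ x) = ℓ.rTensor H (m.coact x) := LinearMap.congr_fun hℓ x
  rw [h1, ← LinearMap.comp_apply, ← LinearMap.rTensor_comp, hℓ, LinearMap.rTensor_comp,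
    LinearMap.comp_apply, assoc_rTensor_rTensor]
  have hco := LinearMap.congr_fun m.coassoc x
  simp only [LinearMap.comp_apply, LinearEquiv.coe_coe] at hco
  rw [hco, ← LinearMap.comp_apply, ← LinearMap.comp_apply (g := ℓ.rTensor H),
    LinearMap.rTensor_comp_lTensor, LinearMap.lTensor_comp_rTensor]

/-- counitality of `rho` at points in the image of an intertwiner from a comodule -/
theorem counit_at (rho : P →ₗ[k] P ⊗[k] H) (m : HopfRep.Comod k H M) (ℓ : M →ₗ[k] P)
    (hℓ : rho ∘ₗ ℓ = ℓ.rTensor H ∘ₗ m.coact) (x : M) :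
    (Coalgebra.counit (R := k) (A := H)).lTensor P (rho (ℓ x)) = ℓ x ⊗ₜ[k] (1 : k) := by
  have h1 : rho (ℓ x) = ℓ.rTensor H (m.coact x) := LinearMap.congr_fun hℓ x
  rw [h1, ← LinearMap.comp_apply, LinearMap.lTensor_comp_rTensor, ← LinearMap.rTensor_comp_lTensor,
    LinearMap.comp_apply]
  have hcu := LinearMap.congr_fun m.counit_comp x
  simp only [LinearMap.comp_apply, LinearMap.flip_apply, TensorProduct.mk_apply] at hcu
  rw [hcu, LinearMap.rTensor_tmul]

end Generic

section Construct

variable {k : Type u} [Field k] {H : Type v} [CommRing H] [HopfAlgebra k H]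
variable {A : Type w} [CommRing A] [Algebra k A]
variable {B : Type w'} [CommRing B] [Algebra k B]
variable (cA : HopfRep.Comod k H A)
  (hAmul : ∀ f g : A, cA.coact (f * g) = cA.coact f * cA.coact g)
  (hAone : cA.coact (1 : A) = 1)
variable (cB : HopfRep.Comod k H B)
variable (V : Submodule k B) (hV : IsSub cB V) {n : ℕ} (b : Module.Basis (Fin n) k V)

/-- `V → P`, sending the basis to the variables -/
noncomputable def L (A : Type w) [CommRing A] [Algebra k A] : V →ₗ[k] MvPolynomial (Fin n) A :=
  b.constr k (fun i => X i)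

theorem L_basis (i : Fin n) : L V b A (b i) = X i := b.constr_basis k _ i

theorem L_mem (v : V) : L V b A v ∈ (homogeneousSubmodule (Fin n) A 1).restrictScalars k := by
  have h : LinearMap.range (L V b A) ≤ (homogeneousSubmodule (Fin n) A 1).restrictScalars k := by
    rw [L, b.constr_range, Submodule.span_le]
    rintro _ ⟨i, rfl⟩
    exact isHomogeneous_X A i
  exact h ⟨v, rfl⟩

/-- the images of the variables -/
noncomputable def gen (A : Type w) [CommRing A] [Algebra k A] (j : Fin n) :
    MvPolynomial (Fin n) A ⊗[k] H :=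
  (L V b A).rTensor H ((ComodSub.Comod.restr cB V hV).coact (b j))

/-- the coaction of the base, as an algebra map into `P ⊗ H` -/
noncomputable def rhoA : A →ₐ[k] MvPolynomial (Fin n) A ⊗[k] H :=
  (Algebra.TensorProduct.map (IsScalarTower.toAlgHom k A (MvPolynomial (Fin n) A))
    (AlgHom.id k H)).comp (AlgHom.ofLinearMap cA.coact hAone hAmul)

theorem rhoA_apply (a : A) :
    rhoA (n := n) cA hAmul hAone a = (Cl k A (Fin n)).rTensor H (cA.coact a) := by
  rw [rhoA, AlgHom.comp_apply, HilbertFin2.map_eq_rTensor]
  rfl

/-- the coaction on the polynomial ring, as an algebra map -/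
noncomputable def rhoP : MvPolynomial (Fin n) A →ₐ[k] MvPolynomial (Fin n) A ⊗[k] H :=
  aevalTower (rhoA cA hAmul hAone) (gen cB V hV b A)

theorem rhoP_X (j : Fin n) : rhoP cA hAmul hAone cB V hV b (X j) = gen cB V hV b A j :=
  aevalTower_X _ _ _

theorem rhoP_C (a : A) :
    rhoP cA hAmul hAone cB V hV b (C a) = (Cl k A (Fin n)).rTensor H (cA.coact a) := by
  rw [rhoP, aevalTower_C, rhoA_apply]

theorem rhoP_comp_L : (rhoP cA hAmul hAone cB V hV b).toLinearMap ∘ₗ L V b A =
    (L V b A).rTensor H ∘ₗ (ComodSub.Comod.restr cB V hV).coact := by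
  apply b.ext
  intro j
  simp only [LinearMap.comp_apply, AlgHom.toLinearMap_apply, L_basis, rhoP_X]
  rfl

theorem rhoP_comp_Cl : (rhoP cA hAmul hAone cB V hV b).toLinearMap ∘ₗ Cl k A (Fin n) =
    (Cl k A (Fin n)).rTensor H ∘ₗ cA.coact := by
  apply LinearMap.ext
  intro a
  simp only [LinearMap.comp_apply, AlgHom.toLinearMap_apply, Cl_apply, rhoP_C]

/-- the comodule structure on the polynomial ring -/
noncomputable def comodP : HopfRep.Comod k H (MvPolynomial (Fin n) A) where
  coact := (rhoP cA hAmul hAone cB V hV b).toLinearMap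
  coassoc := by
    have hEq : (Algebra.TensorProduct.assoc k k k (MvPolynomial (Fin n) A) H H).toAlgHom.comp
        ((Algebra.TensorProduct.map (rhoP cA hAmul hAone cB V hV b) (AlgHom.id k H)).comp
          (rhoP cA hAmul hAone cB V hV b)) =
        (Algebra.TensorProduct.map (AlgHom.id k (MvPolynomial (Fin n) A))
          (Bialgebra.comulAlgHom k H)).comp (rhoP cA hAmul hAone cB V hV b) := by
      have hcomul : (Bialgebra.comulAlgHom k H).toLinearMap =
        Coalgebra.comul (R := k) (A := H) := rfl
      apply MvPolynomial.algHom_ext'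
      · apply AlgHom.ext
        intro a
        simp only [AlgHom.comp_apply]
        rw [HilbertFin2.map_eq_rTensor, HilbertFin2.map_eq_lTensor, HilbertFin2.assoc_eq, hcomul]
        exact coassoc_at (rhoP cA hAmul hAone cB V hV b).toLinearMap cA (Cl k A (Fin n))
          (rhoP_comp_Cl cA hAmul hAone cB V hV b) a
      · intro j
        simp only [AlgHom.comp_apply]
        rw [HilbertFin2.map_eq_rTensor, HilbertFin2.map_eq_lTensor, HilbertFin2.assoc_eq, hcomul,
          ← L_basis V b j]
        exact coassoc_at (rhoP cA hAmul hAone cB V hV b).toLinearMap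
          (ComodSub.Comod.restr cB V hV) (L V b A)
          (rhoP_comp_L cA hAmul hAone cB V hV b) (b j)
    apply LinearMap.ext
    intro p
    have := AlgHom.congr_fun hEq p
    simp only [AlgHom.comp_apply] at this
    rw [HilbertFin2.map_eq_rTensor, HilbertFin2.map_eq_lTensor, HilbertFin2.assoc_eq] at this
    exact this
  counit_comp := by
    have hEq : (Algebra.TensorProduct.map (AlgHom.id k (MvPolynomial (Fin n) A))
          (Bialgebra.counitAlgHom k H)).comp (rhoP cA hAmul hAone cB V hV b) =
        (Algebra.TensorProduct.includeLeft : MvPolynomial (Fin n) A →ₐ[k]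
          MvPolynomial (Fin n) A ⊗[k] k) := by
      have hcounit : (Bialgebra.counitAlgHom k H).toLinearMap =
        Coalgebra.counit (R := k) (A := H) := rfl
      apply MvPolynomial.algHom_ext'
      · apply AlgHom.ext
        intro a
        simp only [AlgHom.comp_apply]
        rw [HilbertFin2.map_eq_lTensor, hcounit]
        exact counit_at (rhoP cA hAmul hAone cB V hV b).toLinearMap cA (Cl k A (Fin n))
          (rhoP_comp_Cl cA hAmul hAone cB V hV b) a
      · intro j
        simp only [AlgHom.comp_apply]
        rw [HilbertFin2.map_eq_lTensor, hcounit, ← L_basis V b j]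
        exact counit_at (rhoP cA hAmul hAone cB V hV b).toLinearMap
          (ComodSub.Comod.restr cB V hV) (L V b A)
          (rhoP_comp_L cA hAmul hAone cB V hV b) (b j)
    apply LinearMap.ext
    intro p
    have := AlgHom.congr_fun hEq p
    simp only [AlgHom.comp_apply] at this
    rw [HilbertFin2.map_eq_lTensor] at this
    simpa using this

theorem comodP_coact (p : MvPolynomial (Fin n) A) :
    (comodP cA hAmul hAone cB V hV b).coact p = rhoP cA hAmul hAone cB V hV b p := rfl

theorem isLinAct : IsLinAct cA (comodP cA hAmul hAone cB V hV b) := by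
  refine ⟨fun f g => map_mul (rhoP cA hAmul hAone cB V hV b) f g,
    map_one (rhoP cA hAmul hAone cB V hV b), ?_, ?_⟩
  · intro i
    rw [comodP_coact, rhoP_X, gen]
    generalize (ComodSub.Comod.restr cB V hV).coact (b i) = z
    induction z using TensorProduct.induction_on with
    | zero => simp
    | add x y hx hy => rw [map_add]; exact Submodule.add_mem _ hx hy
    | tmul v a =>
      rw [LinearMap.rTensor_tmul]
      exact tmul_mem_T (L_mem V b v) a
  · intro r
    rw [comodP_coact, rhoP_C]

variable (φ : A →ₐ[k] B)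

/-- the equivariant surjection onto `B` -/
noncomputable def piR : MvPolynomial (Fin n) A →ₐ[k] B := aevalTower φ (fun j => ((b j : V) : B))

theorem piR_C (a : A) : piR V b φ (C a) = φ a := aevalTower_C _ _ _

theorem piR_L (v : V) : piR V b φ (L V b A v) = (v : B) := by
  have : (piR V b φ).toLinearMap ∘ₗ L V b A = V.subtype := by
    apply b.ext
    intro j
    simp [L_basis, piR]
  exact LinearMap.congr_fun this v

theorem piR_hom (hmul : ∀ f g : B, cB.coact (f * g) = cB.coact f * cB.coact g)
    (hone : cB.coact (1 : B) = 1)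
    (hφ : ∀ a : A, cB.coact (φ a) = φ.toLinearMap.rTensor H (cA.coact a))
    (p : MvPolynomial (Fin n) A) :
    cB.coact (piR V b φ p) =
      (piR V b φ).toLinearMap.rTensor H ((comodP cA hAmul hAone cB V hV b).coact p) := by
  let cBalg : B →ₐ[k] B ⊗[k] H := AlgHom.ofLinearMap cB.coact hone hmul
  have hEq : cBalg.comp (piR V b φ) =
      (Algebra.TensorProduct.map (piR V b φ) (AlgHom.id k H)).comp
        (rhoP cA hAmul hAone cB V hV b) := by
    apply MvPolynomial.algHom_ext'
    · apply AlgHom.ext
      intro a
      simp only [AlgHom.comp_apply]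
      rw [HilbertFin2.map_eq_rTensor]
      have h1 : (IsScalarTower.toAlgHom k A (MvPolynomial (Fin n) A)) a = C a := rfl
      rw [h1, piR_C, rhoP_C, ← LinearMap.comp_apply, ← LinearMap.rTensor_comp]
      have h2 : (piR V b φ).toLinearMap ∘ₗ Cl k A (Fin n) = φ.toLinearMap := by
        apply LinearMap.ext
        intro a
        simp [piR_C]
      rw [h2]
      exact hφ a
    · intro j
      simp only [AlgHom.comp_apply]
      rw [← L_basis V b j, HilbertFin2.map_eq_rTensor, piR_L]
      have h1 := LinearMap.congr_fun (rhoP_comp_L cA hAmul hAone cB V hV b) (b j)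
      simp only [LinearMap.comp_apply, AlgHom.toLinearMap_apply] at h1
      rw [h1, ← LinearMap.comp_apply, ← LinearMap.rTensor_comp]
      have : (piR V b φ).toLinearMap ∘ₗ L V b A = V.subtype := by
        apply LinearMap.ext
        intro v
        exact piR_L V b φ v
      rw [this, ComodSub.restr_coact_coe]
      rfl
  have := AlgHom.congr_fun hEq p
  simp only [AlgHom.comp_apply] at this
  rw [HilbertFin2.map_eq_rTensor] at this
  exact this

end Construct

section Main

variable {k : Type u} [Field k] {H : Type v} [CommRing H] [HopfAlgebra k H]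
variable {A : Type w} [CommRing A] [Algebra k A]
variable {B : Type w'} [CommRing B] [Algebra k B]

/-- Relative Hilbert finiteness: `A` a Noetherian comodule algebra over a Hopf algebra with a total
integral, `B` a comodule algebra generated over the image of the equivariant map `φ : A → B` by a
finite set `t`.  Then the invariants of `B` are generated, as a `k`-algebra, by the image of the
invariants of `A` and finitely many invariants. -/
theorem exists_finset_generators_rel [IsNoetherianRing A]
    (cA : HopfRep.Comod k H A)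
    (hAmul : ∀ f g : A, cA.coact (f * g) = cA.coact f * cA.coact g)
    (hAone : cA.coact (1 : A) = 1)
    (cB : HopfRep.Comod k H B)
    (hBmul : ∀ f g : B, cB.coact (f * g) = cB.coact f * cB.coact g)
    (hBone : cB.coact (1 : B) = 1)
    (φ : A →ₐ[k] B)
    (hφ : ∀ a : A, cB.coact (φ a) = φ.toLinearMap.rTensor H (cA.coact a))
    (t : Finset B) (ht : Algebra.adjoin k (Set.range φ ∪ (t : Set B)) = ⊤)
    (α : H →ₗ[k] k)
    (hα : @Hoch.IsComodHom k _ H _ _ _ H _ _ _ k _ _ (HopfRep.Comod.trivial k H k) α)
    (h1 : α 1 = 1) :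
    ∃ s : Finset B, (∀ f ∈ s, cB.coact f = f ⊗ₜ[k] (1 : H)) ∧
      ∀ f : B, cB.coact f = f ⊗ₜ[k] (1 : H) →
        f ∈ Algebra.adjoin k
          ((φ '' {a : A | cA.coact a = a ⊗ₜ[k] (1 : H)}) ∪ (s : Set B)) := by
  classical
  obtain ⟨V, hVfin, htV, hV⟩ := HilbertFin2.exists_finite_isSub_finset cB t
  let b := Module.finBasis k V
  have hact := isLinAct cA hAmul hAone cB V hV b
  obtain ⟨s, hs1, hs2⟩ := exists_finset_generators hact α hα h1
  have hsurj : Function.Surjective (piR V b φ) := by
    rw [← AlgHom.range_eq_top, eq_top_iff, ← ht]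
    apply Algebra.adjoin_le
    rintro x (⟨a, rfl⟩ | hx)
    · exact ⟨C a, piR_C V b φ a⟩
    · exact ⟨L V b A ⟨x, htV hx⟩, piR_L V b φ _⟩
  refine ⟨s.image (piR V b φ), ?_, ?_⟩
  · intro f hf
    obtain ⟨p, hp, rfl⟩ := Finset.mem_image.mp hf
    rw [piR_hom cA hAmul hAone cB V hV b φ hBmul hBone hφ, hs1 p hp, LinearMap.rTensor_tmul]
    rfl
  · intro r hr
    obtain ⟨p, rfl⟩ := hsurj r
    have hE : reyn cB α (piR V b φ p) = piR V b φ p := reyn_of_fixed cB α h1 hr
    have hnat : reyn cB α ((piR V b φ).toLinearMap p) =
        (piR V b φ).toLinearMap (reyn (comodP cA hAmul hAone cB V hV b) α p) :=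
      reyn_natural (comodP cA hAmul hAone cB V hV b) cB α (piR V b φ).toLinearMap p
        (piR_hom cA hAmul hAone cB V hV b φ hBmul hBone hφ p)
    have hmem := hs2 _ (coact_reyn (comodP cA hAmul hAone cB V hV b) α hα p)
    rw [← hE]
    have himg : (φ '' {a : A | cA.coact a = a ⊗ₜ[k] (1 : H)}) ∪
        ((s.image (piR V b φ) : Finset B) : Set B) =
        (piR V b φ) '' ((C '' {r : A | cA.coact r = r ⊗ₜ[k] (1 : H)}) ∪
          (s : Set (MvPolynomial (Fin _) A))) := by
      rw [Set.image_union, Set.image_image, Finset.coe_image]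
      congr 1
      apply Set.image_congr
      intro a _
      exact (piR_C V b φ a).symm
    rw [himg, ← AlgHom.map_adjoin]
    exact ⟨_, hmem, hnat.symm⟩

end Main

end RelHilb

end Groth.Agent.Lib.Helper77
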