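import Groth.Agent.Lib.Helper77.RelHilb2
import Groth.Prelude.Def_GLin

/-! Relative Hilbert finiteness in instance form (helper77). -/

set_option autoImplicit false

open TensorProduct
universe u v w w'
namespace Groth.Agent.Lib.Helper77

open Groth.Agent.Lib.Helper96

namespace RelHilb

theorem adjoin_range_union_eq_top {k : Type u} [CommRing k] {A : Type w} [CommRing A] [Algebra k A]
    {C : Type w'} [CommRing C] [Algebra k C] [Algebra A C] [IsScalarTower k A C]
    (t : Set C) (ht : Algebra.adjoin A t = ⊤) :
    Algebra.adjoin k (Set.range (IsScalarTower.toAlgHom k A C) ∪ t) = ⊤ := by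
  have h1 := Algebra.Subalgebra.restrictScalars_adjoin (R := k) (S := A) (A := C) (s := t)
  rw [ht] at h1
  rw [Algebra.adjoin_union, ← AlgHom.coe_range, Algebra.adjoin_eq, ← h1]
  rfl

/-- instance form of relative Hilbert finiteness (all universes free) -/
theorem main_inst
    (k : Type u) [Field k] (H : Type v) [CommRing H] [HopfAlgebra k H]
    (hG : HopfRep.IsLinearlyReductive k H)
    (A : Type w) [CommRing A] [Algebra k A] [IsNoetherianRing A]
    [HopfRep.Comod k H A] [GLin.IsCoactAlg k H A]
    (C : Type w') [CommRing C] [Algebra k C] [HopfRep.Comod k H C] [GLin.IsCoactAlg k H C]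
    [Algebra A C] [IsScalarTower k A C] [Algebra.FiniteType A C]
    (hAC : Hoch.IsComodHom H (IsScalarTower.toAlgHom k A C).toLinearMap) :
    ∃ s : Finset C, GLin.invariants k H C =
      Algebra.adjoin k (⇑(algebraMap A C) '' ↑(GLin.invariants k H A) ∪ ↑s) := by
  obtain ⟨α, hα, h1⟩ := isLinearlyReductive_iff_exists_integral.mp hG
  obtain ⟨t, ht⟩ := (Algebra.FiniteType.out : (⊤ : Subalgebra A C).FG)
  have ht' := adjoin_range_union_eq_top (k := k) (t : Set C) ht
  obtain ⟨s, hs1, hs2⟩ := exists_finset_generators_rel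
    (inferInstance : HopfRep.Comod k H A) (GLin.IsCoactAlg.coact_mul (k := k))
    (GLin.IsCoactAlg.coact_one (k := k))
    (inferInstance : HopfRep.Comod k H C) (GLin.IsCoactAlg.coact_mul (k := k))
    (GLin.IsCoactAlg.coact_one (k := k))
    (IsScalarTower.toAlgHom k A C) (fun a => LinearMap.congr_fun hAC a) t ht' α hα h1
  refine ⟨s, le_antisymm ?_ ?_⟩
  · intro f hf
    exact hs2 f hf
  · apply Algebra.adjoin_le
    rintro x (⟨a, ha, rfl⟩ | hx)
    · show HopfRep.Comod.coact (k := k) (A := H) (algebraMap A C a) = _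
      have := LinearMap.congr_fun hAC a
      simp only [LinearMap.comp_apply, AlgHom.toLinearMap_apply, IsScalarTower.coe_toAlgHom'] at this
      rw [this, (GLin.mem_invariants_iff k H A a).mp ha, LinearMap.rTensor_tmul]
      rfl
    · exact hs1 x hx

end RelHilb

end Groth.Agent.Lib.Helper77
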