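import Groth.Agent.Lib.Helper77.RelHilb3

/-! A Noetherian comodule algebra over a finite type linearly reductive Hopf algebra is of finite
type over its invariants (helper77): apply relative Hilbert finiteness to `A ⊗ H` with the induced
coaction, an `A`-algebra through the coaction of `A`. -/

set_option autoImplicit false

open TensorProduct
universe u v w w'
namespace Groth.Agent.Lib.Helper77

open Groth.Agent.Lib.Helper96

namespace RelHilb

section Shear

variable {k : Type u} [Field k] {H : Type v} [CommRing H] [HopfAlgebra k H]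
variable {A : Type w} [CommRing A] [Algebra k A]
variable (cA : HopfRep.Comod k H A)
  (hAmul : ∀ f g : A, cA.coact (f * g) = cA.coact f * cA.coact g)
  (hAone : cA.coact (1 : A) = 1)

/-- the coaction as an algebra map -/
noncomputable def rhoAlg : A →ₐ[k] A ⊗[k] H := AlgHom.ofLinearMap cA.coact hAone hAmul

theorem rhoAlg_apply (a : A) : rhoAlg cA hAmul hAone a = cA.coact a := rfl

/-- the shear map `a ⊗ h ↦ ρ(a) (1 ⊗ h)` -/
noncomputable def shear : A ⊗[k] H →ₐ[k] A ⊗[k] H :=
  Algebra.TensorProduct.lift (rhoAlg cA hAmul hAone) Algebra.TensorProduct.includeRight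
    (fun _ _ => Commute.all _ _)

theorem shear_tmul (a : A) (b : H) :
    shear cA hAmul hAone (a ⊗ₜ[k] b) = cA.coact a * (1 ⊗ₜ[k] b) := by
  simp [shear, rhoAlg_apply]

omit [Field k] in
theorem mul_one_tmul_antipode {k : Type u} [CommRing k] {H : Type v} [CommRing H] [HopfAlgebra k H]
    {A : Type w} [CommRing A] [Algebra k A] (w : A ⊗[k] H) (b : H) :
    w * (1 ⊗ₜ[k] HopfAlgebra.antipode k b) =
      (LinearMap.lTensor A (LinearMap.mul' k H ∘ₗ (HopfAlgebra.antipode k).lTensor H))
        ((TensorProduct.assoc k A H H) (w ⊗ₜ[k] b)) := by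
  induction w with
  | zero => simp
  | tmul a c => simp [Algebra.TensorProduct.tmul_mul_tmul]
  | add x y hx hy => simp only [add_mul, TensorProduct.add_tmul, map_add, hx, hy]

theorem shear_map_antipode (w : A ⊗[k] H) :
    shear cA hAmul hAone
        (Algebra.TensorProduct.map (AlgHom.id k A) (HopfAlgebra.antipodeAlgHom k H) w) =
      (LinearMap.lTensor A (LinearMap.mul' k H ∘ₗ (HopfAlgebra.antipode k).lTensor H))
        ((TensorProduct.assoc k A H H) ((cA.coact.rTensor H) w)) := by
  induction w with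
  | zero => simp
  | tmul a b =>
    rw [Algebra.TensorProduct.map_tmul, shear_tmul, LinearMap.rTensor_tmul]
    exact mul_one_tmul_antipode _ b
  | add x y hx hy => simp only [map_add, hx, hy]

theorem coassoc_apply (x : A) :
    (TensorProduct.assoc k A H H) ((cA.coact.rTensor H) (cA.coact x)) =
    ((Coalgebra.comul (R := k) (A := H)).lTensor A) (cA.coact x) := by
  have h := LinearMap.congr_fun cA.coassoc x
  simpa only [LinearMap.coe_comp, Function.comp_apply, LinearEquiv.coe_coe] using h

theorem counit_apply (x : A) :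
    ((Coalgebra.counit (R := k) (A := H)).lTensor A) (cA.coact x) = x ⊗ₜ[k] (1 : k) := by
  have h := LinearMap.congr_fun cA.counit_comp x
  simpa using h

theorem shear_rhoS (x : A) :
    shear cA hAmul hAone
      (Algebra.TensorProduct.map (AlgHom.id k A) (HopfAlgebra.antipodeAlgHom k H) (cA.coact x)) =
      x ⊗ₜ[k] (1 : H) := by
  rw [shear_map_antipode, coassoc_apply, ← LinearMap.comp_apply, ← LinearMap.lTensor_comp,
    LinearMap.comp_assoc, HopfAlgebra.mul_antipode_lTensor_comul, LinearMap.lTensor_comp,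
    LinearMap.comp_apply, counit_apply]
  simp [Algebra.TensorProduct.one_def]

/-- `A ⊗ H` is generated by the image of the coaction and `1 ⊗ t` for generators `t` of `H` -/
theorem adjoin_range_rho_union (t : Set H) (ht : Algebra.adjoin k t = ⊤) :
    Algebra.adjoin k (Set.range (rhoAlg cA hAmul hAone) ∪
      (Algebra.TensorProduct.includeRight : H →ₐ[k] A ⊗[k] H) '' t) = ⊤ := by
  obtain ⟨S, hS⟩ : ∃ S, S = Algebra.adjoin k (Set.range (rhoAlg cA hAmul hAone) ∪
      (Algebra.TensorProduct.includeRight : H →ₐ[k] A ⊗[k] H) '' t) := ⟨_, rfl⟩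
  rw [← hS]
  have h1 : ∀ a : A, cA.coact a ∈ S := by
    intro a
    rw [hS]
    exact Algebra.subset_adjoin (Or.inl ⟨a, rfl⟩)
  have h2 : ∀ h : H, (1 : A) ⊗ₜ[k] h ∈ S := by
    intro h
    have : h ∈ Algebra.adjoin k t := by rw [ht]; trivial
    have h3 : (Algebra.TensorProduct.includeRight : H →ₐ[k] A ⊗[k] H) h ∈
        (Algebra.adjoin k t).map (Algebra.TensorProduct.includeRight : H →ₐ[k] A ⊗[k] H) :=
      ⟨h, this, rfl⟩
    rw [AlgHom.map_adjoin] at h3
    rw [hS]
    exact Algebra.adjoin_mono Set.subset_union_right h3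
  have h3 : ∀ w : A ⊗[k] H, shear cA hAmul hAone w ∈ S := by
    intro w
    induction w with
    | zero => rw [map_zero]; exact Subalgebra.zero_mem _
    | tmul a b => rw [shear_tmul]; exact Subalgebra.mul_mem _ (h1 a) (h2 b)
    | add x y hx hy => rw [map_add]; exact Subalgebra.add_mem _ hx hy
  have h4 : ∀ w : A ⊗[k] H, w ∈ S := by
    intro w
    induction w with
    | zero => exact Subalgebra.zero_mem _
    | tmul a b =>
      have : a ⊗ₜ[k] b = (a ⊗ₜ[k] (1 : H)) * ((1 : A) ⊗ₜ[k] b) := by
        rw [Algebra.TensorProduct.tmul_mul_tmul, mul_one, one_mul]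
      rw [this]
      refine Subalgebra.mul_mem _ ?_ (h2 b)
      rw [← shear_rhoS cA hAmul hAone a]
      exact h3 _
    | add x y hx hy => exact Subalgebra.add_mem _ hx hy
  rw [eq_top_iff]
  intro w _
  exact h4 w

end Shear

section Ind

variable {k : Type u} [Field k] {H : Type v} [CommRing H] [HopfAlgebra k H]
variable {A : Type w} [CommRing A] [Algebra k A]

/-- the coaction of the induced comodule `A ⊗ H` as an algebra map -/
noncomputable def indAlg (k : Type u) [Field k] (H : Type v) [CommRing H] [HopfAlgebra k H]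
    (A : Type w) [CommRing A] [Algebra k A] : A ⊗[k] H →ₐ[k] (A ⊗[k] H) ⊗[k] H :=
  (Algebra.TensorProduct.assoc k k k A H H).symm.toAlgHom.comp
    (Algebra.TensorProduct.map (AlgHom.id k A) (Bialgebra.comulAlgHom k H))

theorem indComod_coact_eq (x : A ⊗[k] H) : (indComod k H A).coact x = indAlg k H A x := by
  rw [indComod_coact, indAlg, AlgHom.comp_apply, HilbertFin2.map_eq_lTensor]
  have hcomul : (Bialgebra.comulAlgHom k H).toLinearMap =
    Coalgebra.comul (R := k) (A := H) := rfl
  rw [hcomul]
  generalize (Coalgebra.comul (R := k) (A := H)).lTensor A x = z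
  rw [LinearEquiv.symm_apply_eq, ← HilbertFin2.assoc_eq]
  simp

theorem indComod_mul (x y : A ⊗[k] H) :
    (indComod k H A).coact (x * y) = (indComod k H A).coact x * (indComod k H A).coact y := by
  simp only [indComod_coact_eq, map_mul]

theorem indComod_one : (indComod k H A).coact (1 : A ⊗[k] H) = 1 := by
  simp only [indComod_coact_eq, map_one]

theorem indComod_coact_coact (cA : HopfRep.Comod k H A) (a : A) :
    (indComod k H A).coact (cA.coact a) = cA.coact.rTensor H (cA.coact a) := by
  rw [indComod_coact, ← coassoc_apply, LinearEquiv.symm_apply_apply]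

theorem slice_rTensor_indComod (x : A ⊗[k] H) :
    (slice A (Coalgebra.counit (R := k) (A := H))).rTensor H ((indComod k H A).coact x) = x := by
  induction x with
  | zero => simp
  | add x y hx hy => simp only [map_add, hx, hy]
  | tmul a h =>
    rw [indComod_coact_tmul]
    have key : ∀ z : H ⊗[k] H,
        (slice A (Coalgebra.counit (R := k) (A := H))).rTensor H
          ((TensorProduct.assoc k A H H).symm (a ⊗ₜ[k] z)) =
        a ⊗ₜ[k] (TensorProduct.lid k H ((Coalgebra.counit (R := k) (A := H)).rTensor H z)) := by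
      intro z
      induction z with
      | zero => simp
      | add x y hx hy => simp only [TensorProduct.tmul_add, map_add, hx, hy]
      | tmul h1 h2 => simp [TensorProduct.smul_tmul]
    rw [key, Coalgebra.rTensor_counit_comul]
    simp

theorem eq_tmul_one_of_fixed (x : A ⊗[k] H)
    (hx : (indComod k H A).coact x = x ⊗ₜ[k] (1 : H)) :
    x = slice A (Coalgebra.counit (R := k) (A := H)) x ⊗ₜ[k] (1 : H) := by
  have := slice_rTensor_indComod x
  rw [hx, LinearMap.rTensor_tmul] at this
  exact this.symm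

end Ind

section Final

theorem finiteType_aux
    {k : Type u} [Field k] {H : Type v} [CommRing H] [HopfAlgebra k H] [Algebra.FiniteType k H]
    {A : Type w} [CommRing A] [Algebra k A] [IsNoetherianRing A]
    (cA : HopfRep.Comod k H A)
    (hAmul : ∀ f g : A, cA.coact (f * g) = cA.coact f * cA.coact g)
    (hAone : cA.coact (1 : A) = 1)
    (α : H →ₗ[k] k)
    (hα : @Hoch.IsComodHom k _ H _ _ _ H _ _ _ k _ _ (HopfRep.Comod.trivial k H k) α)
    (h1 : α 1 = 1) :
    ∃ s' : Finset A, ∀ a : A,
      a ∈ Algebra.adjoin k ({b : A | cA.coact b = b ⊗ₜ[k] (1 : H)} ∪ (s' : Set A)) := by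
  classical
  obtain ⟨t', ht'⟩ := (Algebra.FiniteType.out : (⊤ : Subalgebra k H).FG)
  have hgen := adjoin_range_rho_union cA hAmul hAone (t' : Set H) ht'
  have hgen' : Algebra.adjoin k (Set.range (rhoAlg cA hAmul hAone) ∪
      ((t'.image (Algebra.TensorProduct.includeRight : H →ₐ[k] A ⊗[k] H) : Finset (A ⊗[k] H)) :
        Set (A ⊗[k] H))) = ⊤ := by
    rw [Finset.coe_image]; exact hgen
  obtain ⟨s, hs1, hs2⟩ := exists_finset_generators_rel cA hAmul hAone
    (indComod k H A) indComod_mul indComod_one (rhoAlg cA hAmul hAone)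
    (fun a => indComod_coact_coact cA a) _ hgen' α hα h1
  -- the retraction `A ⊗ H → A`
  let r : A ⊗[k] H →ₐ[k] A := (Algebra.TensorProduct.rid k k A).toAlgHom.comp
    (Algebra.TensorProduct.map (AlgHom.id k A) (Bialgebra.counitAlgHom k H))
  have hr : ∀ a : A, r (a ⊗ₜ[k] (1 : H)) = a := by
    intro a
    simp [r]
  refine ⟨s.image r, ?_⟩
  intro a
  have ha : (indComod k H A).coact (a ⊗ₜ[k] (1 : H)) = (a ⊗ₜ[k] (1 : H)) ⊗ₜ[k] (1 : H) := by
    rw [indComod_coact_tmul, Bialgebra.comul_one, Algebra.TensorProduct.one_def]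
    simp
  have hmem := hs2 _ ha
  have hmem' : r (a ⊗ₜ[k] (1 : H)) ∈ (Algebra.adjoin k
      ((rhoAlg cA hAmul hAone) '' {a : A | cA.coact a = a ⊗ₜ[k] (1 : H)} ∪
        (s : Set (A ⊗[k] H)))).map r := ⟨_, hmem, rfl⟩
  rw [hr, AlgHom.map_adjoin] at hmem'
  refine Algebra.adjoin_mono ?_ hmem'
  rintro _ ⟨y, (⟨b, hb, rfl⟩ | hy), rfl⟩
  · have hb' : cA.coact b = b ⊗ₜ[k] (1 : H) := hb
    rw [rhoAlg_apply, hb', hr]
    exact Or.inl hb
  · right
    rw [Finset.coe_image]
    exact ⟨y, hy, rfl⟩

/-- A Noetherian comodule algebra over a finite type linearly reductive Hopf algebra is of finite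
type over its invariants. -/
theorem finiteType_over_invariants
    (k : Type u) [Field k] (H : Type v) [CommRing H] [HopfAlgebra k H] [Algebra.FiniteType k H]
    (hG : HopfRep.IsLinearlyReductive k H)
    (A : Type w) [CommRing A] [Algebra k A] [IsNoetherianRing A]
    [HopfRep.Comod k H A] [GLin.IsCoactAlg k H A] :
    Algebra.FiniteType ↥(GLin.invariants k H A) A := by
  classical
  obtain ⟨α, hα, h1⟩ := isLinearlyReductive_iff_exists_integral.mp hG
  obtain ⟨s', hs'⟩ := finiteType_aux (inferInstance : HopfRep.Comod k H A)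
    (GLin.IsCoactAlg.coact_mul (k := k)) (GLin.IsCoactAlg.coact_one (k := k)) α hα h1
  refine ⟨⟨s', ?_⟩⟩
  rw [eq_top_iff]
  intro a _
  have hle : Algebra.adjoin k ({b : A | HopfRep.Comod.coact (k := k) (A := H) b =
      b ⊗ₜ[k] (1 : H)} ∪ (s' : Set A)) ≤
      (Algebra.adjoin ↥(GLin.invariants k H A) (s' : Set A)).restrictScalars k := by
    apply Algebra.adjoin_le
    rintro b (hb | hb)
    · exact Subalgebra.algebraMap_mem
        (Algebra.adjoin ↥(GLin.invariants k H A) (s' : Set A)) ⟨b, hb⟩
    · exact Algebra.subset_adjoin hb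
  exact hle (hs' a)

end Final

end RelHilb

end Groth.Agent.Lib.Helper77
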