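import Mathlib
import Groth.Prelude.Def_CInt
import Groth.Prelude.Def_AlgSp

set_option autoImplicit false

universe u

open CategoryTheory CategoryTheory.Limits AlgebraicGeometry

namespace Groth.Agent.Lib.Helper77.SDE1

theorem E1 {S : Scheme.{u}} {G F : AlgSp.Sp S} (j : G ⟶ F)
    (hj : AlgSp.RepWith @IsOpenImmersion j) {V : Over S} (φ : (AlgSp.yon S).obj V ⟶ F) :
    ∃ (W : V.left.Opens) (fst : (AlgSp.yon S).obj (Over.mk (W.ι ≫ V.hom)) ⟶ G),
      IsPullback fst ((AlgSp.yon S).map (Over.homMk W.ι rfl : Over.mk (W.ι ≫ V.hom) ⟶ V)) j φ := by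
  obtain ⟨hrep, hP⟩ := (AlgSp.repWith_iff @IsOpenImmersion j).1 hj
  obtain ⟨T, i, r, sq⟩ := hrep φ
  haveI hi : IsOpenImmersion i.left := hP φ r i sq
  let W : V.left.Opens := i.left.opensRange
  have hw : i.left.isoOpensRange.inv ≫ T.hom = W.ι ≫ V.hom := by
    rw [← Over.w i, ← Category.assoc]
    congr 1
    rw [Iso.inv_comp_eq]
    exact (Scheme.Hom.isoOpensRange_hom_ι i.left).symm
  let e : Over.mk (W.ι ≫ V.hom) ≅ T := Over.isoMk i.left.isoOpensRange.symm hw
  have he : e.hom ≫ i = (Over.homMk W.ι rfl : Over.mk (W.ι ≫ V.hom) ⟶ V) := by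
    apply Over.OverMorphism.ext
    show i.left.isoOpensRange.inv ≫ i.left = W.ι
    rw [Iso.inv_comp_eq]
    exact (Scheme.Hom.isoOpensRange_hom_ι i.left).symm
  have he' : e.inv ≫ (Over.homMk W.ι rfl : Over.mk (W.ι ≫ V.hom) ⟶ V) = i := by
    rw [← he, Iso.inv_hom_id_assoc]
  refine ⟨W, (AlgSp.yon S).map e.hom ≫ r, ?_⟩
  refine IsPullback.of_iso sq ((AlgSp.yon S).mapIso e.symm) (Iso.refl _) (Iso.refl _) (Iso.refl _)
    ?_ ?_ ?_ ?_
  · simp only [Iso.refl_hom, Category.comp_id, Functor.mapIso_hom, Iso.symm_hom]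
    rw [← Category.assoc, ← Functor.map_comp, Iso.inv_hom_id, CategoryTheory.Functor.map_id,
      Category.id_comp]
  · simp only [Iso.refl_hom, Category.comp_id, Functor.mapIso_hom, Iso.symm_hom]
    rw [← Functor.map_comp, he']
  · simp
  · simp

end Groth.Agent.Lib.Helper77.SDE1
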