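/-
helper77: Serre-condition facts used for S14071/S14072 (EGA IV 5.12.x style descent).
-/
import Groth.Agent.Lib.Helper77.FlatDepth4
import Groth.Agent.Lib.Helper56.DepthAss
import Groth.Agent.Lib.Helper56.Serre1

universe u
set_option autoImplicit false
open IsLocalRing LocCoh
open scoped Pointwise

namespace Groth.Agent.Lib.Helper77.SV
open Groth.Agent.Lib.Helper77.FlatDepth Groth.Agent.Lib.Helper67 Groth.Agent.Lib.Helper56

section SkFacts
variable {R : Type u} [CommRing R] [IsNoetherianRing R]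

/-- `(S_1)`: associated primes of the ring are minimal primes -/
theorem mem_minimalPrimes_of_mem_ass_of_S1 (hS : HasSk 1 R R) (P : Ideal R)
    (hP : P ∈ associatedPrimes R R) : P ∈ minimalPrimes R := by
  have hPprime : P.IsPrime := hP.isPrime
  have h0 := depth_localizedModule_eq_zero_of_mem_associatedPrimes (M := R) hP
  rw [depth_localizedModule_self] at h0
  rw [hasSk_self_iff] at hS
  have h1 := hS P
  have hN : IsNoetherianRing (Localization.AtPrime P) :=
    IsLocalization.isNoetherianRing P.primeCompl _ inferInstance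
  obtain ⟨d, hd⟩ := exists_nat_dim (Localization.AtPrime P)
  have h2 := (sk_nat 1 d 0 (Localization.AtPrime P) hd (by rw [h0]; rfl)).mp h1
  have hd0 : d = 0 := by omega
  rw [IsLocalization.AtPrime.ringKrullDim_eq_height P, hd0] at hd
  rw [← Ideal.height_eq_zero_iff]
  exact_mod_cast hd

/-- `(S_2)`: in a prime of height `≥ 2`, every regular element extends to a regular sequence of
length two -/
theorem exists_regular_quot_of_S2 (hS : HasSk 2 R R) (q : Ideal R) [hq' : q.IsPrime]
    (hq : 2 ≤ q.height) (x : R) (hx : x ∈ q) (hreg : IsSMulRegular R x) :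
    ∃ y ∈ q, IsSMulRegular (QuotSMulTop x R) y := by
  have hqtop : q • (⊤ : Submodule R R) ≠ ⊤ := by
    rw [smul_eq_mul, Ideal.mul_top]
    exact hq'.ne_top
  have h2 : (2 : ℕ∞) ≤ idealDepth q R := by
    rw [idealDepth_eq_iInf_depth_localization]
    refine le_iInf₂ fun p hp => ?_
    rw [depth_localizedModule_self]
    rw [hasSk_self_iff] at hS
    have h1 := hS p.asIdeal
    have hN : IsNoetherianRing (Localization.AtPrime p.asIdeal) :=
      IsLocalization.isNoetherianRing p.asIdeal.primeCompl _ inferInstance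
    obtain ⟨d, hd⟩ := exists_nat_dim (Localization.AtPrime p.asIdeal)
    obtain ⟨e, he⟩ := exists_nat_depth (Localization.AtPrime p.asIdeal)
    have h3 := (sk_nat 2 d e (Localization.AtPrime p.asIdeal) hd he).mp h1
    have hd2 : 2 ≤ d := by
      rw [IsLocalization.AtPrime.ringKrullDim_eq_height p.asIdeal] at hd
      have h4 : (2 : ℕ∞) ≤ p.asIdeal.height := hq.trans (Ideal.height_mono hp)
      have h5 : ((2 : ℕ∞) : WithBot ℕ∞) ≤ ((d : ℕ) : WithBot ℕ∞) := by
        rw [← hd]; exact_mod_cast h4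
      exact_mod_cast h5
    rw [he]
    have : 2 ≤ e := by omega
    exact_mod_cast this
  have h3 := idealDepth_quotSMulTop_add_one q R hqtop x hx hreg
  have h4 : (1 : ℕ∞) ≤ idealDepth q (QuotSMulTop x R) := by
    by_contra hlt
    push Not at hlt
    have h5 : idealDepth q (QuotSMulTop x R) = 0 := by
      exact Order.lt_one_iff.mp hlt
    rw [h5, zero_add] at h3
    rw [← h3] at h2
    exact absurd h2 (by norm_num)
  rcases (one_le_idealDepth_iff _ _).mp h4 with h | ⟨y, hy, hyreg⟩
  · exact absurd h (smul_top_quotSMulTop_ne_top hx hqtop)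
  · exact ⟨y, hy, hyreg⟩

end SkFacts

section NilQuot
variable {B : Type u} [CommRing B]

theorem exists_chain_of_not_height_le_one (q : Ideal B) [q.IsPrime] (h : ¬ q.height ≤ 1) :
    ∃ q0 q1 : Ideal B, q0.IsPrime ∧ q1.IsPrime ∧ q0 < q1 ∧ q1 < q := by
  have h1 : ¬ q.height ≤ ((1 : ℕ) : ℕ∞) := by simpa using h
  rw [Ideal.height_le_iff] at h1
  push Not at h1
  obtain ⟨q1, hq1, hlt1, hht1⟩ := h1
  have h2 : ¬ q1.height ≤ ((0 : ℕ) : ℕ∞) := by
    intro h0
    have : q1.height = 0 := by simpa using h0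
    rw [this] at hht1
    exact absurd hht1 (by norm_num)
  rw [Ideal.height_le_iff] at h2
  push Not at h2
  obtain ⟨q0, hq0, hlt0, -⟩ := h2
  exact ⟨q0, q1, hq0, hq1, hlt0, hlt1⟩

theorem two_le_height_map_of_not_height_le_one (q : Ideal B) [hq : q.IsPrime]
    (h : ¬ q.height ≤ 1) :
    (q.map (Ideal.Quotient.mk (nilradical B))).IsPrime ∧
      2 ≤ (q.map (Ideal.Quotient.mk (nilradical B))).height := by
  obtain ⟨q0, q1, hq0, hq1, hlt0, hlt1⟩ := exists_chain_of_not_height_le_one q h
  have hsurj : Function.Surjective (Ideal.Quotient.mk (nilradical B)) :=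
    Ideal.Quotient.mk_surjective
  have hker : ∀ (P : Ideal B), P.IsPrime → RingHom.ker (Ideal.Quotient.mk (nilradical B)) ≤ P := by
    intro P hP
    rw [Ideal.mk_ker]
    exact nilradical_le_prime P
  have hprime : ∀ (P : Ideal B), P.IsPrime → (P.map (Ideal.Quotient.mk (nilradical B))).IsPrime :=
    fun P hP => Ideal.map_isPrime_of_surjective hsurj (hker P hP)
  have hcomap : ∀ (P : Ideal B), P.IsPrime →
      (P.map (Ideal.Quotient.mk (nilradical B))).comap (Ideal.Quotient.mk (nilradical B)) = P := by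
    intro P hP
    rw [Ideal.comap_map_of_surjective _ hsurj, ← RingHom.ker_eq_comap_bot]
    exact sup_eq_left.mpr (hker P hP)
  have hlt : ∀ (P Q : Ideal B), P.IsPrime → Q.IsPrime → P < Q →
      P.map (Ideal.Quotient.mk (nilradical B)) < Q.map (Ideal.Quotient.mk (nilradical B)) := by
    intro P Q hP hQ hPQ
    refine lt_of_le_of_ne (Ideal.map_mono hPQ.le) ?_
    intro heq
    have := congrArg (Ideal.comap (Ideal.Quotient.mk (nilradical B))) heq
    rw [hcomap P hP, hcomap Q hQ] at this
    exact hPQ.ne this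
  have p0 := hprime q0 hq0
  have p1 := hprime q1 hq1
  have p2 := hprime q hq
  refine ⟨p2, ?_⟩
  have e1 := Ideal.height_add_one_le_of_lt_of_isPrime (hlt q0 q1 hq0 hq1 hlt0)
  have e2 := Ideal.height_add_one_le_of_lt_of_isPrime (hlt q1 q hq1 hq hlt1)
  calc (2 : ℕ∞) = 0 + 1 + 1 := by norm_num
    _ ≤ (q0.map (Ideal.Quotient.mk (nilradical B))).height + 1 + 1 := by gcongr; exact bot_le
    _ ≤ (q1.map (Ideal.Quotient.mk (nilradical B))).height + 1 := by gcongr
    _ ≤ _ := e2

variable [IsNoetherianRing B]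

theorem S2_consequence (hS2 : HasSk 2 (B ⧸ nilradical B) (B ⧸ nilradical B)) (q : Ideal B)
    [hq' : q.IsPrime] (hq : ¬ q.height ≤ 1) (x : B) (hx : x ∈ q)
    (hxreg : ∀ w, x * w ∈ nilradical B → w ∈ nilradical B) :
    ∃ y ∈ q, ∀ c d : B, y * c - x * d ∈ nilradical B → ∃ c', c - x * c' ∈ nilradical B := by
  obtain ⟨hprime, h2⟩ := two_le_height_map_of_not_height_le_one q hq
  set mk := Ideal.Quotient.mk (nilradical B) with hmk
  have hsurj : Function.Surjective mk := Ideal.Quotient.mk_surjective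
  have hreg : IsSMulRegular (B ⧸ nilradical B) (mk x) := by
    intro a b hab
    obtain ⟨a', rfl⟩ := hsurj a
    obtain ⟨b', rfl⟩ := hsurj b
    have h1 : mk (x * (a' - b')) = 0 := by
      simp only [smul_eq_mul] at hab
      rw [map_mul, map_sub, mul_sub, hab, sub_self]
    have h2 := hxreg _ (Ideal.Quotient.eq_zero_iff_mem.mp h1)
    have h3 : mk (a' - b') = 0 := Ideal.Quotient.eq_zero_iff_mem.mpr h2
    rw [map_sub, sub_eq_zero] at h3
    exact h3
  obtain ⟨ybar, hybar, hyreg⟩ := exists_regular_quot_of_S2 hS2 (q.map mk) h2 (mk x)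
    (Ideal.mem_map_of_mem _ hx) hreg
  obtain ⟨y, rfl⟩ := hsurj ybar
  have hyq : y ∈ q := by
    have h1 : y ∈ (q.map mk).comap mk := hybar
    rw [Ideal.comap_map_of_surjective _ hsurj, ← RingHom.ker_eq_comap_bot, Ideal.mk_ker,
      sup_eq_left.mpr (nilradical_le_prime q)] at h1
    exact h1
  refine ⟨y, hyq, ?_⟩
  intro c d hcd
  have h1 : mk y * mk c = mk x * mk d := by
    rw [← map_mul, ← map_mul, ← sub_eq_zero, ← map_sub]
    exact Ideal.Quotient.eq_zero_iff_mem.mpr hcd
  have h2 : (mk y) • (Submodule.Quotient.mk (mk c) : QuotSMulTop (mk x) (B ⧸ nilradical B)) = 0 := by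
    rw [← Submodule.Quotient.mk_smul, smul_eq_mul, h1, Submodule.Quotient.mk_eq_zero]
    exact Submodule.smul_mem_pointwise_smul _ _ _ Submodule.mem_top
  have h3 : (Submodule.Quotient.mk (mk c) : QuotSMulTop (mk x) (B ⧸ nilradical B)) = 0 :=
    hyreg (by show mk y • _ = mk y • 0; rw [smul_zero]; exact h2)
  rw [Submodule.Quotient.mk_eq_zero, Submodule.mem_smul_pointwise_iff_exists] at h3
  obtain ⟨cbar, -, hc⟩ := h3
  obtain ⟨c', rfl⟩ := hsurj cbar
  refine ⟨c', ?_⟩
  apply Ideal.Quotient.eq_zero_iff_mem.mp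
  rw [map_sub, map_mul, ← hc, smul_eq_mul, sub_self]

end NilQuot

end Groth.Agent.Lib.Helper77.SV
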