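import Groth.Agent.Lib.Helper77.FlatDepth4
import Groth.Agent.Lib.Helper77.SV1
import Groth.Agent.Lib.Helper77.SV3
import Groth.Agent.Lib.Helper56.DepthAss
import Groth.Agent.Lib.Helper56.Serre1
import Groth.Prelude.Def_EGA4b

universe u
set_option autoImplicit false
open IsLocalRing LocCoh TensorProduct
open scoped Pointwise

namespace Groth.Agent.Lib.Helper77.SV
open Groth.Agent.Lib.Helper77.FlatDepth

section Gen
variable {B : Type u} [CommRing B]

theorem mem_nilradical_iff_forall_minimalPrimes (w : B) :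
    w ∈ nilradical B ↔ ∀ P ∈ minimalPrimes B, w ∈ P := by
  have : nilradical B = sInf (minimalPrimes B) := by
    rw [minimalPrimes, Ideal.sInf_minimalPrimes]; rfl
  rw [this, Ideal.mem_sInf]

theorem nil_regular (x : B) (hx : ∀ P ∈ minimalPrimes B, x ∉ P) (w : B)
    (hw : x * w ∈ nilradical B) : w ∈ nilradical B := by
  rw [mem_nilradical_iff_forall_minimalPrimes] at hw ⊢
  intro P hP
  have : P.IsPrime := hP.1.1
  exact (this.mem_or_mem (hw P hP)).resolve_left (hx P hP)

variable [IsNoetherianRing B]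

theorem exists_avoid (q : Ideal B) [hq : q.IsPrime] (hqmin : q ∉ minimalPrimes B) :
    ∃ x ∈ q, ∀ P ∈ minimalPrimes B, x ∉ P := by
  classical
  have hT := minimalPrimes.finite_of_isNoetherianRing B
  by_contra hcon
  push Not at hcon
  have hsub : ((q : Ideal B) : Set B) ⊆
      ⋃ i ∈ ((hT.toFinset : Finset (Ideal B)) : Set (Ideal B)), (id i : Ideal B) := by
    intro x hx
    obtain ⟨P, hP, hxP⟩ := hcon x hx
    simp only [Set.mem_iUnion]
    exact ⟨P, by simpa using hP, hxP⟩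
  obtain ⟨P0, hP0, -⟩ := Ideal.exists_minimalPrimes_le (show (⊥ : Ideal B) ≤ q from bot_le)
  rw [Ideal.subset_union_prime P0 P0] at hsub
  · obtain ⟨P, hP, hle⟩ := hsub
    have hP' : P ∈ minimalPrimes B := by simpa using hP
    have h1 : P ≤ q := hP'.2 ⟨hq, bot_le⟩ hle
    have : q = P := le_antisymm hle h1
    exact hqmin (this ▸ hP')
  · intro P hP _ _
    have hP' : P ∈ minimalPrimes B := by simpa using hP
    exact hP'.1.1

theorem exists_prime_colon (𝔟 : Ideal B) (z : B) (hz : z ∉ 𝔟) :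
    ∃ (q : Ideal B) (b : B), q.IsPrime ∧ (∀ s, s ∈ q ↔ s * b ∈ 𝔟) ∧ (∀ s, s * z ∈ 𝔟 → s ∈ q) := by
  have hz' : (Ideal.Quotient.mk 𝔟 z) ≠ 0 := fun h => hz (Ideal.Quotient.eq_zero_iff_mem.mp h)
  obtain ⟨q, hq, hle⟩ := exists_le_isAssociatedPrime_of_isNoetherianRing B
    (M := B ⧸ 𝔟) (Ideal.Quotient.mk 𝔟 z) hz'
  rw [isAssociatedPrime_iff] at hq
  obtain ⟨hqprime, ybar, hqy⟩ := hq
  obtain ⟨b, rfl⟩ := Ideal.Quotient.mk_surjective ybar
  refine ⟨q, b, hqprime, ?_, ?_⟩
  · intro s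
    rw [hqy, Submodule.mem_colon_singleton, Submodule.mem_bot]
    have : s • (Ideal.Quotient.mk 𝔟 b) = Ideal.Quotient.mk 𝔟 (s * b) := by
      rw [Algebra.smul_def, map_mul]; rfl
    rw [this, Ideal.Quotient.eq_zero_iff_mem]
  · intro s hs
    apply hle
    rw [Submodule.mem_colon_singleton, Submodule.mem_bot]
    have : s • (Ideal.Quotient.mk 𝔟 z) = Ideal.Quotient.mk 𝔟 (s * z) := by
      rw [Algebra.smul_def, map_mul]; rfl
    rw [this, Ideal.Quotient.eq_zero_iff_mem]
    exact hs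

variable (B) in
/-- all "associated primes" of `B/𝔟` are minimal primes of `B` -/
def NE (𝔟 : Ideal B) : Prop :=
  ∀ z, z ∉ 𝔟 → ∃ P ∈ minimalPrimes B, ∀ s, s * z ∈ 𝔟 → s ∈ P

theorem NE.regular {𝔟 : Ideal B} (h : NE B 𝔟) (x : B) (hx : ∀ P ∈ minimalPrimes B, x ∉ P)
    (w : B) (hw : x * w ∈ 𝔟) : w ∈ 𝔟 := by
  by_contra hn
  obtain ⟨P, hP, hPs⟩ := h w hn
  exact hx P hP (hPs x hw)

theorem NE_bot (hS1 : HasSk 1 B B) : NE B ⊥ := by
  intro z hz
  obtain ⟨q, b, hqprime, hqb, hqz⟩ := exists_prime_colon ⊥ z hz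
  refine ⟨q, mem_minimalPrimes_of_mem_ass_of_S1 hS1 q ?_, hqz⟩
  show IsAssociatedPrime q B
  rw [isAssociatedPrime_iff]
  refine ⟨hqprime, b, ?_⟩
  ext s
  rw [hqb, Submodule.mem_colon_singleton, smul_eq_mul]

end Gen

section Main
variable {A : Type u} [CommRing A] [IsArtinianRing A] [IsLocalRing A]
    (B : Type u) [CommRing B] [Algebra A B]

theorem comap_eq_maximalIdeal (q : Ideal B) [q.IsPrime] :
    q.comap (algebraMap A B) = maximalIdeal A :=
  IsLocalRing.eq_maximalIdeal (IsArtinianRing.isMaximal_of_isPrime _)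

theorem map_maximalIdeal_le_nilradical :
    (maximalIdeal A).map (algebraMap A B) ≤ nilradical B := by
  rw [nilradical_eq_sInf]
  refine le_sInf fun P hP => ?_
  have : P.IsPrime := hP
  rw [Ideal.map_le_iff_le_comap, comap_eq_maximalIdeal B P]

theorem eps_mul_mem (J0 : Ideal A) (ε : A) (hm : ∀ a ∈ maximalIdeal A, a * ε ∈ J0) (w : B)
    (hw : w ∈ (maximalIdeal A).map (algebraMap A B)) :
    algebraMap A B ε * w ∈ J0.map (algebraMap A B) := by
  have h8 : Ideal.span {ε} * maximalIdeal A ≤ J0 := by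
    rw [Ideal.span_singleton_mul_le_iff]
    intro z hz
    rw [mul_comm]
    exact hm z hz
  have h9 := Ideal.mul_mem_mul (Ideal.mem_map_of_mem (algebraMap A B)
    (Ideal.mem_span_singleton_self ε)) hw
  rw [← Ideal.map_mul] at h9
  exact Ideal.map_mono h8 h9

theorem mem_decomp (J0 : Ideal A) (ε : A) (w : B) :
    w ∈ (J0 ⊔ Ideal.span {ε}).map (algebraMap A B) ↔
      ∃ j ∈ J0.map (algebraMap A B), ∃ c, w = j + algebraMap A B ε * c := by
  rw [Ideal.map_sup, Ideal.map_span, Set.image_singleton, Submodule.mem_sup]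
  constructor
  · rintro ⟨j, hj, v, hv, rfl⟩
    rw [Ideal.mem_span_singleton'] at hv
    obtain ⟨c, rfl⟩ := hv
    exact ⟨j, hj, c, by ring⟩
  · rintro ⟨j, hj, c, rfl⟩
    exact ⟨j, hj, _, Ideal.mem_span_singleton'.mpr ⟨c, mul_comm _ _⟩, rfl⟩

/-- the codimension `≤ 1` hypothesis -/
structure Hyp : Prop where
  flat : ∀ (q : Ideal B) [q.IsPrime], q.height ≤ 1 → Module.Flat A (Localization.AtPrime q)
  red : ∀ (q : Ideal B) [q.IsPrime], q.height ≤ 1 → IsReduced (Localization.AtPrime q ⧸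
      (maximalIdeal A).map (algebraMap A (Localization.AtPrime q)))

variable {B}

theorem height_le_one_of_mem_minimalPrimes {P : Ideal B} (hP : P ∈ minimalPrimes B) :
    P.height ≤ 1 := by
  have : P.IsPrime := hP.1.1
  rw [Ideal.height_eq_zero_iff.mpr hP]
  exact zero_le_one

variable [IsNoetherianRing B]

theorem Hyp.D1 (H : Hyp (A := A) B) (q : Ideal B) [q.IsPrime] (hq : q.height ≤ 1) (b : B)
    (hb : b ∈ nilradical B) : ∃ s, s ∉ q ∧ s * b ∈ (maximalIdeal A).map (algebraMap A B) :=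
  exists_smul_mem_of_mem_nilradical B q (H.red q hq) b hb

theorem Hyp.D2 (H : Hyp (A := A) B) (q : Ideal B) [q.IsPrime] (hq : q.height ≤ 1)
    (J0 : Ideal A) (ε : A) (hε : ε ∉ J0) (hm : ∀ a ∈ maximalIdeal A, a * ε ∈ J0)
    (b : B) (hb : algebraMap A B ε * b ∈ J0.map (algebraMap A B)) :
    ∃ s, s ∉ q ∧ s * b ∈ (maximalIdeal A).map (algebraMap A B) :=
  have := H.flat q hq
  exists_smul_mem_of_flat B q J0 ε hε hm b hb

theorem colon_eq_nilradical (H : Hyp (A := A) B) (J0 : Ideal A) (ε : A) (hε : ε ∉ J0)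
    (hm : ∀ a ∈ maximalIdeal A, a * ε ∈ J0) (ih0 : NE B (J0.map (algebraMap A B))) (b : B) :
    algebraMap A B ε * b ∈ J0.map (algebraMap A B) ↔ b ∈ nilradical B := by
  constructor
  · intro hb
    rw [mem_nilradical_iff_forall_minimalPrimes]
    intro P hP
    have hPprime : P.IsPrime := hP.1.1
    obtain ⟨s, hs, hsb⟩ := H.D2 P (height_le_one_of_mem_minimalPrimes hP) J0 ε hε hm b hb
    have h1 : s * b ∈ P := nilradical_le_prime P (map_maximalIdeal_le_nilradical B hsb)
    exact (hPprime.mem_or_mem h1).resolve_left hs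
  · intro hb
    by_contra hn
    obtain ⟨P, hP, hPs⟩ := ih0 _ hn
    have hPprime : P.IsPrime := hP.1.1
    obtain ⟨s, hs, hsb⟩ := H.D1 P (height_le_one_of_mem_minimalPrimes hP) b hb
    apply hs
    apply hPs
    have : s * (algebraMap A B ε * b) = algebraMap A B ε * (s * b) := by ring
    rw [this]
    exact eps_mul_mem B J0 ε hm _ hsb

theorem NE_step (hS2 : HasSk 2 (B ⧸ nilradical B) (B ⧸ nilradical B)) (H : Hyp (A := A) B)
    (J0 : Ideal A) (ε : A) (hε : ε ∉ J0)
    (hm : ∀ a ∈ maximalIdeal A, a * ε ∈ J0) (ih0 : NE B (J0.map (algebraMap A B))) :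
    NE B ((J0 ⊔ Ideal.span {ε}).map (algebraMap A B)) := by
  have ha := colon_eq_nilradical H J0 ε hε hm ih0
  intro z hz
  obtain ⟨q, b, hqprime, hqb, hqz⟩ := exists_prime_colon _ z hz
  by_cases hqmin : q ∈ minimalPrimes B
  · exact ⟨q, hqmin, hqz⟩
  exfalso
  obtain ⟨x, hxq, hxmin⟩ := exists_avoid q hqmin
  have hb : b ∉ (J0 ⊔ Ideal.span {ε}).map (algebraMap A B) := by
    intro hb
    apply hqprime.ne_top
    rw [Ideal.eq_top_iff_one, hqb, one_mul]
    exact hb
  have hxN := nil_regular x hxmin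
  have hx0 := ih0.regular x hxmin
  have hxb := (hqb x).mp hxq
  rw [mem_decomp] at hxb
  obtain ⟨j, hj, c, hxb⟩ := hxb
  by_cases hht : q.height ≤ 1
  · have := H.flat q hht
    obtain ⟨s, hs, hsb⟩ := exists_smul_mem_of_height_one B q (comap_eq_maximalIdeal B q)
      (H.D1 q hht) (map_maximalIdeal_le_nilradical B) x hxN J0 ε hε hm hx0 b c
      (by rw [hxb, add_sub_cancel_right]; exact hj)
    exact hs ((hqb s).mpr hsb)
  · obtain ⟨y, hyq, hy⟩ := S2_consequence hS2 q hht x hxq hxN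
    have hyb := (hqb y).mp hyq
    rw [mem_decomp] at hyb
    obtain ⟨j', hj', d, hyb⟩ := hyb
    have h1 : algebraMap A B ε * (y * c - x * d) ∈ J0.map (algebraMap A B) := by
      have : algebraMap A B ε * (y * c - x * d) = x * j' - y * j := by
        linear_combination x * hyb - y * hxb
      rw [this]
      exact Ideal.sub_mem _ (Ideal.mul_mem_left _ _ hj') (Ideal.mul_mem_left _ _ hj)
    obtain ⟨c', hc'⟩ := hy c d ((ha _).mp h1)
    have h2 := (ha _).mpr hc'
    have h3 : x * (b - algebraMap A B ε * c') ∈ J0.map (algebraMap A B) := by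
      have : x * (b - algebraMap A B ε * c') = j + algebraMap A B ε * (c - x * c') := by
        linear_combination hxb
      rw [this]
      exact Ideal.add_mem _ hj h2
    apply hb
    rw [mem_decomp]
    exact ⟨_, hx0 _ h3, c', by ring⟩

theorem NE_map (hS1 : HasSk 1 B B) (hS2 : HasSk 2 (B ⧸ nilradical B) (B ⧸ nilradical B))
    (H : Hyp (A := A) B) (J : Ideal A) : NE B (J.map (algebraMap A B)) := by
  induction J using WellFoundedLT.induction with
  | ind J ih =>
  by_cases hJ : J = ⊥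
  · subst hJ
    rw [Ideal.map_bot]
    exact NE_bot hS1
  obtain ⟨J0, ε, hlt, hsup, hε, hm⟩ := exists_decomp J hJ
  rw [hsup]
  exact NE_step hS2 H J0 ε hε hm (ih J0 hlt)

theorem nilradical_le_map (hS1 : HasSk 1 B B)
    (hS2 : HasSk 2 (B ⧸ nilradical B) (B ⧸ nilradical B)) (H : Hyp (A := A) B) :
    nilradical B ≤ (maximalIdeal A).map (algebraMap A B) := by
  intro b hb
  by_contra hn
  obtain ⟨P, hP, hPs⟩ := NE_map hS1 hS2 H (maximalIdeal A) b hn
  have hPprime : P.IsPrime := hP.1.1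
  obtain ⟨s, hs, hsb⟩ := H.D1 P (height_le_one_of_mem_minimalPrimes hP) b hb
  exact hs (hPs s hsb)

theorem isReduced_fibre (hS1 : HasSk 1 B B)
    (hS2 : HasSk 2 (B ⧸ nilradical B) (B ⧸ nilradical B)) (H : Hyp (A := A) B) :
    IsReduced (B ⧸ (maximalIdeal A).map (algebraMap A B)) := by
  have h : (maximalIdeal A).map (algebraMap A B) = nilradical B :=
    le_antisymm (map_maximalIdeal_le_nilradical B) (nilradical_le_map hS1 hS2 H)
  refine (Ideal.isRadical_iff_quotient_reduced _).mp ?_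
  rw [h]
  exact Ideal.radical_isRadical _

theorem flat_of_hyp (hS1 : HasSk 1 B B)
    (hS2 : HasSk 2 (B ⧸ nilradical B) (B ⧸ nilradical B)) (H : Hyp (A := A) B) :
    Module.Flat A B := by
  refine flat_of_colon B fun J0 ε hε hm b hb => ?_
  rw [← mem_map_iff_mem_smul_top] at hb ⊢
  rw [Algebra.smul_def] at hb
  have := (colon_eq_nilradical H J0 ε hε hm (NE_map hS1 hS2 H J0) b).mp hb
  exact nilradical_le_map hS1 hS2 H this

theorem hyp_of_codim (hcodim : ∀ (q : Ideal B) [q.IsPrime], q.height ≤ 1 →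
      Module.Flat A (Localization.AtPrime q) ∧ IsReduced (EGA4.FibLocRing A B q)) :
    Hyp (A := A) B := by
  refine ⟨fun q _ hq => (hcodim q hq).1, fun q _ hq => ?_⟩
  have h := (hcodim q hq).2
  have key : ∀ I I' : Ideal (Localization.AtPrime q), I = I' →
      IsReduced (Localization.AtPrime q ⧸ I) → IsReduced (Localization.AtPrime q ⧸ I') := by
    intro I I' hII' h
    subst hII'
    exact h
  exact key ((q.comap (algebraMap A B)).map (algebraMap A (Localization.AtPrime q)))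
    ((maximalIdeal A).map (algebraMap A (Localization.AtPrime q)))
    (by rw [comap_eq_maximalIdeal B q]) h

end Main

end Groth.Agent.Lib.Helper77.SV
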