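import Mathlib
import Groth.Agent.Lib.Helper54.CplLocal

/-!
# Complete Nakayama for ring maps

If `R` is `I`-adically precomplete, `S` is an `R`-algebra which is Hausdorff for an ideal `K ⊇ I S`,
and `S / I S` is generated by finitely many elements over `R`, then `S` is a finite `R`-module.
-/

set_option autoImplicit false
universe u

namespace Groth.Agent.Lib.Helper77.SmLift1

theorem finite_of_complete {R S : Type u} [CommRing R] [CommRing S] [Algebra R S]
    (I : Ideal R) [IsPrecomplete I R] (K : Ideal S) [IsHausdorff K S]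
    (hIK : I.map (algebraMap R S) ≤ K)
    (k : ℕ) (s : Fin k → S)
    (hs : ∀ y : S, ∃ r : Fin k → R, y - ∑ i, r i • s i ∈ I.map (algebraMap R S)) :
    Module.Finite R S := by
  haveI : IsHausdorff I S := by
    refine ⟨fun x hx => ?_⟩
    refine IsHausdorff.haus ‹IsHausdorff K S› x (fun n => ?_)
    have h1 := hx n
    rw [SModEq.zero] at h1 ⊢
    have hle : (I ^ n • ⊤ : Submodule R S) ≤ ((K ^ n • ⊤ : Ideal S).restrictScalars R) := by
      rw [Submodule.smul_le]
      intro r hr t _
      rw [Submodule.restrictScalars_mem, smul_eq_mul, Ideal.mul_top, Algebra.smul_def]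
      refine Ideal.mul_mem_right _ _ ?_
      have h2 : algebraMap R S r ∈ (I.map (algebraMap R S)) ^ n := by
        rw [← Ideal.map_pow]
        exact Ideal.mem_map_of_mem _ hr
      exact Ideal.pow_right_mono hIK n h2
    exact hle h1
  haveI : Module.Finite R (S ⧸ (I • ⊤ : Submodule R S)) := by
    let g : (Fin k → R) →ₗ[R] (S ⧸ (I • ⊤ : Submodule R S)) :=
      (I • ⊤ : Submodule R S).mkQ ∘ₗ (Fintype.linearCombination R s)
    refine Module.Finite.of_surjective g ?_
    intro y
    obtain ⟨y, rfl⟩ := Submodule.mkQ_surjective _ y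
    obtain ⟨r, hr⟩ := hs y
    refine ⟨r, ?_⟩
    simp only [g, LinearMap.comp_apply, Fintype.linearCombination_apply]
    rw [eq_comm, Submodule.mkQ_apply, Submodule.mkQ_apply, Submodule.Quotient.eq,
      Ideal.smul_top_eq_map]
    exact hr
  exact Groth.Agent.Lib.Helper54.CplLocal.finite_of_finite_quotient I S

end Groth.Agent.Lib.Helper77.SmLift1
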