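import Mathlib
import Groth.Agent.Lib.Helper77.SmLift1

/-!
# Lifting a finite map of smooth algebras modulo `I` to the `I`-adic completions
-/

set_option autoImplicit false
universe u

namespace Groth.Agent.Lib.Helper77.SmLift2

open AdicCompletion

variable {V : Type u} [CommRing V] (I : Ideal V)
  {A C : Type u} [CommRing A] [Algebra V A]
  [CommRing C] [Algebra V C]

/-- A `V`-algebra map `g : A → Ĉ` kills `(IA)^n` modulo `(IC)^n`. -/
theorem eval_g_eq_zero (g : A →ₐ[V] AdicCompletion (I.map (algebraMap V C)) C) (n : ℕ) (a : A)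
    (ha : a ∈ (I.map (algebraMap V A)) ^ n) :
    evalₐ (I.map (algebraMap V C)) n (g a) = 0 := by
  have hle : (I.map (algebraMap V A)) ^ n ≤
      RingHom.ker (((evalₐ (I.map (algebraMap V C)) n).restrictScalars V).comp g).toRingHom := by
    rw [← Ideal.map_pow, Ideal.map_le_iff_le_comap]
    intro v hv
    rw [Ideal.mem_comap, RingHom.mem_ker]
    change ((evalₐ (I.map (algebraMap V C)) n).restrictScalars V).comp g (algebraMap V A v) = 0
    rw [AlgHom.commutes]
    rw [IsScalarTower.algebraMap_apply V C (C ⧸ (I.map (algebraMap V C)) ^ n),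
      Ideal.Quotient.algebraMap_eq, Ideal.Quotient.eq_zero_iff_mem, ← Ideal.map_pow]
    exact Ideal.mem_map_of_mem _ hv
  exact hle ha

/-- The level-`n` map `Â → C/(IC)^n`. -/
noncomputable def lvl (g : A →ₐ[V] AdicCompletion (I.map (algebraMap V C)) C) (n : ℕ) :
    AdicCompletion (I.map (algebraMap V A)) A →ₐ[V] C ⧸ (I.map (algebraMap V C)) ^ n :=
  (Ideal.Quotient.liftₐ ((I.map (algebraMap V A)) ^ n)
    (((evalₐ (I.map (algebraMap V C)) n).restrictScalars V).comp g)
    (fun a ha => eval_g_eq_zero I g n a ha)).comp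
    ((evalₐ (I.map (algebraMap V A)) n).restrictScalars V)

theorem lvl_apply (g : A →ₐ[V] AdicCompletion (I.map (algebraMap V C)) C) (n : ℕ)
    (x : AdicCompletion (I.map (algebraMap V A)) A) (a : A)
    (hxa : evalₐ (I.map (algebraMap V A)) n x = Ideal.Quotient.mk _ a) :
    lvl I g n x = evalₐ (I.map (algebraMap V C)) n (g a) := by
  simp only [lvl, AlgHom.comp_apply, AlgHom.restrictScalars_apply]
  rw [hxa]
  exact Ideal.Quotient.liftₐ_apply _ _ _ _

theorem evalₐ_factor (J : Ideal A) {m n : ℕ} (hle : m ≤ n) (x : AdicCompletion J A) :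
    Ideal.Quotient.factor (Ideal.pow_le_pow_right hle) (evalₐ J n x) = evalₐ J m x := by
  obtain ⟨y, rfl⟩ := AdicCompletion.mk_surjective J A x
  simp only [evalₐ_mk, Ideal.Quotient.factor_mk]
  exact AdicCompletion.Ideal.mk_eq_mk J hle y

theorem lvl_compat (g : A →ₐ[V] AdicCompletion (I.map (algebraMap V C)) C) {m n : ℕ}
    (hle : m ≤ n) :
    (Ideal.Quotient.factorₐ V (Ideal.pow_le_pow_right hle)).comp (lvl I g n) = lvl I g m := by
  ext x
  obtain ⟨a, ha⟩ := Ideal.Quotient.mk_surjective (evalₐ (I.map (algebraMap V A)) n x)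
  have ha' : evalₐ (I.map (algebraMap V A)) m x = Ideal.Quotient.mk _ a := by
    rw [← evalₐ_factor _ hle, ← ha]
    simp
  rw [AlgHom.comp_apply, lvl_apply I g n x a ha.symm, lvl_apply I g m x a ha']
  exact evalₐ_factor _ hle _

end Groth.Agent.Lib.Helper77.SmLift2
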