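import Mathlib
import Groth.Agent.Lib.Helper77.SmLift2

/-!
# Lifting a finite map of smooth algebras modulo `I` to the `I`-adic completions: main theorem
-/

set_option autoImplicit false
universe u

namespace Groth.Agent.Lib.Helper77.SmLift3

open AdicCompletion Groth.Agent.Lib.Helper77.SmLift2

variable {V : Type u} [CommRing V] (I : Ideal V)
  {A C : Type u} [CommRing A] [Algebra V A]
  [CommRing C] [Algebra V C]

theorem evalOneₐ_eq (J : Ideal A) (x : AdicCompletion J A) (a : A)
    (hxa : evalₐ J 1 x = Ideal.Quotient.mk _ a) :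
    evalOneₐ J x = Ideal.Quotient.mk J a := by
  rw [← factorₐ_evalₐ_one, hxa]
  rfl

/-- The lifted map. -/
noncomputable def lift (g : A →ₐ[V] AdicCompletion (I.map (algebraMap V C)) C) :
    AdicCompletion (I.map (algebraMap V A)) A →ₐ[V] AdicCompletion (I.map (algebraMap V C)) C :=
  liftAlgHom (I.map (algebraMap V C)) (lvl I g) (fun hle => lvl_compat I g hle)

theorem evalOneₐ_lift (g : A →ₐ[V] AdicCompletion (I.map (algebraMap V C)) C)
    (x : AdicCompletion (I.map (algebraMap V A)) A) (a : A)
    (hxa : evalₐ (I.map (algebraMap V A)) 1 x = Ideal.Quotient.mk _ a) :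
    evalOneₐ (I.map (algebraMap V C)) (lift I g x) = evalOneₐ (I.map (algebraMap V C)) (g a) := by
  rw [lift, evalOneₐ_liftAlgHom, lvl_apply I g 1 x a hxa]
  exact factorₐ_evalₐ_one _ _

theorem map_map_eq (φ : AdicCompletion (I.map (algebraMap V A)) A →ₐ[V]
      AdicCompletion (I.map (algebraMap V C)) C) :
    (((I.map (algebraMap V A)).map
      (algebraMap A (AdicCompletion (I.map (algebraMap V A)) A))).map φ.toRingHom) =
    (I.map (algebraMap V C)).map (algebraMap C (AdicCompletion (I.map (algebraMap V C)) C)) := by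
  rw [Ideal.map_map, Ideal.map_map, Ideal.map_map]
  congr 1
  refine RingHom.ext (fun v => ?_)
  simp only [RingHom.comp_apply]
  rw [← IsScalarTower.algebraMap_apply V A, ← IsScalarTower.algebraMap_apply V C]
  exact φ.commutes v

end Groth.Agent.Lib.Helper77.SmLift3
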