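import Mathlib
import Groth.Agent.Lib.Helper77.SmLift3

/-!
# Lifting a finite map of smooth algebras modulo `I` to the `I`-adic completions: main theorem
-/

set_option autoImplicit false
universe u

namespace Groth.Agent.Lib.Helper77.SmLift4

open AdicCompletion Groth.Agent.Lib.Helper77.SmLift2 Groth.Agent.Lib.Helper77.SmLift3

theorem exists_gens {R S : Type u} [CommRing R] [CommRing S] (f : R →+* S) (hf : f.Finite) :
    ∃ (k : ℕ) (s : Fin k → S), ∀ y : S, ∃ c : Fin k → R, y = ∑ i, f (c i) * s i := by
  letI := f.toAlgebra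
  have h1 : Module.Finite R S := hf
  obtain ⟨k, s, hs⟩ := Submodule.fg_iff_exists_fin_generating_family.mp h1.1
  refine ⟨k, s, fun y => ?_⟩
  have hy : y ∈ Submodule.span R (Set.range s) := hs ▸ Submodule.mem_top
  obtain ⟨c, hc⟩ := (Submodule.mem_span_range_iff_exists_fun R).mp hy
  refine ⟨c, ?_⟩
  rw [← hc]
  refine Finset.sum_congr rfl (fun i _ => ?_)
  rw [Algebra.smul_def]
  rfl

theorem main (V : Type u) [CommRing V] [IsNoetherianRing V] (I : Ideal V)
    (A C : Type u) [CommRing A] [Algebra V A] [Algebra.FormallySmooth V A]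
    [CommRing C] [Algebra V C]
    (φ₀ : (A ⧸ I.map (algebraMap V A)) →ₐ[V] (C ⧸ I.map (algebraMap V C)))
    (hφ₀ : φ₀.toRingHom.Finite) :
    ∃ φ : AdicCompletion (I.map (algebraMap V A)) A →ₐ[V]
        AdicCompletion (I.map (algebraMap V C)) C,
      φ.toRingHom.Finite ∧
      (AdicCompletion.evalOneₐ (I.map (algebraMap V C))).toRingHom.comp φ.toRingHom =
        φ₀.toRingHom.comp (AdicCompletion.evalOneₐ (I.map (algebraMap V A))).toRingHom := by
  have hIfg : I.FG := IsNoetherian.noetherian I
  have hJA : (I.map (algebraMap V A)).FG := hIfg.map _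
  have hJC : (I.map (algebraMap V C)).FG := hIfg.map _
  obtain ⟨g, hg⟩ := Algebra.FormallySmooth.exists_adicCompletionEvalOneₐ_comp_eq
    (φ₀.comp (Ideal.Quotient.mkₐ V (I.map (algebraMap V A))))
  have hg' : ∀ a : A, evalOneₐ (I.map (algebraMap V C)) (g a) =
      φ₀ (Ideal.Quotient.mk _ a) := fun a => congr($hg a)
  have key : ∀ x : AdicCompletion (I.map (algebraMap V A)) A,
      evalOneₐ (I.map (algebraMap V C)) (lift I g x) =
        φ₀ (evalOneₐ (I.map (algebraMap V A)) x) := by
    intro x
    obtain ⟨a, ha⟩ := Ideal.Quotient.mk_surjective (evalₐ (I.map (algebraMap V A)) 1 x)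
    rw [evalOneₐ_lift I g x a ha.symm, hg', evalOneₐ_eq _ x a ha.symm]
  refine ⟨lift I g, ?_, RingHom.ext key⟩
  -- finiteness
  obtain ⟨k, s, hs⟩ := exists_gens φ₀.toRingHom hφ₀
  choose t ht using fun i => evalOneₐ_surjective (I.map (algebraMap V C)) (s i)
  letI : Algebra (AdicCompletion (I.map (algebraMap V A)) A)
      (AdicCompletion (I.map (algebraMap V C)) C) := (lift I g).toRingHom.toAlgebra
  change Module.Finite (AdicCompletion (I.map (algebraMap V A)) A)
      (AdicCompletion (I.map (algebraMap V C)) C)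
  haveI := isAdicComplete_self (I.map (algebraMap V A)) hJA
  haveI := isAdicComplete_self (I.map (algebraMap V C)) hJC
  have hmm : ((I.map (algebraMap V A)).map
      (algebraMap A (AdicCompletion (I.map (algebraMap V A)) A))).map
        (algebraMap (AdicCompletion (I.map (algebraMap V A)) A)
          (AdicCompletion (I.map (algebraMap V C)) C)) =
      (I.map (algebraMap V C)).map (algebraMap C (AdicCompletion (I.map (algebraMap V C)) C)) :=
    map_map_eq I (lift I g)
  refine SmLift1.finite_of_complete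
    ((I.map (algebraMap V A)).map (algebraMap A (AdicCompletion (I.map (algebraMap V A)) A)))
    ((I.map (algebraMap V C)).map (algebraMap C (AdicCompletion (I.map (algebraMap V C)) C)))
    hmm.le k t (fun y => ?_)
  obtain ⟨c, hc⟩ := hs (evalOneₐ (I.map (algebraMap V C)) y)
  choose r hr using fun i => evalOneₐ_surjective (I.map (algebraMap V A)) (c i)
  refine ⟨r, ?_⟩
  rw [hmm, ← ker_evalOneₐ_eq_map _ hJC, RingHom.mem_ker]
  change evalOneₐ (I.map (algebraMap V C)) (y - ∑ i, r i • t i) = 0
  rw [map_sub, map_sum, hc, sub_eq_zero]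
  refine Finset.sum_congr rfl (fun i _ => ?_)
  rw [Algebra.smul_def, map_mul, ht]
  congr 1
  change _ = evalOneₐ (I.map (algebraMap V C)) (lift I g (r i))
  rw [key, hr]
  rfl

end Groth.Agent.Lib.Helper77.SmLift4
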