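import Groth.Agent.Lib.Helper77.EtaleDedekind
import Mathlib.RingTheory.Flat.FaithfullyFlat.Algebra
import Mathlib.RingTheory.Unramified.LocalStructure
universe u
set_option autoImplicit false
open IsLocalRing TensorProduct

/-!
# Quasi-sections through smooth points over a DVR (helper77)
-/
namespace Groth.Agent.Lib.Helper77.SmoothDVRSection

/-- localization of an étale algebra over a DVR at a prime over the closed point with trivial
residue extension is a DVR, unramified over the base with trivial residue extension -/
theorem dvr_of_etale (B C : Type u) [CommRing B] [IsDomain B] [IsDiscreteValuationRing B]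
    [CommRing C] [Algebra B C] [Algebra.Etale B C]
    (q : Ideal C) [q.IsPrime] (hq : q.comap (algebraMap B C) = maximalIdeal B)
    (hres : ∀ c : C, ∃ β : B, c - algebraMap B C β ∈ q) :
    ∃ (_ : IsDomain (Localization.AtPrime q))
      (_ : IsDiscreteValuationRing (Localization.AtPrime q)),
      Function.Injective (algebraMap B (Localization.AtPrime q)) ∧
      (maximalIdeal B).map (algebraMap B (Localization.AtPrime q)) =
        maximalIdeal (Localization.AtPrime q) ∧
      Function.Surjective ((IsLocalRing.residue (Localization.AtPrime q)).comp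
        (algebraMap B (Localization.AtPrime q))) := by
  have hNC : IsNoetherianRing C := Algebra.FiniteType.isNoetherianRing B C
  have hmemq : ∀ β : B, algebraMap B C β ∈ q ↔ β ∈ maximalIdeal B := fun β => by
    rw [← hq, Ideal.mem_comap]
  have hloc : IsLocalHom (algebraMap B (Localization.AtPrime q)) := by
    constructor
    intro β hβ
    by_contra hnu
    have h1 : algebraMap B C β ∈ q := (hmemq β).mpr ((mem_maximalIdeal β).mpr hnu)
    have h2 : algebraMap C (Localization.AtPrime q) (algebraMap B C β) ∈
        maximalIdeal (Localization.AtPrime q) :=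
      (IsLocalization.AtPrime.to_map_mem_maximal_iff _ q _).mpr h1
    rw [← IsScalarTower.algebraMap_apply] at h2
    exact h2 hβ
  have hflat : Module.Flat B (Localization.AtPrime q) := inferInstance
  have hff : Module.FaithfullyFlat B (Localization.AtPrime q) :=
    Module.FaithfullyFlat.of_flat_of_isLocalHom
  have hinj : Function.Injective (algebraMap B (Localization.AtPrime q)) :=
    FaithfulSMul.algebraMap_injective B (Localization.AtPrime q)
  have hu1 : Algebra.FormallyUnramified B (Localization.AtPrime q) :=
    Algebra.FormallyUnramified.comp B C _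
  have he1 : Algebra.EssFiniteType B (Localization.AtPrime q) :=
    Algebra.EssFiniteType.comp B C _
  have hmap := Algebra.FormallyUnramified.map_maximalIdeal
    (R := B) (S := Localization.AtPrime q)
  obtain ⟨hreg, hdim⟩ := EtaleDedekind.loc_regular B C q
  have hnf : ¬ IsField (Localization.AtPrime q) := by
    intro hf
    have hbot := IsLocalRing.isField_iff_maximalIdeal_eq.mp hf
    obtain ⟨ϖ, hϖ⟩ := IsDiscreteValuationRing.exists_irreducible B
    have h1 : algebraMap B (Localization.AtPrime q) ϖ ∈
        maximalIdeal (Localization.AtPrime q) := by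
      rw [← hmap]
      exact Ideal.mem_map_of_mem _ ((mem_maximalIdeal ϖ).mpr hϖ.not_isUnit)
    rw [hbot, Ideal.mem_bot] at h1
    exact hϖ.ne_zero (hinj (by rw [h1, map_zero]))
  obtain ⟨hdom, hdvr⟩ := EtaleDedekind.dvr_of_regular _ hdim hnf
  refine ⟨hdom, hdvr, hinj, hmap, ?_⟩
  intro y
  obtain ⟨z, rfl⟩ := IsLocalRing.residue_surjective y
  obtain ⟨c, s, rfl⟩ := IsLocalization.exists_mk'_eq q.primeCompl z
  obtain ⟨β, hβ⟩ := hres c
  obtain ⟨σ, hσ⟩ := hres s
  have hσu : IsUnit σ := by
    by_contra hnu
    have h1 : algebraMap B C σ ∈ q := (hmemq σ).mpr ((mem_maximalIdeal σ).mpr hnu)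
    have h2 : (s : C) ∈ q := by
      have := q.add_mem hσ h1
      rwa [sub_add_cancel] at this
    exact s.2 h2
  obtain ⟨σ', hσ'⟩ := hσu.exists_right_inv
  refine ⟨β * σ', ?_⟩
  rw [RingHom.comp_apply]
  rw [← sub_eq_zero, ← map_sub, IsLocalRing.residue_eq_zero_iff]
  have hunit : IsUnit (algebraMap C (Localization.AtPrime q) s) :=
    IsLocalization.map_units _ s
  have hmem : algebraMap C (Localization.AtPrime q) s *
      (algebraMap B (Localization.AtPrime q) (β * σ') -
        IsLocalization.mk' (Localization.AtPrime q) c s) ∈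
      maximalIdeal (Localization.AtPrime q) := by
    rw [mul_sub, IsLocalization.mk'_spec'_mk, IsScalarTower.algebraMap_apply B C, ← map_mul,
      ← map_sub, IsLocalization.AtPrime.to_map_mem_maximal_iff _ q]
    have h3 : (s : C) * algebraMap B C (β * σ') - c =
        (s - algebraMap B C σ) * algebraMap B C (β * σ') - (c - algebraMap B C β) := by
      have h4 : algebraMap B C σ * algebraMap B C (β * σ') = algebraMap B C β := by
        rw [← map_mul]
        congr 1
        calc σ * (β * σ') = β * (σ * σ') := by ring
          _ = β := by rw [hσ', mul_one]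
      rw [sub_mul, h4]; ring
    rw [h3]
    exact q.sub_mem (q.mul_mem_right _ hσ) hβ
  exact (Ideal.unit_mul_mem_iff_mem _ hunit).mp hmem

theorem main (B : Type u) [CommRing B] [IsDomain B] [IsDiscreteValuationRing B]
    (A : Type u) [CommRing A] [Algebra B A] [Algebra.FiniteType B A]
    (p : Ideal A) [p.IsPrime] (hp : p.comap (algebraMap B A) = IsLocalRing.maximalIdeal B)
    [Algebra.IsSmoothAt B p]
    (hres : Function.Surjective ((algebraMap A p.ResidueField).comp (algebraMap B A))) :
    ∃ (B' : Type u) (_ : CommRing B') (_ : IsDomain B') (_ : IsDiscreteValuationRing B')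
      (ψ : A →+* B'),
      Ideal.comap ψ (IsLocalRing.maximalIdeal B') = p ∧
      Function.Injective (ψ.comp (algebraMap B A)) ∧
      Ideal.map (ψ.comp (algebraMap B A)) (IsLocalRing.maximalIdeal B) =
        IsLocalRing.maximalIdeal B' ∧
      Function.Surjective ((IsLocalRing.residue B').comp (ψ.comp (algebraMap B A))) := by
  have hfp : Algebra.FinitePresentation B A :=
    Algebra.FinitePresentation.of_finiteType.mp inferInstance
  obtain ⟨f, hf, n, alg, tower, hstd⟩ :=
    Algebra.IsSmoothAt.exists_isStandardEtale_mvPolynomial (R := B) (S := A) (p := p)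
  have hker : ∀ a : A, algebraMap A p.ResidueField a = 0 ↔ a ∈ p := fun a =>
    Ideal.algebraMap_residueField_eq_zero
  have hfu : IsUnit (algebraMap A p.ResidueField f) :=
    isUnit_iff_ne_zero.mpr (fun h => hf ((hker f).mp h))
  let γ : Localization.Away f →+* p.ResidueField := IsLocalization.Away.lift f hfu
  have hγ : ∀ a : A, γ (algebraMap A (Localization.Away f) a) = algebraMap A p.ResidueField a :=
    fun a => IsLocalization.Away.lift_eq f hfu a
  choose b hb using fun i : Fin n => hres (γ (algebraMap (MvPolynomial (Fin n) B)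
    (Localization.Away f) (MvPolynomial.X i)))
  let ε : MvPolynomial (Fin n) B →ₐ[B] B := MvPolynomial.aeval b
  letI algPB : Algebra (MvPolynomial (Fin n) B) B := ε.toRingHom.toAlgebra
  have hPB : ∀ x : MvPolynomial (Fin n) B, algebraMap (MvPolynomial (Fin n) B) B x = ε x :=
    fun x => rfl
  letI algPK : Algebra (MvPolynomial (Fin n) B) p.ResidueField :=
    (γ.comp (algebraMap (MvPolynomial (Fin n) B) (Localization.Away f))).toAlgebra
  have hBAf : ∀ β : B, algebraMap (MvPolynomial (Fin n) B) (Localization.Away f)
      (MvPolynomial.C β) = algebraMap A (Localization.Away f) (algebraMap B A β) := fun β => by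
    rw [← MvPolynomial.algebraMap_eq, ← IsScalarTower.algebraMap_apply,
      ← IsScalarTower.algebraMap_apply]
  have hcompat : ((algebraMap A p.ResidueField).comp (algebraMap B A)).comp ε.toRingHom =
      γ.comp (algebraMap (MvPolynomial (Fin n) B) (Localization.Away f)) := by
    apply MvPolynomial.ringHom_ext
    · intro β
      simp only [RingHom.comp_apply]
      rw [hBAf, hγ]
      congr 2
      exact MvPolynomial.aeval_C b β
    · intro i
      simp only [RingHom.comp_apply]
      have h1 : ε.toRingHom (MvPolynomial.X i) = b i := MvPolynomial.aeval_X b i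
      rw [h1]
      exact hb i
  let fB : B →ₐ[MvPolynomial (Fin n) B] p.ResidueField :=
    { toRingHom := (algebraMap A p.ResidueField).comp (algebraMap B A)
      commutes' := fun x => RingHom.congr_fun hcompat x }
  let gA : Localization.Away f →ₐ[MvPolynomial (Fin n) B] p.ResidueField :=
    { toRingHom := γ
      commutes' := fun x => rfl }
  let χ : B ⊗[MvPolynomial (Fin n) B] Localization.Away f →ₐ[MvPolynomial (Fin n) B]
      p.ResidueField :=
    Algebra.TensorProduct.lift fB gA (fun x y => Commute.all _ _)
  have hχ : ∀ (β : B) (y : Localization.Away f), χ (β ⊗ₜ y) =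
      algebraMap A p.ResidueField (algebraMap B A β) * γ y := fun β y =>
    Algebra.TensorProduct.lift_tmul _ _ _ _ _
  have hEt : Algebra.Etale B (B ⊗[MvPolynomial (Fin n) B] Localization.Away f) := inferInstance
  have hBC : ∀ β : B, algebraMap B (B ⊗[MvPolynomial (Fin n) B] Localization.Away f) β =
      β ⊗ₜ 1 := fun β => by
    rw [Algebra.TensorProduct.algebraMap_apply]; rfl
  let ψ₀ : A →+* B ⊗[MvPolynomial (Fin n) B] Localization.Away f :=
    (Algebra.TensorProduct.includeRight (R := MvPolynomial (Fin n) B) (A := B)
      (B := Localization.Away f)).toRingHom.comp (algebraMap A (Localization.Away f))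
  have hψ₀ : ∀ a : A, ψ₀ a = (1 : B) ⊗ₜ (algebraMap A (Localization.Away f) a) := fun a => rfl
  have hψ₀B : ∀ β : B, ψ₀ (algebraMap B A β) =
      algebraMap B (B ⊗[MvPolynomial (Fin n) B] Localization.Away f) β := fun β => by
    rw [hψ₀, hBC, ← hBAf]
    have h1 : algebraMap (MvPolynomial (Fin n) B) (Localization.Away f) (MvPolynomial.C β) =
        (MvPolynomial.C β : MvPolynomial (Fin n) B) • (1 : Localization.Away f) := by
      rw [Algebra.smul_def, mul_one]
    rw [h1, ← TensorProduct.smul_tmul, Algebra.smul_def, mul_one, hPB]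
    congr 1
    exact MvPolynomial.aeval_C b β
  let q : Ideal (B ⊗[MvPolynomial (Fin n) B] Localization.Away f) := RingHom.ker χ.toRingHom
  have hqprime : q.IsPrime := RingHom.ker_isPrime _
  have hmemq : ∀ c, c ∈ q ↔ χ c = 0 := fun c => RingHom.mem_ker
  have hq : q.comap (algebraMap B (B ⊗[MvPolynomial (Fin n) B] Localization.Away f)) =
      maximalIdeal B := by
    ext β
    rw [Ideal.mem_comap, hmemq, hBC, hχ, map_one, mul_one, hker, ← hp, Ideal.mem_comap]
  have hresC : ∀ c : B ⊗[MvPolynomial (Fin n) B] Localization.Away f,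
      ∃ β : B, c - algebraMap B _ β ∈ q := fun c => by
    obtain ⟨β, hβ⟩ := hres (χ c)
    refine ⟨β, ?_⟩
    rw [hmemq, map_sub, hBC, hχ, map_one, mul_one, sub_eq_zero]
    exact hβ.symm
  obtain ⟨hdom, hdvr, hinj, hmap, hsurj⟩ := dvr_of_etale B _ q hq hresC
  have hcomp : ((algebraMap (B ⊗[MvPolynomial (Fin n) B] Localization.Away f)
      (Localization.AtPrime q)).comp ψ₀).comp (algebraMap B A) =
      algebraMap B (Localization.AtPrime q) := by
    ext β
    simp only [RingHom.comp_apply]
    rw [hψ₀B, ← IsScalarTower.algebraMap_apply]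
  refine ⟨Localization.AtPrime q, inferInstance, hdom, hdvr,
    (algebraMap (B ⊗[MvPolynomial (Fin n) B] Localization.Away f)
      (Localization.AtPrime q)).comp ψ₀, ?_, ?_, ?_, ?_⟩
  · have hcm : Ideal.comap (algebraMap (B ⊗[MvPolynomial (Fin n) B] Localization.Away f)
        (Localization.AtPrime q)) (maximalIdeal (Localization.AtPrime q)) = q :=
      IsLocalization.AtPrime.under_maximalIdeal (Localization.AtPrime q) q
    rw [← Ideal.comap_comap, hcm]
    ext a
    rw [Ideal.mem_comap, hmemq, hψ₀, hχ, map_one, map_one, one_mul, hγ, hker]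
  · rw [hcomp]; exact hinj
  · rw [hcomp]; exact hmap
  · rw [hcomp]; exact hsurj

end Groth.Agent.Lib.Helper77.SmoothDVRSection
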