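import Mathlib
import Groth.Agent.Lib.Helper6.WeilAlg

set_option autoImplicit false

open TensorProduct Module

universe u

open Groth.Agent.Lib.Helper6.WeilAlg

namespace Groth.Agent.Lib.Helper77.WeilAlgFP

section Setup

variable {R : Type u} [CommRing R] {C : Type u} [CommRing C] [Algebra R C]
variable {ι : Type} [Fintype ι] (b : Basis ι R C)
variable (B : Type u) [CommRing B] [Algebra R B]
variable (n : ℕ) (π : MvPolynomial (Fin n) R →ₐ[R] B) (S : Finset (MvPolynomial (Fin n) R))

/-- the finite polynomial ring of coordinates. -/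
abbrev Q (R : Type u) [CommRing R] (n : ℕ) (ι : Type) : Type u := MvPolynomial (Fin n × ι) R

/-- the generic map on finitely many variables. -/
noncomputable def gen' : MvPolynomial (Fin n) R →ₐ[R] (Q R n ι) ⊗[R] C :=
  MvPolynomial.aeval fun j => ∑ i, (MvPolynomial.X (j, i) : Q R n ι) ⊗ₜ[R] b i

/-- the finitely generated ideal of relations. -/
noncomputable def J' : Ideal (Q R n ι) :=
  Ideal.span {p | ∃ f ∈ S, ∃ i,
    p = (Algebra.TensorProduct.basis (Q R n ι) b).repr (gen' b n f) i}

theorem J'_fg : (J' b n S).FG := by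
  classical
  refine ⟨(S ×ˢ (Finset.univ : Finset ι)).image
    (fun fi => (Algebra.TensorProduct.basis (Q R n ι) b).repr (gen' b n fi.1) fi.2), ?_⟩
  unfold J'
  congr 1
  ext p
  simp only [Finset.coe_image, Set.mem_image, Finset.mem_coe, Finset.mem_product,
    Finset.mem_univ, and_true, Prod.exists, Set.mem_setOf_eq]
  constructor
  · rintro ⟨f, i, hf, rfl⟩
    exact ⟨f, hf, i, rfl⟩
  · rintro ⟨f, hf, i, rfl⟩
    exact ⟨f, i, hf, rfl⟩

/-- the finitely presented model. -/
abbrev W' : Type u := Q R n ι ⧸ J' b n S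

noncomputable def q' : Q R n ι →ₐ[R] W' b n S := Ideal.Quotient.mkₐ R (J' b n S)

theorem q'_surjective : Function.Surjective (q' b n S) := Ideal.Quotient.mkₐ_surjective R _

instance : Algebra.FinitePresentation R (W' b n S) :=
  Algebra.FinitePresentation.quotient (J'_fg b n S)

/-- `Q → WAlg`. -/
noncomputable def α0 : Q R n ι →ₐ[R] WAlg b B :=
  MvPolynomial.aeval fun ji => q b B (MvPolynomial.X (π (MvPolynomial.X ji.1), ji.2))

theorem map_α0_gen' :
    (Algebra.TensorProduct.map (α0 b B n π) (AlgHom.id R C)).comp (gen' b n) =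
      (coev b B).comp π := by
  apply MvPolynomial.algHom_ext
  intro j
  simp only [AlgHom.comp_apply, gen', MvPolynomial.aeval_X, map_sum,
    Algebra.TensorProduct.map_tmul, AlgHom.id_apply, α0, coev_apply]

theorem α0_kills (hS : ∀ f ∈ S, π f = 0) : ∀ p ∈ J' b n S, α0 b B n π p = 0 := by
  intro p hp
  have : J' b n S ≤ RingHom.ker (α0 b B n π) := by
    refine Ideal.span_le.mpr ?_
    rintro _ ⟨f, hf, i, rfl⟩
    rw [SetLike.mem_coe, RingHom.mem_ker, ← repr_map]
    have h := congrArg (fun F => F f) (map_α0_gen' b B n π)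
    simp only [AlgHom.comp_apply] at h
    rw [h, hS f hf, map_zero, map_zero, Finsupp.zero_apply]
  exact this hp

/-- `W' → WAlg`. -/
noncomputable def α (hS : ∀ f ∈ S, π f = 0) : W' b n S →ₐ[R] WAlg b B :=
  Ideal.Quotient.liftₐ (J' b n S) (α0 b B n π) (α0_kills b B n π S hS)

theorem α_q' (hS : ∀ f ∈ S, π f = 0) (p : Q R n ι) :
    α b B n π S hS (q' b n S p) = α0 b B n π p := rfl

/-- `P → W' ⊗ C`. -/
noncomputable def ψ0 : MvPolynomial (Fin n) R →ₐ[R] (W' b n S) ⊗[R] C :=
  (Algebra.TensorProduct.map (q' b n S) (AlgHom.id R C)).comp (gen' b n)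

theorem ψ0_kills (hker : RingHom.ker π.toRingHom = Ideal.span (S : Set (MvPolynomial (Fin n) R))) :
    ∀ f ∈ RingHom.ker π, ψ0 b n S f = 0 := by
  intro f hf
  have hle : Ideal.span (S : Set (MvPolynomial (Fin n) R)) ≤ RingHom.ker (ψ0 b n S) := by
    refine Ideal.span_le.mpr ?_
    intro f hf
    rw [SetLike.mem_coe, RingHom.mem_ker]
    apply (Algebra.TensorProduct.basis (W' b n S) b).repr.injective
    ext i
    unfold ψ0
    rw [AlgHom.comp_apply, repr_map, map_zero, Finsupp.zero_apply]
    exact (Ideal.Quotient.eq_zero_iff_mem).mpr (Ideal.subset_span ⟨f, hf, i, rfl⟩)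
  have hf' : f ∈ Ideal.span (S : Set (MvPolynomial (Fin n) R)) := by
    rw [← hker]; exact hf
  exact hle hf'

/-- `B → W' ⊗ C`. -/
noncomputable def ψ (hπ : Function.Surjective π)
    (hker : RingHom.ker π.toRingHom = Ideal.span (S : Set (MvPolynomial (Fin n) R))) :
    B →ₐ[R] (W' b n S) ⊗[R] C :=
  (Ideal.Quotient.liftₐ (RingHom.ker π) (ψ0 b n S) (ψ0_kills b B n π S hker)).comp
    (Ideal.quotientKerAlgEquivOfSurjective hπ).symm.toAlgHom

theorem ψ_π (hπ : Function.Surjective π)
    (hker : RingHom.ker π.toRingHom = Ideal.span (S : Set (MvPolynomial (Fin n) R)))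
    (f : MvPolynomial (Fin n) R) :
    ψ b B n π S hπ hker (π f) = ψ0 b n S f := by
  unfold ψ
  have : (Ideal.quotientKerAlgEquivOfSurjective hπ).symm (π f) = Ideal.Quotient.mk _ f := by
    rw [AlgEquiv.symm_apply_eq]
    rfl
  rw [AlgHom.comp_apply]
  erw [this]
  rfl

/-- `WAlg → W'`. -/
noncomputable def β (hπ : Function.Surjective π)
    (hker : RingHom.ker π.toRingHom = Ideal.span (S : Set (MvPolynomial (Fin n) R))) :
    WAlg b B →ₐ[R] W' b n S :=
  lift b B (ψ b B n π S hπ hker)

theorem hS_of_hker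
    (hker : RingHom.ker π.toRingHom = Ideal.span (S : Set (MvPolynomial (Fin n) R))) :
    ∀ f ∈ S, π f = 0 := by
  intro f hf
  have : f ∈ RingHom.ker π.toRingHom := by
    rw [hker]; exact Ideal.subset_span hf
  exact this

theorem α_comp_β (hπ : Function.Surjective π)
    (hker : RingHom.ker π.toRingHom = Ideal.span (S : Set (MvPolynomial (Fin n) R))) :
    (α b B n π S (hS_of_hker B n π S hker)).comp (β b B n π S hπ hker) = AlgHom.id R (WAlg b B) := by
  apply lift_unique b B
  apply AlgHom.ext
  intro x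
  obtain ⟨f, rfl⟩ := hπ x
  simp only [AlgHom.comp_apply]
  have e1 : (Algebra.TensorProduct.map ((α b B n π S (hS_of_hker B n π S hker)).comp
      (β b B n π S hπ hker)) (AlgHom.id R C)) =
      (Algebra.TensorProduct.map (α b B n π S (hS_of_hker B n π S hker)) (AlgHom.id R C)).comp
        (Algebra.TensorProduct.map (β b B n π S hπ hker) (AlgHom.id R C)) := by
    apply Algebra.TensorProduct.ext'
    intro a c
    simp
  have e2 : Algebra.TensorProduct.map (AlgHom.id R (WAlg b B)) (AlgHom.id R C) =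
      AlgHom.id R _ := by
    apply Algebra.TensorProduct.ext'
    intro a c
    simp
  rw [e1, e2, AlgHom.comp_apply, AlgHom.id_apply]
  have h1 := congrArg (fun F => F (π f)) (map_lift_coev b B (ψ b B n π S hπ hker))
  simp only [AlgHom.comp_apply] at h1
  unfold β
  rw [h1, ψ_π]
  unfold ψ0
  rw [AlgHom.comp_apply]
  have e3 : (Algebra.TensorProduct.map (α b B n π S (hS_of_hker B n π S hker))
      (AlgHom.id R C)).comp (Algebra.TensorProduct.map (q' b n S) (AlgHom.id R C)) =
      Algebra.TensorProduct.map (α0 b B n π) (AlgHom.id R C) := by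
    apply Algebra.TensorProduct.ext'
    intro a c
    simp [α_q']
  have h2 := congrArg (fun F => F (gen' b n f)) e3
  simp only [AlgHom.comp_apply] at h2
  rw [h2]
  have h3 := congrArg (fun F => F f) (map_α0_gen' b B n π)
  simp only [AlgHom.comp_apply] at h3
  exact h3

theorem β_comp_α (hπ : Function.Surjective π)
    (hker : RingHom.ker π.toRingHom = Ideal.span (S : Set (MvPolynomial (Fin n) R))) :
    (β b B n π S hπ hker).comp (α b B n π S (hS_of_hker B n π S hker)) =
      AlgHom.id R (W' b n S) := by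
  have hq : ((β b B n π S hπ hker).comp (α b B n π S (hS_of_hker B n π S hker))).comp
      (q' b n S) = (AlgHom.id R (W' b n S)).comp (q' b n S) := by
    apply MvPolynomial.algHom_ext
    rintro ⟨j, i⟩
    simp only [AlgHom.comp_apply, AlgHom.id_apply]
    rw [α_q']
    unfold α0
    rw [MvPolynomial.aeval_X]
    unfold β
    rw [lift_q]
    unfold lift₀
    rw [MvPolynomial.aeval_X]
    show (Algebra.TensorProduct.basis (W' b n S) b).repr
      (ψ b B n π S hπ hker (π (MvPolynomial.X j))) i = _
    rw [ψ_π]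
    unfold ψ0 gen'
    rw [AlgHom.comp_apply, MvPolynomial.aeval_X, map_sum]
    simp only [Algebra.TensorProduct.map_tmul, AlgHom.id_apply]
    rw [repr_sum_tmul]
  apply AlgHom.ext
  intro y
  obtain ⟨p, rfl⟩ := q'_surjective b n S y
  exact congrArg (fun F => F p) hq

/-- the isomorphism `W' ≃ WAlg`. -/
noncomputable def equiv (hπ : Function.Surjective π)
    (hker : RingHom.ker π.toRingHom = Ideal.span (S : Set (MvPolynomial (Fin n) R))) :
    W' b n S ≃ₐ[R] WAlg b B :=
  AlgEquiv.ofAlgHom (α b B n π S (hS_of_hker B n π S hker)) (β b B n π S hπ hker)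
    (α_comp_β b B n π S hπ hker) (β_comp_α b B n π S hπ hker)

end Setup

theorem finitePresentation_WAlg {R : Type u} [CommRing R] {C : Type u} [CommRing C]
    [Algebra R C] {ι : Type} [Fintype ι] (b : Basis ι R C) (B : Type u) [CommRing B]
    [Algebra R B] [Algebra.FinitePresentation R B] :
    Algebra.FinitePresentation R (WAlg b B) := by
  obtain ⟨n, π, hπ, S, hS⟩ := Algebra.FinitePresentation.out (R := R) (A := B)
  exact Algebra.FinitePresentation.equiv (equiv b B n π S hπ hS.symm)

end Groth.Agent.Lib.Helper77.WeilAlgFP
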